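import Cfsg.Agent.H7.T.PU_0
import Cfsg.Agent.H7.FM5
set_option Elab.async false
set_option maxRecDepth 100000
set_option maxHeartbeats 0
namespace H7.T
universe u v

theorem trU {G : Type u} [Group G] (F : FM PU G) : Tr2 (F.S PU.all) :=
  F.tr2 FM.t3_all (5,[]) (9,[]) [(9,[]),(5,[]),(0,[]),(4,[]),(3,[]),(1,[])] [(3,[]),(1,[]),(7,[]),(2,[]),(3,[4,8]),(6,[])] 4 4 (by decide +kernel)

theorem r4U_5 {G : Type u} [Group G] (F : FM PU G) : F.Pd (FM.VK (F.S PU.all) 4) (FM.RQ (PL (F.S PU.all) 3)) (bits [60,209,243,387]) :=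
  FM.Pd.leafK [(5,[]),(3,[]),(1,[]),(7,[])] (by decide +kernel) (F.pl [(1,[8,0,4,8]),(0,[1,5,7,0])] (by decide +kernel))

theorem r4U_6 {G : Type u} [Group G] (F : FM PU G) : F.Pd (FM.VK (F.S PU.all) 4) (FM.RQ (PL (F.S PU.all) 3)) (bits [60,209,243,547]) :=
  FM.Pd.leafK [(5,[]),(3,[]),(1,[]),(6,[])] (by decide +kernel) (F.pl [(0,[8,6,4,8]),(1,[8,5,7,8])] (by decide +kernel))

theorem r4U_7 {G : Type u} [Group G] (F : FM PU G) : F.Pd (FM.VK (F.S PU.all) 4) (FM.RQ (PL (F.S PU.all) 3)) (bits [60,191,209,243]) :=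
  FM.Pd.leafK [(5,[]),(3,[]),(1,[]),(0,[9,2,4])] (by decide +kernel) (F.pl [(3,[]),(1,[8,3,7,8]),(2,[9,3,8,4])] (by decide +kernel))

theorem r4U_8 {G : Type u} [Group G] (F : FM PU G) : F.Pd (FM.VK (F.S PU.all) 4) (FM.RQ (PL (F.S PU.all) 3)) (bits [60,209,243,588]) :=
  FM.Pd.leafK [(5,[]),(3,[]),(1,[]),(5,[8,0,4])] (by decide +kernel) (F.pl [(1,[]),(0,[8,3,4,8]),(0,[5,8,3,4])] (by decide +kernel))

theorem r4U_9 {G : Type u} [Group G] (F : FM PU G) : F.Pd (FM.VK (F.S PU.all) 4) (FM.RQ (PL (F.S PU.all) 3)) (bits [22,60,209,243]) :=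
  FM.Pd.leafK [(5,[]),(3,[]),(1,[]),(0,[8,2,3,9])] (by decide +kernel) (F.pl [(5,[]),(0,[8,2,1,9]),(4,[5,8,1,0])] (by decide +kernel))

theorem r4U_10 {G : Type u} [Group G] (F : FM PU G) : F.Pd (FM.VK (F.S PU.all) 4) (FM.RQ (PL (F.S PU.all) 3)) (bits [45,60,209,243]) :=
  FM.Pd.leafK [(5,[]),(3,[]),(1,[]),(1,[8,3,5,8])] (by decide +kernel) (F.pl [(0,[8,2,7,9]),(0,[5,8,9,4,7,9])] (by decide +kernel))

theorem r4U_11 {G : Type u} [Group G] (F : FM PU G) : F.Pd (FM.VK (F.S PU.all) 4) (FM.RQ (PL (F.S PU.all) 3)) (bits [60,67,209,243]) :=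
  FM.Pd.leafK [(5,[]),(3,[]),(1,[]),(0,[8,6,4,8])] (by decide +kernel) (F.pl [(6,[]),(1,[8,5,7,8])] (by decide +kernel))

theorem r4U_12 {G : Type u} [Group G] (F : FM PU G) : F.Pd (FM.VK (F.S PU.all) 4) (FM.RQ (PL (F.S PU.all) 3)) (bits [60,77,209,243]) :=
  FM.Pd.leafK [(5,[]),(3,[]),(1,[]),(1,[8,0,4,8])] (by decide +kernel) (F.pl [(7,[]),(0,[1,5,7,0])] (by decide +kernel))

theorem r4U_13 {G : Type u} [Group G] (F : FM PU G) : F.Pd (FM.VK (F.S PU.all) 4) (FM.RQ (PL (F.S PU.all) 3)) (bits [60,167,209,243]) :=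
  FM.Pd.leafK [(5,[]),(3,[]),(1,[]),(1,[8,5,7,8])] (by decide +kernel) (F.pl [(6,[]),(0,[8,6,4,8])] (by decide +kernel))

theorem r4U_14 {G : Type u} [Group G] (F : FM PU G) : F.Pd (FM.VK (F.S PU.all) 4) (FM.RQ (PL (F.S PU.all) 3)) (bits [60,209,220,243]) :=
  FM.Pd.leafK [(5,[]),(3,[]),(1,[]),(0,[8,2,1,9])] (by decide +kernel) (F.pl [(5,[]),(0,[8,2,3,9]),(4,[5,8,1,0])] (by decide +kernel))

theorem r4U_15 {G : Type u} [Group G] (F : FM PU G) : F.Pd (FM.VK (F.S PU.all) 4) (FM.RQ (PL (F.S PU.all) 3)) (bits [60,209,230,243]) :=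
  FM.Pd.leafK [(5,[]),(3,[]),(1,[]),(4,[5,8,1,0])] (by decide +kernel) (F.pl [(6,[]),(5,[8,0,4]),(1,[8,3,7,8])] (by decide +kernel))

theorem r4U_16 {G : Type u} [Group G] (F : FM PU G) : F.Pd (FM.VK (F.S PU.all) 4) (FM.RQ (PL (F.S PU.all) 3)) (bits [60,209,243,369]) :=
  FM.Pd.leafK [(5,[]),(3,[]),(1,[]),(0,[8,3,4,8])] (by decide +kernel) (F.pl [(1,[]),(5,[8,0,4]),(0,[5,8,3,4])] (by decide +kernel))

theorem r4U_17 {G : Type u} [Group G] (F : FM PU G) : F.Pd (FM.VK (F.S PU.all) 4) (FM.RQ (PL (F.S PU.all) 3)) (bits [60,209,243,399]) :=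
  FM.Pd.leafK [(5,[]),(3,[]),(1,[]),(0,[1,5,7,0])] (by decide +kernel) (F.pl [(7,[]),(1,[8,0,4,8])] (by decide +kernel))

theorem r4U_18 {G : Type u} [Group G] (F : FM PU G) : F.Pd (FM.VK (F.S PU.all) 4) (FM.RQ (PL (F.S PU.all) 3)) (bits [60,209,243,409]) :=
  FM.Pd.leafK [(5,[]),(3,[]),(1,[]),(1,[8,3,7,8])] (by decide +kernel) (F.pl [(3,[]),(0,[9,2,4]),(2,[9,3,8,4])] (by decide +kernel))

theorem r4U_19 {G : Type u} [Group G] (F : FM PU G) : F.Pd (FM.VK (F.S PU.all) 4) (FM.RQ (PL (F.S PU.all) 3)) (bits [60,209,243,422]) :=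
  FM.Pd.leafK [(5,[]),(3,[]),(1,[]),(0,[5,8,3,4])] (by decide +kernel) (F.pl [(1,[]),(5,[8,0,4]),(0,[8,3,4,8])] (by decide +kernel))

theorem r4U_20 {G : Type u} [Group G] (F : FM PU G) : F.Pd (FM.VK (F.S PU.all) 4) (FM.RQ (PL (F.S PU.all) 3)) (bits [60,209,243,565]) :=
  FM.Pd.leafK [(5,[]),(3,[]),(1,[]),(2,[9,3,8,4])] (by decide +kernel) (F.pl [(3,[]),(0,[9,2,4]),(1,[8,3,7,8])] (by decide +kernel))

theorem r4U_21 {G : Type u} [Group G] (F : FM PU G) : F.Pd (FM.VK (F.S PU.all) 4) (FM.RQ (PL (F.S PU.all) 3)) (bits [60,209,243,601]) :=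
  FM.Pd.leafK [(5,[]),(3,[]),(1,[]),(0,[8,2,7,9])] (by decide +kernel) (F.pl [(1,[8,3,5,8]),(0,[5,8,9,4,7,9])] (by decide +kernel))

theorem r4U_22 {G : Type u} [Group G] (F : FM PU G) : F.Pd (FM.VK (F.S PU.all) 4) (FM.RQ (PL (F.S PU.all) 3)) (bits [60,209,243,578]) :=
  FM.Pd.leafK [(5,[]),(3,[]),(1,[]),(0,[5,8,9,4,7,9])] (by decide +kernel) (F.pl [(1,[8,3,5,8]),(0,[8,2,7,9])] (by decide +kernel))

theorem r4U_23 {G : Type u} [Group G] (F : FM PU G) : F.Pd (FM.VK (F.S PU.all) 4) (FM.RQ (PL (F.S PU.all) 3)) (bits [60,209,243]) :=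
  FM.Pd.br (FM.ivtK FM.t3_all 4 (fun g hg x h => by simpa [mul_assoc] using h.conj (g := g⁻¹) fun y => T3.conj_mem FM.t3_all (inv_mem hg))) (FM.src_k [(5,[]),(3,[]),(1,[])] (by decide +kernel)) [] 0 [(7,[]),(6,[]),(0,[9,2,4]),(5,[8,0,4]),(0,[8,2,3,9]),(1,[8,3,5,8]),(0,[8,6,4,8]),(1,[8,0,4,8]),(1,[8,5,7,8]),(0,[8,2,1,9]),(4,[5,8,1,0]),(0,[8,3,4,8]),(0,[1,5,7,0]),(1,[8,3,7,8]),(0,[5,8,3,4]),(2,[9,3,8,4]),(0,[8,2,7,9]),(0,[5,8,9,4,7,9])] (by decide +kernel) (List.forall_mem_cons.2 ⟨((r4U_5 F ).mono (by decide +kernel)), (List.forall_mem_cons.2 ⟨((r4U_6 F ).mono (by decide +kernel)), (List.forall_mem_cons.2 ⟨((r4U_7 F ).mono (by decide +kernel)), (List.forall_mem_cons.2 ⟨((r4U_8 F ).mono (by decide +kernel)), (List.forall_mem_cons.2 ⟨((r4U_9 F ).mono (by decide +kernel)), (List.forall_mem_cons.2 ⟨((r4U_10 F ).mono (by decide +kernel)), (List.forall_mem_cons.2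 ⟨((r4U_11 F ).mono (by decide +kernel)), (List.forall_mem_cons.2 ⟨((r4U_12 F ).mono (by decide +kernel)), (List.forall_mem_cons.2 ⟨((r4U_13 F ).mono (by decide +kernel)), (List.forall_mem_cons.2 ⟨((r4U_14 F ).mono (by decide +kernel)), (List.forall_mem_cons.2 ⟨((r4U_15 F ).mono (by decide +kernel)), (List.forall_mem_cons.2 ⟨((r4U_16 F ).mono (by decide +kernel)), (List.forall_mem_cons.2 ⟨((r4U_17 F ).mono (by decide +kernel)), (List.forall_mem_cons.2 ⟨((r4U_18 F ).mono (by decide +kernel)), (List.forall_mem_cons.2 ⟨((r4U_19 F ).mono (by decide +kernel)), (List.forall_mem_cons.2 ⟨((r4U_20 F ).mono (by decide +kernel)), (List.forall_mem_cons.2 ⟨((r4U_21 F ).mono (by decide +kernel)), (List.forall_mem_cons.2 ⟨((r4U_22 F ).mono (by decide +kernel)), (List.forall_mem_nil _)⟩)⟩)⟩)⟩)⟩)⟩)⟩)⟩)⟩)⟩)⟩)⟩)⟩)⟩)⟩)⟩)⟩)⟩)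

theorem r4U_25 {G : Type u} [Group G] (F : FM PU G) : F.Pd (FM.VK (F.S PU.all) 4) (FM.RQ (PL (F.S PU.all) 3)) (bits [60,209,369,588]) :=
  FM.Pd.leafK [(5,[]),(3,[]),(5,[8,0,4]),(0,[8,3,4,8])] (by decide +kernel) (F.pl [(0,[5,8,3,4])] (by decide +kernel))

theorem r4U_26 {G : Type u} [Group G] (F : FM PU G) : F.Pd (FM.VK (F.S PU.all) 4) (FM.RQ (PL (F.S PU.all) 3)) (bits [60,209,422,588]) :=
  FM.Pd.leafK [(5,[]),(3,[]),(5,[8,0,4]),(0,[5,8,3,4])] (by decide +kernel) (F.pl [(0,[8,3,4,8])] (by decide +kernel))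

theorem r4U_27 {G : Type u} [Group G] (F : FM PU G) : F.Pd (FM.VK (F.S PU.all) 4) (FM.RQ (PL (F.S PU.all) 3)) (bits [60,209,588]) :=
  FM.Pd.br (FM.ivtK FM.t3_all 4 (fun g hg x h => by simpa [mul_assoc] using h.conj (g := g⁻¹) fun y => T3.conj_mem FM.t3_all (inv_mem hg))) (FM.src_k [(5,[]),(3,[]),(5,[8,0,4])] (by decide +kernel)) [[(3,[9,6,4])],[(1,[])],[(7,[])],[(6,[])],[(6,[8,9,2])],[(1,[9,2,8])]] 2 [(1,[]),(0,[8,3,4,8]),(0,[5,8,3,4])] (by decide +kernel) (List.forall_mem_cons.2 ⟨((r4U_8 F ).mono (by decide +kernel)), (List.forall_mem_cons.2 ⟨((r4U_25 F ).mono (by decide +kernel)), (List.forall_mem_cons.2 ⟨((r4U_26 F ).mono (by decide +kernel)), (List.forall_mem_nil _)⟩)⟩)⟩)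

theorem r4U_29 {G : Type u} [Group G] (F : FM PU G) : F.Pd (FM.VK (F.S PU.all) 4) (FM.RQ (PL (F.S PU.all) 3)) (bits [60,209,369,422]) :=
  FM.Pd.leafK [(5,[]),(3,[]),(0,[8,3,4,8]),(0,[5,8,3,4])] (by decide +kernel) (F.pl [(5,[8,0,4])] (by decide +kernel))

theorem r4U_30 {G : Type u} [Group G] (F : FM PU G) : F.Pd (FM.VK (F.S PU.all) 4) (FM.RQ (PL (F.S PU.all) 3)) (bits [60,209,369]) :=
  FM.Pd.br (FM.ivtK FM.t3_all 4 (fun g hg x h => by simpa [mul_assoc] using h.conj (g := g⁻¹) fun y => T3.conj_mem FM.t3_all (inv_mem hg))) (FM.src_k [(5,[]),(3,[]),(0,[8,3,4,8])] (by decide +kernel)) [[(3,[9,6,4])],[(1,[])],[(7,[])],[(6,[])],[(6,[8,9,2])],[(1,[9,2,8])]] 2 [(1,[]),(5,[8,0,4]),(0,[5,8,3,4])] (by decide +kernel) (List.forall_mem_cons.2 ⟨((r4U_16 F ).mono (by decide +kernel)), (List.forall_mem_cons.2 ⟨((r4U_25 F ).mono (by decide +kernel)), (List.forall_mem_cons.2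 ⟨((r4U_29 F ).mono (by decide +kernel)), (List.forall_mem_nil _)⟩)⟩)⟩)

theorem r4U_32 {G : Type u} [Group G] (F : FM PU G) : F.Pd (FM.VK (F.S PU.all) 4) (FM.RQ (PL (F.S PU.all) 3)) (bits [60,209,422]) :=
  FM.Pd.br (FM.ivtK FM.t3_all 4 (fun g hg x h => by simpa [mul_assoc] using h.conj (g := g⁻¹) fun y => T3.conj_mem FM.t3_all (inv_mem hg))) (FM.src_k [(5,[]),(3,[]),(0,[5,8,3,4])] (by decide +kernel)) [[(3,[9,6,4])],[(1,[])],[(7,[])],[(6,[])],[(6,[8,9,2])],[(1,[9,2,8])]] 2 [(1,[]),(5,[8,0,4]),(0,[8,3,4,8])] (by decide +kernel) (List.forall_mem_cons.2 ⟨((r4U_19 F ).mono (by decide +kernel)), (List.forall_mem_cons.2 ⟨((r4U_26 F ).mono (by decide +kernel)), (List.forall_mem_cons.2 ⟨((r4U_29 F ).mono (by decide +kernel)), (List.forall_mem_nil _)⟩)⟩)⟩)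

theorem r4U_33 {G : Type u} [Group G] (F : FM PU G) : F.Pd (FM.VK (F.S PU.all) 4) (FM.RQ (PL (F.S PU.all) 3)) (bits [60,209]) :=
  FM.Pd.br (FM.ivtK FM.t3_all 4 (fun g hg x h => by simpa [mul_assoc] using h.conj (g := g⁻¹) fun y => T3.conj_mem FM.t3_all (inv_mem hg))) (FM.src_k [(5,[]),(3,[])] (by decide +kernel)) [[(3,[9,6,4])],[(1,[])],[(7,[])],[(6,[])],[(6,[8,9,2])],[(1,[9,2,8])]] 2 [(1,[]),(5,[8,0,4]),(0,[8,3,4,8]),(0,[5,8,3,4])] (by decide +kernel) (List.forall_mem_cons.2 ⟨((r4U_23 F ).mono (by decide +kernel)), (List.forall_mem_cons.2 ⟨((r4U_27 F ).mono (by decide +kernel)), (List.forall_mem_cons.2 ⟨((r4U_30 F ).mono (by decide +kernel)), (List.forall_mem_cons.2 ⟨((r4U_32 F ).mono (by decide +kernel)), (List.forall_mem_nil _)⟩)⟩)⟩)⟩)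

theorem r4U_34 {G : Type u} [Group G] (F : FM PU G) : F.Pd (FM.VK (F.S PU.all) 4) (FM.RQ (PL (F.S PU.all) 3)) (bits [60]) :=
  FM.Pd.br (FM.ivtK FM.t3_all 4 (fun g hg x h => by simpa [mul_assoc] using h.conj (g := g⁻¹) fun y => T3.conj_mem FM.t3_all (inv_mem hg))) (FM.src_k [(5,[])] (by decide +kernel)) [[(2,[])],[(3,[])],[(1,[])],[(2,[8,9])],[(7,[])],[(6,[])]] 4 [(3,[])] (by decide +kernel) (List.forall_mem_cons.2 ⟨((r4U_33 F ).mono (by decide +kernel)), (List.forall_mem_nil _)⟩)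

theorem r4U_35 {G : Type u} [Group G] (F : FM PU G) : F.Pd (FM.VK (F.S PU.all) 4) (FM.RQ (PL (F.S PU.all) 3)) (bits []) :=
  FM.Pd.br (FM.ivtK FM.t3_all 4 (fun g hg x h => by simpa [mul_assoc] using h.conj (g := g⁻¹) fun y => T3.conj_mem FM.t3_all (inv_mem hg))) (FM.src_k [] (by decide +kernel)) [[(9,[])],[(5,[])],[(0,[])],[(4,[])],[(3,[])],[(1,[])]] 4 [(5,[])] (by decide +kernel) (List.forall_mem_cons.2 ⟨((r4U_34 F ).mono (by decide +kernel)), (List.forall_mem_nil _)⟩)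

theorem r4U {G : Type u} [Group G] (F : FM PU G) : ∀ g, Pr (F.S PU.all) 4 g → (PL (F.S PU.all) 3) g :=
  FM.prK (r4U_35 F )

theorem bad2U_36 {G : Type u} [Group G] (F : FM PU G) : F.Pd (FM.VK (F.S PU.all) 2) (FM.RQ Bad) (bits [60,209]) :=
  FM.Pd.leafK [(5,[]),(3,[])] (by decide +kernel) (F.bad [8,9] 497 263 (by decide +kernel))

theorem bad2U_37 {G : Type u} [Group G] (F : FM PU G) : F.Pd (FM.VK (F.S PU.all) 2) (FM.RQ Bad) (bits [60]) :=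
  FM.Pd.br (FM.ivtK FM.t3_all 2 (fun g _ _ => Bad.conj g)) (FM.src_k [(5,[])] (by decide +kernel)) [[(2,[])],[(3,[])],[(1,[])],[(2,[8,9])],[(7,[])],[(6,[])]] 4 [(3,[])] (by decide +kernel) (List.forall_mem_cons.2 ⟨((bad2U_36 F ).mono (by decide +kernel)), (List.forall_mem_nil _)⟩)

theorem bad2U_38 {G : Type u} [Group G] (F : FM PU G) : F.Pd (FM.VK (F.S PU.all) 2) (FM.RQ Bad) (bits []) :=
  FM.Pd.br (FM.ivtK FM.t3_all 2 (fun g _ _ => Bad.conj g)) (FM.src_k [] (by decide +kernel)) [[(9,[])],[(5,[])],[(0,[])],[(4,[])],[(3,[])],[(1,[])]] 4 [(5,[])] (by decide +kernel) (List.forall_mem_cons.2 ⟨((bad2U_37 F ).mono (by decide +kernel)), (List.forall_mem_nil _)⟩)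

theorem bad2U {G : Type u} [Group G] (F : FM PU G) : ∀ g, Pr (F.S PU.all) 2 g → Bad g :=
  FM.prK (bad2U_38 F )

theorem bad3U_39 {G : Type u} [Group G] (F : FM PU G) : F.Pd (FM.VK (F.S PU.all) 3) (FM.RQ Bad) (bits [60,209,243]) :=
  FM.Pd.leafK [(5,[]),(3,[]),(1,[])] (by decide +kernel) (F.bad [9,0] 606 200 (by decide +kernel))

theorem bad3U_40 {G : Type u} [Group G] (F : FM PU G) : F.Pd (FM.VK (F.S PU.all) 3) (FM.RQ Bad) (bits [60,209,588]) :=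
  FM.Pd.leafK [(5,[]),(3,[]),(5,[8,0,4])] (by decide +kernel) (F.bad [2,8] 122 355 (by decide +kernel))

theorem bad3U_41 {G : Type u} [Group G] (F : FM PU G) : F.Pd (FM.VK (F.S PU.all) 3) (FM.RQ Bad) (bits [60,209,369]) :=
  FM.Pd.leafK [(5,[]),(3,[]),(0,[8,3,4,8])] (by decide +kernel) (F.bad [2,8] 283 406 (by decide +kernel))

theorem bad3U_42 {G : Type u} [Group G] (F : FM PU G) : F.Pd (FM.VK (F.S PU.all) 3) (FM.RQ Bad) (bits [60,209,422]) :=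
  FM.Pd.leafK [(5,[]),(3,[]),(0,[5,8,3,4])] (by decide +kernel) (F.bad [9,8] 485 206 (by decide +kernel))

theorem bad3U_43 {G : Type u} [Group G] (F : FM PU G) : F.Pd (FM.VK (F.S PU.all) 3) (FM.RQ Bad) (bits [60,209]) :=
  FM.Pd.br (FM.ivtK FM.t3_all 3 (fun g _ _ => Bad.conj g)) (FM.src_k [(5,[]),(3,[])] (by decide +kernel)) [[(3,[9,6,4])],[(1,[])],[(7,[])],[(6,[])],[(6,[8,9,2])],[(1,[9,2,8])]] 2 [(1,[]),(5,[8,0,4]),(0,[8,3,4,8]),(0,[5,8,3,4])] (by decide +kernel) (List.forall_mem_cons.2 ⟨((bad3U_39 F ).mono (by decide +kernel)), (List.forall_mem_cons.2 ⟨((bad3U_40 F ).mono (by decide +kernel)), (List.forall_mem_cons.2 ⟨((bad3U_41 F ).mono (by decide +kernel)), (List.forall_mem_cons.2 ⟨((bad3U_42 F ).mono (by decide +kernel)), (List.forall_mem_nil _)⟩)⟩)⟩)⟩)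

theorem bad3U_44 {G : Type u} [Group G] (F : FM PU G) : F.Pd (FM.VK (F.S PU.all) 3) (FM.RQ Bad) (bits [60]) :=
  FM.Pd.br (FM.ivtK FM.t3_all 3 (fun g _ _ => Bad.conj g)) (FM.src_k [(5,[])] (by decide +kernel)) [[(2,[])],[(3,[])],[(1,[])],[(2,[8,9])],[(7,[])],[(6,[])]] 4 [(3,[])] (by decide +kernel) (List.forall_mem_cons.2 ⟨((bad3U_43 F ).mono (by decide +kernel)), (List.forall_mem_nil _)⟩)

theorem bad3U_45 {G : Type u} [Group G] (F : FM PU G) : F.Pd (FM.VK (F.S PU.all) 3) (FM.RQ Bad) (bits []) :=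
  FM.Pd.br (FM.ivtK FM.t3_all 3 (fun g _ _ => Bad.conj g)) (FM.src_k [] (by decide +kernel)) [[(9,[])],[(5,[])],[(0,[])],[(4,[])],[(3,[])],[(1,[])]] 4 [(5,[])] (by decide +kernel) (List.forall_mem_cons.2 ⟨((bad3U_44 F ).mono (by decide +kernel)), (List.forall_mem_nil _)⟩)

theorem bad3U {G : Type u} [Group G] (F : FM PU G) : ∀ g, Pr (F.S PU.all) 3 g → Bad g :=
  FM.prK (bad3U_45 F )

theorem chU0a {G : Type u} [Group G] (F : FM PU G) : Nat.card (F.PS ⊤ []) = 693 * Nat.card (F.PS ⊤ [(5,[])]) :=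
  FM.pstep (a := (PU.cmL PU.all [])) (FM.Inv.all.cmL (by decide +kernel) (FM.Inv.ps 0 (by decide +kernel))) _ (mapL tw [(9,[]),(5,[]),(0,[]),(4,[]),(3,[]),(1,[])]) (fun _ _ => Subgroup.mem_top _) 4 _ (by decide +kernel)

theorem chU0b {G : Type u} [Group G] (F : FM PU G) : Nat.card (F.PS ⊤ [(5,[])]) = 512 * Nat.card (F.PS ⊤ [(9,[]),(5,[])]) :=
  FM.pstep (a := PU.ncL (PU.cmL PU.all []) [(5,[])]) ((FM.Inv.all.cmL (by decide +kernel) (FM.Inv.ps 0 (by decide +kernel))).ncL (by decide +kernel) (FM.Inv.ps 0 (by decide +kernel))) _ (mapL tw [(3,[]),(1,[]),(7,[]),(2,[]),(3,[4,8]),(6,[])]) (fun _ _ => Subgroup.mem_top _) 4 _ (by decide +kernel)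

theorem chU1a {G : Type u} [Group G] (F : FM PU G) : Nat.card (F.PS ⊤ [(9,[]),(5,[])]) = 45 * Nat.card (F.PS ⊤ [(0,[5,4]),(9,[]),(5,[])]) :=
  FM.pstep (a := (PU.cmL PU.all [(9,[]),(5,[])])) (FM.Inv.all.cmL (by decide +kernel) (FM.Inv.ps 0 (by decide +kernel))) _ (mapL tw [(0,[9,4]),(0,[5,4]),(1,[8,0]),(2,[9,8,7]),(0,[1,9,6])]) (fun _ _ => Subgroup.mem_top _) 3 _ (by decide +kernel)

theorem chU1b {G : Type u} [Group G] (F : FM PU G) : Nat.card (F.PS ⊤ [(0,[5,4]),(9,[]),(5,[])]) = 32 * Nat.card (F.PS ⊤ [(0,[9,4]),(0,[5,4]),(9,[]),(5,[])]) :=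
  FM.pstep (a := PU.ncL (PU.cmL PU.all [(9,[]),(5,[])]) [(0,[5,4])]) ((FM.Inv.all.cmL (by decide +kernel) (FM.Inv.ps 0 (by decide +kernel))).ncL (by decide +kernel) (FM.Inv.ps 0 (by decide +kernel))) _ (mapL tw [(0,[8,1,4]),(0,[8,4,6]),(4,[9,8,7]),(6,[9,8,3])]) (fun _ _ => Subgroup.mem_top _) 2 _ (by decide +kernel)

theorem chU2a {G : Type u} [Group G] (F : FM PU G) : Nat.card (F.PS ⊤ [(0,[9,4]),(0,[5,4]),(9,[]),(5,[])]) = 3 * Nat.card (F.PS ⊤ [(6,[9,8,3]),(0,[9,4]),(0,[5,4]),(9,[]),(5,[])]) :=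
  FM.pstep (a := (PU.cmL PU.all [(0,[9,4]),(0,[5,4]),(9,[]),(5,[])])) (FM.Inv.all.cmL (by decide +kernel) (FM.Inv.ps 0 (by decide +kernel))) _ (mapL tw [(0,[1,5,4,6]),(6,[9,8,3])]) (fun _ _ => Subgroup.mem_top _) 1 _ (by decide +kernel)

theorem chU2b {G : Type u} [Group G] (F : FM PU G) : Nat.card (F.PS ⊤ [(6,[9,8,3]),(0,[9,4]),(0,[5,4]),(9,[]),(5,[])]) = 2 * Nat.card (F.PS ⊤ [(0,[1,5,4,6]),(6,[9,8,3]),(0,[9,4]),(0,[5,4]),(9,[]),(5,[])]) :=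
  FM.pstep (a := PU.ncL (PU.cmL PU.all [(0,[9,4]),(0,[5,4]),(9,[]),(5,[])]) [(6,[9,8,3])]) ((FM.Inv.all.cmL (by decide +kernel) (FM.Inv.ps 0 (by decide +kernel))).ncL (by decide +kernel) (FM.Inv.ps 0 (by decide +kernel))) _ (mapL tw [(6,[9,8,3])]) (fun _ _ => Subgroup.mem_top _) 1 _ (by decide +kernel)

theorem chU {G : Type u} [Group G] (F : FM PU G) : Nat.card (F.PS ⊤ [(0,[1,5,4,6]),(6,[9,8,3]),(0,[9,4]),(0,[5,4]),(9,[]),(5,[])]) = 3 :=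
  by
  have h0 : _ = 9196830720 := FM.card_top' (F := F)
  have := chU0a F
  have := chU0b F
  have := chU1a F
  have := chU1b F
  have := chU2a F
  have := chU2b F
  omega

theorem invU {G : Type u} [Group G] (F : FM PU G) : ∀ g, g * g = 1 → PL F.D 3 g :=
  fun g hg => FM.lev (F.S_all ▸ r4U F) [] (5,[]) (9,[]) [(9,[]),(5,[]),(0,[]),(4,[]),(3,[]),(1,[])] [(3,[]),(1,[]),(7,[]),(2,[]),(3,[4,8]),(6,[])] 4 4 (by decide +kernel) (FM.lev (F.S_all ▸ r4U F) [(9,[]),(5,[])] (0,[5,4]) (0,[9,4]) [(0,[9,4]),(0,[5,4]),(1,[8,0]),(2,[9,8,7]),(0,[1,9,6])] [(0,[8,1,4]),(0,[8,4,6]),(4,[9,8,7]),(6,[9,8,3])] 3 2 (by decide +kernel) (FM.lev (F.S_all ▸ r4U F) [(0,[9,4]),(0,[5,4]),(9,[]),(5,[])] (6,[9,8,3]) (0,[1,5,4,6]) [(0,[1,5,4,6]),(6,[9,8,3])] [(6,[9,8,3])] 1 1 (by decide +kernel) (fun g hg m => FM.one_of_odd hg m (by rw [chU]; decide) ▸ ⟨0, by omega, Pr.zero.2 rfl⟩))) g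 hg (FM.PS_nil (F := F) ▸ trivial)

theorem uniqU {G : Type u} [Group G] (F : FM PU G) {E : Set G} (tE : T3 (E \ {1})) (hE : Subgroup.closure E = ⊤) : E \ {1} = F.D :=
  uniq_T3 (fun x hx y hy => ((F.S_all ▸ trU F : Tr2 F.D).t1 x hx y hy).imp fun _ => And.right) F.t3 (invU F) (fun k h1 h2 => by
    obtain rfl | rfl : k = 2 ∨ k = 3 := by omega
    exacts [F.S_all ▸ bad2U F, F.S_all ▸ bad3U F]) tE hE

end H7.T
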