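import Cfsg.Agent.H7.FM15
set_option Elab.async false
set_option maxRecDepth 100000
set_option maxHeartbeats 0
namespace H7.T
universe u v

noncomputable def mA23 : ℕ := bits [434,499,565,626,629,700,712,748,805,808,878,891,894,898,989,995,999,1010,1047,1050,1129,1132,1136,1234,1243,1246,1249,1253,1259,1364,1368,1371,1373,1376,1377,1382,1389,1392,1444,1447,1451,1562,1565,1568,1572,1578,1704,1709,1714,1719,1720,1723,1724,1727,1732,1738,1741,1863,1865,1868,1869,1871,1872,1875,1876,1879,1882,1891,1895,1971,1974,1978,1984,2142,2143,2146,2147,2150,2156,2163,2166,2324,2333,2337,2339,2344,2347,2348,2349,2352,2353,2356,2360,2363,2367,2373,2376,2513,2514,2517,2518,2519,2520,2522,2523,2526,2527,2531,2545,2551,2665,2666,2670,2676,2683,2686,2899,2900,2901,2904,2905,2908,2914,2917,2923,2929,2932,3131,3137,3142,3143,3148,3149,3150,3155,3156,3157,3158,3159,3160,3163,3164,3167,3172,3175,3182,3188,3191,3316,3317,3318,3319,3320,3324,3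325,3331,3352,3359,3362,3517,3518,3523,3529,3532,3538,3544,3547,3839,3840,3841,3842,3845,3846,3849,3853,3858,3861,3865,3872,3878,3881,4109,4110,4115,4118,4123,4124,4129,4133,4134,4135,4136,4137,4138,4141,4142,4145,4149,4152,4232,4233,4234,4240,4241,4248,4251,4280,4283,4289,4295,4298,4519,4520,4524,4527,4531,4537,4540,4544,4551,4558,4561,4964,4965,4966,4969,4970,4973,4979,4983,4986,4995,5004,5007,5234,5235,5239,5243,5244,5247,5258,5259,5260,5261,5262,5263,5266,5267,5286,5293,5296,5297,5303,5309,5312,5350,5356,5359,5363,5370,5377,5380,5691,5694,5695,5701,5704,5711,5718,5721,5728,5737,5740,5750,5751,6290,6291,6294,6295,6303,6306,6317,6504,6505,6511,6512,6516,6519,6524,6525,6526,6527,6528,6531,6537,6541,6546,6547,6550,6551,6554,6559,6565,6568,6629,6636,6639,6646,6654,6657,6667,6668,7114,7117,7126,7129,7133,7143,7144,7156,7157,7834,7994,7995,7998,8001,8002,8003,8004,8005,8006,8007,8061,8064,8074,8075,8082,8086,8094,8095,8711,8735,8736,9592,9716,9717,9771,9779,9780,9795,11589]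

noncomputable def o_A23_0 : ℕ := bits [434,499,565,626,629,700,712,748,805,808,878,891,894,898,989,995,999,1010,1047,1050,1129,1132,1136,1234,1243,1246,1249,1253,1259,1364,1368,1371,1373,1376,1377,1382,1389,1392,1444,1447,1451,1562,1565,1568,1572,1578,1704,1709,1714,1719,1720,1723,1724,1727,1732,1738,1741,1863,1865,1868,1869,1871,1872,1875,1876,1879,1882,1891,1895,1971,1974,1978,1984,2142,2143,2146,2147,2150,2156,2163,2166,2324,2333,2337,2339,2344,2347,2348,2349,2352,2353,2356,2360,2363,2367,2373,2376,2513,2514,2517,2518,2519,2520,2522,2523,2526,2527,2531,2545,2551,2665,2666,2670,2676,2683,2686,2899,2900,2901,2904,2905,2908,2914,2917,2923,2929,2932,3131,3137,3142,3143,3148,3149,3150,3155,3156,3157,3158,3159,3160,3163,3164,3167,3172,3175,3182,3188,3191,3316,3317,3318,3319,3320,3324,3325,3331,3352,3359,3362,3517,3518,3523,3529,3532,3538,3544,3547,3839,3840,3841,3842,3845,3846,3849,3853,3858,3861,3865,3872,3878,3881,4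109,4110,4115,4118,4123,4124,4129,4133,4134,4135,4136,4137,4138,4141,4142,4145,4149,4152,4232,4233,4234,4240,4241,4248,4251,4280,4283,4289,4295,4298,4519,4520,4524,4527,4531,4537,4540,4544,4551,4558,4561,4964,4965,4966,4969,4970,4973,4979,4983,4986,4995,5004,5007,5234,5235,5239,5243,5244,5247,5258,5259,5260,5261,5262,5263,5266,5267,5286,5293,5296,5297,5303,5309,5312,5350,5356,5359,5363,5370,5377,5380,5691,5694,5695,5701,5704,5711,5718,5721,5728,5737,5740,5750,5751,6290,6291,6294,6295,6303,6306,6317,6504,6505,6511,6512,6516,6519,6524,6525,6526,6527,6528,6531,6537,6541,6546,6547,6550,6551,6554,6559,6565,6568,6629,6636,6639,6646,6654,6657,6667,6668,7114,7117,7126,7129,7133,7143,7144,7156,7157,7834,7994,7995,7998,8001,8002,8003,8004,8005,8006,8007,8061,8064,8074,8075,8082,8086,8094,8095,8711,8735,8736,9592,9716,9717,9771,9779,9780,9795,11589]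

theorem mv_A23_0 : P23.mvOK [] (5,[]) (mapL tws [[(5,[])],[(4,[])],[(3,[])],[(7,[])],[(2,[])],[(1,[])],[(8,[])],[(0,[])]]) 5 o_A23_0 = true := by decide +kernel
theorem sz_A23_0 : P23.szOK (5,[]) o_A23_0 351 = true := by decide +kernel

noncomputable def o_A23_1 : ℕ := bits [1246,1376,1565,1719,1723,1724,1741,1868,1872,1875,1876,1879,1971,2142,2146,2147,2166,2337,2344,2347,2348,2349,2352,2353,2363,2373,2376,2514,2517,2518,2519,2520,2522,2523,2526,2527,2665,2666,2686,2899,2900,2901,2904,2905,2917,2929,2932,3142,3148,3149,3155,3156,3157,3158,3159,3160,3163,3164,3167,3172,3175,3182,3188,3191,3316,3317,3318,3319,3320,3324,3325,3362,3517,3518,3532,3544,3547,3839,3840,3841,3842,3845,3846,3849,3858,3861,3872,3878,3881,4110,4115,4123,4124,4129,4133,4134,4135,4136,4137,4141,4142,4145,4149,4152,4232,4233,4240,4241,4251,4283,4295,4298,4519,4520,4527,4537,4540,4551,4558,4561,4964,4965,4969,4970,4973,4979,4983,4986,4995,5004,50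07,5234,5235,5239,5243,5244,5258,5259,5260,5266,5267,5293,5296,5297,5309,5312,5356,5359,5370,5377,5380,5691,5694,5695,5701,5704,5711,5718,5721,5728,5737,5740,5750,5751,6294,6295,6303,6306,6317,6504,6505,6511,6512,6516,6519,6524,6525,6531,6541,6546,6547,6550,6551,6559,6565,6568,6629,6636,6639,6646,6654,6657,6667,6668,7114,7117,7126,7129,7133,7143,7144,7156,7157,7994,7995,7998,8002,8061,8064,8074,8075,8082,8086,8094,8095,8711,8735,8736,9716,9717,9771,9779,9780,9795]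

theorem mv_A23_1 : P23.mvOK [(5,[])] (4,[]) (mapL tws [[(5,[])],[(3,[])],[(7,[])],[(2,[])],[(1,[])],[(8,[])],[(0,[])],[(3,[7])],[(2,[3])],[(4,[11,7,3,12])]]) 2 o_A23_1 = true := by decide +kernel
theorem sz_A23_1 : P23.szOK (4,[]) o_A23_1 224 = true := by decide +kernel

noncomputable def o_A23_2 : ℕ := bits [891,999,1129,1243,1249,1259,1368,1373,1377,1382,1444,1562,1568,1578,1709,1714,1720,1727,1732,1738,1865,1869,1871,1882,1974,1984,2143,2150,2156,2163,2333,2339,2356,2360,2367,2513,2531,2551,2670,2676,2683,2908,2914,2923,3131,3137,3143,3150,3331,3352,3359,3523,3529,3538,3853,3865,4109,4118,4138,4234,4248,4280,4289,4524,4531,4544,4966,5247,5261,5262,5263,5286,5303,5350,5363,6290,6291,6526,6527,6554,8003]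

theorem mv_A23_2 : P23.mvOK [(4,[]),(5,[])] (3,[]) (mapL tws [[(7,[])],[(2,[])],[(1,[])],[(8,[])],[(0,[])],[(1,[2])],[(3,[12,5,8,12])]]) 3 o_A23_2 = true := by decide +kernel
theorem sz_A23_2 : P23.szOK (3,[]) o_A23_2 81 = true := by decide +kernel

noncomputable def o_A23_3 : ℕ := bits [626,712,805,894,898,989,995,1010,1047,1132,1136,1234,1253,1364,1371,1392,1447,1451,1572,1704,1863,1895,1978,2324,2545,6528,6537,7834,8004,8005]

theorem mv_A23_3 : P23.mvOK [(3,[]),(4,[]),(5,[])] (7,[]) (mapL tws [[(1,[])],[(8,[])],[(0,[])],[(3,[12,5,8,12])],[(8,[11,12,9,6])]]) 3 o_A23_3 = true := by decide +kernel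
theorem sz_A23_3 : P23.szOK (7,[]) o_A23_3 30 = true := by decide +kernel

noncomputable def o_A23_6 : ℕ := bits [712,989,995,1234,1364,1371,1704,1863,2324,6528,7834,8005]

theorem mv_A23_6 : P23.mvOK [(7,[]),(3,[]),(4,[]),(5,[])] (2,[]) (mapL tws [[(1,[])],[(0,[])],[(3,[12,5,8,12])]]) 2 o_A23_6 = true := by decide +kernel
theorem sz_A23_6 : P23.szOK (2,[]) o_A23_6 12 = true := by decide +kernel

noncomputable def o_A23_7 : ℕ := bits [8006,9592]

theorem mv_A23_7 : P23.mvOK [(2,[]),(7,[]),(3,[]),(4,[]),(5,[])] (1,[]) (mapL tws [[(0,[])]]) 1 o_A23_7 = true := by decide +kernel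
theorem sz_A23_7 : P23.szOK (1,[]) o_A23_7 2 = true := by decide +kernel

theorem lb_A23 {G : Type u} [Group G] (F : FM P23 G) : 4585351680 ≤ Nat.card (Subgroup.closure (F.S mA23)) :=
  (by have h := (((Nat.mul_le_mul_left 351 (((Nat.mul_le_mul_left 224 (((Nat.mul_le_mul_left 81 (((Nat.mul_le_mul_left 30 (((Nat.mul_le_mul_left 12 (((Nat.mul_le_mul_left 2 ((have := F.fin; Nat.card_pos) : 1 ≤ _)).trans (FM.pst_ge mv_A23_7 (FM.tws_mem' (by decide +kernel)) sz_A23_7)) : 2 ≤ _)).trans (FM.pst_ge mv_A23_6 (FM.tws_mem' (by decide +kernel)) sz_A23_6)) : 24 ≤ _)).trans (FM.pst_ge mv_A23_3 (FM.tws_mem' (by decide +kernel)) sz_A23_3)) : 720 ≤ _)).trans (FM.pst_ge mv_A23_2 (FM.tws_mem' (by decide +kernel)) sz_A23_2)) : 58320 ≤ _)).trans (FM.pst_ge mv_A23_1 (FM.tws_mem' (by decide +kernel)) sz_A23_1)) : 13063680 ≤ _)).trans (FM.pst_ge mv_A23_0 (FM.tws_mem' (by decide +kernel)) sz_A23_0)) : 4585351680 ≤ Nat.card (F.PS (Subgroup.closure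 (F.S mA23)) [])); rw [FM.PS_nil] at h; exact h)

noncomputable def m_A23_1 : ℕ := bits [0,7999,8001,8002,8003,8004,8005,8006,8007,11589]

theorem fx_A23_2 {G : Type u} [Group G] (F : FM P23 G) : F.Fx (F.PS (F.PS ⊤ [(9,[]),(10,[])]) [(4,[]),(5,[]),(3,[]),(7,[]),(2,[]),(1,[]),(8,[]),(0,[])]) m_A23_1 :=
  (FM.Fx.lor (FM.Fx.ps (qs := [(4,[]),(5,[]),(3,[]),(7,[]),(2,[]),(1,[]),(8,[]),(0,[])]) (by decide +kernel)) ((FM.Fx.ps (H := ⊤) (qs := [(9,[]),(10,[])]) (by decide +kernel)).mono inf_le_left)).le (by decide +kernel)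

noncomputable def m_A23_3 : ℕ := bits [0,1,434,499,565,626,629,700,712,748,805,808,878,891,894,898,989,995,999,1010,1047,1050,1129,1132,1136,1234,1243,1246,1249,1253,1259,1364,1368,1371,1373,1376,1377,1382,1389,1392,1444,1447,1451,1562,1565,1568,1572,1578,1704,1709,1714,1719,1720,1723,1724,1727,1732,1738,1741,1863,1865,1868,1869,1871,1872,1875,1876,1879,1882,1891,1895,1971,1974,1978,1984,2142,2143,2146,2147,2150,2156,2163,2166,2324,2333,2337,2339,2344,2347,2348,2349,2352,2353,2356,2360,2363,2367,2373,2376,2513,2514,2517,2518,2519,2520,2522,2523,2526,2527,2531,2545,2551,2665,2666,2670,2676,2683,2686,2899,2900,2901,2904,2905,2908,2914,2917,2923,2929,2932,3131,3137,3142,3143,3148,3149,3150,3155,3156,3157,3158,3159,3160,3163,3164,3167,3172,3175,3182,3188,3191,3316,3317,3318,3319,3320,3324,3325,3331,3352,3359,3362,3517,3518,3523,3529,3532,3538,3544,3547,3839,3840,3841,3842,3845,3846,3849,3853,3858,3861,3865,3872,3878,38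81,4109,4110,4115,4118,4123,4124,4129,4133,4134,4135,4136,4137,4138,4141,4142,4145,4149,4152,4232,4233,4234,4240,4241,4248,4251,4280,4283,4289,4295,4298,4519,4520,4524,4527,4531,4537,4540,4544,4551,4558,4561,4964,4965,4966,4969,4970,4973,4979,4983,4986,4995,5004,5007,5234,5235,5239,5243,5244,5247,5258,5259,5260,5261,5262,5263,5266,5267,5286,5293,5296,5297,5303,5309,5312,5350,5356,5359,5363,5370,5377,5380,5691,5694,5695,5701,5704,5711,5718,5721,5728,5737,5740,5750,5751,6290,6291,6294,6295,6303,6306,6317,6504,6505,6511,6512,6516,6519,6524,6525,6526,6527,6528,6531,6537,6541,6546,6547,6550,6551,6554,6559,6565,6568,6629,6636,6639,6646,6654,6657,6667,6668,7114,7117,7126,7129,7133,7143,7144,7156,7157,7834,7994,7995,7998,7999,8001,8002,8003,8004,8005,8006,8007,8061,8064,8074,8075,8082,8086,8094,8095,8711,8735,8736,9592,9716,9717,9771,9779,9780,9795,11589]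

theorem fx_A23_4 {G : Type u} [Group G] (F : FM P23 G) : F.Fx (F.PS (F.PS ⊤ [(9,[]),(10,[])]) [(4,[]),(5,[]),(3,[]),(7,[]),(2,[]),(1,[]),(8,[]),(0,[])]) m_A23_3 :=
  ((fx_A23_2 F).orb [(10,[]),(5,[]),(4,[]),(3,[]),(7,[]),(2,[]),(1,[]),(8,[])] (by decide +kernel) 7).le (by decide +kernel)

noncomputable def m_A23_5 : ℕ := bits [53]

theorem i_A23_6 {G : Type u} [Group G] (F : FM P23 G) : F.Inv (F.PS (F.PS ⊤ [(9,[]),(10,[])]) [(4,[]),(5,[]),(3,[]),(7,[]),(2,[]),(1,[]),(8,[]),(0,[])]) m_A23_5 :=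
  (FM.Fx.pat (fx_A23_4 F) FM.Inv.all [(10,[]),(5,[]),(4,[]),(3,[]),(2,[3,7]),(7,[])] [(8,[])] (by decide +kernel)).eq (by decide +kernel)

noncomputable def m_A23_7 : ℕ := bits [0,1,53,434,499,565,626,629,700,712,748,805,808,878,891,894,898,989,995,999,1010,1047,1050,1129,1132,1136,1234,1243,1246,1249,1253,1259,1364,1368,1371,1373,1376,1377,1382,1389,1392,1444,1447,1451,1562,1565,1568,1572,1578,1704,1709,1714,1719,1720,1723,1724,1727,1732,1738,1741,1863,1865,1868,1869,1871,1872,1875,1876,1879,1882,1891,1895,1971,1974,1978,1984,2142,2143,2146,2147,2150,2156,2163,2166,2324,2333,2337,2339,2344,2347,2348,2349,2352,2353,2356,2360,2363,2367,2373,2376,2513,2514,2517,2518,2519,2520,2522,2523,2526,2527,2531,2545,2551,2665,2666,2670,2676,2683,2686,2899,2900,2901,2904,2905,2908,2914,2917,2923,2929,2932,3131,3137,3142,3143,3148,3149,3150,3155,3156,3157,3158,3159,3160,3163,3164,3167,3172,3175,3182,3188,3191,3316,3317,3318,3319,3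320,3324,3325,3331,3352,3359,3362,3517,3518,3523,3529,3532,3538,3544,3547,3839,3840,3841,3842,3845,3846,3849,3853,3858,3861,3865,3872,3878,3881,4109,4110,4115,4118,4123,4124,4129,4133,4134,4135,4136,4137,4138,4141,4142,4145,4149,4152,4232,4233,4234,4240,4241,4248,4251,4280,4283,4289,4295,4298,4519,4520,4524,4527,4531,4537,4540,4544,4551,4558,4561,4964,4965,4966,4969,4970,4973,4979,4983,4986,4995,5004,5007,5234,5235,5239,5243,5244,5247,5258,5259,5260,5261,5262,5263,5266,5267,5286,5293,5296,5297,5303,5309,5312,5350,5356,5359,5363,5370,5377,5380,5691,5694,5695,5701,5704,5711,5718,5721,5728,5737,5740,5750,5751,6290,6291,6294,6295,6303,6306,6317,6504,6505,6511,6512,6516,6519,6524,6525,6526,6527,6528,6531,6537,6541,6546,6547,6550,6551,6554,6559,6565,6568,6629,6636,6639,6646,6654,6657,6667,6668,7114,7117,7126,7129,7133,7143,7144,7156,7157,7834,7994,7995,7998,7999,8001,8002,8003,8004,8005,8006,8007,8061,8064,8074,8075,8082,8086,8094,8095,8711,8735,8736,9592,9716,9717,9771,9779,9780,9795,11589]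

theorem fx_A23_8 {G : Type u} [Group G] (F : FM P23 G) : F.Fx (F.PS (F.PS ⊤ [(9,[]),(10,[])]) [(4,[]),(5,[]),(3,[]),(7,[]),(2,[]),(1,[]),(8,[]),(0,[])]) m_A23_7 :=
  (FM.Fx.lor (fx_A23_4 F) (FM.Fx.one (i_A23_6 F) (by decide +kernel))).le (by decide +kernel)

noncomputable def m_A23_9 : ℕ := bits [0,1,2,3,4,5,6,8,53,434,499,517,565,626,629,700,712,748,805,808,878,891,894,898,989,995,999,1010,1047,1050,1129,1132,1136,1234,1243,1246,1249,1253,1259,1364,1368,1371,1373,1376,1377,1382,1389,1392,1444,1447,1451,1562,1565,1568,1572,1578,1704,1709,1714,1719,1720,1723,1724,1727,1732,1738,1741,1863,1865,1868,1869,1871,1872,1875,1876,1879,1882,1891,1895,1971,1974,1978,1984,2142,2143,2146,2147,2150,2156,2163,2166,2324,2333,2337,2339,2344,2347,2348,2349,2352,2353,2356,2360,2363,2367,2373,2376,2513,2514,2517,2518,2519,2520,2522,2523,2526,2527,2531,2545,2551,2665,2666,2670,2676,2683,2686,2899,2900,2901,2904,2905,2908,2914,2917,2923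,2929,2932,3131,3137,3142,3143,3148,3149,3150,3155,3156,3157,3158,3159,3160,3163,3164,3167,3172,3175,3182,3188,3191,3316,3317,3318,3319,3320,3324,3325,3331,3352,3359,3362,3517,3518,3523,3529,3532,3538,3544,3547,3839,3840,3841,3842,3845,3846,3849,3853,3858,3861,3865,3872,3878,3881,4109,4110,4115,4118,4123,4124,4129,4133,4134,4135,4136,4137,4138,4141,4142,4145,4149,4152,4232,4233,4234,4240,4241,4248,4251,4280,4283,4289,4295,4298,4519,4520,4524,4527,4531,4537,4540,4544,4551,4558,4561,4964,4965,4966,4969,4970,4973,4979,4983,4986,4995,5004,5007,5234,5235,5239,5243,5244,5247,5258,5259,5260,5261,5262,5263,5266,5267,5286,5293,5296,5297,5303,5309,5312,5350,5356,5359,5363,5370,5377,5380,5691,5694,5695,5701,5704,5711,5718,5721,5728,5737,5740,5750,5751,6290,6291,6294,6295,6303,6306,6317,6504,6505,6511,6512,6516,6519,6524,6525,6526,6527,6528,6531,6537,6541,6546,6547,6550,6551,6554,6559,6565,6568,6629,6636,6639,6646,6654,6657,6667,6668,7114,7117,7126,7129,7133,7143,7144,7156,7157,7834,7994,7995,7998,7999,8001,8002,8003,8004,8005,8006,8007,8061,8064,8074,8075,8082,8086,8094,8095,8711,8735,8736,9592,9716,9717,9771,9779,9780,9795,11589]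

theorem fx_A23_10 {G : Type u} [Group G] (F : FM P23 G) : F.Fx (F.PS (F.PS ⊤ [(9,[]),(10,[])]) [(4,[]),(5,[]),(3,[]),(7,[]),(2,[]),(1,[]),(8,[]),(0,[])]) m_A23_9 :=
  ((fx_A23_8 F).orb [(9,[]),(10,[]),(1,[]),(2,[]),(3,[]),(4,[]),(5,[]),(7,[]),(8,[]),(0,[])] (by decide +kernel) 4).le (by decide +kernel)

theorem bot_A23_11 {G : Type u} [Group G] (F : FM P23 G) : (F.PS (F.PS ⊤ [(9,[]),(10,[])]) [(4,[]),(5,[]),(3,[]),(7,[]),(2,[]),(1,[]),(8,[]),(0,[])]) = ⊥ :=
  (fx_A23_10 F).bot (by decide +kernel)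

theorem th_A23 {G : Type u} [Group G] (F : FM P23 G) : F.D ∩ Subgroup.centralizer (Subgroup.zpowers (F.e (10,[]) * F.e (9,[])) : Set G) = F.S mA23 ∧ {y | y ∈ F.D ∧ Commute (F.e (10,[])) y ∧ Commute (F.e (9,[])) y ∧ y ≠ F.e (10,[]) ∧ y ≠ F.e (9,[])} = F.S mA23 ∧ Dp F.D (F.e (10,[])) ∩ Dp F.D (F.e (9,[])) = F.S mA23 ∧ Subgroup.closure (F.S mA23) = Subgroup.centralizer {F.e (10,[]), F.e (9,[])} ∧ Subgroup.center (Subgroup.closure (F.S mA23)) = ⊥ ∧ Subgroup.closure {F.e (10,[]), F.e (9,[])} ⊓ Subgroup.centralizer {F.e (10,[]), F.e (9,[])} = ⊥ ∧ (∀ x ∈ Subgroup.closure {F.e (10,[]), F.e (9,[])}, ∀ y ∈ Subgroup.centralizer {F.e (10,[]), F.e (9,[])}, x * y = y * x) ∧ Subgroup.closure {F.e (10,[]), F.e (9,[])} ⊔ Subgroup.centralizer {F.e (10,[]), F.e (9,[])} = Subgroup.normalizer (Subgroup.zpowers (F.e (10,[]) * F.e (9,[])) : Set G) ∧ Nonempty (Subgroup.closure {F.e (10,[]), F.e (9,[])} ≃* Equiv.Perm (Fin 3)) :=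
  FM.three_a (gs := [(4,[]),(5,[]),(3,[]),(7,[]),(2,[]),(1,[]),(8,[]),(0,[])]) (r := 4) (by decide +kernel) ((cdn_23 F).le.trans (lb_A23 F)) (bot_A23_11 F)

theorem t3_A23 {G : Type u} [Group G] (F : FM P23 G) : T3 (F.S mA23) :=
  by rw [← FM.S_eq (a := P23.cmL P23.all [(9,[]),(10,[])]) (b := mA23) (by decide +kernel)]; exact F.t3_cmL F.t3_all (by decide +kernel)

theorem tr_A23 {G : Type u} [Group G] (F : FM P23 G) : Tr2 (F.S mA23) :=
  F.tr2 (t3_A23 F) (5,[]) (4,[]) [(4,[]),(5,[]),(3,[]),(7,[]),(2,[]),(1,[]),(8,[]),(0,[])] [(3,[]),(7,[]),(2,[]),(1,[]),(0,[]),(4,[5,11,12])] 4 6 (by decide +kernel)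

theorem nk_A23_9 {G : Type u} [Group G] (F : FM P23 G) : F.Pd (FM.VK (F.S mA23) 8) (FM.RQ (fun _ => False)) (bits [878,3137,6554,8001,8003,8006,8007]) :=
  FM.Pd.br (FM.ivtK (t3_A23 F) 8 (fun _ _ _ h => h)) (FM.src_k [(5,[]),(3,[]),(1,[]),(8,[]),(3,[11,8,10,11]),(1,[11,5,10,11]),(0,[11,10,9,11,7,3,4])] (by decide +kernel)) [] 0 [] (by decide +kernel) (List.forall_mem_nil _)

theorem nk_A23_10 {G : Type u} [Group G] (F : FM P23 G) : F.Pd (FM.VK (F.S mA23) 8) (FM.RQ (fun _ => False)) (bits [878,3137,8001,8003,8006,8007]) :=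
  FM.Pd.br (FM.ivtK (t3_A23 F) 8 (fun _ _ _ h => h)) (FM.src_k [(5,[]),(3,[]),(1,[]),(8,[]),(3,[11,8,10,11]),(1,[11,5,10,11])] (by decide +kernel)) [] 0 [(0,[11,10,9,11,7,3,4])] (by decide +kernel) (List.forall_mem_cons.2 ⟨((nk_A23_9 F ).mono (by decide +kernel)), (List.forall_mem_nil _)⟩)

theorem nk_A23_12 {G : Type u} [Group G] (F : FM P23 G) : F.Pd (FM.VK (F.S mA23) 8) (FM.RQ (fun _ => False)) (bits [878,6554,8001,8003,8006,8007]) :=
  FM.Pd.br (FM.ivtK (t3_A23 F) 8 (fun _ _ _ h => h)) (FM.src_k [(5,[]),(3,[]),(1,[]),(8,[]),(3,[11,8,10,11]),(0,[11,10,9,11,7,3,4])] (by decide +kernel)) [] 0 [(1,[11,5,10,11])] (by decide +kernel) (List.forall_mem_cons.2 ⟨((nk_A23_9 F ).mono (by decide +kernel)), (List.forall_mem_nil _)⟩)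

theorem nk_A23_13 {G : Type u} [Group G] (F : FM P23 G) : F.Pd (FM.VK (F.S mA23) 8) (FM.RQ (fun _ => False)) (bits [878,8001,8003,8006,8007]) :=
  FM.Pd.br (FM.ivtK (t3_A23 F) 8 (fun _ _ _ h => h)) (FM.src_k [(5,[]),(3,[]),(1,[]),(8,[]),(3,[11,8,10,11])] (by decide +kernel)) [] 0 [(1,[11,5,10,11]),(0,[11,10,9,11,7,3,4])] (by decide +kernel) (List.forall_mem_cons.2 ⟨((nk_A23_10 F ).mono (by decide +kernel)), (List.forall_mem_cons.2 ⟨((nk_A23_12 F ).mono (by decide +kernel)), (List.forall_mem_nil _)⟩)⟩)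

theorem nk_A23_16 {G : Type u} [Group G] (F : FM P23 G) : F.Pd (FM.VK (F.S mA23) 8) (FM.RQ (fun _ => False)) (bits [3137,6554,8001,8003,8006,8007]) :=
  FM.Pd.br (FM.ivtK (t3_A23 F) 8 (fun _ _ _ h => h)) (FM.src_k [(5,[]),(3,[]),(1,[]),(8,[]),(1,[11,5,10,11]),(0,[11,10,9,11,7,3,4])] (by decide +kernel)) [] 0 [(3,[11,8,10,11])] (by decide +kernel) (List.forall_mem_cons.2 ⟨((nk_A23_9 F ).mono (by decide +kernel)), (List.forall_mem_nil _)⟩)

theorem nk_A23_17 {G : Type u} [Group G] (F : FM P23 G) : F.Pd (FM.VK (F.S mA23) 8) (FM.RQ (fun _ => False)) (bits [3137,8001,8003,8006,8007]) :=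
  FM.Pd.br (FM.ivtK (t3_A23 F) 8 (fun _ _ _ h => h)) (FM.src_k [(5,[]),(3,[]),(1,[]),(8,[]),(1,[11,5,10,11])] (by decide +kernel)) [] 0 [(3,[11,8,10,11]),(0,[11,10,9,11,7,3,4])] (by decide +kernel) (List.forall_mem_cons.2 ⟨((nk_A23_10 F ).mono (by decide +kernel)), (List.forall_mem_cons.2 ⟨((nk_A23_16 F ).mono (by decide +kernel)), (List.forall_mem_nil _)⟩)⟩)

theorem nk_A23_19 {G : Type u} [Group G] (F : FM P23 G) : F.Pd (FM.VK (F.S mA23) 8) (FM.RQ (fun _ => False)) (bits [6554,8001,8003,8006,8007]) :=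
  FM.Pd.br (FM.ivtK (t3_A23 F) 8 (fun _ _ _ h => h)) (FM.src_k [(5,[]),(3,[]),(1,[]),(8,[]),(0,[11,10,9,11,7,3,4])] (by decide +kernel)) [] 0 [(3,[11,8,10,11]),(1,[11,5,10,11])] (by decide +kernel) (List.forall_mem_cons.2 ⟨((nk_A23_12 F ).mono (by decide +kernel)), (List.forall_mem_cons.2 ⟨((nk_A23_16 F ).mono (by decide +kernel)), (List.forall_mem_nil _)⟩)⟩)

theorem nk_A23_20 {G : Type u} [Group G] (F : FM P23 G) : F.Pd (FM.VK (F.S mA23) 8) (FM.RQ (fun _ => False)) (bits [8001,8003,8006,8007]) :=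
  FM.Pd.br (FM.ivtK (t3_A23 F) 8 (fun _ _ _ h => h)) (FM.src_k [(5,[]),(3,[]),(1,[]),(8,[])] (by decide +kernel)) [] 0 [(3,[11,8,10,11]),(1,[11,5,10,11]),(0,[11,10,9,11,7,3,4])] (by decide +kernel) (List.forall_mem_cons.2 ⟨((nk_A23_13 F ).mono (by decide +kernel)), (List.forall_mem_cons.2 ⟨((nk_A23_17 F ).mono (by decide +kernel)), (List.forall_mem_cons.2 ⟨((nk_A23_19 F ).mono (by decide +kernel)), (List.forall_mem_nil _)⟩)⟩)⟩)

theorem nk_A23_21 {G : Type u} [Group G] (F : FM P23 G) : F.Pd (FM.VK (F.S mA23) 8) (FM.RQ (fun _ => False)) (bits [8001,8003,8006]) :=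
  FM.Pd.br (FM.ivtK (t3_A23 F) 8 (fun _ _ _ h => h)) (FM.src_k [(5,[]),(3,[]),(1,[])] (by decide +kernel)) [[(5,[11,4,10,12])],[(8,[])],[(3,[11,8,10,11])],[(1,[11,5,10,11])]] 2 [(8,[])] (by decide +kernel) (List.forall_mem_cons.2 ⟨((nk_A23_20 F ).mono (by decide +kernel)), (List.forall_mem_nil _)⟩)

theorem nk_A23_22 {G : Type u} [Group G] (F : FM P23 G) : F.Pd (FM.VK (F.S mA23) 8) (FM.RQ (fun _ => False)) (bits [8001,8003]) :=
  FM.Pd.br (FM.ivtK (t3_A23 F) 8 (fun _ _ _ h => h)) (FM.src_k [(5,[]),(3,[])] (by decide +kernel)) [[(0,[])],[(1,[])],[(2,[3,7])],[(8,[])],[(4,[5,11,12])]] 3 [(1,[])] (by decide +kernel) (List.forall_mem_cons.2 ⟨((nk_A23_21 F ).mono (by decide +kernel)), (List.forall_mem_nil _)⟩)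

theorem nk_A23_23 {G : Type u} [Group G] (F : FM P23 G) : F.Pd (FM.VK (F.S mA23) 8) (FM.RQ (fun _ => False)) (bits [8001]) :=
  FM.Pd.br (FM.ivtK (t3_A23 F) 8 (fun _ _ _ h => h)) (FM.src_k [(5,[])] (by decide +kernel)) [[(7,[])],[(3,[])],[(2,[])],[(1,[])],[(8,[])],[(0,[])],[(4,[5,11,12])]] 3 [(3,[])] (by decide +kernel) (List.forall_mem_cons.2 ⟨((nk_A23_22 F ).mono (by decide +kernel)), (List.forall_mem_nil _)⟩)

theorem nk_A23_24 {G : Type u} [Group G] (F : FM P23 G) : F.Pd (FM.VK (F.S mA23) 8) (FM.RQ (fun _ => False)) (bits []) :=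
  FM.Pd.br (FM.ivtK (t3_A23 F) 8 (fun _ _ _ h => h)) (FM.src_k [] (by decide +kernel)) [[(4,[])],[(5,[])],[(3,[])],[(7,[])],[(2,[])],[(1,[])],[(8,[])],[(0,[])]] 4 [(5,[])] (by decide +kernel) (List.forall_mem_cons.2 ⟨((nk_A23_23 F ).mono (by decide +kernel)), (List.forall_mem_nil _)⟩)

theorem nk_A23 {G : Type u} [Group G] (F : FM P23 G) : ∀ g, Pr (F.S mA23) 8 g → (fun _ => False) g :=
  FM.prK (nk_A23_24 F )

theorem wd_A23 {G : Type u} [Group G] (F : FM P23 G) : Cfsg.commutingWidth (F.S mA23) = 7 :=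
  FM.width' (B := [(5,[]),(3,[]),(1,[]),(8,[]),(3,[11,8,10,11]),(1,[11,5,10,11]),(0,[11,10,9,11,7,3,4])]) (by decide +kernel) (nk_A23 F)

theorem pr_A23 {G : Type u} [Group G] (F : FM P23 G) : ∃ x ∈ F.S mA23, (∃ y ∈ F.S mA23, ¬ Commute x y) ∧ ∃ z ∈ F.S mA23, z ≠ x ∧ Commute x z :=
  have h := F.inq_spec (m := mA23) (qs := [(5,[])]) (by decide +kernel) _ List.mem_cons_self
  have h1 := (F.S_ncm h.1 mA23).le (F.inq_spec (qs := [(4,[])]) (by decide +kernel) _ List.mem_cons_self).2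
  have h2 := (F.S_dpm h.1 mA23).le (F.inq_spec (qs := [(3,[])]) (by decide +kernel) _ List.mem_cons_self).2
  ⟨_, h.2, ⟨_, h1⟩, _, h2⟩

theorem t1_A23 {G : Type u} [Group G] (F : FM P23 G) : ∀ y ∈ F.S mA23, ∃ g ∈ Subgroup.closure (F.S mA23), g * y * g⁻¹ = F.e (5,[]) :=
  fun _ hy => by
    obtain ⟨g, hg, e⟩ := F.orb' (m := mA23) (qs := [(4,[]),(5,[]),(3,[]),(7,[]),(2,[]),(1,[]),(8,[]),(0,[])]) (by decide +kernel) (r := 4) (m' := bit (P23.pt (5,[]))) (F.S_mono (by decide +kernel) hy)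
    exact ⟨g, hg, (F.S_bit (by decide +kernel)).le e⟩

end H7.T
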