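import Cfsg.Agent.H7.Pres
set_option Elab.async false
set_option maxRecDepth 100000
set_option maxHeartbeats 0
namespace H7.T
universe u

def R_A1 : List (List ℕ) := [[0,0]]
def iv_A1 : List ℕ := [0]
theorem inv_A1 : invOK R_A1 iv_A1 1 = true := by decide +kernel

noncomputable def n_A1_0 : Net := (Net.cons (nat_lit 1) (nat_lit 0x1)
  Net.nil)

noncomputable def NL_A1 : List Net := [n_A1_0]
theorem okL_A1 : okL 2 NL_A1 = true := by decide +kernel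
noncomputable def N_A1 : ℕ → Net := nth NL_A1
theorem ok_A1 : ∀ a, (N_A1 a).ok 2 = true := ok_nth okL_A1

def ps_A1 : List (List ℕ × List ℕ) := [([0,0],[])]

theorem pl_A1 : ∀ j < 1, planeOK N_A1 ps_A1 (plN 2 1 j) = true := allLt_iff.1 (by decide +kernel)

theorem rels_A1 : Rels (pms N_A1) R_A1 := rels_of_planes ok_A1 (by decide +kernel) (iv := iv_A1) pl_A1 (by decide +kernel)

def hs_A1 : List (List ℕ × List (List ℕ) × ℕ) := []
theorem hh_A1 : ∀ h ∈ hs_A1, UI.{u} R_A1 h.1 h.2.1 h.2.2 :=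
  List.forall_mem_nil _

theorem e_A1_0 : erun 2 0 N_A1 R_A1 iv_A1 1 hs_A1 (stK (ones 2) (mkK 2 (ones 2) [0]))
  [.grow [0] 1 (ones 2), .rel 0 0]
  (bit 0) (mkK 2 (bit 0) []) = true := by decide +kernel
theorem r_A1_0 : Run.{u} 2 N_A1 R_A1 0 (bit 0) (mkK 2 (bit 0) []) (ones 2) (mkK 2 (ones 2) [0]) := (Run.of_cert ok_A1 (by decide +kernel) inv_A1 hh_A1 e_A1_0 0)

theorem ui_A1 : UI.{u} R_A1 [0] (sing []) 2 :=
  UI.of_run (kp := 0) (O := (ones 2)) ok_A1 (by decide +kernel) rels_A1 r_A1_0 (by decide +kernel)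

theorem ub_A1 : UB.{u} R_A1 [0] 2 :=
  (ui_A1.mul (UB.nil _) (by decide +kernel) (by decide +kernel)).le (by decide +kernel)

def R_A2 : List (List ℕ) := [[0,0],[1,1],[0,1,0,1,0,1]]
def iv_A2 : List ℕ := [0,1]
theorem inv_A2 : invOK R_A2 iv_A2 2 = true := by decide +kernel

noncomputable def n_A2_0 : Net := (Net.cons (nat_lit 1) (nat_lit 0x1)
  (Net.cons (nat_lit 2) (nat_lit 0x1)
  (Net.cons (nat_lit 1) (nat_lit 0x1)
  Net.nil)))

noncomputable def n_A2_1 : Net := (Net.cons (nat_lit 1) (nat_lit 0x1)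
  Net.nil)

noncomputable def NL_A2 : List Net := [n_A2_0,n_A2_1]
theorem okL_A2 : okL 3 NL_A2 = true := by decide +kernel
noncomputable def N_A2 : ℕ → Net := nth NL_A2
theorem ok_A2 : ∀ a, (N_A2 a).ok 3 = true := ok_nth okL_A2

def ps_A2 : List (List ℕ × List ℕ) := [([0,0],[]),([1,1],[]),([0,1,0],[1,0,1])]

theorem pl_A2 : ∀ j < 2, planeOK N_A2 ps_A2 (plN 3 2 j) = true := allLt_iff.1 (by decide +kernel)

theorem rels_A2 : Rels (pms N_A2) R_A2 := rels_of_planes ok_A2 (by decide +kernel) (iv := iv_A2) pl_A2 (by decide +kernel)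

theorem imp_A2_A1_1c : impCert R_A2 [1] R_A1 [(1,0)] = true := by decide +kernel
theorem imp_A2_A1_1 : Imp.{u} R_A2 [1] R_A1 := Imp.of_cert imp_A2_A1_1c

theorem imp_A2_A1_2c : impCert R_A2 [0] R_A1 [(0,0)] = true := by decide +kernel
theorem imp_A2_A1_2 : Imp.{u} R_A2 [0] R_A1 := Imp.of_cert imp_A2_A1_2c

def hs_A2 : List (List ℕ × List (List ℕ) × ℕ) := [([1],[],2),([0],[],2)]
theorem hh_A2 : ∀ h ∈ hs_A2, UI.{u} R_A2 h.1 h.2.1 h.2.2 :=
  List.forall_mem_cons.2 ⟨ub_A1.ren imp_A2_A1_1 (by decide +kernel) (by decide +kernel),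
    List.forall_mem_cons.2 ⟨ub_A1.ren imp_A2_A1_2 (by decide +kernel) (by decide +kernel),
    List.forall_mem_nil _⟩⟩

theorem e_A2_0 : erun 3 0 N_A2 R_A2 iv_A2 2 hs_A2 (stK (ones 3) (mkK 3 (ones 3) [0,1]))
  [.orb [1] [] 2 0 0 1, .orb [0] [] 2 1 0 1, .rel 2 1]
  (bit 0) (mkK 3 (bit 0) [0]) = true := by decide +kernel
theorem r_A2_0 : Run.{u} 3 N_A2 R_A2 0 (bit 0) (mkK 3 (bit 0) [0]) (ones 3) (mkK 3 (ones 3) [0,1]) := (Run.of_cert ok_A2 (by decide +kernel) inv_A2 hh_A2 e_A2_0 0)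

theorem ui_A2 : UI.{u} R_A2 [0,1] (sing [0]) 3 :=
  UI.of_run (kp := 0) (O := (ones 3)) ok_A2 (by decide +kernel) rels_A2 r_A2_0 (by decide +kernel)

theorem ub_A2 : UB.{u} R_A2 [0,1] 6 :=
  (ui_A2.mul (UI.ren (S := [0]) (W := []) ub_A1 imp_A2_A1_2 (by decide +kernel) rfl) (by decide +kernel) (by decide +kernel)).le (by decide +kernel)

def R_A3 : List (List ℕ) := [[0,0],[1,1],[2,2],[0,1,0,1,0,1],[0,2,0,2],[1,2,1,2,1,2]]
def iv_A3 : List ℕ := [0,1,2]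
theorem inv_A3 : invOK R_A3 iv_A3 3 = true := by decide +kernel

noncomputable def n_A3_0 : Net := (Net.cons (nat_lit 1) (nat_lit 0x4)
  Net.nil)

noncomputable def n_A3_1 : Net := (Net.cons (nat_lit 1) (nat_lit 0x4)
  (Net.cons (nat_lit 2) (nat_lit 0x2)
  (Net.cons (nat_lit 1) (nat_lit 0x4)
  Net.nil)))

noncomputable def n_A3_2 : Net := (Net.cons (nat_lit 1) (nat_lit 0x1)
  Net.nil)

noncomputable def NL_A3 : List Net := [n_A3_0,n_A3_1,n_A3_2]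
theorem okL_A3 : okL 4 NL_A3 = true := by decide +kernel
noncomputable def N_A3 : ℕ → Net := nth NL_A3
theorem ok_A3 : ∀ a, (N_A3 a).ok 4 = true := ok_nth okL_A3

def ps_A3 : List (List ℕ × List ℕ) := [([0,0],[]),([1,1],[]),([2,2],[]),([0,1,0],[1,0,1]),([0,2],[2,0]),([1,2,1],[2,1,2])]

theorem pl_A3 : ∀ j < 2, planeOK N_A3 ps_A3 (plN 4 2 j) = true := allLt_iff.1 (by decide +kernel)

theorem rels_A3 : Rels (pms N_A3) R_A3 := rels_of_planes ok_A3 (by decide +kernel) (iv := iv_A3) pl_A3 (by decide +kernel)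

theorem imp_A3_A2_3c : impCert R_A3 [1,2] R_A2 [(1,0),(2,0),(5,0)] = true := by decide +kernel
theorem imp_A3_A2_3 : Imp.{u} R_A3 [1,2] R_A2 := Imp.of_cert imp_A3_A2_3c

theorem imp_A3_A2_4c : impCert R_A3 [0,1] R_A2 [(0,0),(1,0),(3,0)] = true := by decide +kernel
theorem imp_A3_A2_4 : Imp.{u} R_A3 [0,1] R_A2 := Imp.of_cert imp_A3_A2_4c

def hs_A3 : List (List ℕ × List (List ℕ) × ℕ) := [([1,2],[[1]],3),([0,1],[[0]],3)]
theorem hh_A3 : ∀ h ∈ hs_A3, UI.{u} R_A3 h.1 h.2.1 h.2.2 :=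
  List.forall_mem_cons.2 ⟨ui_A2.ren imp_A3_A2_3 (by decide +kernel) (by decide +kernel),
    List.forall_mem_cons.2 ⟨ui_A2.ren imp_A3_A2_4 (by decide +kernel) (by decide +kernel),
    List.forall_mem_nil _⟩⟩

theorem e_A3_0 : erun 4 0 N_A3 R_A3 iv_A3 3 hs_A3 (stK (ones 4) (mkK 4 (ones 4) [0,1,2]))
  [.orb [1,2] [[1]] 3 0 0 2, .rel 4 0, .orb [0,1] [[0]] 3 1 1 1, .rel 4 1]
  (bit 0) (mkK 4 (bit 0) [0,1]) = true := by decide +kernel
theorem r_A3_0 : Run.{u} 4 N_A3 R_A3 0 (bit 0) (mkK 4 (bit 0) [0,1]) (ones 4) (mkK 4 (ones 4) [0,1,2]) := (Run.of_cert ok_A3 (by decide +kernel) inv_A3 hh_A3 e_A3_0 0)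

theorem ui_A3 : UI.{u} R_A3 [0,1,2] (sing [0,1]) 4 :=
  UI.of_run (kp := 0) (O := (ones 4)) ok_A3 (by decide +kernel) rels_A3 r_A3_0 (by decide +kernel)

theorem ub_A3 : UB.{u} R_A3 [0,1,2] 24 :=
  (ui_A3.mul (UI.ren (S := [0,1]) (W := []) ub_A2 imp_A3_A2_4 (by decide +kernel) rfl) (by decide +kernel) (by decide +kernel)).le (by decide +kernel)

def R_A4 : List (List ℕ) := [[0,0],[1,1],[2,2],[3,3],[0,1,0,1,0,1],[0,2,0,2],[0,3,0,3],[1,2,1,2,1,2],[1,3,1,3],[2,3,2,3,2,3]]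
def iv_A4 : List ℕ := [0,1,2,3]
theorem inv_A4 : invOK R_A4 iv_A4 4 = true := by decide +kernel

noncomputable def n_A4_0 : Net := (Net.cons (nat_lit 1) (nat_lit 0x4)
  (Net.cons (nat_lit 2) (nat_lit 0x1)
  (Net.cons (nat_lit 4) (nat_lit 0x1)
  (Net.cons (nat_lit 2) (nat_lit 0x1)
  (Net.cons (nat_lit 1) (nat_lit 0x4)
  Net.nil)))))

noncomputable def n_A4_1 : Net := (Net.cons (nat_lit 1) (nat_lit 0x4)
  Net.nil)

noncomputable def n_A4_2 : Net := (Net.cons (nat_lit 1) (nat_lit 0x4)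
  (Net.cons (nat_lit 2) (nat_lit 0x2)
  (Net.cons (nat_lit 1) (nat_lit 0x4)
  Net.nil)))

noncomputable def n_A4_3 : Net := (Net.cons (nat_lit 1) (nat_lit 0x1)
  Net.nil)

noncomputable def NL_A4 : List Net := [n_A4_0,n_A4_1,n_A4_2,n_A4_3]
theorem okL_A4 : okL 5 NL_A4 = true := by decide +kernel
noncomputable def N_A4 : ℕ → Net := nth NL_A4
theorem ok_A4 : ∀ a, (N_A4 a).ok 5 = true := ok_nth okL_A4

def ps_A4 : List (List ℕ × List ℕ) := [([0,0],[]),([1,1],[]),([2,2],[]),([3,3],[]),([0,1,0],[1,0,1]),([0,2],[2,0]),([0,3],[3,0]),([1,2,1],[2,1,2]),([1,3],[3,1]),([2,3,2],[3,2,3])]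

theorem pl_A4 : ∀ j < 3, planeOK N_A4 ps_A4 (plN 5 3 j) = true := allLt_iff.1 (by decide +kernel)

theorem rels_A4 : Rels (pms N_A4) R_A4 := rels_of_planes ok_A4 (by decide +kernel) (iv := iv_A4) pl_A4 (by decide +kernel)

theorem imp_A4_A3_5c : impCert R_A4 [1,2,3] R_A3 [(1,0),(2,0),(3,0),(7,0),(8,0),(9,0)] = true := by decide +kernel
theorem imp_A4_A3_5 : Imp.{u} R_A4 [1,2,3] R_A3 := Imp.of_cert imp_A4_A3_5c

theorem imp_A4_A3_6c : impCert R_A4 [0,1,2] R_A3 [(0,0),(1,0),(2,0),(4,0),(5,0),(7,0)] = true := by decide +kernel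
theorem imp_A4_A3_6 : Imp.{u} R_A4 [0,1,2] R_A3 := Imp.of_cert imp_A4_A3_6c

def hs_A4 : List (List ℕ × List (List ℕ) × ℕ) := [([1,2,3],[[1],[2]],4),([0,1,2],[[0],[1]],4)]
theorem hh_A4 : ∀ h ∈ hs_A4, UI.{u} R_A4 h.1 h.2.1 h.2.2 :=
  List.forall_mem_cons.2 ⟨ui_A3.ren imp_A4_A3_5 (by decide +kernel) (by decide +kernel),
    List.forall_mem_cons.2 ⟨ui_A3.ren imp_A4_A3_6 (by decide +kernel) (by decide +kernel),
    List.forall_mem_nil _⟩⟩

theorem e_A4_0 : erun 5 0 N_A4 R_A4 iv_A4 4 hs_A4 (stK (ones 5) (mkK 5 (ones 5) [0,1,2,3]))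
  [.orb [1,2,3] [[2],[1]] 4 0 0 3, .rel 6 0, .rel 5 0, .orb [0,1,2] [[1],[0]] 4 1 2 1, .rel 6 1]
  (bit 0) (mkK 5 (bit 0) [0,1,2]) = true := by decide +kernel
theorem r_A4_0 : Run.{u} 5 N_A4 R_A4 0 (bit 0) (mkK 5 (bit 0) [0,1,2]) (ones 5) (mkK 5 (ones 5) [0,1,2,3]) := (Run.of_cert ok_A4 (by decide +kernel) inv_A4 hh_A4 e_A4_0 0)

theorem ui_A4 : UI.{u} R_A4 [0,1,2,3] (sing [0,1,2]) 5 :=
  UI.of_run (kp := 0) (O := (ones 5)) ok_A4 (by decide +kernel) rels_A4 r_A4_0 (by decide +kernel)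

theorem ub_A4 : UB.{u} R_A4 [0,1,2,3] 120 :=
  (ui_A4.mul (UI.ren (S := [0,1,2]) (W := []) ub_A3 imp_A4_A3_6 (by decide +kernel) rfl) (by decide +kernel) (by decide +kernel)).le (by decide +kernel)

def R_A5 : List (List ℕ) := [[0,0],[1,1],[2,2],[3,3],[4,4],[0,1,0,1,0,1],[0,2,0,2],[0,3,0,3],[0,4,0,4],[1,2,1,2,1,2],[1,3,1,3],[1,4,1,4],[2,3,2,3,2,3],[2,4,2,4],[3,4,3,4,3,4]]
def iv_A5 : List ℕ := [0,1,2,3,4]
theorem inv_A5 : invOK R_A5 iv_A5 5 = true := by decide +kernel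

noncomputable def n_A5_0 : Net := (Net.cons (nat_lit 1) (nat_lit 0x10)
  Net.nil)

noncomputable def n_A5_1 : Net := (Net.cons (nat_lit 1) (nat_lit 0x10)
  (Net.cons (nat_lit 2) (nat_lit 0x2)
  (Net.cons (nat_lit 4) (nat_lit 0x2)
  (Net.cons (nat_lit 2) (nat_lit 0x2)
  (Net.cons (nat_lit 1) (nat_lit 0x10)
  Net.nil)))))

noncomputable def n_A5_2 : Net := (Net.cons (nat_lit 1) (nat_lit 0x4)
  Net.nil)

noncomputable def n_A5_3 : Net := (Net.cons (nat_lit 1) (nat_lit 0x4)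
  (Net.cons (nat_lit 2) (nat_lit 0x2)
  (Net.cons (nat_lit 1) (nat_lit 0x4)
  Net.nil)))

noncomputable def n_A5_4 : Net := (Net.cons (nat_lit 1) (nat_lit 0x1)
  Net.nil)

noncomputable def NL_A5 : List Net := [n_A5_0,n_A5_1,n_A5_2,n_A5_3,n_A5_4]
theorem okL_A5 : okL 6 NL_A5 = true := by decide +kernel
noncomputable def N_A5 : ℕ → Net := nth NL_A5
theorem ok_A5 : ∀ a, (N_A5 a).ok 6 = true := ok_nth okL_A5

def ps_A5 : List (List ℕ × List ℕ) := [([0,0],[]),([1,1],[]),([2,2],[]),([3,3],[]),([4,4],[]),([0,1,0],[1,0,1]),([0,2],[2,0]),([0,3],[3,0]),([0,4],[4,0]),([1,2,1],[2,1,2]),([1,3],[3,1]),([1,4],[4,1]),([2,3,2],[3,2,3]),([2,4],[4,2]),([3,4,3],[4,3,4])]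

theorem pl_A5 : ∀ j < 3, planeOK N_A5 ps_A5 (plN 6 3 j) = true := allLt_iff.1 (by decide +kernel)

theorem rels_A5 : Rels (pms N_A5) R_A5 := rels_of_planes ok_A5 (by decide +kernel) (iv := iv_A5) pl_A5 (by decide +kernel)

theorem imp_A5_A4_7c : impCert R_A5 [1,2,3,4] R_A4 [(1,0),(2,0),(3,0),(4,0),(9,0),(10,0),(11,0),(12,0),(13,0),(14,0)] = true := by decide +kernel
theorem imp_A5_A4_7 : Imp.{u} R_A5 [1,2,3,4] R_A4 := Imp.of_cert imp_A5_A4_7c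

theorem imp_A5_A4_8c : impCert R_A5 [0,1,2,3] R_A4 [(0,0),(1,0),(2,0),(3,0),(5,0),(6,0),(7,0),(9,0),(10,0),(12,0)] = true := by decide +kernel
theorem imp_A5_A4_8 : Imp.{u} R_A5 [0,1,2,3] R_A4 := Imp.of_cert imp_A5_A4_8c

def hs_A5 : List (List ℕ × List (List ℕ) × ℕ) := [([1,2,3,4],[[1],[2],[3]],5),([0,1,2,3],[[0],[1],[2]],5)]
theorem hh_A5 : ∀ h ∈ hs_A5, UI.{u} R_A5 h.1 h.2.1 h.2.2 :=
  List.forall_mem_cons.2 ⟨ui_A4.ren imp_A5_A4_7 (by decide +kernel) (by decide +kernel),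
    List.forall_mem_cons.2 ⟨ui_A4.ren imp_A5_A4_8 (by decide +kernel) (by decide +kernel),
    List.forall_mem_nil _⟩⟩

theorem e_A5_0 : erun 6 0 N_A5 R_A5 iv_A5 5 hs_A5 (stK (ones 6) (mkK 6 (ones 6) [0,1,2,3,4]))
  [.orb [1,2,3,4] [[2],[3],[1]] 5 0 0 4, .rel 8 0, .rel 7 0, .rel 6 0, .orb [0,1,2,3] [[2],[1],[0]] 5 1 3 1, .rel 8 1]
  (bit 0) (mkK 6 (bit 0) [0,1,2,3]) = true := by decide +kernel
theorem r_A5_0 : Run.{u} 6 N_A5 R_A5 0 (bit 0) (mkK 6 (bit 0) [0,1,2,3]) (ones 6) (mkK 6 (ones 6) [0,1,2,3,4]) := (Run.of_cert ok_A5 (by decide +kernel) inv_A5 hh_A5 e_A5_0 0)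

theorem ui_A5 : UI.{u} R_A5 [0,1,2,3,4] (sing [0,1,2,3]) 6 :=
  UI.of_run (kp := 0) (O := (ones 6)) ok_A5 (by decide +kernel) rels_A5 r_A5_0 (by decide +kernel)

theorem ub_A5 : UB.{u} R_A5 [0,1,2,3,4] 720 :=
  (ui_A5.mul (UI.ren (S := [0,1,2,3]) (W := []) ub_A4 imp_A5_A4_8 (by decide +kernel) rfl) (by decide +kernel) (by decide +kernel)).le (by decide +kernel)

def R_A6 : List (List ℕ) := [[0,0],[1,1],[2,2],[3,3],[4,4],[5,5],[0,1,0,1,0,1],[0,2,0,2],[0,3,0,3],[0,4,0,4],[0,5,0,5],[1,2,1,2,1,2],[1,3,1,3],[1,4,1,4],[1,5,1,5],[2,3,2,3,2,3],[2,4,2,4],[2,5,2,5],[3,4,3,4,3,4],[3,5,3,5],[4,5,4,5,4,5]]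
def iv_A6 : List ℕ := [0,1,2,3,4,5]
theorem inv_A6 : invOK R_A6 iv_A6 6 = true := by decide +kernel

noncomputable def n_A6_0 : Net := (Net.cons (nat_lit 1) (nat_lit 0x10)
  (Net.cons (nat_lit 2) (nat_lit 0x10)
  (Net.cons (nat_lit 1) (nat_lit 0x10)
  Net.nil)))

noncomputable def n_A6_1 : Net := (Net.cons (nat_lit 1) (nat_lit 0x10)
  Net.nil)

noncomputable def n_A6_2 : Net := (Net.cons (nat_lit 1) (nat_lit 0x10)
  (Net.cons (nat_lit 2) (nat_lit 0x2)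
  (Net.cons (nat_lit 4) (nat_lit 0x2)
  (Net.cons (nat_lit 2) (nat_lit 0x2)
  (Net.cons (nat_lit 1) (nat_lit 0x10)
  Net.nil)))))

noncomputable def n_A6_3 : Net := (Net.cons (nat_lit 1) (nat_lit 0x4)
  Net.nil)

noncomputable def n_A6_4 : Net := (Net.cons (nat_lit 1) (nat_lit 0x4)
  (Net.cons (nat_lit 2) (nat_lit 0x2)
  (Net.cons (nat_lit 1) (nat_lit 0x4)
  Net.nil)))

noncomputable def n_A6_5 : Net := (Net.cons (nat_lit 1) (nat_lit 0x1)
  Net.nil)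

noncomputable def NL_A6 : List Net := [n_A6_0,n_A6_1,n_A6_2,n_A6_3,n_A6_4,n_A6_5]
theorem okL_A6 : okL 7 NL_A6 = true := by decide +kernel
noncomputable def N_A6 : ℕ → Net := nth NL_A6
theorem ok_A6 : ∀ a, (N_A6 a).ok 7 = true := ok_nth okL_A6

def ps_A6 : List (List ℕ × List ℕ) := [([0,0],[]),([1,1],[]),([2,2],[]),([3,3],[]),([4,4],[]),([5,5],[]),([0,1,0],[1,0,1]),([0,2],[2,0]),([0,3],[3,0]),([0,4],[4,0]),([0,5],[5,0]),([1,2,1],[2,1,2]),([1,3],[3,1]),([1,4],[4,1]),([1,5],[5,1]),([2,3,2],[3,2,3]),([2,4],[4,2]),([2,5],[5,2]),([3,4,3],[4,3,4]),([3,5],[5,3]),([4,5,4],[5,4,5])]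

theorem pl_A6 : ∀ j < 3, planeOK N_A6 ps_A6 (plN 7 3 j) = true := allLt_iff.1 (by decide +kernel)

theorem rels_A6 : Rels (pms N_A6) R_A6 := rels_of_planes ok_A6 (by decide +kernel) (iv := iv_A6) pl_A6 (by decide +kernel)

theorem imp_A6_A5_9c : impCert R_A6 [1,2,3,4,5] R_A5 [(1,0),(2,0),(3,0),(4,0),(5,0),(11,0),(12,0),(13,0),(14,0),(15,0),(16,0),(17,0),(18,0),(19,0),(20,0)] = true := by decide +kernel
theorem imp_A6_A5_9 : Imp.{u} R_A6 [1,2,3,4,5] R_A5 := Imp.of_cert imp_A6_A5_9c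

theorem imp_A6_A5_10c : impCert R_A6 [0,1,2,3,4] R_A5 [(0,0),(1,0),(2,0),(3,0),(4,0),(6,0),(7,0),(8,0),(9,0),(11,0),(12,0),(13,0),(15,0),(16,0),(18,0)] = true := by decide +kernel
theorem imp_A6_A5_10 : Imp.{u} R_A6 [0,1,2,3,4] R_A5 := Imp.of_cert imp_A6_A5_10c

def hs_A6 : List (List ℕ × List (List ℕ) × ℕ) := [([1,2,3,4,5],[[1],[2],[3],[4]],6),([0,1,2,3,4],[[0],[1],[2],[3]],6)]
theorem hh_A6 : ∀ h ∈ hs_A6, UI.{u} R_A6 h.1 h.2.1 h.2.2 :=
  List.forall_mem_cons.2 ⟨ui_A5.ren imp_A6_A5_9 (by decide +kernel) (by decide +kernel),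
    List.forall_mem_cons.2 ⟨ui_A5.ren imp_A6_A5_10 (by decide +kernel) (by decide +kernel),
    List.forall_mem_nil _⟩⟩

theorem e_A6_0 : erun 7 0 N_A6 R_A6 iv_A6 6 hs_A6 (stK (ones 7) (mkK 7 (ones 7) [0,1,2,3,4,5]))
  [.orb [1,2,3,4,5] [[2],[3],[4],[1]] 6 0 0 5, .rel 10 0, .rel 9 0, .rel 8 0, .rel 7 0, .orb [0,1,2,3,4] [[2],[3],[1],[0]] 6 1 4 1, .rel 10 1]
  (bit 0) (mkK 7 (bit 0) [0,1,2,3,4]) = true := by decide +kernel
theorem r_A6_0 : Run.{u} 7 N_A6 R_A6 0 (bit 0) (mkK 7 (bit 0) [0,1,2,3,4]) (ones 7) (mkK 7 (ones 7) [0,1,2,3,4,5]) := (Run.of_cert ok_A6 (by decide +kernel) inv_A6 hh_A6 e_A6_0 0)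

theorem ui_A6 : UI.{u} R_A6 [0,1,2,3,4,5] (sing [0,1,2,3,4]) 7 :=
  UI.of_run (kp := 0) (O := (ones 7)) ok_A6 (by decide +kernel) rels_A6 r_A6_0 (by decide +kernel)

theorem ub_A6 : UB.{u} R_A6 [0,1,2,3,4,5] 5040 :=
  (ui_A6.mul (UI.ren (S := [0,1,2,3,4]) (W := []) ub_A5 imp_A6_A5_10 (by decide +kernel) rfl) (by decide +kernel) (by decide +kernel)).le (by decide +kernel)

def R_A7 : List (List ℕ) := [[0,0],[1,1],[2,2],[3,3],[4,4],[5,5],[6,6],[0,1,0,1,0,1],[0,2,0,2],[0,3,0,3],[0,4,0,4],[0,5,0,5],[0,6,0,6],[1,2,1,2,1,2],[1,3,1,3],[1,4,1,4],[1,5,1,5],[1,6,1,6],[2,3,2,3,2,3],[2,4,2,4],[2,5,2,5],[2,6,2,6],[3,4,3,4,3,4],[3,5,3,5],[3,6,3,6],[4,5,4,5,4,5],[4,6,4,6],[5,6,5,6,5,6]]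
def iv_A7 : List ℕ := [0,1,2,3,4,5,6]
theorem inv_A7 : invOK R_A7 iv_A7 7 = true := by decide +kernel

noncomputable def n_A7_0 : Net := (Net.cons (nat_lit 1) (nat_lit 0x40)
  Net.nil)

noncomputable def n_A7_1 : Net := (Net.cons (nat_lit 1) (nat_lit 0x40)
  (Net.cons (nat_lit 2) (nat_lit 0x20)
  (Net.cons (nat_lit 1) (nat_lit 0x40)
  Net.nil)))

noncomputable def n_A7_2 : Net := (Net.cons (nat_lit 1) (nat_lit 0x10)
  Net.nil)

noncomputable def n_A7_3 : Net := (Net.cons (nat_lit 1) (nat_lit 0x10)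
  (Net.cons (nat_lit 2) (nat_lit 0x20)
  (Net.cons (nat_lit 4) (nat_lit 0x8)
  (Net.cons (nat_lit 2) (nat_lit 0x20)
  (Net.cons (nat_lit 1) (nat_lit 0x10)
  Net.nil)))))

noncomputable def n_A7_4 : Net := (Net.cons (nat_lit 1) (nat_lit 0x4)
  Net.nil)

noncomputable def n_A7_5 : Net := (Net.cons (nat_lit 1) (nat_lit 0x4)
  (Net.cons (nat_lit 2) (nat_lit 0x2)
  (Net.cons (nat_lit 1) (nat_lit 0x4)
  Net.nil)))

noncomputable def n_A7_6 : Net := (Net.cons (nat_lit 1) (nat_lit 0x1)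
  Net.nil)

noncomputable def NL_A7 : List Net := [n_A7_0,n_A7_1,n_A7_2,n_A7_3,n_A7_4,n_A7_5,n_A7_6]
theorem okL_A7 : okL 8 NL_A7 = true := by decide +kernel
noncomputable def N_A7 : ℕ → Net := nth NL_A7
theorem ok_A7 : ∀ a, (N_A7 a).ok 8 = true := ok_nth okL_A7

def ps_A7 : List (List ℕ × List ℕ) := [([0,0],[]),([1,1],[]),([2,2],[]),([3,3],[]),([4,4],[]),([5,5],[]),([6,6],[]),([0,1,0],[1,0,1]),([0,2],[2,0]),([0,3],[3,0]),([0,4],[4,0]),([0,5],[5,0]),([0,6],[6,0]),([1,2,1],[2,1,2]),([1,3],[3,1]),([1,4],[4,1]),([1,5],[5,1]),([1,6],[6,1]),([2,3,2],[3,2,3]),([2,4],[4,2]),([2,5],[5,2]),([2,6],[6,2]),([3,4,3],[4,3,4]),([3,5],[5,3]),([3,6],[6,3]),([4,5,4],[5,4,5]),([4,6],[6,4]),([5,6,5],[6,5,6])]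

theorem pl_A7 : ∀ j < 3, planeOK N_A7 ps_A7 (plN 8 3 j) = true := allLt_iff.1 (by decide +kernel)

theorem rels_A7 : Rels (pms N_A7) R_A7 := rels_of_planes ok_A7 (by decide +kernel) (iv := iv_A7) pl_A7 (by decide +kernel)

theorem imp_A7_A6_11c : impCert R_A7 [1,2,3,4,5,6] R_A6 [(1,0),(2,0),(3,0),(4,0),(5,0),(6,0),(13,0),(14,0),(15,0),(16,0),(17,0),(18,0),(19,0),(20,0),(21,0),(22,0),(23,0),(24,0),(25,0),(26,0),(27,0)] = true := by decide +kernel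
theorem imp_A7_A6_11 : Imp.{u} R_A7 [1,2,3,4,5,6] R_A6 := Imp.of_cert imp_A7_A6_11c

theorem imp_A7_A6_12c : impCert R_A7 [0,1,2,3,4,5] R_A6 [(0,0),(1,0),(2,0),(3,0),(4,0),(5,0),(7,0),(8,0),(9,0),(10,0),(11,0),(13,0),(14,0),(15,0),(16,0),(18,0),(19,0),(20,0),(22,0),(23,0),(25,0)] = true := by decide +kernel
theorem imp_A7_A6_12 : Imp.{u} R_A7 [0,1,2,3,4,5] R_A6 := Imp.of_cert imp_A7_A6_12c

def hs_A7 : List (List ℕ × List (List ℕ) × ℕ) := [([1,2,3,4,5,6],[[1],[2],[3],[4],[5]],7),([0,1,2,3,4,5],[[0],[1],[2],[3],[4]],7)]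
theorem hh_A7 : ∀ h ∈ hs_A7, UI.{u} R_A7 h.1 h.2.1 h.2.2 :=
  List.forall_mem_cons.2 ⟨ui_A6.ren imp_A7_A6_11 (by decide +kernel) (by decide +kernel),
    List.forall_mem_cons.2 ⟨ui_A6.ren imp_A7_A6_12 (by decide +kernel) (by decide +kernel),
    List.forall_mem_nil _⟩⟩

theorem e_A7_0 : erun 8 0 N_A7 R_A7 iv_A7 7 hs_A7 (stK (ones 8) (mkK 8 (ones 8) [0,1,2,3,4,5,6]))
  [.orb [1,2,3,4,5,6] [[2],[3],[4],[5],[1]] 7 0 0 6, .rel 12 0, .rel 11 0, .rel 10 0, .rel 9 0, .rel 8 0, .orb [0,1,2,3,4,5] [[2],[3],[4],[1],[0]] 7 1 5 1, .rel 12 1]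
  (bit 0) (mkK 8 (bit 0) [0,1,2,3,4,5]) = true := by decide +kernel
theorem r_A7_0 : Run.{u} 8 N_A7 R_A7 0 (bit 0) (mkK 8 (bit 0) [0,1,2,3,4,5]) (ones 8) (mkK 8 (ones 8) [0,1,2,3,4,5,6]) := (Run.of_cert ok_A7 (by decide +kernel) inv_A7 hh_A7 e_A7_0 0)

theorem ui_A7 : UI.{u} R_A7 [0,1,2,3,4,5,6] (sing [0,1,2,3,4,5]) 8 :=
  UI.of_run (kp := 0) (O := (ones 8)) ok_A7 (by decide +kernel) rels_A7 r_A7_0 (by decide +kernel)

theorem ub_A7 : UB.{u} R_A7 [0,1,2,3,4,5,6] 40320 :=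
  (ui_A7.mul (UI.ren (S := [0,1,2,3,4,5]) (W := []) ub_A6 imp_A7_A6_12 (by decide +kernel) rfl) (by decide +kernel) (by decide +kernel)).le (by decide +kernel)

def R_A8 : List (List ℕ) := [[0,0],[1,1],[2,2],[3,3],[4,4],[5,5],[6,6],[7,7],[0,1,0,1,0,1],[0,2,0,2],[0,3,0,3],[0,4,0,4],[0,5,0,5],[0,6,0,6],[0,7,0,7],[1,2,1,2,1,2],[1,3,1,3],[1,4,1,4],[1,5,1,5],[1,6,1,6],[1,7,1,7],[2,3,2,3,2,3],[2,4,2,4],[2,5,2,5],[2,6,2,6],[2,7,2,7],[3,4,3,4,3,4],[3,5,3,5],[3,6,3,6],[3,7,3,7],[4,5,4,5,4,5],[4,6,4,6],[4,7,4,7],[5,6,5,6,5,6],[5,7,5,7],[6,7,6,7,6,7]]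
def iv_A8 : List ℕ := [0,1,2,3,4,5,6,7]
theorem inv_A8 : invOK R_A8 iv_A8 8 = true := by decide +kernel

noncomputable def n_A8_0 : Net := (Net.cons (nat_lit 1) (nat_lit 0x40)
  (Net.cons (nat_lit 2) (nat_lit 0x10)
  (Net.cons (nat_lit 4) (nat_lit 0x1)
  (Net.cons (nat_lit 8) (nat_lit 0x1)
  (Net.cons (nat_lit 4) (nat_lit 0x1)
  (Net.cons (nat_lit 2) (nat_lit 0x10)
  (Net.cons (nat_lit 1) (nat_lit 0x40)
  Net.nil)))))))

noncomputable def n_A8_1 : Net := (Net.cons (nat_lit 1) (nat_lit 0x40)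
  Net.nil)

noncomputable def n_A8_2 : Net := (Net.cons (nat_lit 1) (nat_lit 0x40)
  (Net.cons (nat_lit 2) (nat_lit 0x20)
  (Net.cons (nat_lit 1) (nat_lit 0x40)
  Net.nil)))

noncomputable def n_A8_3 : Net := (Net.cons (nat_lit 1) (nat_lit 0x10)
  Net.nil)

noncomputable def n_A8_4 : Net := (Net.cons (nat_lit 1) (nat_lit 0x10)
  (Net.cons (nat_lit 2) (nat_lit 0x20)
  (Net.cons (nat_lit 4) (nat_lit 0x8)
  (Net.cons (nat_lit 2) (nat_lit 0x20)
  (Net.cons (nat_lit 1) (nat_lit 0x10)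
  Net.nil)))))

noncomputable def n_A8_5 : Net := (Net.cons (nat_lit 1) (nat_lit 0x4)
  Net.nil)

noncomputable def n_A8_6 : Net := (Net.cons (nat_lit 1) (nat_lit 0x4)
  (Net.cons (nat_lit 2) (nat_lit 0x2)
  (Net.cons (nat_lit 1) (nat_lit 0x4)
  Net.nil)))

noncomputable def n_A8_7 : Net := (Net.cons (nat_lit 1) (nat_lit 0x1)
  Net.nil)

noncomputable def NL_A8 : List Net := [n_A8_0,n_A8_1,n_A8_2,n_A8_3,n_A8_4,n_A8_5,n_A8_6,n_A8_7]
theorem okL_A8 : okL 9 NL_A8 = true := by decide +kernel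
noncomputable def N_A8 : ℕ → Net := nth NL_A8
theorem ok_A8 : ∀ a, (N_A8 a).ok 9 = true := ok_nth okL_A8

def ps_A8 : List (List ℕ × List ℕ) := [([0,0],[]),([1,1],[]),([2,2],[]),([3,3],[]),([4,4],[]),([5,5],[]),([6,6],[]),([7,7],[]),([0,1,0],[1,0,1]),([0,2],[2,0]),([0,3],[3,0]),([0,4],[4,0]),([0,5],[5,0]),([0,6],[6,0]),([0,7],[7,0]),([1,2,1],[2,1,2]),([1,3],[3,1]),([1,4],[4,1]),([1,5],[5,1]),([1,6],[6,1]),([1,7],[7,1]),([2,3,2],[3,2,3]),([2,4],[4,2]),([2,5],[5,2]),([2,6],[6,2]),([2,7],[7,2]),([3,4,3],[4,3,4]),([3,5],[5,3]),([3,6],[6,3]),([3,7],[7,3]),([4,5,4],[5,4,5]),([4,6],[6,4]),([4,7],[7,4]),([5,6,5],[6,5,6]),([5,7],[7,5]),([6,7,6],[7,6,7])]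

theorem pl_A8 : ∀ j < 4, planeOK N_A8 ps_A8 (plN 9 4 j) = true := allLt_iff.1 (by decide +kernel)

theorem rels_A8 : Rels (pms N_A8) R_A8 := rels_of_planes ok_A8 (by decide +kernel) (iv := iv_A8) pl_A8 (by decide +kernel)

theorem imp_A8_A7_13c : impCert R_A8 [1,2,3,4,5,6,7] R_A7 [(1,0),(2,0),(3,0),(4,0),(5,0),(6,0),(7,0),(15,0),(16,0),(17,0),(18,0),(19,0),(20,0),(21,0),(22,0),(23,0),(24,0),(25,0),(26,0),(27,0),(28,0),(29,0),(30,0),(31,0),(32,0),(33,0),(34,0),(35,0)] = true := by decide +kernel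
theorem imp_A8_A7_13 : Imp.{u} R_A8 [1,2,3,4,5,6,7] R_A7 := Imp.of_cert imp_A8_A7_13c

theorem imp_A8_A7_14c : impCert R_A8 [0,1,2,3,4,5,6] R_A7 [(0,0),(1,0),(2,0),(3,0),(4,0),(5,0),(6,0),(8,0),(9,0),(10,0),(11,0),(12,0),(13,0),(15,0),(16,0),(17,0),(18,0),(19,0),(21,0),(22,0),(23,0),(24,0),(26,0),(27,0),(28,0),(30,0),(31,0),(33,0)] = true := by decide +kernel
theorem imp_A8_A7_14 : Imp.{u} R_A8 [0,1,2,3,4,5,6] R_A7 := Imp.of_cert imp_A8_A7_14c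

def hs_A8 : List (List ℕ × List (List ℕ) × ℕ) := [([1,2,3,4,5,6,7],[[1],[2],[3],[4],[5],[6]],8),([0,1,2,3,4,5,6],[[0],[1],[2],[3],[4],[5]],8)]
theorem hh_A8 : ∀ h ∈ hs_A8, UI.{u} R_A8 h.1 h.2.1 h.2.2 :=
  List.forall_mem_cons.2 ⟨ui_A7.ren imp_A8_A7_13 (by decide +kernel) (by decide +kernel),
    List.forall_mem_cons.2 ⟨ui_A7.ren imp_A8_A7_14 (by decide +kernel) (by decide +kernel),
    List.forall_mem_nil _⟩⟩

theorem e_A8_0 : erun 9 1 N_A8 R_A8 iv_A8 8 hs_A8 (stK (ones 9) (mkK 9 (ones 9) [0,1,2,3,4,5,6,7]))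
  [.orb [1,2,3,4,5,6,7] [[2],[3],[4],[5],[6],[1]] 8 0 0 7, .rel 14 0, .rel 13 0, .rel 12 0, .rel 11 0, .rel 10 0, .rel 9 0, .orb [0,1,2,3,4,5,6] [[2],[3],[4],[5],[1],[0]] 8 1 6 1, .rel 14 1]
  (bit 0) (mkK 9 (bit 0) [0,1,2,3,4,5,6]) = true := by decide +kernel
theorem r_A8_0 : Run.{u} 9 N_A8 R_A8 0 (bit 0) (mkK 9 (bit 0) [0,1,2,3,4,5,6]) (ones 9) (mkK 9 (ones 9) [0,1,2,3,4,5,6,7]) := (Run.of_cert ok_A8 (by decide +kernel) inv_A8 hh_A8 e_A8_0 0)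

theorem ui_A8 : UI.{u} R_A8 [0,1,2,3,4,5,6,7] (sing [0,1,2,3,4,5,6]) 9 :=
  UI.of_run (kp := 1) (O := (ones 9)) ok_A8 (by decide +kernel) rels_A8 r_A8_0 (by decide +kernel)

theorem ub_A8 : UB.{u} R_A8 [0,1,2,3,4,5,6,7] 362880 :=
  (ui_A8.mul (UI.ren (S := [0,1,2,3,4,5,6]) (W := []) ub_A7 imp_A8_A7_14 (by decide +kernel) rfl) (by decide +kernel) (by decide +kernel)).le (by decide +kernel)

def R_D4 : List (List ℕ) := [[0,0],[1,1],[2,2],[3,3],[0,1,0,1,0,1],[0,2,0,2],[0,3,0,3],[1,2,1,2,1,2],[1,3,1,3,1,3],[2,3,2,3]]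
def iv_D4 : List ℕ := [0,1,2,3]
theorem inv_D4 : invOK R_D4 iv_D4 4 = true := by decide +kernel

noncomputable def n_D4_0 : Net := (Net.cons (nat_lit 1) (nat_lit 0x14)
  Net.nil)

noncomputable def n_D4_1 : Net := (Net.cons (nat_lit 1) (nat_lit 0x44)
  (Net.cons (nat_lit 2) (nat_lit 0x22)
  (Net.cons (nat_lit 1) (nat_lit 0x44)
  Net.nil)))

noncomputable def n_D4_2 : Net := (Net.cons (nat_lit 2) (nat_lit 0x30)
  (Net.cons (nat_lit 4) (nat_lit 0xc)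
  (Net.cons (nat_lit 2) (nat_lit 0x30)
  Net.nil)))

noncomputable def n_D4_3 : Net := (Net.cons (nat_lit 1) (nat_lit 0x41)
  Net.nil)

noncomputable def NL_D4 : List Net := [n_D4_0,n_D4_1,n_D4_2,n_D4_3]
theorem okL_D4 : okL 8 NL_D4 = true := by decide +kernel
noncomputable def N_D4 : ℕ → Net := nth NL_D4
theorem ok_D4 : ∀ a, (N_D4 a).ok 8 = true := ok_nth okL_D4

def ps_D4 : List (List ℕ × List ℕ) := [([0,0],[]),([1,1],[]),([2,2],[]),([3,3],[]),([0,1,0],[1,0,1]),([0,2],[2,0]),([0,3],[3,0]),([1,2,1],[2,1,2]),([1,3,1],[3,1,3]),([2,3],[3,2])]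

theorem pl_D4 : ∀ j < 3, planeOK N_D4 ps_D4 (plN 8 3 j) = true := allLt_iff.1 (by decide +kernel)

theorem rels_D4 : Rels (pms N_D4) R_D4 := rels_of_planes ok_D4 (by decide +kernel) (iv := iv_D4) pl_D4 (by decide +kernel)

theorem imp_D4_A3_15c : impCert R_D4 [0,1,3] R_A3 [(0,0),(1,0),(3,0),(4,0),(6,0),(8,0)] = true := by decide +kernel
theorem imp_D4_A3_15 : Imp.{u} R_D4 [0,1,3] R_A3 := Imp.of_cert imp_D4_A3_15c

theorem lb_16 : LB N_A3 [[0],[2]] [0,2] 4 :=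
  (LB.of_chain (kp := 0) ok_A3 (by decide +kernel) [(0,1,[[0],[2]]),(2,1,[[0]])] (by decide +kernel)).cat
    (rels_A3.inv inv_A3) (by decide +kernel) (c := [[0],[2],[0]]) (by decide +kernel)

theorem ui_A3_17 : UI.{u} R_A3 [0,1,2] [[0],[2]] 6 :=
  UI.of_UB ub_A3 rels_A3 lb_16 (by decide +kernel) (by decide +kernel)

theorem imp_D4_A3_18c : impCert R_D4 [0,1,2] R_A3 [(0,0),(1,0),(2,0),(4,0),(5,0),(7,0)] = true := by decide +kernel
theorem imp_D4_A3_18 : Imp.{u} R_D4 [0,1,2] R_A3 := Imp.of_cert imp_D4_A3_18c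

theorem lb_19 : LB N_A3 [[1],[2]] [0,1] 6 :=
  (LB.of_chain (kp := 0) ok_A3 (by decide +kernel) [(0,2,[[1],[2]]),(1,1,[[1]])] (by decide +kernel)).cat
    (rels_A3.inv inv_A3) (by decide +kernel) (c := [[0],[2],[0]]) (by decide +kernel)

theorem ui_A3_20 : UI.{u} R_A3 [0,1,2] [[1],[2]] 4 :=
  UI.of_UB ub_A3 rels_A3 lb_19 (by decide +kernel) (by decide +kernel)

def hs_D4 : List (List ℕ × List (List ℕ) × ℕ) := [([0,1,3],[[0],[1]],4),([0,1,2],[[0],[2]],6),([0,1,3],[[1],[3]],4)]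
theorem hh_D4 : ∀ h ∈ hs_D4, UI.{u} R_D4 h.1 h.2.1 h.2.2 :=
  List.forall_mem_cons.2 ⟨ui_A3.ren imp_D4_A3_15 (by decide +kernel) (by decide +kernel),
    List.forall_mem_cons.2 ⟨ui_A3_17.ren imp_D4_A3_18 (by decide +kernel) (by decide +kernel),
    List.forall_mem_cons.2 ⟨ui_A3_20.ren imp_D4_A3_15 (by decide +kernel) (by decide +kernel),
    List.forall_mem_nil _⟩⟩⟩

theorem e_D4_0 : erun 8 0 N_D4 R_D4 iv_D4 4 hs_D4 (stK (ones 8) (mkK 8 (ones 8) [0,1,2,3]))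
  [.orb [0,1,3] [[0],[1]] 4 0 0 3, .rel 9 0, .orb [0,1,2] [[0],[2]] 6 1 2 2, .rel 9 1, .orb [0,1,3] [[1],[3]] 4 4 1 1, .rel 9 0]
  (bit 0) (mkK 8 (bit 0) [0,1,2]) = true := by decide +kernel
theorem r_D4_0 : Run.{u} 8 N_D4 R_D4 0 (bit 0) (mkK 8 (bit 0) [0,1,2]) (ones 8) (mkK 8 (ones 8) [0,1,2,3]) := (Run.of_cert ok_D4 (by decide +kernel) inv_D4 hh_D4 e_D4_0 0)

theorem ui_D4 : UI.{u} R_D4 [0,1,2,3] (sing [0,1,2]) 8 :=
  UI.of_run (kp := 0) (O := (ones 8)) ok_D4 (by decide +kernel) rels_D4 r_D4_0 (by decide +kernel)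

theorem ub_D4 : UB.{u} R_D4 [0,1,2,3] 192 :=
  (ui_D4.mul (UI.ren (S := [0,1,2]) (W := []) ub_A3 imp_D4_A3_18 (by decide +kernel) rfl) (by decide +kernel) (by decide +kernel)).le (by decide +kernel)

def R_D5 : List (List ℕ) := [[0,0],[1,1],[2,2],[3,3],[4,4],[4,0,4,0,4,0],[4,1,4,1],[4,2,4,2],[4,3,4,3],[0,1,0,1,0,1],[0,2,0,2],[0,3,0,3],[1,2,1,2,1,2],[1,3,1,3,1,3],[2,3,2,3]]
def iv_D5 : List ℕ := [0,1,2,3,4]
theorem inv_D5 : invOK R_D5 iv_D5 5 = true := by decide +kernel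

noncomputable def n_D5_0 : Net := (Net.cons (nat_lit 1) (nat_lit 0x104)
  (Net.cons (nat_lit 2) (nat_lit 0x22)
  (Net.cons (nat_lit 4) (nat_lit 0x2)
  (Net.cons (nat_lit 8) (nat_lit 0x2)
  (Net.cons (nat_lit 4) (nat_lit 0x2)
  (Net.cons (nat_lit 2) (nat_lit 0x20)
  (Net.cons (nat_lit 1) (nat_lit 0x104)
  Net.nil)))))))

noncomputable def n_D5_1 : Net := (Net.cons (nat_lit 1) (nat_lit 0x44)
  Net.nil)

noncomputable def n_D5_2 : Net := (Net.cons (nat_lit 1) (nat_lit 0x10)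
  (Net.cons (nat_lit 2) (nat_lit 0x30)
  (Net.cons (nat_lit 4) (nat_lit 0x8)
  (Net.cons (nat_lit 2) (nat_lit 0x20)
  (Net.cons (nat_lit 1) (nat_lit 0x10)
  Net.nil)))))

noncomputable def n_D5_3 : Net := (Net.cons (nat_lit 2) (nat_lit 0x30)
  (Net.cons (nat_lit 4) (nat_lit 0x8)
  (Net.cons (nat_lit 2) (nat_lit 0x20)
  Net.nil)))

noncomputable def n_D5_4 : Net := (Net.cons (nat_lit 1) (nat_lit 0x101)
  Net.nil)

noncomputable def NL_D5 : List Net := [n_D5_0,n_D5_1,n_D5_2,n_D5_3,n_D5_4]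
theorem okL_D5 : okL 10 NL_D5 = true := by decide +kernel
noncomputable def N_D5 : ℕ → Net := nth NL_D5
theorem ok_D5 : ∀ a, (N_D5 a).ok 10 = true := ok_nth okL_D5

def ps_D5 : List (List ℕ × List ℕ) := [([0,0],[]),([1,1],[]),([2,2],[]),([3,3],[]),([4,4],[]),([4,0,4],[0,4,0]),([4,1],[1,4]),([4,2],[2,4]),([4,3],[3,4]),([0,1,0],[1,0,1]),([0,2],[2,0]),([0,3],[3,0]),([1,2,1],[2,1,2]),([1,3,1],[3,1,3]),([2,3],[3,2])]

theorem pl_D5 : ∀ j < 4, planeOK N_D5 ps_D5 (plN 10 4 j) = true := allLt_iff.1 (by decide +kernel)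

theorem rels_D5 : Rels (pms N_D5) R_D5 := rels_of_planes ok_D5 (by decide +kernel) (iv := iv_D5) pl_D5 (by decide +kernel)

theorem lb_21 : LB N_A4 [[1],[2],[3]] [0,1,2] 24 :=
  (LB.of_chain (kp := 0) ok_A4 (by decide +kernel) [(0,3,[[1],[2],[3]]),(1,2,[[1],[2]]),(2,1,[[1]])] (by decide +kernel)).cat
    (rels_A4.inv inv_A4) (by decide +kernel) (c := [[0],[2],[4],[0],[2],[0]]) (by decide +kernel)

theorem ui_A4_22 : UI.{u} R_A4 [0,1,2,3] [[1],[2],[3]] 5 :=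
  UI.of_UB ub_A4 rels_A4 lb_21 (by decide +kernel) (by decide +kernel)

theorem imp_D5_A4_23c : impCert R_D5 [4,0,1,2] R_A4 [(4,0),(0,0),(1,0),(2,0),(5,0),(6,0),(7,0),(9,0),(10,0),(12,0)] = true := by decide +kernel
theorem imp_D5_A4_23 : Imp.{u} R_D5 [4,0,1,2] R_A4 := Imp.of_cert imp_D5_A4_23c

theorem lb_24 : LB N_D4 [[1],[2],[3]] [0,1,2] 24 :=
  (LB.of_chain (kp := 0) ok_D4 (by decide +kernel) [(0,2,[[1],[2],[3]]),(1,1,[[1],[2]]),(2,1,[[2]])] (by decide +kernel)).cat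
    (rels_D4.inv inv_D4) (by decide +kernel) (c := [[0],[2],[4],[0],[2],[2]]) (by decide +kernel)

theorem ui_D4_25 : UI.{u} R_D4 [0,1,2,3] [[1],[2],[3]] 8 :=
  UI.of_UB ub_D4 rels_D4 lb_24 (by decide +kernel) (by decide +kernel)

theorem imp_D5_D4_26c : impCert R_D5 [0,1,2,3] R_D4 [(0,0),(1,0),(2,0),(3,0),(9,0),(10,0),(11,0),(12,0),(13,0),(14,0)] = true := by decide +kernel
theorem imp_D5_D4_26 : Imp.{u} R_D5 [0,1,2,3] R_D4 := Imp.of_cert imp_D5_D4_26c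

def hs_D5 : List (List ℕ × List (List ℕ) × ℕ) := [([4,0,1,2],[[0],[1],[2]],5),([0,1,2,3],[[1],[2],[3]],8),([4,0,1,2],[[4],[0],[1]],5)]
theorem hh_D5 : ∀ h ∈ hs_D5, UI.{u} R_D5 h.1 h.2.1 h.2.2 :=
  List.forall_mem_cons.2 ⟨ui_A4_22.ren imp_D5_A4_23 (by decide +kernel) (by decide +kernel),
    List.forall_mem_cons.2 ⟨ui_D4_25.ren imp_D5_D4_26 (by decide +kernel) (by decide +kernel),
    List.forall_mem_cons.2 ⟨ui_A4.ren imp_D5_A4_23 (by decide +kernel) (by decide +kernel),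
    List.forall_mem_nil _⟩⟩⟩

theorem e_D5_0 : erun 10 1 N_D5 R_D5 iv_D5 5 hs_D5 (stK (ones 10) (mkK 10 (ones 10) [0,1,2,3,4]))
  [.orb [4,0,1,2] [[0],[1],[2]] 5 0 0 1, .rel 8 1, .rel 11 1, .orb [0,1,2,3] [[1],[2],[3]] 8 1 1 3, .rel 8 0, .rel 6 0, .orb [4,0,1,2] [[4],[0],[1]] 5 5 3 1, .rel 8 1]
  (bit 0) (mkK 10 (bit 0) [0,1,2,3]) = true := by decide +kernel
theorem r_D5_0 : Run.{u} 10 N_D5 R_D5 0 (bit 0) (mkK 10 (bit 0) [0,1,2,3]) (ones 10) (mkK 10 (ones 10) [0,1,2,3,4]) := (Run.of_cert ok_D5 (by decide +kernel) inv_D5 hh_D5 e_D5_0 0)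

theorem ui_D5 : UI.{u} R_D5 [0,1,2,3,4] (sing [0,1,2,3]) 10 :=
  UI.of_run (kp := 1) (O := (ones 10)) ok_D5 (by decide +kernel) rels_D5 r_D5_0 (by decide +kernel)

theorem ub_D5 : UB.{u} R_D5 [0,1,2,3,4] 1920 :=
  (ui_D5.mul (UI.ren (S := [0,1,2,3]) (W := []) ub_D4 imp_D5_D4_26 (by decide +kernel) rfl) (by decide +kernel) (by decide +kernel)).le (by decide +kernel)

def R_E6 : List (List ℕ) := [[0,0],[1,1],[2,2],[3,3],[4,4],[5,5],[4,0,4,0,4,0],[4,1,4,1],[4,2,4,2],[4,5,4,5],[4,3,4,3],[0,1,0,1,0,1],[0,2,0,2],[0,5,0,5],[0,3,0,3],[1,2,1,2,1,2],[1,5,1,5],[1,3,1,3,1,3],[2,5,2,5,2,5],[2,3,2,3],[5,3,5,3]]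
def iv_E6 : List ℕ := [0,1,2,3,4,5]
theorem inv_E6 : invOK R_E6 iv_E6 6 = true := by decide +kernel

noncomputable def n_E6_0 : Net := (Net.cons (nat_lit 1) (nat_lit 0x1004010)
  (Net.cons (nat_lit 2) (nat_lit 0x11030)
  (Net.cons (nat_lit 4) (nat_lit 0x808)
  (Net.cons (nat_lit 2) (nat_lit 0x20)
  (Net.cons (nat_lit 1) (nat_lit 0x4010)
  Net.nil)))))

noncomputable def n_E6_1 : Net := (Net.cons (nat_lit 1) (nat_lit 0x1000004)
  (Net.cons (nat_lit 2) (nat_lit 0x320300)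
  (Net.cons (nat_lit 4) (nat_lit 0xe0400)
  (Net.cons (nat_lit 8) (nat_lit 0x200c0)
  (Net.cons (nat_lit 16) (nat_lit 0x80)
  (Net.cons (nat_lit 8) (nat_lit 0x80)
  (Net.cons (nat_lit 4) (nat_lit 0xa0400)
  (Net.cons (nat_lit 2) (nat_lit 0x320100)
  (Net.cons (nat_lit 1) (nat_lit 0x1000000)
  Net.nil)))))))))

noncomputable def n_E6_2 : Net := (Net.cons (nat_lit 1) (nat_lit 0x5004)
  (Net.cons (nat_lit 2) (nat_lit 0x302102)
  (Net.cons (nat_lit 4) (nat_lit 0x800)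
  (Net.cons (nat_lit 2) (nat_lit 0x2000)
  (Net.cons (nat_lit 1) (nat_lit 0x1004)
  Net.nil)))))

noncomputable def n_E6_3 : Net := (Net.cons (nat_lit 1) (nat_lit 0x500000)
  (Net.cons (nat_lit 2) (nat_lit 0x20030)
  (Net.cons (nat_lit 4) (nat_lit 0x208)
  (Net.cons (nat_lit 8) (nat_lit 0x20)
  (Net.cons (nat_lit 4) (nat_lit 0x200)
  (Net.cons (nat_lit 2) (nat_lit 0x20)
  Net.nil))))))

noncomputable def n_E6_4 : Net := (Net.cons (nat_lit 1) (nat_lit 0x1001440)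
  (Net.cons (nat_lit 2) (nat_lit 0x1000310)
  (Net.cons (nat_lit 4) (nat_lit 0x10a00)
  (Net.cons (nat_lit 8) (nat_lit 0x90)
  (Net.cons (nat_lit 16) (nat_lit 0x10)
  (Net.cons (nat_lit 8) (nat_lit 0x10)
  (Net.cons (nat_lit 4) (nat_lit 0x10800)
  (Net.cons (nat_lit 2) (nat_lit 0x200)
  (Net.cons (nat_lit 1) (nat_lit 0x1001440)
  Net.nil)))))))))

noncomputable def n_E6_5 : Net := (Net.cons (nat_lit 1) (nat_lit 0x15001)
  (Net.cons (nat_lit 2) (nat_lit 0x311000)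
  (Net.cons (nat_lit 4) (nat_lit 0xf0400)
  (Net.cons (nat_lit 8) (nat_lit 0x30)
  (Net.cons (nat_lit 16) (nat_lit 0x30)
  (Net.cons (nat_lit 8) (nat_lit 0x30)
  (Net.cons (nat_lit 4) (nat_lit 0x30000)
  (Net.cons (nat_lit 2) (nat_lit 0x311000)
  (Net.cons (nat_lit 1) (nat_lit 0x15000)
  Net.nil)))))))))

noncomputable def NL_E6 : List Net := [n_E6_0,n_E6_1,n_E6_2,n_E6_3,n_E6_4,n_E6_5]
theorem okL_E6 : okL 27 NL_E6 = true := by decide +kernel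
noncomputable def N_E6 : ℕ → Net := nth NL_E6
theorem ok_E6 : ∀ a, (N_E6 a).ok 27 = true := ok_nth okL_E6

def ps_E6 : List (List ℕ × List ℕ) := [([0,0],[]),([1,1],[]),([2,2],[]),([3,3],[]),([4,4],[]),([5,5],[]),([4,0,4],[0,4,0]),([4,1],[1,4]),([4,2],[2,4]),([4,5],[5,4]),([4,3],[3,4]),([0,1,0],[1,0,1]),([0,2],[2,0]),([0,5],[5,0]),([0,3],[3,0]),([1,2,1],[2,1,2]),([1,5],[5,1]),([1,3,1],[3,1,3]),([2,5,2],[5,2,5]),([2,3],[3,2]),([5,3],[3,5])]

theorem pl_E6 : ∀ j < 5, planeOK N_E6 ps_E6 (plN 27 5 j) = true := allLt_iff.1 (by decide +kernel)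

theorem rels_E6 : Rels (pms N_E6) R_E6 := rels_of_planes ok_E6 (by decide +kernel) (iv := iv_E6) pl_E6 (by decide +kernel)

theorem imp_E6_D5_27c : impCert R_E6 [2,1,0,3,5] R_D5 [(2,0),(1,0),(0,0),(3,0),(5,0),(18,1),(16,1),(13,1),(20,0),(15,1),(12,1),(19,0),(11,1),(17,0),(14,0)] = true := by decide +kernel
theorem imp_E6_D5_27 : Imp.{u} R_E6 [2,1,0,3,5] R_D5 := Imp.of_cert imp_E6_D5_27c

theorem lb_28 : LB N_D5 [[4],[0],[1],[3]] [0,1,2,3] 120 :=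
  (LB.of_chain (kp := 1) ok_D5 (by decide +kernel) [(0,1,[[4],[0],[1],[3]]),(1,1,[[0],[1],[3]]),(2,1,[[1],[3]]),(3,1,[[3]])] (by decide +kernel)).cat
    (rels_D5.inv inv_D5) (by decide +kernel) (c := [[0],[2],[4],[6],[2],[4],[6],[4],[6],[6]]) (by decide +kernel)

theorem ui_D5_29 : UI.{u} R_D5 [0,1,2,3,4] [[4],[0],[1],[3]] 16 :=
  UI.of_UB ub_D5 rels_D5 lb_28 (by decide +kernel) (by decide +kernel)

theorem imp_E6_D5_30c : impCert R_E6 [0,1,2,3,4] R_D5 [(0,0),(1,0),(2,0),(3,0),(4,0),(6,0),(7,0),(8,0),(10,0),(11,0),(12,0),(14,0),(15,0),(17,0),(19,0)] = true := by decide +kernel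
theorem imp_E6_D5_30 : Imp.{u} R_E6 [0,1,2,3,4] R_D5 := Imp.of_cert imp_E6_D5_30c

def hs_E6 : List (List ℕ × List (List ℕ) × ℕ) := [([2,1,0,3,5],[[2],[1],[0],[3]],10),([0,1,2,3,4],[[4],[0],[1],[3]],16),([0,1,2,3,4],[[0],[1],[2],[3]],10)]
theorem hh_E6 : ∀ h ∈ hs_E6, UI.{u} R_E6 h.1 h.2.1 h.2.2 :=
  List.forall_mem_cons.2 ⟨ui_D5.ren imp_E6_D5_27 (by decide +kernel) (by decide +kernel),
    List.forall_mem_cons.2 ⟨ui_D5_29.ren imp_E6_D5_30 (by decide +kernel) (by decide +kernel),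
    List.forall_mem_cons.2 ⟨ui_D5.ren imp_E6_D5_30 (by decide +kernel) (by decide +kernel),
    List.forall_mem_nil _⟩⟩⟩

theorem e_E6_0 : erun 27 2 N_E6 R_E6 iv_E6 6 hs_E6 (stK (ones 27) (mkK 27 (ones 27) [0,1,2,3,4,5]))
  [.orb [2,1,0,3,5] [[0],[1],[2],[3]] 10 0 0 4, .rel 9 0, .rel 8 0, .rel 7 0, .rel 10 0, .orb [0,1,2,3,4] [[4],[0],[1],[3]] 16 1 3 2, .rel 9 1, .rel 13 1, .orb [0,1,2,3,4] [[0],[1],[2],[3]] 10 13 0 4, .rel 9 1, .rel 13 1, .rel 16 1, .rel 20 0, .rel 18 1, .rel 16 1, .rel 13 1, .rel 9 1]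
  (bit 0) (mkK 27 (bit 0) [0,1,2,3,4]) = true := by decide +kernel
theorem r_E6_0 : Run.{u} 27 N_E6 R_E6 0 (bit 0) (mkK 27 (bit 0) [0,1,2,3,4]) (ones 27) (mkK 27 (ones 27) [0,1,2,3,4,5]) := (Run.of_cert ok_E6 (by decide +kernel) inv_E6 hh_E6 e_E6_0 0)

theorem ui_E6 : UI.{u} R_E6 [0,1,2,3,4,5] (sing [0,1,2,3,4]) 27 :=
  UI.of_run (kp := 2) (O := (ones 27)) ok_E6 (by decide +kernel) rels_E6 r_E6_0 (by decide +kernel)

theorem ub_E6 : UB.{u} R_E6 [0,1,2,3,4,5] 51840 :=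
  (ui_E6.mul (UI.ren (S := [0,1,2,3,4]) (W := []) ub_D5 imp_E6_D5_30 (by decide +kernel) rfl) (by decide +kernel) (by decide +kernel)).le (by decide +kernel)

def R_E7 : List (List ℕ) := [[0,0],[1,1],[2,2],[3,3],[4,4],[5,5],[6,6],[6,4,6,4,6,4],[6,0,6,0],[6,1,6,1],[6,2,6,2],[6,5,6,5],[6,3,6,3],[4,0,4,0,4,0],[4,1,4,1],[4,2,4,2],[4,5,4,5],[4,3,4,3],[0,1,0,1,0,1],[0,2,0,2],[0,5,0,5],[0,3,0,3],[1,2,1,2,1,2],[1,5,1,5],[1,3,1,3,1,3],[2,5,2,5,2,5],[2,3,2,3],[5,3,5,3]]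
def iv_E7 : List ℕ := [0,1,2,3,4,5,6]
theorem inv_E7 : invOK R_E7 iv_E7 7 = true := by decide +kernel

noncomputable def n_E7_0 : Net := (Net.cons (nat_lit 1) (nat_lit 0x10140001040004)
  (Net.cons (nat_lit 2) (nat_lit 0x100121001200)
  (Net.cons (nat_lit 4) (nat_lit 0xe000d080000)
  (Net.cons (nat_lit 8) (nat_lit 0x8400c00000)
  (Net.cons (nat_lit 16) (nat_lit 0x8400)
  (Net.cons (nat_lit 32) (nat_lit 0x400)
  (Net.cons (nat_lit 16) (nat_lit 0x400)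
  (Net.cons (nat_lit 8) (nat_lit 0x400800000)
  (Net.cons (nat_lit 4) (nat_lit 0x80004080000)
  (Net.cons (nat_lit 2) (nat_lit 0x100121000000)
  (Net.cons (nat_lit 1) (nat_lit 0x140001040000)
  Net.nil)))))))))))

noncomputable def n_E7_1 : Net := (Net.cons (nat_lit 1) (nat_lit 0x10004444500010)
  (Net.cons (nat_lit 2) (nat_lit 0x20301111101020)
  (Net.cons (nat_lit 4) (nat_lit 0x80000010c0608)
  (Net.cons (nat_lit 8) (nat_lit 0x100020)
  (Net.cons (nat_lit 4) (nat_lit 0x1000200)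
  (Net.cons (nat_lit 2) (nat_lit 0x20000001101020)
  (Net.cons (nat_lit 1) (nat_lit 0x10004444500010)
  Net.nil)))))))

noncomputable def n_E7_2 : Net := (Net.cons (nat_lit 1) (nat_lit 0x4000400444050)
  (Net.cons (nat_lit 2) (nat_lit 0x2120000111000)
  (Net.cons (nat_lit 4) (nat_lit 0x8040c00080000)
  (Net.cons (nat_lit 8) (nat_lit 0x8800000080)
  (Net.cons (nat_lit 16) (nat_lit 0x8000008080)
  (Net.cons (nat_lit 32) (nat_lit 0x8000)
  (Net.cons (nat_lit 16) (nat_lit 0x8000)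
  (Net.cons (nat_lit 8) (nat_lit 0x8000000080)
  (Net.cons (nat_lit 4) (nat_lit 0x8000800080000)
  (Net.cons (nat_lit 2) (nat_lit 0x2120000000000)
  (Net.cons (nat_lit 1) (nat_lit 0x400444000)
  Net.nil)))))))))))

noncomputable def n_E7_3 : Net := (Net.cons (nat_lit 1) (nat_lit 0x4400141000000)
  (Net.cons (nat_lit 2) (nat_lit 0x1000000000130)
  (Net.cons (nat_lit 4) (nat_lit 0xc00010f000000)
  (Net.cons (nat_lit 8) (nat_lit 0xc200600000)
  (Net.cons (nat_lit 16) (nat_lit 0xc000000200)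
  (Net.cons (nat_lit 32) (nat_lit 0x200)
  (Net.cons (nat_lit 16) (nat_lit 0x200)
  (Net.cons (nat_lit 8) (nat_lit 0xc200000000)
  (Net.cons (nat_lit 4) (nat_lit 0xc000006000000)
  (Net.cons (nat_lit 2) (nat_lit 0x2000000000000)
  (Net.cons (nat_lit 1) (nat_lit 0x1000141000000)
  Net.nil)))))))))))

noncomputable def n_E7_4 : Net := (Net.cons (nat_lit 1) (nat_lit 0x40010000440004)
  (Net.cons (nat_lit 2) (nat_lit 0x20030001212002)
  (Net.cons (nat_lit 4) (nat_lit 0x40b00040800)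
  (Net.cons (nat_lit 8) (nat_lit 0x6000400000)
  (Net.cons (nat_lit 16) (nat_lit 0x6000)
  (Net.cons (nat_lit 32) (nat_lit 0x2000)
  (Net.cons (nat_lit 16) (nat_lit 0x2000)
  (Net.cons (nat_lit 8) (nat_lit 0x2000400000)
  (Net.cons (nat_lit 4) (nat_lit 0x40200040000)
  (Net.cons (nat_lit 2) (nat_lit 0x10000012000)
  (Net.cons (nat_lit 1) (nat_lit 0x40010000400004)
  Net.nil)))))))))))

noncomputable def n_E7_5 : Net := (Net.cons (nat_lit 1) (nat_lit 0x501000010500)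
  (Net.cons (nat_lit 2) (nat_lit 0x1021000000000)
  (Net.cons (nat_lit 4) (nat_lit 0x10400010f00)
  (Net.cons (nat_lit 8) (nat_lit 0x10000200a0)
  (Net.cons (nat_lit 16) (nat_lit 0x200)
  (Net.cons (nat_lit 8) (nat_lit 0x20000)
  (Net.cons (nat_lit 4) (nat_lit 0x10000000a00)
  (Net.cons (nat_lit 2) (nat_lit 0x1000000000)
  (Net.cons (nat_lit 1) (nat_lit 0x1000010500)
  Net.nil)))))))))

noncomputable def n_E7_6 : Net := (Net.cons (nat_lit 1) (nat_lit 0x40014444000001)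
  (Net.cons (nat_lit 4) (nat_lit 0x2090e0b0000)
  (Net.cons (nat_lit 8) (nat_lit 0x3400600000)
  (Net.cons (nat_lit 16) (nat_lit 0x3400)
  (Net.cons (nat_lit 32) (nat_lit 0x1400)
  (Net.cons (nat_lit 16) (nat_lit 0x1400)
  (Net.cons (nat_lit 8) (nat_lit 0x1400200000)
  (Net.cons (nat_lit 4) (nat_lit 0x20104020000)
  (Net.cons (nat_lit 1) (nat_lit 0x14444000000)
  Net.nil)))))))))

noncomputable def NL_E7 : List Net := [n_E7_0,n_E7_1,n_E7_2,n_E7_3,n_E7_4,n_E7_5,n_E7_6]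
theorem okL_E7 : okL 56 NL_E7 = true := by decide +kernel
noncomputable def N_E7 : ℕ → Net := nth NL_E7
theorem ok_E7 : ∀ a, (N_E7 a).ok 56 = true := ok_nth okL_E7

def ps_E7 : List (List ℕ × List ℕ) := [([0,0],[]),([1,1],[]),([2,2],[]),([3,3],[]),([4,4],[]),([5,5],[]),([6,6],[]),([6,4,6],[4,6,4]),([6,0],[0,6]),([6,1],[1,6]),([6,2],[2,6]),([6,5],[5,6]),([6,3],[3,6]),([4,0,4],[0,4,0]),([4,1],[1,4]),([4,2],[2,4]),([4,5],[5,4]),([4,3],[3,4]),([0,1,0],[1,0,1]),([0,2],[2,0]),([0,5],[5,0]),([0,3],[3,0]),([1,2,1],[2,1,2]),([1,5],[5,1]),([1,3,1],[3,1,3]),([2,5,2],[5,2,5]),([2,3],[3,2]),([5,3],[3,5])]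

theorem pl_E7 : ∀ j < 6, planeOK N_E7 ps_E7 (plN 56 6 j) = true := allLt_iff.1 (by decide +kernel)

theorem rels_E7 : Rels (pms N_E7) R_E7 := rels_of_planes ok_E7 (by decide +kernel) (iv := iv_E7) pl_E7 (by decide +kernel)

theorem lb_31 : LB N_A6 [[1],[2],[3],[4],[5]] [0,1,2,3,4] 720 :=
  (LB.of_chain (kp := 0) ok_A6 (by decide +kernel) [(0,5,[[1],[2],[3],[4],[5]]),(1,4,[[1],[2],[3],[4]]),(2,3,[[1],[2],[3]]),(3,2,[[1],[2]]),(4,1,[[1]])] (by decide +kernel)).cat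
    (rels_A6.inv inv_A6) (by decide +kernel) (c := [[0],[2],[4],[6],[8],[0],[2],[4],[6],[0],[2],[4],[0],[2],[0]]) (by decide +kernel)

theorem ui_A6_32 : UI.{u} R_A6 [0,1,2,3,4,5] [[1],[2],[3],[4],[5]] 7 :=
  UI.of_UB ub_A6 rels_A6 lb_31 (by decide +kernel) (by decide +kernel)

theorem imp_E7_A6_33c : impCert R_E7 [6,4,0,1,2,5] R_A6 [(6,0),(4,0),(0,0),(1,0),(2,0),(5,0),(7,0),(8,0),(9,0),(10,0),(11,0),(13,0),(14,0),(15,0),(16,0),(18,0),(19,0),(20,0),(22,0),(23,0),(25,0)] = true := by decide +kernel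
theorem imp_E7_A6_33 : Imp.{u} R_E7 [6,4,0,1,2,5] R_A6 := Imp.of_cert imp_E7_A6_33c

theorem lb_34 : LB N_E6 [[0],[1],[2],[5],[3]] [0,1,7,2,3] 1920 :=
  (LB.of_chain (kp := 2) ok_E6 (by decide +kernel) [(0,4,[[0],[1],[2],[5],[3]]),(1,3,[[0],[1],[2],[3]]),(7,3,[[0],[1],[3]]),(2,2,[[0],[1]]),(3,1,[[0]])] (by decide +kernel)).cat
    (rels_E6.inv inv_E6) (by decide +kernel) (c := [[0],[2],[4],[6],[8],[0],[2],[4],[8],[0],[2],[8],[0],[2],[0]]) (by decide +kernel)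

theorem ui_E6_35 : UI.{u} R_E6 [0,1,2,3,4,5] [[0],[1],[2],[5],[3]] 27 :=
  UI.of_UB ub_E6 rels_E6 lb_34 (by decide +kernel) (by decide +kernel)

theorem imp_E7_E6_36c : impCert R_E7 [0,1,2,3,4,5] R_E6 [(0,0),(1,0),(2,0),(3,0),(4,0),(5,0),(13,0),(14,0),(15,0),(16,0),(17,0),(18,0),(19,0),(20,0),(21,0),(22,0),(23,0),(24,0),(25,0),(26,0),(27,0)] = true := by decide +kernel
theorem imp_E7_E6_36 : Imp.{u} R_E7 [0,1,2,3,4,5] R_E6 := Imp.of_cert imp_E7_E6_36c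

theorem lb_37 : LB N_A6 [[0],[1],[2],[3],[5]] [0,2,3,4,5] 240 :=
  (LB.of_chain (kp := 0) ok_A6 (by decide +kernel) [(0,1,[[0],[1],[2],[3],[5]]),(2,4,[[0],[1],[2],[3]]),(3,3,[[0],[1],[2]]),(4,2,[[0],[1]]),(5,1,[[0]])] (by decide +kernel)).cat
    (rels_A6.inv inv_A6) (by decide +kernel) (c := [[0],[2],[4],[6],[8],[0],[2],[4],[6],[0],[2],[4],[0],[2],[0]]) (by decide +kernel)

theorem ui_A6_38 : UI.{u} R_A6 [0,1,2,3,4,5] [[0],[1],[2],[3],[5]] 21 :=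
  UI.of_UB ub_A6 rels_A6 lb_37 (by decide +kernel) (by decide +kernel)

def hs_E7 : List (List ℕ × List (List ℕ) × ℕ) := [([6,4,0,1,2,5],[[4],[0],[1],[2],[5]],7),([0,1,2,3,4,5],[[0],[1],[2],[5],[3]],27),([6,4,0,1,2,5],[[6],[4],[0],[1],[5]],21),([0,1,2,3,4,5],[[0],[1],[2],[3],[4]],27),([6,4,0,1,2,5],[[6],[4],[0],[1],[2]],7)]
theorem hh_E7 : ∀ h ∈ hs_E7, UI.{u} R_E7 h.1 h.2.1 h.2.2 :=
  List.forall_mem_cons.2 ⟨ui_A6_32.ren imp_E7_A6_33 (by decide +kernel) (by decide +kernel),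
    List.forall_mem_cons.2 ⟨ui_E6_35.ren imp_E7_E6_36 (by decide +kernel) (by decide +kernel),
    List.forall_mem_cons.2 ⟨ui_A6_38.ren imp_E7_A6_33 (by decide +kernel) (by decide +kernel),
    List.forall_mem_cons.2 ⟨ui_E6.ren imp_E7_E6_36 (by decide +kernel) (by decide +kernel),
    List.forall_mem_cons.2 ⟨ui_A6.ren imp_E7_A6_33 (by decide +kernel) (by decide +kernel),
    List.forall_mem_nil _⟩⟩⟩⟩⟩

theorem e_E7_0 : erun 56 3 N_E7 R_E7 iv_E7 7 hs_E7 (stK (ones 56) (mkK 56 (ones 56) [0,1,2,3,4,5,6]))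
  [.orb [6,4,0,1,2,5] [[4],[0],[1],[2],[5]] 7 0 0 1, .rel 12 1, .rel 17 1, .rel 21 1, .orb [0,1,2,3,4,5] [[0],[1],[2],[5],[3]] 27 1 2 4, .rel 12 0, .rel 9 0, .rel 10 0, .rel 8 0, .rel 9 0, .rel 12 0, .orb [6,4,0,1,2,5] [[6],[4],[0],[1],[5]] 21 6 4 1, .rel 12 1, .orb [0,1,2,3,4,5] [[4],[0],[1],[2],[3]] 27 17 4 5, .rel 12 0, .rel 9 0, .rel 10 0, .rel 11 0, .rel 8 0, .rel 9 0, .rel 10 0, .rel 12 0, .rel 9 0, .rel 8 0, .orb [6,4,0,1,2,5] [[6],[4],[0],[1],[2]] 7 48 5 1, .rel 12 1]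
  (bit 0) (mkK 56 (bit 0) [0,1,2,3,4,5]) = true := by decide +kernel
theorem r_E7_0 : Run.{u} 56 N_E7 R_E7 0 (bit 0) (mkK 56 (bit 0) [0,1,2,3,4,5]) (ones 56) (mkK 56 (ones 56) [0,1,2,3,4,5,6]) := (Run.of_cert ok_E7 (by decide +kernel) inv_E7 hh_E7 e_E7_0 0)

theorem ui_E7 : UI.{u} R_E7 [0,1,2,3,4,5,6] (sing [0,1,2,3,4,5]) 56 :=
  UI.of_run (kp := 3) (O := (ones 56)) ok_E7 (by decide +kernel) rels_E7 r_E7_0 (by decide +kernel)

theorem ub_E7 : UB.{u} R_E7 [0,1,2,3,4,5,6] 2903040 :=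
  (ui_E7.mul (UI.ren (S := [0,1,2,3,4,5]) (W := []) ub_E6 imp_E7_E6_36 (by decide +kernel) rfl) (by decide +kernel) (by decide +kernel)).le (by decide +kernel)

def R_E8 : List (List ℕ) := [[0,0],[1,1],[2,2],[3,3],[4,4],[5,5],[6,6],[7,7],[7,6,7,6,7,6],[7,4,7,4],[7,0,7,0],[7,1,7,1],[7,2,7,2],[7,5,7,5],[7,3,7,3],[6,4,6,4,6,4],[6,0,6,0],[6,1,6,1],[6,2,6,2],[6,5,6,5],[6,3,6,3],[4,0,4,0,4,0],[4,1,4,1],[4,2,4,2],[4,5,4,5],[4,3,4,3],[0,1,0,1,0,1],[0,2,0,2],[0,5,0,5],[0,3,0,3],[1,2,1,2,1,2],[1,5,1,5],[1,3,1,3,1,3],[2,5,2,5,2,5],[2,3,2,3],[5,3,5,3]]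
def iv_E8 : List ℕ := [0,1,2,3,4,5,6,7]
theorem inv_E8 : invOK R_E8 iv_E8 8 = true := by decide +kernel

noncomputable def n_E8_0 : Net := (Net.cons (nat_lit 1) (nat_lit 0x100100105400000410400400410404040105000004041040001100040010)
  (Net.cons (nat_lit 2) (nat_lit 0x200300102200012111100101212100000101000101211110000100013020)
  (Net.cons (nat_lit 4) (nat_lit 0x80500050600040305010001080100000000000000030501010f01000408)
  (Net.cons (nat_lit 8) (nat_lit 0x40001200a000950020001100ab001400ef000000950020006000000000)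
  (Net.cons (nat_lit 16) (nat_lit 0x5200000094000000101800001808000094040000600000000000)
  (Net.cons (nat_lit 32) (nat_lit 0x40000000000000100800000000009c0084000000000060000000)
  (Net.cons (nat_lit 64) (nat_lit 0x8000000000000000000000000009410000000000000)
  (Net.cons (nat_lit 128) (nat_lit 0x800000000000010000000000000)
  (Net.cons (nat_lit 64) (nat_lit 0x8000000000000000000000000000010000000000000)
  (Net.cons (nat_lit 32) (nat_lit 0x10080000000000940000000000000000000000)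
  (Net.cons (nat_lit 16) (nat_lit 0x4000000000000000001000000800000094000000600000000000)
  (Net.cons (nat_lit 8) (nat_lit 0x400012000000940000001000080010008c000000940000006000000000)
  (Net.cons (nat_lit 4) (nat_lit 0x400010200000100000001080100000000000000010000000600000000)
  (Net.cons (nat_lit 2) (nat_lit 0x200100102200012000100101212100000101000101200010000100001020)
  (Net.cons (nat_lit 1) (nat_lit 0x100100105400000410400400410404040105000004041040001100040010)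
  Net.nil)))))))))))))))

noncomputable def n_E8_1 : Net := (Net.cons (nat_lit 1) (nat_lit 0x40000000040000011140010110000444404444004000000140440000010)
  (Net.cons (nat_lit 2) (nat_lit 0x3000001031020200100010211000010100101000012001020020002100)
  (Net.cons (nat_lit 4) (nat_lit 0x806090101020000000000020000000500050100050200020503080800)
  (Net.cons (nat_lit 8) (nat_lit 0x2000c40020005f0004005c00b10010004c00980007006000100000)
  (Net.cons (nat_lit 16) (nat_lit 0xc48000000108000048600000a104000014000000460000000000)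
  (Net.cons (nat_lit 32) (nat_lit 0xcd20480000000000100400000000000040000000)
  (Net.cons (nat_lit 64) (nat_lit 0xc400000000000000000000005820000000000000)
  (Net.cons (nat_lit 128) (nat_lit 0x4820000000000000)
  (Net.cons (nat_lit 64) (nat_lit 0x4820000000000000)
  (Net.cons (nat_lit 32) (nat_lit 0xcc20000000000000100000000000000000000000)
  (Net.cons (nat_lit 16) (nat_lit 0xc400000001000000482000000004000010000000400000000000)
  (Net.cons (nat_lit 8) (nat_lit 0xc4000000490000004800a10000000400100006004000000000)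
  (Net.cons (nat_lit 4) (nat_lit 0x2080000020000000000000000000100040000010000020401000000)
  (Net.cons (nat_lit 2) (nat_lit 0x2000001031020200100010211000010100101000012001020020002000)
  (Net.cons (nat_lit 1) (nat_lit 0x40000011140010110000444404444004000000140440000000)
  Net.nil)))))))))))))))

noncomputable def n_E8_2 : Net := (Net.cons (nat_lit 1) (nat_lit 0x40000000100450050041041144000000000000014140150410040010040)
  (Net.cons (nat_lit 2) (nat_lit 0x30300000200303012010000000000001020102211211020000000000120)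
  (Net.cons (nat_lit 4) (nat_lit 0x4030800040100010100000000000000000202000102030500040b0400)
  (Net.cons (nat_lit 8) (nat_lit 0x440010000800ea0018006700b8004000f0006200d10040001000a20040)
  (Net.cons (nat_lit 16) (nat_lit 0x40400000c00000009680000000900000b090000000000000a000)
  (Net.cons (nat_lit 32) (nat_lit 0x4000000000000040100000000000900090000000000000000000)
  (Net.cons (nat_lit 64) (nat_lit 0x9040000000000000000000009000000000000000)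
  (Net.cons (nat_lit 128) (nat_lit 0x900000000000000000000000)
  (Net.cons (nat_lit 64) (nat_lit 0x9000000000000000000000000000000000000000)
  (Net.cons (nat_lit 32) (nat_lit 0x40000000000000900000000000000000000000)
  (Net.cons (nat_lit 16) (nat_lit 0x4040000000000000900000000000000090000000000000000000)
  (Net.cons (nat_lit 8) (nat_lit 0x400000000000c000100006009000000090002000900000000000a00000)
  (Net.cons (nat_lit 4) (nat_lit 0x4010000040000000100000000000000000202000100000100000a0400)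
  (Net.cons (nat_lit 2) (nat_lit 0x10100000200303012010000000000001020102211211020000000000100)
  (Net.cons (nat_lit 1) (nat_lit 0x40000000100450050041041144000000000000014140150410040010040)
  Net.nil)))))))))))))))

noncomputable def n_E8_3 : Net := (Net.cons (nat_lit 1) (nat_lit 0x50000044100000004401010000010100150015101000000151110000000)
  (Net.cons (nat_lit 2) (nat_lit 0x32000233312000001202000000000000000010001000201220000000320)
  (Net.cons (nat_lit 4) (nat_lit 0x40004080701000001080000000000000000000000000001000709000400)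
  (Net.cons (nat_lit 8) (nat_lit 0x40004600e80000001000ff00180030005200f50044001800ec00800040)
  (Net.cons (nat_lit 16) (nat_lit 0xe00000000a20000a600000020a10000a1000000700000000000)
  (Net.cons (nat_lit 32) (nat_lit 0x8a200200000000000a100000000000060000000)
  (Net.cons (nat_lit 64) (nat_lit 0x200800000000000000000000000000000000000000)
  (Net.cons (nat_lit 128) (nat_lit 0x20000000000000000000000000)
  (Net.cons (nat_lit 64) (nat_lit 0x200000000000000000000000000000000000000000)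
  (Net.cons (nat_lit 32) (nat_lit 0x800002000000000000000000000000000000000)
  (Net.cons (nat_lit 16) (nat_lit 0x800000000a200000000000000a1000000000000600000000000)
  (Net.cons (nat_lit 8) (nat_lit 0x600080000000000a600000020000000a100000010006000000000)
  (Net.cons (nat_lit 4) (nat_lit 0x40004000600000001080000000000000000000000000001000608000400)
  (Net.cons (nat_lit 2) (nat_lit 0x10000233312000001202000000000000000010001000201220000000100)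
  (Net.cons (nat_lit 1) (nat_lit 0x50000044100000004401010000010100150015101000000151110000000)
  Net.nil)))))))))))))))

noncomputable def n_E8_4 : Net := (Net.cons (nat_lit 1) (nat_lit 0x100144400414500000000000014400010101000010001104104001100004)
  (Net.cons (nat_lit 2) (nat_lit 0x220200022220121020102011000000100000000001323102002021000)
  (Net.cons (nat_lit 4) (nat_lit 0x40a02060304050200000000010000000000000000090a0802020a0000)
  (Net.cons (nat_lit 8) (nat_lit 0x480080006000980004000f0006000d0076008d002200fc00c000880000)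
  (Net.cons (nat_lit 16) (nat_lit 0x68000000100100000b080000690000000a0000002c0000008000)
  (Net.cons (nat_lit 32) (nat_lit 0x4800000000002009000800000000620002000000000000000000)
  (Net.cons (nat_lit 64) (nat_lit 0x2200000000000000000000000208000000000000)
  (Net.cons (nat_lit 128) (nat_lit 0x20000000008000000000000)
  (Net.cons (nat_lit 64) (nat_lit 0x200000000000000000000000008000000000000)
  (Net.cons (nat_lit 32) (nat_lit 0x2008000000000000020000000000000000000000)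
  (Net.cons (nat_lit 16) (nat_lit 0x6800000000010000020800006000000002000000000000000000)
  (Net.cons (nat_lit 8) (nat_lit 0x480000002000100000000900020009006200080002002c000000800000)
  (Net.cons (nat_lit 4) (nat_lit 0x40800040200010000000000000000000000000000090a080000080000)
  (Net.cons (nat_lit 2) (nat_lit 0x220200002220121020102011000000100000000001323102002020000)
  (Net.cons (nat_lit 1) (nat_lit 0x144400414500000000000014400010101000010001104104001100000)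
  Net.nil)))))))))))))))

noncomputable def n_E8_5 : Net := (Net.cons (nat_lit 1) (nat_lit 0x1000000000000500404114104040400000400540000400400000111100)
  (Net.cons (nat_lit 2) (nat_lit 0x3120000002122100000000000000001030313220000310200000012300)
  (Net.cons (nat_lit 4) (nat_lit 0x208090000020003000000000000000001030303070c0300020004010500)
  (Net.cons (nat_lit 8) (nat_lit 0x2000800020004c00fb006d001000c00000000c00130070000000440040)
  (Net.cons (nat_lit 16) (nat_lit 0x200000009614000024800000800000000b000000400000000400)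
  (Net.cons (nat_lit 32) (nat_lit 0xb284000000000000030000000000000000000000)
  (Net.cons (nat_lit 64) (nat_lit 0x2000000000000000000000000380000000000000)
  (Net.cons (nat_lit 128) (nat_lit 0x80000000000000)
  (Net.cons (nat_lit 64) (nat_lit 0x80000000000000)
  (Net.cons (nat_lit 32) (nat_lit 0x2080000000000000030000000000000000000000)
  (Net.cons (nat_lit 16) (nat_lit 0x2000000092040000008000000000000003000000000000000000)
  (Net.cons (nat_lit 8) (nat_lit 0x20000400920024000000800000000800030040000000040000)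
  (Net.cons (nat_lit 4) (nat_lit 0x20008000002000100000000000000000000000001000300000004000400)
  (Net.cons (nat_lit 2) (nat_lit 0x2000000002122100000000000000001030313220000310200000010100)
  (Net.cons (nat_lit 1) (nat_lit 0x1000000000000500404114104040400000400540000400400000111100)
  Net.nil)))))))))))))))

noncomputable def n_E8_6 : Net := (Net.cons (nat_lit 1) (nat_lit 0x400041054001101401500000000101010000010101100100000541000004)
  (Net.cons (nat_lit 2) (nat_lit 0x200010220112112110203030200100000000000000302110210020000002)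
  (Net.cons (nat_lit 4) (nat_lit 0x20b0003000102030303020000000000020200000208030a03060000)
  (Net.cons (nat_lit 8) (nat_lit 0x1100ac00d1004000000001000700180047008a0044009100500000)
  (Net.cons (nat_lit 16) (nat_lit 0x3820000090000000000600001600000004e00000c18000004000)
  (Net.cons (nat_lit 32) (nat_lit 0x2806000000000000104080000000000081000000)
  (Net.cons (nat_lit 64) (nat_lit 0x2800000000000000000000000046800000000000)
  (Net.cons (nat_lit 128) (nat_lit 0x6000000000000)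
  (Net.cons (nat_lit 64) (nat_lit 0x6000000000000)
  (Net.cons (nat_lit 32) (nat_lit 0x2806000000000000004080000000000000000000)
  (Net.cons (nat_lit 16) (nat_lit 0x2800000000000000000600001000000000400000810000000000)
  (Net.cons (nat_lit 8) (nat_lit 0x100028009000000000000000060010000400800040008100400000)
  (Net.cons (nat_lit 4) (nat_lit 0x30002000100000000000000000000020200000008010801040000)
  (Net.cons (nat_lit 2) (nat_lit 0x220112112110203030200100000000000000302110210020000000)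
  (Net.cons (nat_lit 1) (nat_lit 0x400041054001101401500000000101010000010101100100000541000004)
  Net.nil)))))))))))))))

noncomputable def n_E8_7 : Net := (Net.cons (nat_lit 1) (nat_lit 0x400011110104100000540000004100000000000004440545110404000001)
  (Net.cons (nat_lit 2) (nat_lit 0x20202120000003211020101000000000000000012323322002000000)
  (Net.cons (nat_lit 4) (nat_lit 0x80a0d09060d0201000001010000000000000004050404060a040000)
  (Net.cons (nat_lit 8) (nat_lit 0x2200c00003003100e000000003000c0072008900be00cc00200000)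
  (Net.cons (nat_lit 16) (nat_lit 0xa000000012900000800200000a00000063020000624000000000)
  (Net.cons (nat_lit 32) (nat_lit 0x9080000000000000090200000000000040000000)
  (Net.cons (nat_lit 64) (nat_lit 0x8002000000000000000000000102000000000000)
  (Net.cons (nat_lit 128) (nat_lit 0x200000000000000000000)
  (Net.cons (nat_lit 64) (nat_lit 0x2000000000000000000000000000000000000)
  (Net.cons (nat_lit 32) (nat_lit 0x8000000000000000010200000000000000000000)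
  (Net.cons (nat_lit 16) (nat_lit 0x8000000010800000000200000800000001020000400000000000)
  (Net.cons (nat_lit 8) (nat_lit 0x200080000200100080000000020008006200010022004000000000)
  (Net.cons (nat_lit 4) (nat_lit 0x20408000102010000000000000000000000000504040402000000)
  (Net.cons (nat_lit 2) (nat_lit 0x20202100000003211020101000000000000000012323322002000000)
  (Net.cons (nat_lit 1) (nat_lit 0x11110104100000540000004100000000000004440545110404000000)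
  Net.nil)))))))))))))))

noncomputable def NL_E8 : List Net := [n_E8_0,n_E8_1,n_E8_2,n_E8_3,n_E8_4,n_E8_5,n_E8_6,n_E8_7]
theorem okL_E8 : okL 240 NL_E8 = true := by decide +kernel
noncomputable def N_E8 : ℕ → Net := nth NL_E8
theorem ok_E8 : ∀ a, (N_E8 a).ok 240 = true := ok_nth okL_E8

def ps_E8 : List (List ℕ × List ℕ) := [([0,0],[]),([1,1],[]),([2,2],[]),([3,3],[]),([4,4],[]),([5,5],[]),([6,6],[]),([7,7],[]),([7,6,7],[6,7,6]),([7,4],[4,7]),([7,0],[0,7]),([7,1],[1,7]),([7,2],[2,7]),([7,5],[5,7]),([7,3],[3,7]),([6,4,6],[4,6,4]),([6,0],[0,6]),([6,1],[1,6]),([6,2],[2,6]),([6,5],[5,6]),([6,3],[3,6]),([4,0,4],[0,4,0]),([4,1],[1,4]),([4,2],[2,4]),([4,5],[5,4]),([4,3],[3,4]),([0,1,0],[1,0,1]),([0,2],[2,0]),([0,5],[5,0]),([0,3],[3,0]),([1,2,1],[2,1,2]),([1,5],[5,1]),([1,3,1],[3,1,3]),([2,5,2],[5,2,5]),([2,3],[3,2]),([5,3],[3,5])]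

theorem pl_E8 : ∀ j < 8, planeOK N_E8 ps_E8 (plN 240 8 j) = true := allLt_iff.1 (by decide +kernel)

theorem rels_E8 : Rels (pms N_E8) R_E8 := rels_of_planes ok_E8 (by decide +kernel) (iv := iv_E8) pl_E8 (by decide +kernel)

theorem lb_39 : LB N_A7 [[1],[2],[3],[4],[5],[6]] [0,1,2,3,4,5] 5040 :=
  (LB.of_chain (kp := 0) ok_A7 (by decide +kernel) [(0,6,[[1],[2],[3],[4],[5],[6]]),(1,5,[[1],[2],[3],[4],[5]]),(2,4,[[1],[2],[3],[4]]),(3,3,[[1],[2],[3]]),(4,2,[[1],[2]]),(5,1,[[1]])] (by decide +kernel)).cat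
    (rels_A7.inv inv_A7) (by decide +kernel) (c := [[0],[2],[4],[6],[8],[10],[0],[2],[4],[6],[8],[0],[2],[4],[6],[0],[2],[4],[0],[2],[0]]) (by decide +kernel)

theorem ui_A7_40 : UI.{u} R_A7 [0,1,2,3,4,5,6] [[1],[2],[3],[4],[5],[6]] 8 :=
  UI.of_UB ub_A7 rels_A7 lb_39 (by decide +kernel) (by decide +kernel)

theorem imp_E8_A7_41c : impCert R_E8 [7,6,4,0,1,2,5] R_A7 [(7,0),(6,0),(4,0),(0,0),(1,0),(2,0),(5,0),(8,0),(9,0),(10,0),(11,0),(12,0),(13,0),(15,0),(16,0),(17,0),(18,0),(19,0),(21,0),(22,0),(23,0),(24,0),(26,0),(27,0),(28,0),(30,0),(31,0),(33,0)] = true := by decide +kernel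
theorem imp_E8_A7_41 : Imp.{u} R_E8 [7,6,4,0,1,2,5] R_A7 := Imp.of_cert imp_E8_A7_41c

theorem imp_E8_E7_42c : impCert R_E8 [0,1,2,3,4,5,6] R_E7 [(0,0),(1,0),(2,0),(3,0),(4,0),(5,0),(6,0),(15,0),(16,0),(17,0),(18,0),(19,0),(20,0),(21,0),(22,0),(23,0),(24,0),(25,0),(26,0),(27,0),(28,0),(29,0),(30,0),(31,0),(32,0),(33,0),(34,0),(35,0)] = true := by decide +kernel
theorem imp_E8_E7_42 : Imp.{u} R_E8 [0,1,2,3,4,5,6] R_E7 := Imp.of_cert imp_E8_E7_42c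

theorem lb_43 : LB N_A7 [[1],[3],[4],[5],[6],[0]] [5,6,0,1,2,3] 720 :=
  (LB.of_chain (kp := 0) ok_A7 (by decide +kernel) [(5,1,[[1],[3],[4],[5],[6],[0]]),(6,1,[[3],[4],[5],[6],[0]]),(0,4,[[3],[4],[5],[6]]),(1,3,[[3],[4],[5]]),(2,2,[[3],[4]]),(3,1,[[3]])] (by decide +kernel)).cat
    (rels_A7.inv inv_A7) (by decide +kernel) (c := [[0],[2],[4],[6],[8],[10],[2],[4],[6],[8],[10],[2],[4],[6],[8],[2],[4],[6],[2],[4],[2]]) (by decide +kernel)

theorem ui_A7_44 : UI.{u} R_A7 [0,1,2,3,4,5,6] [[1],[3],[4],[5],[6],[0]] 56 :=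
  UI.of_UB ub_A7 rels_A7 lb_43 (by decide +kernel) (by decide +kernel)

theorem lb_45 : LB N_E7 [[6],[4],[1],[2],[5],[0,1,3,1,0]] [0,1,2,3,4,5] 23040 :=
  (LB.of_chain (kp := 3) ok_E7 (by decide +kernel) [(0,5,[[6],[4],[1],[2],[5],[0,1,3,1,0]]),(1,4,[[4],[1],[2],[5],[0,1,3,1,0]]),(2,3,[[1],[2],[5],[0,1,3,1,0]]),(3,1,[[1],[2],[5]]),(4,1,[[2],[5]]),(5,1,[[5]])] (by decide +kernel)).cat
    (rels_E7.inv inv_E7) (by decide +kernel) (c := [[0],[2],[4],[6],[8],[10],[2],[4],[6],[8],[10],[4],[6],[8],[10],[4],[6],[8],[6],[8],[8]]) (by decide +kernel)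

theorem ui_E7_46 : UI.{u} R_E7 [0,1,2,3,4,5,6] [[6],[4],[1],[2],[5],[0,1,3,1,0]] 126 :=
  UI.of_UB ub_E7 rels_E7 lb_45 (by decide +kernel) (by decide +kernel)

theorem lb_47 : LB N_A7 [[1],[2],[3],[4],[5]] [1,2,3,4,5] 720 :=
  (LB.of_chain (kp := 0) ok_A7 (by decide +kernel) [(1,5,[[1],[2],[3],[4],[5]]),(2,4,[[1],[2],[3],[4]]),(3,3,[[1],[2],[3]]),(4,2,[[1],[2]]),(5,1,[[1]])] (by decide +kernel)).cat
    (rels_A7.inv inv_A7) (by decide +kernel) (c := [[0],[2],[4],[6],[8],[0],[2],[4],[6],[0],[2],[4],[0],[2],[0]]) (by decide +kernel)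

theorem ui_A7_48 : UI.{u} R_A7 [0,1,2,3,4,5,6] [[1],[2],[3],[4],[5]] 56 :=
  UI.of_UB ub_A7 rels_A7 lb_47 (by decide +kernel) (by decide +kernel)

def hs_E8 : List (List ℕ × List (List ℕ) × ℕ) := [([7,6,4,0,1,2,5],[[6],[4],[0],[1],[2],[5]],8),([0,1,2,3,4,5,6],[[0],[1],[2],[3],[4],[5]],56),([7,6,4,0,1,2,5],[[6],[0],[1],[2],[5],[7]],56),([0,1,2,3,4,5,6],[[6],[4],[1],[2],[5],[0,1,3,1,0]],126),([7,6,4,0,1,2,5],[[6],[4],[0],[1],[2]],56),([7,6,4,0,1,2,5],[[7],[6],[4],[0],[1],[2]],8)]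
theorem hh_E8 : ∀ h ∈ hs_E8, UI.{u} R_E8 h.1 h.2.1 h.2.2 :=
  List.forall_mem_cons.2 ⟨ui_A7_40.ren imp_E8_A7_41 (by decide +kernel) (by decide +kernel),
    List.forall_mem_cons.2 ⟨ui_E7.ren imp_E8_E7_42 (by decide +kernel) (by decide +kernel),
    List.forall_mem_cons.2 ⟨ui_A7_44.ren imp_E8_A7_41 (by decide +kernel) (by decide +kernel),
    List.forall_mem_cons.2 ⟨ui_E7_46.ren imp_E8_E7_42 (by decide +kernel) (by decide +kernel),
    List.forall_mem_cons.2 ⟨ui_A7_48.ren imp_E8_A7_41 (by decide +kernel) (by decide +kernel),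
    List.forall_mem_cons.2 ⟨ui_A7.ren imp_E8_A7_41 (by decide +kernel) (by decide +kernel),
    List.forall_mem_nil _⟩⟩⟩⟩⟩⟩

theorem e_E8_0 : erun 240 5 N_E8 R_E8 iv_E8 8 hs_E8 (stK (ones 240) (mkK 240 (ones 240) [0,1,2,3,4,5,6,7]))
  [.orb [7,6,4,0,1,2,5] [[6],[4],[0],[1],[2],[5]] 8 0 0 1, .rel 14 1, .rel 20 1, .rel 25 1, .rel 29 1, .orb [0,1,2,3,4,5,6] [[4],[0],[1],[2],[5],[3]] 56 1 3 7, .rel 14 0, .rel 11 0, .rel 12 0, .rel 10 0, .rel 11 0, .rel 14 0, .rel 9 0, .rel 10 0, .rel 11 0, .rel 12 0, .rel 13 0, .orb [7,6,4,0,1,2,5] [[6],[0],[1],[2],[5],[7]] 56 27 2 1, .rel 14 1, .rel 20 1, .rel 25 1, .orb [0,1,2,3,4,5,6] [[6],[4],[1],[2],[5],[0,1,3,1,0]] 126 40 3 5, .rel 14 0, .rel 11 0, .rel 12 0, .rel 13 0, .rel 10 0, .rel 11 0, .rel 12 0, .rel 9 0, .rel 10 0, .rel 11 0, .rel 14 0, .orb [7,6,4,0,1,2,5] [[6],[4],[0],[1],[2]] 56 73 6 1, .rel 14 1, .orb [0,1,2,3,4,5,6] [[4],[0],[1],[2],[5],[3]]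 56 120 3 7, .rel 14 0, .rel 11 0, .rel 12 0, .rel 10 0, .rel 11 0, .rel 14 0, .rel 9 0, .rel 10 0, .rel 11 0, .rel 12 0, .rel 13 0, .rel 8 0, .rel 9 0, .rel 10 0, .rel 11 0, .rel 12 0, .rel 14 0, .rel 11 0, .rel 10 0, .rel 9 0, .orb [7,6,4,0,1,2,5] [[6],[4],[0],[1],[2],[7]] 8 231 6 1, .rel 14 1]
  (bit 0) (mkK 240 (bit 0) [0,1,2,3,4,5,6]) = true := by decide +kernel
theorem r_E8_0 : Run.{u} 240 N_E8 R_E8 0 (bit 0) (mkK 240 (bit 0) [0,1,2,3,4,5,6]) (ones 240) (mkK 240 (ones 240) [0,1,2,3,4,5,6,7]) := (Run.of_cert ok_E8 (by decide +kernel) inv_E8 hh_E8 e_E8_0 0)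

theorem ui_E8 : UI.{u} R_E8 [0,1,2,3,4,5,6,7] (sing [0,1,2,3,4,5,6]) 240 :=
  UI.of_run (kp := 5) (O := (ones 240)) ok_E8 (by decide +kernel) rels_E8 r_E8_0 (by decide +kernel)

theorem ub_E8 : UB.{u} R_E8 [0,1,2,3,4,5,6,7] 696729600 :=
  (ui_E8.mul (UI.ren (S := [0,1,2,3,4,5,6]) (W := []) ub_E7 imp_E8_E7_42 (by decide +kernel) rfl) (by decide +kernel) (by decide +kernel)).le (by decide +kernel)

end H7.T
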