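import Cfsg.Agent.H7.T.C22_0
import Cfsg.Agent.H7.FM5
set_option Elab.async false
set_option maxRecDepth 100000
set_option maxHeartbeats 0
namespace H7.T
universe u v

noncomputable def B22 : List Pc := [(0,[]),(2,[]),(4,[]),(7,[]),(9,[]),(6,[]),(10,[]),(2,[11,4,12]),(0,[1,2,9,1]),(0,[1,9,10,1]),(0,[12,3,6,11]),(1,[11,3,6,12]),(0,[1,2,10,1]),(0,[11,1,3,12]),(1,[9,8,12,5]),(7,[8,9,10,8]),(5,[12,8,10,12]),(0,[12,3,4,11,1]),(0,[11,6,9,11,3]),(0,[12,10,1,8,11]),(0,[1,11,12,2,3]),(0,[1,11,12,7,3])]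
theorem ch_B22 : P22.chL B22 P22.all = true := by decide +kernel

theorem clq22_6 {G : Type u} [Group G] (F : FM P22 G) : F.Pd (FM.VC (F.S P22.all)) (FM.RC (F.S P22.all) (F.S (P22.bm B22))) (bits [0,6,40,43]) :=
  FM.Pd.br (FM.ivtC FM.t3_all _) (FM.src_c [(0,[]),(2,[]),(4,[]),(7,[])] (by decide +kernel)) [] 0 [] (by decide +kernel) (List.forall_mem_nil _)

theorem clq22_7 {G : Type u} [Group G] (F : FM P22 G) : F.Pd (FM.VC (F.S P22.all)) (FM.RC (F.S P22.all) (F.S (P22.bm B22))) (bits [0,6,40]) :=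
  FM.Pd.br (FM.ivtC FM.t3_all _) (FM.src_c [(0,[]),(2,[]),(4,[])] (by decide +kernel)) [[(8,[])],[(7,[])],[(9,[])],[(10,[])],[(2,[11,4,12])],[(0,[1,2,9,1])]] 1 [(7,[])] (by decide +kernel) (List.forall_mem_cons.2 ⟨((clq22_6 F ).mono (by decide +kernel)), (List.forall_mem_nil _)⟩)

theorem clq22_8 {G : Type u} [Group G] (F : FM P22 G) : F.Pd (FM.VC (F.S P22.all)) (FM.RC (F.S P22.all) (F.S (P22.bm B22))) (bits [0,6]) :=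
  FM.Pd.br (FM.ivtC FM.t3_all _) (FM.src_c [(0,[]),(2,[])] (by decide +kernel)) [[(5,[])],[(4,[])],[(9,[])],[(8,[])],[(7,[])],[(6,[])],[(10,[])],[(1,[12,11])]] 2 [(4,[])] (by decide +kernel) (List.forall_mem_cons.2 ⟨((clq22_7 F ).mono (by decide +kernel)), (List.forall_mem_nil _)⟩)

theorem clq22_9 {G : Type u} [Group G] (F : FM P22 G) : F.Pd (FM.VC (F.S P22.all)) (FM.RC (F.S P22.all) (F.S (P22.bm B22))) (bits [0]) :=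
  FM.Pd.br (FM.ivtC FM.t3_all _) (FM.src_c [(0,[])] (by decide +kernel)) [[(3,[])],[(7,[])],[(2,[])],[(8,[])],[(9,[])],[(5,[])],[(6,[])],[(10,[])],[(4,[])]] 3 [(2,[])] (by decide +kernel) (List.forall_mem_cons.2 ⟨((clq22_8 F ).mono (by decide +kernel)), (List.forall_mem_nil _)⟩)

theorem clq22_10 {G : Type u} [Group G] (F : FM P22 G) : F.Pd (FM.VC (F.S P22.all)) (FM.RC (F.S P22.all) (F.S (P22.bm B22))) (bits []) :=
  FM.Pd.br (FM.ivtC FM.t3_all _) (FM.src_c [] (by decide +kernel)) [[(12,[])],[(5,[])],[(2,[])],[(10,[])],[(7,[])],[(1,[])]] 5 [(0,[])] (by decide +kernel) (List.forall_mem_cons.2 ⟨((clq22_9 F ).mono (by decide +kernel)), (List.forall_mem_nil _)⟩)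

theorem clq22 {G : Type u} [Group G] (F : FM P22 G) : F.Pd (FM.VC (F.S P22.all)) (FM.RC (F.S P22.all) (F.S (P22.bm B22))) 0 :=
  clq22_10 F

theorem r4_22_15 {G : Type u} [Group G] (F : FM P22 G) : F.Pd (FM.VK (F.S P22.all) 4) (FM.RQ (PL (F.S P22.all) 3)) (bits [0,6,40,43]) :=
  FM.Pd.leafK [(0,[]),(2,[]),(4,[]),(7,[])] (by decide +kernel) (F.pl [(9,[]),(0,[1,2,9,1]),(0,[11,1,3,12])] (by decide +kernel))

theorem r4_22_16 {G : Type u} [Group G] (F : FM P22 G) : F.Pd (FM.VK (F.S P22.all) 4) (FM.RQ (PL (F.S P22.all) 3)) (bits [0,6,40,154]) :=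
  FM.Pd.leafK [(0,[]),(2,[]),(4,[]),(6,[])] (by decide +kernel) (F.pl [(5,[12,8,10,12]),(0,[1,11,12,7,3])] (by decide +kernel))

theorem r4_22_17 {G : Type u} [Group G] (F : FM P22 G) : F.Pd (FM.VK (F.S P22.all) 4) (FM.RQ (PL (F.S P22.all) 3)) (bits [0,6,40,3400]) :=
  FM.Pd.leafK [(0,[]),(2,[]),(4,[]),(5,[12,8,10,12])] (by decide +kernel) (F.pl [(6,[]),(0,[1,11,12,7,3])] (by decide +kernel))

theorem r4_22_18 {G : Type u} [Group G] (F : FM P22 G) : F.Pd (FM.VK (F.S P22.all) 4) (FM.RQ (PL (F.S P22.all) 3)) (bits [0,6,40,3399]) :=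
  FM.Pd.leafK [(0,[]),(2,[]),(4,[]),(0,[1,11,12,7,3])] (by decide +kernel) (F.pl [(6,[]),(5,[12,8,10,12])] (by decide +kernel))

theorem r4_22_19 {G : Type u} [Group G] (F : FM P22 G) : F.Pd (FM.VK (F.S P22.all) 4) (FM.RQ (PL (F.S P22.all) 3)) (bits [0,6,40]) :=
  FM.Pd.br (FM.ivtK FM.t3_all 4 (fun g hg x h => by simpa [mul_assoc] using h.conj (g := g⁻¹) fun y => T3.conj_mem FM.t3_all (inv_mem hg))) (FM.src_k [(0,[]),(2,[]),(4,[])] (by decide +kernel)) [[(8,[])],[(7,[])],[(9,[])],[(10,[])],[(2,[11,4,12])],[(0,[1,2,9,1])]] 2 [(7,[]),(6,[]),(5,[12,8,10,12]),(0,[1,11,12,7,3])] (by decide +kernel) (List.forall_mem_cons.2 ⟨((r4_22_15 F ).mono (by decide +kernel)), (List.forall_mem_cons.2 ⟨((r4_22_16 F ).mono (by decide +kernel)), (List.forall_mem_cons.2 ⟨((r4_22_17 F ).mono (by decide +kernel)), (List.forall_mem_cons.2 ⟨((r4_22_18 F ).mono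 (by decide +kernel)), (List.forall_mem_nil _)⟩)⟩)⟩)⟩)

theorem r4_22_20 {G : Type u} [Group G] (F : FM P22 G) : F.Pd (FM.VK (F.S P22.all) 4) (FM.RQ (PL (F.S P22.all) 3)) (bits [0,6]) :=
  FM.Pd.br (FM.ivtK FM.t3_all 4 (fun g hg x h => by simpa [mul_assoc] using h.conj (g := g⁻¹) fun y => T3.conj_mem FM.t3_all (inv_mem hg))) (FM.src_k [(0,[]),(2,[])] (by decide +kernel)) [[(5,[])],[(4,[])],[(9,[])],[(8,[])],[(7,[])],[(6,[])],[(10,[])],[(1,[12,11])]] 2 [(4,[])] (by decide +kernel) (List.forall_mem_cons.2 ⟨((r4_22_19 F ).mono (by decide +kernel)), (List.forall_mem_nil _)⟩)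

theorem r4_22_21 {G : Type u} [Group G] (F : FM P22 G) : F.Pd (FM.VK (F.S P22.all) 4) (FM.RQ (PL (F.S P22.all) 3)) (bits [0]) :=
  FM.Pd.br (FM.ivtK FM.t3_all 4 (fun g hg x h => by simpa [mul_assoc] using h.conj (g := g⁻¹) fun y => T3.conj_mem FM.t3_all (inv_mem hg))) (FM.src_k [(0,[])] (by decide +kernel)) [[(3,[])],[(2,[])],[(4,[])],[(7,[])],[(5,[])],[(9,[])],[(8,[])],[(6,[])]] 4 [(2,[])] (by decide +kernel) (List.forall_mem_cons.2 ⟨((r4_22_20 F ).mono (by decide +kernel)), (List.forall_mem_nil _)⟩)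

theorem r4_22_22 {G : Type u} [Group G] (F : FM P22 G) : F.Pd (FM.VK (F.S P22.all) 4) (FM.RQ (PL (F.S P22.all) 3)) (bits []) :=
  FM.Pd.br (FM.ivtK FM.t3_all 4 (fun g hg x h => by simpa [mul_assoc] using h.conj (g := g⁻¹) fun y => T3.conj_mem FM.t3_all (inv_mem hg))) (FM.src_k [] (by decide +kernel)) [[(11,[])],[(6,[])],[(7,[])],[(4,[])],[(5,[])],[(10,[])],[(9,[])]] 4 [(0,[])] (by decide +kernel) (List.forall_mem_cons.2 ⟨((r4_22_21 F ).mono (by decide +kernel)), (List.forall_mem_nil _)⟩)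

theorem r4_22 {G : Type u} [Group G] (F : FM P22 G) : ∀ g, Pr (F.S P22.all) 4 g → (PL (F.S P22.all) 3) g :=
  FM.prK (r4_22_22 F )

theorem cj1_22_23 {G : Type u} [Group G] (F : FM P22 G) : F.Pd (FM.VK (F.S P22.all) 1) (FM.RQ (fun g => IsConj g (F.ev (tws [(0,[])])))) (bits [0]) :=
  FM.Pd.leafK [(0,[])] (by decide +kernel) (IsConj.refl _)

theorem cj1_22_24 {G : Type u} [Group G] (F : FM P22 G) : F.Pd (FM.VK (F.S P22.all) 1) (FM.RQ (fun g => IsConj g (F.ev (tws [(0,[])])))) (bits []) :=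
  FM.Pd.br (FM.ivtK FM.t3_all 1 (fun g _ x h => (isConj_iff.2 ⟨g, rfl⟩).trans h)) (FM.src_k [] (by decide +kernel)) [[(11,[])],[(6,[])],[(7,[])],[(4,[])],[(5,[])],[(10,[])],[(9,[])]] 4 [(0,[])] (by decide +kernel) (List.forall_mem_cons.2 ⟨((cj1_22_23 F ).mono (by decide +kernel)), (List.forall_mem_nil _)⟩)

theorem cj1_22 {G : Type u} [Group G] (F : FM P22 G) : ∀ g, Pr (F.S P22.all) 1 g → (fun g => IsConj g (F.ev (tws [(0,[])]))) g :=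
  FM.prK (cj1_22_24 F )

theorem pr1_22 {G : Type u} [Group G] (F : FM P22 G) : Pr (F.S P22.all) 1 (F.ev (tws [(0,[])])) :=
  F.pr (qs := [(0,[])]) (by decide +kernel)

theorem fx1_22 {G : Type u} [Group G] (F : FM P22 G) : (Cm F.D (F.ev (tws [(0,[])]))).ncard = 694 :=
  by rw [← F.S_fixM, F.ncard_S]; decide +kernel

theorem cj2_22_25 {G : Type u} [Group G] (F : FM P22 G) : F.Pd (FM.VK (F.S P22.all) 2) (FM.RQ (fun g => IsConj g (F.ev (tws [(0,[]),(2,[])])))) (bits [0,6]) :=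
  FM.Pd.leafK [(0,[]),(2,[])] (by decide +kernel) (IsConj.refl _)

theorem cj2_22_26 {G : Type u} [Group G] (F : FM P22 G) : F.Pd (FM.VK (F.S P22.all) 2) (FM.RQ (fun g => IsConj g (F.ev (tws [(0,[]),(2,[])])))) (bits [0]) :=
  FM.Pd.br (FM.ivtK FM.t3_all 2 (fun g _ x h => (isConj_iff.2 ⟨g, rfl⟩).trans h)) (FM.src_k [(0,[])] (by decide +kernel)) [[(3,[])],[(2,[])],[(4,[])],[(7,[])],[(5,[])],[(9,[])],[(8,[])],[(6,[])]] 4 [(2,[])] (by decide +kernel) (List.forall_mem_cons.2 ⟨((cj2_22_25 F ).mono (by decide +kernel)), (List.forall_mem_nil _)⟩)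

theorem cj2_22_27 {G : Type u} [Group G] (F : FM P22 G) : F.Pd (FM.VK (F.S P22.all) 2) (FM.RQ (fun g => IsConj g (F.ev (tws [(0,[]),(2,[])])))) (bits []) :=
  FM.Pd.br (FM.ivtK FM.t3_all 2 (fun g _ x h => (isConj_iff.2 ⟨g, rfl⟩).trans h)) (FM.src_k [] (by decide +kernel)) [[(11,[])],[(6,[])],[(7,[])],[(4,[])],[(5,[])],[(10,[])],[(9,[])]] 4 [(0,[])] (by decide +kernel) (List.forall_mem_cons.2 ⟨((cj2_22_26 F ).mono (by decide +kernel)), (List.forall_mem_nil _)⟩)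

theorem cj2_22 {G : Type u} [Group G] (F : FM P22 G) : ∀ g, Pr (F.S P22.all) 2 g → (fun g => IsConj g (F.ev (tws [(0,[]),(2,[])]))) g :=
  FM.prK (cj2_22_27 F )

theorem pr2_22 {G : Type u} [Group G] (F : FM P22 G) : Pr (F.S P22.all) 2 (F.ev (tws [(0,[]),(2,[])])) :=
  F.pr (qs := [(0,[]),(2,[])]) (by decide +kernel)

theorem fx2_22 {G : Type u} [Group G] (F : FM P22 G) : (Cm F.D (F.ev (tws [(0,[]),(2,[])]))).ncard = 182 :=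
  by rw [← F.S_fixM, F.ncard_S]; decide +kernel

theorem bad2_22 {G : Type u} [Group G] (F : FM P22 G) : Bad (F.ev (tws [(0,[]),(2,[])])) :=
  F.bad [3,1] 2 2 (by decide +kernel)

theorem cj3_22_28 {G : Type u} [Group G] (F : FM P22 G) : F.Pd (FM.VK (F.S P22.all) 3) (FM.RQ (fun g => IsConj g (F.ev (tws [(0,[]),(2,[]),(4,[])])))) (bits [0,6,40]) :=
  FM.Pd.leafK [(0,[]),(2,[]),(4,[])] (by decide +kernel) (IsConj.refl _)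

theorem cj3_22_29 {G : Type u} [Group G] (F : FM P22 G) : F.Pd (FM.VK (F.S P22.all) 3) (FM.RQ (fun g => IsConj g (F.ev (tws [(0,[]),(2,[]),(4,[])])))) (bits [0,6]) :=
  FM.Pd.br (FM.ivtK FM.t3_all 3 (fun g _ x h => (isConj_iff.2 ⟨g, rfl⟩).trans h)) (FM.src_k [(0,[]),(2,[])] (by decide +kernel)) [[(5,[])],[(4,[])],[(9,[])],[(8,[])],[(7,[])],[(6,[])],[(10,[])],[(1,[12,11])]] 2 [(4,[])] (by decide +kernel) (List.forall_mem_cons.2 ⟨((cj3_22_28 F ).mono (by decide +kernel)), (List.forall_mem_nil _)⟩)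

theorem cj3_22_30 {G : Type u} [Group G] (F : FM P22 G) : F.Pd (FM.VK (F.S P22.all) 3) (FM.RQ (fun g => IsConj g (F.ev (tws [(0,[]),(2,[]),(4,[])])))) (bits [0]) :=
  FM.Pd.br (FM.ivtK FM.t3_all 3 (fun g _ x h => (isConj_iff.2 ⟨g, rfl⟩).trans h)) (FM.src_k [(0,[])] (by decide +kernel)) [[(3,[])],[(2,[])],[(4,[])],[(7,[])],[(5,[])],[(9,[])],[(8,[])],[(6,[])]] 4 [(2,[])] (by decide +kernel) (List.forall_mem_cons.2 ⟨((cj3_22_29 F ).mono (by decide +kernel)), (List.forall_mem_nil _)⟩)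

theorem cj3_22_31 {G : Type u} [Group G] (F : FM P22 G) : F.Pd (FM.VK (F.S P22.all) 3) (FM.RQ (fun g => IsConj g (F.ev (tws [(0,[]),(2,[]),(4,[])])))) (bits []) :=
  FM.Pd.br (FM.ivtK FM.t3_all 3 (fun g _ x h => (isConj_iff.2 ⟨g, rfl⟩).trans h)) (FM.src_k [] (by decide +kernel)) [[(11,[])],[(6,[])],[(7,[])],[(4,[])],[(5,[])],[(10,[])],[(9,[])]] 4 [(0,[])] (by decide +kernel) (List.forall_mem_cons.2 ⟨((cj3_22_30 F ).mono (by decide +kernel)), (List.forall_mem_nil _)⟩)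

theorem cj3_22 {G : Type u} [Group G] (F : FM P22 G) : ∀ g, Pr (F.S P22.all) 3 g → (fun g => IsConj g (F.ev (tws [(0,[]),(2,[]),(4,[])]))) g :=
  FM.prK (cj3_22_31 F )

theorem pr3_22 {G : Type u} [Group G] (F : FM P22 G) : Pr (F.S P22.all) 3 (F.ev (tws [(0,[]),(2,[]),(4,[])])) :=
  F.pr (qs := [(0,[]),(2,[]),(4,[])]) (by decide +kernel)

theorem fx3_22 {G : Type u} [Group G] (F : FM P22 G) : (Cm F.D (F.ev (tws [(0,[]),(2,[]),(4,[])]))).ncard = 54 :=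
  by rw [← F.S_fixM, F.ncard_S]; decide +kernel

theorem bad3_22 {G : Type u} [Group G] (F : FM P22 G) : Bad (F.ev (tws [(0,[]),(2,[]),(4,[])])) :=
  F.bad [11,12] 2219 2219 (by decide +kernel)

theorem md22 {G : Type u} [Group G] (F : FM P22 G) : PL (F.S (P22.dpm P22.all (0,[]))) 7 (F.ev (tw (0,[]))) :=
  F.pl [(2,[]),(7,[]),(10,[]),(0,[12,3,6,11]),(0,[1,2,10,1])] (by decide +kernel)

theorem od22 {G : Type u} [Group G] (F : FM P22 G) : Pr (F.S (P22.dpm P22.all (0,[]))) 7 1 :=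
  F.ev_one (w := tws [(2,[]),(4,[]),(7,[]),(6,[]),(10,[]),(0,[1,2,9,1]),(0,[1,9,10,1])]) (by decide +kernel) ▸ F.pr (qs := [(2,[]),(4,[]),(7,[]),(6,[]),(10,[]),(0,[1,2,9,1]),(0,[1,9,10,1])]) (by decide +kernel)

theorem fixp22 {G : Type u} [Group G] (F : FM P22 G) {φ : G → G} (hφ : Cc (F.S P22.all) (F.S P22.all) φ) (i : ∀ x ∈ F.S P22.all, φ (φ x) = x) : ∃ x ∈ F.S P22.all, φ x = x :=
  F.fixp FM.t3_all B22 ch_B22 (clq22 F) (12,[]) [(7,[11]),(5,[11]),(4,[11]),(2,[11]),(3,[12,6]),(6,[12,9]),(4,[12,9]),(2,[12,9]),(0,[12,9]),(7,[12,9]),(1,[9,11]),(1,[10,11]),(1,[12,3]),(6,[11,10]),(0,[12,3]),(0,[12,6]),(0,[12,2]),(5,[12,8]),(2,[12,6]),(4,[12,6]),(6,[12,7]),(6,[12,10]),(0,[12,10]),(0,[12,5]),(4,[12,10]),(7,[12,10]),(1,[12,5]),(0,[11,1]),(2,[12,4]),(2,[12,7]),(0,[12,4]),(0,[12,7]),(5,[12,7]),(4,[12,7]),(1,[11,3]),(6,[11,9]),(9,[11,10]),(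8,[12,7,11]),(11,[12,3,6]),(8,[9,12,4]),(1,[11,12,8]),(8,[10,12,4]),(8,[9,12,6]),(11,[12,0,3]),(8,[9,12,3]),(8,[9,12,0]),(8,[9,12,2]),(8,[10,12,2]),(6,[11,12,8]),(8,[10,12,3]),(0,[11,12,8]),(3,[12,2,4]),(0,[1,11,10]),(5,[6,12,8]),(3,[4,12,1]),(0,[1,11,9]),(5,[6,12,1]),(3,[7,12,1]),(0,[1,11,6]),(2,[11,4,10]),(0,[11,2,10]),(2,[11,4,7]),(3,[11,5,9]),(9,[11,1,5]),(4,[5,12,8]),(0,[1,12,6]),(0,[1,12,4]),(3,[4,11,2]),(0,[1,11,3]),(2,[3,11,4]),(7,[8,12,4]),(1,[10,12,6]),(1,[9,12,7]),(4,[5,12,1]),(0,[11,2,4]),(2,[11,4,6]),(0,[11,4,9]),(9,[11,1,0]),(2,[11,4,9]),(8,[9,11,1]),(2,[11,3,9]),(0,[1,12,7]),(3,[4,11,9]),(1,[9,12,6]),(1,[9,12,4]),(1,[9,5,6,8]),(11,[12,3,7,10]),(1,[9,5,4,8]),(1,[11,10,12,2]),(1,[11,12,5,9]),(1,[9,5,8,9]),(11,[12,1,6,11]),(5,[9,12,11,1]),(1,[12,9,11,3]),(0,[11,9,12,11]),(1,[10,8,11,9]),(9,[12,1,8,10]),(1,[11,12,5,4]),(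11,[12,0,9,11]),(1,[11,12,5,6]),(2,[12,8,9,5]),(5,[12,4,8,10]),(9,[12,1,8,9]),(0,[12,1,5,11]),(8,[12,9,11,0]),(8,[9,11,12,9]),(1,[11,5,12,2]),(0,[12,11,9,8]),(0,[11,6,12,11]),(8,[12,9,11,3]),(11,[12,0,6,11]),(1,[11,7,12,2]),(6,[11,5,12,4]),(2,[12,6,9,8]),(0,[12,9,8,7]),(3,[12,2,7,8]),(0,[12,7,8,9]),(1,[11,4,12,8]),(0,[12,4,9,8]),(6,[12,8,11,0]),(11,[12,3,4,9]),(7,[8,11,12,10]),(0,[12,11,10,8]),(1,[2,3,11,9]),(1,[12,6,11,10]),(1,[10,8,11,5]),(1,[10,11,5,4]),(1,[9,11,7,8]),(0,[12,4,11,1]),(1,[10,11,2,5]),(1,[11,6,12,8]),(1,[11,6,12,2]),(1,[12,3,2,6]),(6,[12,5,8,9]),(2,[12,6,9,5]),(0,[12,3,7,8]),(8,[12,11,3,9]),(0,[12,3,4,7]),(3,[12,4,7,3]),(1,[10,8,11,0]),(1,[9,11,2,6]),(5,[9,11,10,8]),(3,[7,12,4,8]),(0,[1,11,2,7]),(0,[11,2,3,7]),(3,[12,7,8,9]),(0,[1,10,12,3]),(0,[11,1,2,6]),(0,[11,2,6,7]),(4,[12,6,10,8]),(0,[11,1,6,10]),(4,[12,5,10,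8]),(1,[11,0,12,2]),(0,[11,4,6,7]),(0,[1,9,12,3]),(0,[1,12,2,9]),(0,[1,12,11,5]),(1,[12,6,11,9]),(3,[11,5,12,8]),(1,[11,3,6,9]),(4,[12,5,8,7]),(0,[1,10,12,5]),(0,[11,3,2,1]),(0,[12,1,2,6]),(0,[12,1,2,4]),(0,[11,6,9,5]),(0,[1,10,12,1]),(0,[1,2,12,5]),(0,[12,1,4,5]),(0,[12,1,2,10]),(0,[11,2,6,9]),(1,[2,10,12,1]),(1,[11,3,6,10]),(0,[11,1,3,2]),(1,[11,0,3,6]),(5,[9,11,7,8]),(1,[9,12,2,10]),(1,[9,12,0,2]),(1,[11,3,2,6]),(0,[11,6,9,10]),(1,[11,3,6,7]),(0,[1,2,9,5,8]),(0,[12,4,9,12,11]),(1,[12,9,11,6,9]),(1,[11,0,12,9,10]),(1,[11,9,8,12,9]),(2,[12,8,9,11,1]),(1,[12,8,11,12,9]),(0,[11,7,12,4,11]),(0,[12,3,8,12,11]),(0,[11,2,6,12,8]),(11,[12,0,6,12,4]),(1,[9,12,3,11,9]),(0,[12,8,10,11,3]),(1,[11,7,3,8,9]),(1,[11,0,12,7,9]),(0,[1,10,12,9,11]),(1,[10,8,11,7,10]),(0,[1,10,8,7,11]),(0,[11,7,9,8,10]),(0,[11,12,9,11,4]),(0,[1,10,8,12,1]),(2,[3,12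,7,11,9]),(1,[9,8,7,11,4]),(0,[1,9,12,10,11]),(2,[3,12,8,11,4]),(0,[1,11,12,11,3]),(1,[12,9,5,11,1]),(3,[11,9,12,1,6]),(0,[11,6,5,9,11]),(1,[11,5,12,9,10]),(0,[11,5,12,4,11]),(1,[11,5,12,4,7]),(1,[11,7,12,0,9]),(1,[2,3,9,8,11]),(0,[1,9,5,8,10]),(8,[12,11,0,3,2]),(0,[12,4,3,8,11]),(1,[12,5,8,12,10]),(1,[9,5,8,10,1]),(1,[12,5,4,9,8]),(1,[11,7,8,12,7]),(0,[11,4,12,1,3]),(1,[9,5,12,1,4]),(0,[11,1,2,4,10]),(0,[12,2,4,7,9]),(1,[12,7,8,11,6]),(0,[11,1,2,4,7]),(0,[12,1,5,10,8]),(1,[11,3,2,5,7]),(0,[11,4,3,2,9])] (by decide +kernel) hφ i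

end H7.T
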