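import Cfsg.Agent.H7.T.C23_0
import Cfsg.Agent.H7.FM5
set_option Elab.async false
set_option maxRecDepth 100000
set_option maxHeartbeats 0
namespace H7.T
universe u v

noncomputable def B23 : List Pc := [(10,[]),(6,[]),(4,[]),(7,[]),(2,[]),(0,[]),(3,[11,6,10,11]),(5,[12,9,6,12]),(2,[3,4,7,3]),(0,[11,4,7,11,9]),(1,[11,0,7,11,3]),(4,[11,7,10,11,1]),(4,[11,6,10,11,1]),(0,[11,2,4,11,9]),(0,[11,1,5,11,12]),(0,[11,2,7,11,9]),(0,[11,1,7,11,4,3]),(0,[11,12,4,6,11,12]),(0,[11,3,6,11,4,3]),(0,[11,3,6,11,2,3]),(0,[11,3,6,11,7,3]),(0,[11,3,10,11,4,3]),(0,[11,3,10,11,2,3])]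
theorem ch_B23 : P23.chL B23 P23.all = true := by decide +kernel

theorem clq23_7 {G : Type u} [Group G] (F : FM P23 G) : F.Pd (FM.VC (F.S P23.all)) (FM.RC (F.S P23.all) (F.S (P23.bm B23))) (bits [0,8000,8002,8004,8005]) :=
  FM.Pd.br (FM.ivtC FM.t3_all _) (FM.src_c [(10,[]),(6,[]),(4,[]),(7,[]),(2,[])] (by decide +kernel)) [] 0 [] (by decide +kernel) (List.forall_mem_nil _)

theorem clq23_8 {G : Type u} [Group G] (F : FM P23 G) : F.Pd (FM.VC (F.S P23.all)) (FM.RC (F.S P23.all) (F.S (P23.bm B23))) (bits [0,8000,8002,8004]) :=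
  FM.Pd.br (FM.ivtC FM.t3_all _) (FM.src_c [(10,[]),(6,[]),(4,[]),(7,[])] (by decide +kernel)) [[(1,[])],[(2,[])],[(0,[])],[(3,[11,6,10,11])],[(4,[11,7,10,11])],[(0,[11,2,4,11,9])]] 2 [(2,[])] (by decide +kernel) (List.forall_mem_cons.2 ⟨((clq23_7 F ).mono (by decide +kernel)), (List.forall_mem_nil _)⟩)

theorem clq23_9 {G : Type u} [Group G] (F : FM P23 G) : F.Pd (FM.VC (F.S P23.all)) (FM.RC (F.S P23.all) (F.S (P23.bm B23))) (bits [0,8000,8002]) :=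
  FM.Pd.br (FM.ivtC FM.t3_all _) (FM.src_c [(10,[]),(6,[]),(4,[])] (by decide +kernel)) [[(8,[])],[(7,[])],[(5,[11,12,9])],[(2,[])],[(1,[])],[(3,[11,6,10,11])]] 3 [(7,[])] (by decide +kernel) (List.forall_mem_cons.2 ⟨((clq23_8 F ).mono (by decide +kernel)), (List.forall_mem_nil _)⟩)

theorem clq23_10 {G : Type u} [Group G] (F : FM P23 G) : F.Pd (FM.VC (F.S P23.all)) (FM.RC (F.S P23.all) (F.S (P23.bm B23))) (bits [0,8000]) :=
  FM.Pd.br (FM.ivtC FM.t3_all _) (FM.src_c [(10,[]),(6,[])] (by decide +kernel)) [[(3,[])],[(4,[])],[(7,[])],[(2,[])],[(1,[])],[(8,[])],[(0,[])],[(9,[12,11])]] 3 [(4,[])] (by decide +kernel) (List.forall_mem_cons.2 ⟨((clq23_9 F ).mono (by decide +kernel)), (List.forall_mem_nil _)⟩)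

theorem clq23_11 {G : Type u} [Group G] (F : FM P23 G) : F.Pd (FM.VC (F.S P23.all)) (FM.RC (F.S P23.all) (F.S (P23.bm B23))) (bits [0]) :=
  FM.Pd.br (FM.ivtC FM.t3_all _) (FM.src_c [(10,[])] (by decide +kernel)) [[(5,[])],[(6,[])],[(4,[])],[(3,[])],[(7,[])],[(2,[])],[(1,[])],[(8,[])],[(0,[])]] 6 [(6,[])] (by decide +kernel) (List.forall_mem_cons.2 ⟨((clq23_10 F ).mono (by decide +kernel)), (List.forall_mem_nil _)⟩)

theorem clq23_12 {G : Type u} [Group G] (F : FM P23 G) : F.Pd (FM.VC (F.S P23.all)) (FM.RC (F.S P23.all) (F.S (P23.bm B23))) (bits []) :=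
  FM.Pd.br (FM.ivtC FM.t3_all _) (FM.src_c [] (by decide +kernel)) [[(12,[])],[(4,[])],[(7,[])],[(6,[])],[(8,[])],[(2,[])],[(11,[])],[(0,[])]] 4 [(10,[])] (by decide +kernel) (List.forall_mem_cons.2 ⟨((clq23_11 F ).mono (by decide +kernel)), (List.forall_mem_nil _)⟩)

theorem clq23 {G : Type u} [Group G] (F : FM P23 G) : F.Pd (FM.VC (F.S P23.all)) (FM.RC (F.S P23.all) (F.S (P23.bm B23))) 0 :=
  clq23_12 F

theorem r4_23_17 {G : Type u} [Group G] (F : FM P23 G) : F.Pd (FM.VK (F.S P23.all) 4) (FM.RQ (PL (F.S P23.all) 3)) (bits [0,8000,8002,8004]) :=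
  FM.Pd.leafK [(10,[]),(6,[]),(4,[]),(7,[])] (by decide +kernel) (F.pl [(1,[11,0,7,11,3]),(0,[11,1,7,11,4,3]),(0,[11,12,4,6,11,12])] (by decide +kernel))

theorem r4_23_18 {G : Type u} [Group G] (F : FM P23 G) : F.Pd (FM.VK (F.S P23.all) 4) (FM.RQ (PL (F.S P23.all) 3)) (bits [0,8000,8002]) :=
  FM.Pd.br (FM.ivtK FM.t3_all 4 (fun g hg x h => by simpa [mul_assoc] using h.conj (g := g⁻¹) fun y => T3.conj_mem FM.t3_all (inv_mem hg))) (FM.src_k [(10,[]),(6,[]),(4,[])] (by decide +kernel)) [[(8,[])],[(7,[])],[(5,[11,12,9])],[(2,[])],[(1,[])],[(3,[11,6,10,11])]] 3 [(7,[])] (by decide +kernel) (List.forall_mem_cons.2 ⟨((r4_23_17 F ).mono (by decide +kernel)), (List.forall_mem_nil _)⟩)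

theorem r4_23_19 {G : Type u} [Group G] (F : FM P23 G) : F.Pd (FM.VK (F.S P23.all) 4) (FM.RQ (PL (F.S P23.all) 3)) (bits [0,8000]) :=
  FM.Pd.br (FM.ivtK FM.t3_all 4 (fun g hg x h => by simpa [mul_assoc] using h.conj (g := g⁻¹) fun y => T3.conj_mem FM.t3_all (inv_mem hg))) (FM.src_k [(10,[]),(6,[])] (by decide +kernel)) [[(3,[])],[(4,[])],[(7,[])],[(2,[])],[(1,[])],[(8,[])],[(0,[])],[(9,[12,11])]] 3 [(4,[])] (by decide +kernel) (List.forall_mem_cons.2 ⟨((r4_23_18 F ).mono (by decide +kernel)), (List.forall_mem_nil _)⟩)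

theorem r4_23_20 {G : Type u} [Group G] (F : FM P23 G) : F.Pd (FM.VK (F.S P23.all) 4) (FM.RQ (PL (F.S P23.all) 3)) (bits [0]) :=
  FM.Pd.br (FM.ivtK FM.t3_all 4 (fun g hg x h => by simpa [mul_assoc] using h.conj (g := g⁻¹) fun y => T3.conj_mem FM.t3_all (inv_mem hg))) (FM.src_k [(10,[])] (by decide +kernel)) [[(5,[])],[(6,[])],[(4,[])],[(3,[])],[(7,[])],[(2,[])],[(1,[])],[(8,[])],[(0,[])]] 6 [(6,[])] (by decide +kernel) (List.forall_mem_cons.2 ⟨((r4_23_19 F ).mono (by decide +kernel)), (List.forall_mem_nil _)⟩)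

theorem r4_23_21 {G : Type u} [Group G] (F : FM P23 G) : F.Pd (FM.VK (F.S P23.all) 4) (FM.RQ (PL (F.S P23.all) 3)) (bits []) :=
  FM.Pd.br (FM.ivtK FM.t3_all 4 (fun g hg x h => by simpa [mul_assoc] using h.conj (g := g⁻¹) fun y => T3.conj_mem FM.t3_all (inv_mem hg))) (FM.src_k [] (by decide +kernel)) [[(9,[])],[(12,[])],[(8,[])],[(7,[])],[(10,[])],[(1,[])],[(11,[])]] 4 [(10,[])] (by decide +kernel) (List.forall_mem_cons.2 ⟨((r4_23_20 F ).mono (by decide +kernel)), (List.forall_mem_nil _)⟩)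

theorem r4_23 {G : Type u} [Group G] (F : FM P23 G) : ∀ g, Pr (F.S P23.all) 4 g → (PL (F.S P23.all) 3) g :=
  FM.prK (r4_23_21 F )

theorem cj1_23_22 {G : Type u} [Group G] (F : FM P23 G) : F.Pd (FM.VK (F.S P23.all) 1) (FM.RQ (fun g => IsConj g (F.ev (tws [(10,[])])))) (bits [0]) :=
  FM.Pd.leafK [(10,[])] (by decide +kernel) (IsConj.refl _)

theorem cj1_23_23 {G : Type u} [Group G] (F : FM P23 G) : F.Pd (FM.VK (F.S P23.all) 1) (FM.RQ (fun g => IsConj g (F.ev (tws [(10,[])])))) (bits []) :=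
  FM.Pd.br (FM.ivtK FM.t3_all 1 (fun g _ x h => (isConj_iff.2 ⟨g, rfl⟩).trans h)) (FM.src_k [] (by decide +kernel)) [[(9,[])],[(12,[])],[(8,[])],[(7,[])],[(10,[])],[(1,[])],[(11,[])]] 4 [(10,[])] (by decide +kernel) (List.forall_mem_cons.2 ⟨((cj1_23_22 F ).mono (by decide +kernel)), (List.forall_mem_nil _)⟩)

theorem cj1_23 {G : Type u} [Group G] (F : FM P23 G) : ∀ g, Pr (F.S P23.all) 1 g → (fun g => IsConj g (F.ev (tws [(10,[])]))) g :=
  FM.prK (cj1_23_23 F )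

theorem pr1_23 {G : Type u} [Group G] (F : FM P23 G) : Pr (F.S P23.all) 1 (F.ev (tws [(10,[])])) :=
  F.pr (qs := [(10,[])]) (by decide +kernel)

theorem fx1_23 {G : Type u} [Group G] (F : FM P23 G) : (Cm F.D (F.ev (tws [(10,[])]))).ncard = 3511 :=
  by rw [← F.S_fixM, F.ncard_S]; decide +kernel

theorem cj2_23_24 {G : Type u} [Group G] (F : FM P23 G) : F.Pd (FM.VK (F.S P23.all) 2) (FM.RQ (fun g => IsConj g (F.ev (tws [(10,[]),(6,[])])))) (bits [0,8000]) :=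
  FM.Pd.leafK [(10,[]),(6,[])] (by decide +kernel) (IsConj.refl _)

theorem cj2_23_25 {G : Type u} [Group G] (F : FM P23 G) : F.Pd (FM.VK (F.S P23.all) 2) (FM.RQ (fun g => IsConj g (F.ev (tws [(10,[]),(6,[])])))) (bits [0]) :=
  FM.Pd.br (FM.ivtK FM.t3_all 2 (fun g _ x h => (isConj_iff.2 ⟨g, rfl⟩).trans h)) (FM.src_k [(10,[])] (by decide +kernel)) [[(5,[])],[(6,[])],[(4,[])],[(3,[])],[(7,[])],[(2,[])],[(1,[])],[(8,[])],[(0,[])]] 6 [(6,[])] (by decide +kernel) (List.forall_mem_cons.2 ⟨((cj2_23_24 F ).mono (by decide +kernel)), (List.forall_mem_nil _)⟩)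

theorem cj2_23_26 {G : Type u} [Group G] (F : FM P23 G) : F.Pd (FM.VK (F.S P23.all) 2) (FM.RQ (fun g => IsConj g (F.ev (tws [(10,[]),(6,[])])))) (bits []) :=
  FM.Pd.br (FM.ivtK FM.t3_all 2 (fun g _ x h => (isConj_iff.2 ⟨g, rfl⟩).trans h)) (FM.src_k [] (by decide +kernel)) [[(9,[])],[(12,[])],[(8,[])],[(7,[])],[(10,[])],[(1,[])],[(11,[])]] 4 [(10,[])] (by decide +kernel) (List.forall_mem_cons.2 ⟨((cj2_23_25 F ).mono (by decide +kernel)), (List.forall_mem_nil _)⟩)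

theorem cj2_23 {G : Type u} [Group G] (F : FM P23 G) : ∀ g, Pr (F.S P23.all) 2 g → (fun g => IsConj g (F.ev (tws [(10,[]),(6,[])]))) g :=
  FM.prK (cj2_23_26 F )

theorem pr2_23 {G : Type u} [Group G] (F : FM P23 G) : Pr (F.S P23.all) 2 (F.ev (tws [(10,[]),(6,[])])) :=
  F.pr (qs := [(10,[]),(6,[])]) (by decide +kernel)

theorem fx2_23 {G : Type u} [Group G] (F : FM P23 G) : (Cm F.D (F.ev (tws [(10,[]),(6,[])]))).ncard = 695 :=
  by rw [← F.S_fixM, F.ncard_S]; decide +kernel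

theorem bad2_23 {G : Type u} [Group G] (F : FM P23 G) : Bad (F.ev (tws [(10,[]),(6,[])])) :=
  F.bad [9,5] 8001 8001 (by decide +kernel)

theorem cj3_23_27 {G : Type u} [Group G] (F : FM P23 G) : F.Pd (FM.VK (F.S P23.all) 3) (FM.RQ (fun g => IsConj g (F.ev (tws [(10,[]),(6,[]),(4,[])])))) (bits [0,8000,8002]) :=
  FM.Pd.leafK [(10,[]),(6,[]),(4,[])] (by decide +kernel) (IsConj.refl _)

theorem cj3_23_28 {G : Type u} [Group G] (F : FM P23 G) : F.Pd (FM.VK (F.S P23.all) 3) (FM.RQ (fun g => IsConj g (F.ev (tws [(10,[]),(6,[]),(4,[])])))) (bits [0,8000]) :=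
  FM.Pd.br (FM.ivtK FM.t3_all 3 (fun g _ x h => (isConj_iff.2 ⟨g, rfl⟩).trans h)) (FM.src_k [(10,[]),(6,[])] (by decide +kernel)) [[(3,[])],[(4,[])],[(7,[])],[(2,[])],[(1,[])],[(8,[])],[(0,[])],[(9,[12,11])]] 3 [(4,[])] (by decide +kernel) (List.forall_mem_cons.2 ⟨((cj3_23_27 F ).mono (by decide +kernel)), (List.forall_mem_nil _)⟩)

theorem cj3_23_29 {G : Type u} [Group G] (F : FM P23 G) : F.Pd (FM.VK (F.S P23.all) 3) (FM.RQ (fun g => IsConj g (F.ev (tws [(10,[]),(6,[]),(4,[])])))) (bits [0]) :=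
  FM.Pd.br (FM.ivtK FM.t3_all 3 (fun g _ x h => (isConj_iff.2 ⟨g, rfl⟩).trans h)) (FM.src_k [(10,[])] (by decide +kernel)) [[(5,[])],[(6,[])],[(4,[])],[(3,[])],[(7,[])],[(2,[])],[(1,[])],[(8,[])],[(0,[])]] 6 [(6,[])] (by decide +kernel) (List.forall_mem_cons.2 ⟨((cj3_23_28 F ).mono (by decide +kernel)), (List.forall_mem_nil _)⟩)

theorem cj3_23_30 {G : Type u} [Group G] (F : FM P23 G) : F.Pd (FM.VK (F.S P23.all) 3) (FM.RQ (fun g => IsConj g (F.ev (tws [(10,[]),(6,[]),(4,[])])))) (bits []) :=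
  FM.Pd.br (FM.ivtK FM.t3_all 3 (fun g _ x h => (isConj_iff.2 ⟨g, rfl⟩).trans h)) (FM.src_k [] (by decide +kernel)) [[(9,[])],[(12,[])],[(8,[])],[(7,[])],[(10,[])],[(1,[])],[(11,[])]] 4 [(10,[])] (by decide +kernel) (List.forall_mem_cons.2 ⟨((cj3_23_29 F ).mono (by decide +kernel)), (List.forall_mem_nil _)⟩)

theorem cj3_23 {G : Type u} [Group G] (F : FM P23 G) : ∀ g, Pr (F.S P23.all) 3 g → (fun g => IsConj g (F.ev (tws [(10,[]),(6,[]),(4,[])]))) g :=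
  FM.prK (cj3_23_30 F )

theorem pr3_23 {G : Type u} [Group G] (F : FM P23 G) : Pr (F.S P23.all) 3 (F.ev (tws [(10,[]),(6,[]),(4,[])])) :=
  F.pr (qs := [(10,[]),(6,[]),(4,[])]) (by decide +kernel)

theorem fx3_23 {G : Type u} [Group G] (F : FM P23 G) : (Cm F.D (F.ev (tws [(10,[]),(6,[]),(4,[])]))).ncard = 183 :=
  by rw [← F.S_fixM, F.ncard_S]; decide +kernel

theorem bad3_23 {G : Type u} [Group G] (F : FM P23 G) : Bad (F.ev (tws [(10,[]),(6,[]),(4,[])])) :=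
  F.bad [11,5] 29470 29470 (by decide +kernel)

theorem md23 {G : Type u} [Group G] (F : FM P23 G) : PL (F.S (P23.dpm P23.all (10,[]))) 7 (F.ev (tw (10,[]))) :=
  F.pl [(6,[]),(7,[]),(5,[12,9,6,12]),(0,[11,4,7,11,9]),(0,[11,2,4,11,9]),(0,[11,1,5,11,12])] (by decide +kernel)

theorem od23 {G : Type u} [Group G] (F : FM P23 G) : Pr (F.S (P23.dpm P23.all (10,[]))) 7 1 :=
  F.ev_one (w := tws [(6,[]),(4,[]),(0,[11,4,7,11,9]),(1,[11,0,7,11,3]),(4,[11,7,10,11,1]),(0,[11,2,4,11,9]),(0,[11,2,7,11,9])]) (by decide +kernel) ▸ F.pr (qs := [(6,[]),(4,[]),(0,[11,4,7,11,9]),(1,[11,0,7,11,3]),(4,[11,7,10,11,1]),(0,[11,2,4,11,9]),(0,[11,2,7,11,9])]) (by decide +kernel)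

end H7.T
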