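import Cfsg.Agent.H7.T.C24_1
import Cfsg.Agent.H7.FM5
set_option Elab.async false
set_option maxRecDepth 100000
set_option maxHeartbeats 0
namespace H7.T
universe u v

noncomputable def B24 : List Pc := [(10,[]),(0,[]),(2,[]),(4,[]),(7,[]),(6,[]),(3,[12,7,11,12]),(3,[12,5,7,12]),(2,[3,4,7,3]),(6,[12,7,11,12]),(1,[13,2,5,13,11]),(0,[12,6,10,12,3]),(2,[13,5,6,13,1]),(10,[11,13,2,5,13]),(0,[12,2,5,12,6,5]),(2,[12,6,5,12,3,11]),(2,[3,12,0,6,12,3]),(0,[13,1,5,9,11,13]),(3,[7,12,6,10,12,3]),(2,[3,12,6,10,12,3]),(0,[13,6,10,13,3,8]),(4,[12,6,7,12,10,11]),(3,[7,12,0,6,12,3]),(2,[13,8,12,1,10,13,3])]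
theorem ch_B24 : P24.chL B24 P24.all = true := by decide +kernel

theorem clq24_8 {G : Type u} [Group G] (F : FM P24 G) : F.Pd (FM.VC (F.S P24.all)) (FM.RC (F.S P24.all) (F.S (P24.bm B24))) (bits [0,8,34,167,169,646]) :=
  FM.Pd.br (FM.ivtC FM.t3_all _) (FM.src_c [(10,[]),(0,[]),(2,[]),(4,[]),(7,[]),(6,[])] (by decide +kernel)) [] 0 [] (by decide +kernel) (List.forall_mem_nil _)

theorem clq24_9 {G : Type u} [Group G] (F : FM P24 G) : F.Pd (FM.VC (F.S P24.all)) (FM.RC (F.S P24.all) (F.S (P24.bm B24))) (bits [0,8,34,167,169]) :=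
  FM.Pd.br (FM.ivtC FM.t3_all _) (FM.src_c [(10,[]),(0,[]),(2,[]),(4,[]),(7,[])] (by decide +kernel)) [[(9,[])],[(6,[])],[(6,[12,7,11,12])],[(5,[13,9,10,13])],[(0,[12,6,10,12,3])],[(2,[3,12,0,6,12,3])]] 2 [(6,[])] (by decide +kernel) (List.forall_mem_cons.2 ⟨((clq24_8 F ).mono (by decide +kernel)), (List.forall_mem_nil _)⟩)

theorem clq24_10 {G : Type u} [Group G] (F : FM P24 G) : F.Pd (FM.VC (F.S P24.all)) (FM.RC (F.S P24.all) (F.S (P24.bm B24))) (bits [0,8,34,167]) :=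
  FM.Pd.br (FM.ivtC FM.t3_all _) (FM.src_c [(10,[]),(0,[]),(2,[]),(4,[])] (by decide +kernel)) [[(8,[])],[(7,[])],[(3,[12,7,11,12])],[(3,[12,5,7,12])],[(6,[12,7,11,12])],[(9,[])],[(6,[])],[(5,[13,9,10,13])]] 2 [(7,[])] (by decide +kernel) (List.forall_mem_cons.2 ⟨((clq24_9 F ).mono (by decide +kernel)), (List.forall_mem_nil _)⟩)

theorem clq24_11 {G : Type u} [Group G] (F : FM P24 G) : F.Pd (FM.VC (F.S P24.all)) (FM.RC (F.S P24.all) (F.S (P24.bm B24))) (bits [0,8,34]) :=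
  FM.Pd.br (FM.ivtC FM.t3_all _) (FM.src_c [(10,[]),(0,[]),(2,[])] (by decide +kernel)) [[(5,[])],[(4,[])],[(6,[])],[(9,[])],[(3,[12,2,8,12])],[(7,[])]] 5 [(4,[])] (by decide +kernel) (List.forall_mem_cons.2 ⟨((clq24_10 F ).mono (by decide +kernel)), (List.forall_mem_nil _)⟩)

theorem clq24_12 {G : Type u} [Group G] (F : FM P24 G) : F.Pd (FM.VC (F.S P24.all)) (FM.RC (F.S P24.all) (F.S (P24.bm B24))) (bits [0,8]) :=
  FM.Pd.br (FM.ivtC FM.t3_all _) (FM.src_c [(10,[]),(0,[])] (by decide +kernel)) [[(3,[])],[(2,[])],[(4,[])],[(7,[])],[(5,[])],[(8,[])],[(1,[12,13,11])]] 4 [(2,[])] (by decide +kernel) (List.forall_mem_cons.2 ⟨((clq24_11 F ).mono (by decide +kernel)), (List.forall_mem_nil _)⟩)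

theorem clq24_13 {G : Type u} [Group G] (F : FM P24 G) : F.Pd (FM.VC (F.S P24.all)) (FM.RC (F.S P24.all) (F.S (P24.bm B24))) (bits [0]) :=
  FM.Pd.br (FM.ivtC FM.t3_all _) (FM.src_c [(10,[])] (by decide +kernel)) [[(0,[1])],[(0,[])],[(1,[2])],[(3,[])],[(4,[5])],[(6,[])],[(7,[])],[(8,[13,12])]] 4 [(0,[])] (by decide +kernel) (List.forall_mem_cons.2 ⟨((clq24_12 F ).mono (by decide +kernel)), (List.forall_mem_nil _)⟩)

theorem clq24_14 {G : Type u} [Group G] (F : FM P24 G) : F.Pd (FM.VC (F.S P24.all)) (FM.RC (F.S P24.all) (F.S (P24.bm B24))) (bits []) :=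
  FM.Pd.br (FM.ivtC FM.t3_all _) (FM.src_c [] (by decide +kernel)) [[(12,[])],[(8,[])],[(7,[])],[(6,[])],[(4,[])],[(0,[])],[(5,[])],[(13,[])]] 4 [(10,[])] (by decide +kernel) (List.forall_mem_cons.2 ⟨((clq24_13 F ).mono (by decide +kernel)), (List.forall_mem_nil _)⟩)

theorem clq24 {G : Type u} [Group G] (F : FM P24 G) : F.Pd (FM.VC (F.S P24.all)) (FM.RC (F.S P24.all) (F.S (P24.bm B24))) 0 :=
  clq24_14 F

theorem cj1_24_16 {G : Type u} [Group G] (F : FM P24 G) : F.Pd (FM.VK (F.S P24.all) 1) (FM.RQ (fun g => IsConj g (F.ev (tws [(10,[])])))) (bits [0]) :=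
  FM.Pd.leafK [(10,[])] (by decide +kernel) (IsConj.refl _)

theorem cj1_24_17 {G : Type u} [Group G] (F : FM P24 G) : F.Pd (FM.VK (F.S P24.all) 1) (FM.RQ (fun g => IsConj g (F.ev (tws [(10,[])])))) (bits []) :=
  FM.Pd.br (FM.ivtK FM.t3_all 1 (fun g _ x h => (isConj_iff.2 ⟨g, rfl⟩).trans h)) (FM.src_k [] (by decide +kernel)) [[(13,[])],[(9,[])],[(4,[])],[(6,[])],[(8,[])],[(7,[])],[(2,[])],[(0,[])]] 5 [(10,[])] (by decide +kernel) (List.forall_mem_cons.2 ⟨((cj1_24_16 F ).mono (by decide +kernel)), (List.forall_mem_nil _)⟩)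

theorem cj1_24 {G : Type u} [Group G] (F : FM P24 G) : ∀ g, Pr (F.S P24.all) 1 g → (fun g => IsConj g (F.ev (tws [(10,[])]))) g :=
  FM.prK (cj1_24_17 F )

theorem pr1_24 {G : Type u} [Group G] (F : FM P24 G) : Pr (F.S P24.all) 1 (F.ev (tws [(10,[])])) :=
  F.pr (qs := [(10,[])]) (by decide +kernel)

theorem fx1_24 {G : Type u} [Group G] (F : FM P24 G) : (Cm F.D (F.ev (tws [(10,[])]))).ncard = 31672 :=
  by rw [← F.S_fixM, F.ncard_S]; decide +kernel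

theorem cj2_24_19 {G : Type u} [Group G] (F : FM P24 G) : F.Pd (FM.VK (F.S P24.all) 2) (FM.RQ (fun g => IsConj g (F.ev (tws [(10,[]),(0,[])])))) (bits [0,8]) :=
  FM.Pd.leafK [(10,[]),(0,[])] (by decide +kernel) (IsConj.refl _)

theorem cj2_24_20 {G : Type u} [Group G] (F : FM P24 G) : F.Pd (FM.VK (F.S P24.all) 2) (FM.RQ (fun g => IsConj g (F.ev (tws [(10,[]),(0,[])])))) (bits [0]) :=
  FM.Pd.br (FM.ivtK FM.t3_all 2 (fun g _ x h => (isConj_iff.2 ⟨g, rfl⟩).trans h)) (FM.src_k [(10,[])] (by decide +kernel)) [[(8,[13,12])],[(9,[])],[(0,[])],[(6,[])],[(5,[])],[(4,[])],[(3,[])]] 5 [(0,[])] (by decide +kernel) (List.forall_mem_cons.2 ⟨((cj2_24_19 F ).mono (by decide +kernel)), (List.forall_mem_nil _)⟩)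

theorem cj2_24_21 {G : Type u} [Group G] (F : FM P24 G) : F.Pd (FM.VK (F.S P24.all) 2) (FM.RQ (fun g => IsConj g (F.ev (tws [(10,[]),(0,[])])))) (bits []) :=
  FM.Pd.br (FM.ivtK FM.t3_all 2 (fun g _ x h => (isConj_iff.2 ⟨g, rfl⟩).trans h)) (FM.src_k [] (by decide +kernel)) [[(13,[])],[(9,[])],[(4,[])],[(6,[])],[(8,[])],[(7,[])],[(2,[])],[(0,[])]] 5 [(10,[])] (by decide +kernel) (List.forall_mem_cons.2 ⟨((cj2_24_20 F ).mono (by decide +kernel)), (List.forall_mem_nil _)⟩)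

theorem cj2_24 {G : Type u} [Group G] (F : FM P24 G) : ∀ g, Pr (F.S P24.all) 2 g → (fun g => IsConj g (F.ev (tws [(10,[]),(0,[])]))) g :=
  FM.prK (cj2_24_21 F )

theorem pr2_24 {G : Type u} [Group G] (F : FM P24 G) : Pr (F.S P24.all) 2 (F.ev (tws [(10,[]),(0,[])])) :=
  F.pr (qs := [(10,[]),(0,[])]) (by decide +kernel)

theorem fx2_24 {G : Type u} [Group G] (F : FM P24 G) : (Cm F.D (F.ev (tws [(10,[]),(0,[])]))).ncard = 3512 :=
  by rw [← F.S_fixM, F.ncard_S]; decide +kernel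

theorem bad2_24 {G : Type u} [Group G] (F : FM P24 G) : Bad (F.ev (tws [(10,[]),(0,[])])) :=
  F.bad [13,1] 16 16 (by decide +kernel)

theorem cj3_24_23 {G : Type u} [Group G] (F : FM P24 G) : F.Pd (FM.VK (F.S P24.all) 3) (FM.RQ (fun g => IsConj g (F.ev (tws [(10,[]),(0,[]),(2,[])])))) (bits [0,8,34]) :=
  FM.Pd.leafK [(10,[]),(0,[]),(2,[])] (by decide +kernel) (IsConj.refl _)

theorem cj3_24_24 {G : Type u} [Group G] (F : FM P24 G) : F.Pd (FM.VK (F.S P24.all) 3) (FM.RQ (fun g => IsConj g (F.ev (tws [(10,[]),(0,[]),(2,[])])))) (bits [0,8]) :=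
  FM.Pd.br (FM.ivtK FM.t3_all 3 (fun g _ x h => (isConj_iff.2 ⟨g, rfl⟩).trans h)) (FM.src_k [(10,[]),(0,[])] (by decide +kernel)) [[(3,[])],[(2,[])],[(4,[])],[(7,[])],[(5,[])],[(8,[])],[(1,[12,13,11])]] 4 [(2,[])] (by decide +kernel) (List.forall_mem_cons.2 ⟨((cj3_24_23 F ).mono (by decide +kernel)), (List.forall_mem_nil _)⟩)

theorem cj3_24_25 {G : Type u} [Group G] (F : FM P24 G) : F.Pd (FM.VK (F.S P24.all) 3) (FM.RQ (fun g => IsConj g (F.ev (tws [(10,[]),(0,[]),(2,[])])))) (bits [0]) :=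
  FM.Pd.br (FM.ivtK FM.t3_all 3 (fun g _ x h => (isConj_iff.2 ⟨g, rfl⟩).trans h)) (FM.src_k [(10,[])] (by decide +kernel)) [[(8,[13,12])],[(9,[])],[(0,[])],[(6,[])],[(5,[])],[(4,[])],[(3,[])]] 5 [(0,[])] (by decide +kernel) (List.forall_mem_cons.2 ⟨((cj3_24_24 F ).mono (by decide +kernel)), (List.forall_mem_nil _)⟩)

theorem cj3_24_26 {G : Type u} [Group G] (F : FM P24 G) : F.Pd (FM.VK (F.S P24.all) 3) (FM.RQ (fun g => IsConj g (F.ev (tws [(10,[]),(0,[]),(2,[])])))) (bits []) :=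
  FM.Pd.br (FM.ivtK FM.t3_all 3 (fun g _ x h => (isConj_iff.2 ⟨g, rfl⟩).trans h)) (FM.src_k [] (by decide +kernel)) [[(13,[])],[(9,[])],[(4,[])],[(6,[])],[(8,[])],[(7,[])],[(2,[])],[(0,[])]] 5 [(10,[])] (by decide +kernel) (List.forall_mem_cons.2 ⟨((cj3_24_25 F ).mono (by decide +kernel)), (List.forall_mem_nil _)⟩)

theorem cj3_24 {G : Type u} [Group G] (F : FM P24 G) : ∀ g, Pr (F.S P24.all) 3 g → (fun g => IsConj g (F.ev (tws [(10,[]),(0,[]),(2,[])]))) g :=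
  FM.prK (cj3_24_26 F )

theorem pr3_24 {G : Type u} [Group G] (F : FM P24 G) : Pr (F.S P24.all) 3 (F.ev (tws [(10,[]),(0,[]),(2,[])])) :=
  F.pr (qs := [(10,[]),(0,[]),(2,[])]) (by decide +kernel)

theorem fx3_24 {G : Type u} [Group G] (F : FM P24 G) : (Cm F.D (F.ev (tws [(10,[]),(0,[]),(2,[])]))).ncard = 696 :=
  by rw [← F.S_fixM, F.ncard_S]; decide +kernel

theorem bad3_24 {G : Type u} [Group G] (F : FM P24 G) : Bad (F.ev (tws [(10,[]),(0,[]),(2,[])])) :=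
  F.bad [12,13] 283774 283774 (by decide +kernel)

theorem cj4_24_28 {G : Type u} [Group G] (F : FM P24 G) : F.Pd (FM.VK (F.S P24.all) 4) (FM.RQ (fun g => IsConj g (F.ev (tws [(10,[]),(0,[]),(2,[]),(4,[])])))) (bits [0,8,34,167]) :=
  FM.Pd.leafK [(10,[]),(0,[]),(2,[]),(4,[])] (by decide +kernel) (IsConj.refl _)

theorem cj4_24_29 {G : Type u} [Group G] (F : FM P24 G) : F.Pd (FM.VK (F.S P24.all) 4) (FM.RQ (fun g => IsConj g (F.ev (tws [(10,[]),(0,[]),(2,[]),(4,[])])))) (bits [0,8,34]) :=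
  FM.Pd.br (FM.ivtK FM.t3_all 4 (fun g _ x h => (isConj_iff.2 ⟨g, rfl⟩).trans h)) (FM.src_k [(10,[]),(0,[]),(2,[])] (by decide +kernel)) [[(5,[])],[(6,[])],[(4,[])],[(9,[])],[(8,[])],[(3,[12,2,8,12])]] 5 [(4,[])] (by decide +kernel) (List.forall_mem_cons.2 ⟨((cj4_24_28 F ).mono (by decide +kernel)), (List.forall_mem_nil _)⟩)

theorem cj4_24_30 {G : Type u} [Group G] (F : FM P24 G) : F.Pd (FM.VK (F.S P24.all) 4) (FM.RQ (fun g => IsConj g (F.ev (tws [(10,[]),(0,[]),(2,[]),(4,[])])))) (bits [0,8]) :=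
  FM.Pd.br (FM.ivtK FM.t3_all 4 (fun g _ x h => (isConj_iff.2 ⟨g, rfl⟩).trans h)) (FM.src_k [(10,[]),(0,[])] (by decide +kernel)) [[(3,[])],[(2,[])],[(4,[])],[(7,[])],[(5,[])],[(8,[])],[(1,[12,13,11])]] 4 [(2,[])] (by decide +kernel) (List.forall_mem_cons.2 ⟨((cj4_24_29 F ).mono (by decide +kernel)), (List.forall_mem_nil _)⟩)

theorem cj4_24_31 {G : Type u} [Group G] (F : FM P24 G) : F.Pd (FM.VK (F.S P24.all) 4) (FM.RQ (fun g => IsConj g (F.ev (tws [(10,[]),(0,[]),(2,[]),(4,[])])))) (bits [0]) :=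
  FM.Pd.br (FM.ivtK FM.t3_all 4 (fun g _ x h => (isConj_iff.2 ⟨g, rfl⟩).trans h)) (FM.src_k [(10,[])] (by decide +kernel)) [[(8,[13,12])],[(9,[])],[(0,[])],[(6,[])],[(5,[])],[(4,[])],[(3,[])]] 5 [(0,[])] (by decide +kernel) (List.forall_mem_cons.2 ⟨((cj4_24_30 F ).mono (by decide +kernel)), (List.forall_mem_nil _)⟩)

theorem cj4_24_32 {G : Type u} [Group G] (F : FM P24 G) : F.Pd (FM.VK (F.S P24.all) 4) (FM.RQ (fun g => IsConj g (F.ev (tws [(10,[]),(0,[]),(2,[]),(4,[])])))) (bits []) :=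
  FM.Pd.br (FM.ivtK FM.t3_all 4 (fun g _ x h => (isConj_iff.2 ⟨g, rfl⟩).trans h)) (FM.src_k [] (by decide +kernel)) [[(13,[])],[(9,[])],[(4,[])],[(6,[])],[(8,[])],[(7,[])],[(2,[])],[(0,[])]] 5 [(10,[])] (by decide +kernel) (List.forall_mem_cons.2 ⟨((cj4_24_31 F ).mono (by decide +kernel)), (List.forall_mem_nil _)⟩)

theorem cj4_24 {G : Type u} [Group G] (F : FM P24 G) : ∀ g, Pr (F.S P24.all) 4 g → (fun g => IsConj g (F.ev (tws [(10,[]),(0,[]),(2,[]),(4,[])]))) g :=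
  FM.prK (cj4_24_32 F )

theorem pr4_24 {G : Type u} [Group G] (F : FM P24 G) : Pr (F.S P24.all) 4 (F.ev (tws [(10,[]),(0,[]),(2,[]),(4,[])])) :=
  F.pr (qs := [(10,[]),(0,[]),(2,[]),(4,[])]) (by decide +kernel)

theorem fx4_24 {G : Type u} [Group G] (F : FM P24 G) : (Cm F.D (F.ev (tws [(10,[]),(0,[]),(2,[]),(4,[])]))).ncard = 504 :=
  by rw [← F.S_fixM, F.ncard_S]; decide +kernel

theorem bad4_24 {G : Type u} [Group G] (F : FM P24 G) : Bad (F.ev (tws [(10,[]),(0,[]),(2,[]),(4,[])])) :=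
  F.bad [13,5] 81 220532 (by decide +kernel)

theorem md24 {G : Type u} [Group G] (F : FM P24 G) : PL (F.S (P24.dpm P24.all (10,[]))) 7 (F.ev (tw (10,[]))) :=
  F.pl [(0,[]),(2,[]),(4,[]),(7,[]),(3,[12,7,11,12]),(3,[12,5,7,12]),(2,[3,4,7,3])] (by decide +kernel)

end H7.T
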