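import Cfsg.Agent.H7.T.F3_4
import Cfsg.Agent.H7.T.F3_5
import Cfsg.Agent.H7.T.F3_6
import Cfsg.Agent.H7.T.F3_7
set_option Elab.async false
set_option maxRecDepth 100000
set_option maxHeartbeats 0
namespace H7.T
universe u v

theorem r_YR_0 : Run.{u} 306936 N_F24 R_YR 0 (bit 0) (mkK 306936 (bit 0) [0,1,2,3,4,5,6,7,8,9,10]) D_YR_0 K_YR_0 := (Run.of_cert ok_F24 (by decide +kernel) inv_YR hh_YR e_YR_0 0)

theorem r_YR_1 : Run.{u} 306936 N_F24 R_YR 0 (bit 0) (mkK 306936 (bit 0) [0,1,2,3,4,5,6,7,8,9,10]) D_YR_1 K_YR_1 := r_YR_0.trans (Run.of_cert ok_F24 (by decide +kernel) inv_YR hh_YR e_YR_1 0)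

theorem r_YR_2 : Run.{u} 306936 N_F24 R_YR 0 (bit 0) (mkK 306936 (bit 0) [0,1,2,3,4,5,6,7,8,9,10]) D_YR_2 K_YR_2 := r_YR_1.trans (Run.of_cert ok_F24 (by decide +kernel) inv_YR hh_YR e_YR_2 0)

theorem r_YR_3 : Run.{u} 306936 N_F24 R_YR 0 (bit 0) (mkK 306936 (bit 0) [0,1,2,3,4,5,6,7,8,9,10]) D_YR_3 K_YR_3 := r_YR_2.trans (Run.of_cert ok_F24 (by decide +kernel) inv_YR hh_YR e_YR_3 0)

theorem r_YR_4 : Run.{u} 306936 N_F24 R_YR 0 (bit 0) (mkK 306936 (bit 0) [0,1,2,3,4,5,6,7,8,9,10]) D_YR_4 K_YR_4 := r_YR_3.trans (Run.of_cert ok_F24 (by decide +kernel) inv_YR hh_YR e_YR_4 0)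

theorem r_YR_5 : Run.{u} 306936 N_F24 R_YR 0 (bit 0) (mkK 306936 (bit 0) [0,1,2,3,4,5,6,7,8,9,10]) D_YR_5 K_YR_5 := r_YR_4.trans (Run.of_cert ok_F24 (by decide +kernel) inv_YR hh_YR e_YR_5 0)

theorem r_YR_6 : Run.{u} 306936 N_F24 R_YR 0 (bit 0) (mkK 306936 (bit 0) [0,1,2,3,4,5,6,7,8,9,10]) D_YR_6 K_YR_6 := r_YR_5.trans (Run.of_cert ok_F24 (by decide +kernel) inv_YR hh_YR e_YR_6 0)

theorem r_YR_7 : Run.{u} 306936 N_F24 R_YR 0 (bit 0) (mkK 306936 (bit 0) [0,1,2,3,4,5,6,7,8,9,10]) D_YR_7 K_YR_7 := r_YR_6.trans (Run.of_cert ok_F24 (by decide +kernel) inv_YR hh_YR e_YR_7 0)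

theorem r_YR_8 : Run.{u} 306936 N_F24 R_YR 0 (bit 0) (mkK 306936 (bit 0) [0,1,2,3,4,5,6,7,8,9,10]) D_YR_8 K_YR_8 := r_YR_7.trans (Run.of_cert ok_F24 (by decide +kernel) inv_YR hh_YR e_YR_8 0)

theorem r_YR_9 : Run.{u} 306936 N_F24 R_YR 0 (bit 0) (mkK 306936 (bit 0) [0,1,2,3,4,5,6,7,8,9,10]) D_YR_9 K_YR_9 := r_YR_8.trans (Run.of_cert ok_F24 (by decide +kernel) inv_YR hh_YR e_YR_9 0)

theorem r_YR_10 : Run.{u} 306936 N_F24 R_YR 0 (bit 0) (mkK 306936 (bit 0) [0,1,2,3,4,5,6,7,8,9,10]) (ones 306936) (mkK 306936 (ones 306936) [0,1,2,3,4,5,6,7,8,9,10,11]) := r_YR_9.trans (Run.of_cert ok_F24 (by decide +kernel) inv_YR hh_YR e_YR_10 0)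

theorem ui_YR : UI.{u} R_YR [0,1,2,3,4,5,6,7,8,9,10,11] (sing [0,1,2,3,4,5,6,7,8,9,10]) 306936 :=
  UI.of_run (kp := 16) (O := (ones 306936)) ok_F24 (by decide +kernel) rels_YR r_YR_10 (by decide +kernel)

theorem ub_YR0 : UB.{u} R_YR [0,1,2,3,4,5,6,7,8,9,10] 8178940946586009600 :=
  UI.redundant (UI.ren (S := [0,1,2,3,4,5,6,7,8,9]) (W := []) ub_YD imp_YR_YD_7302 (by decide +kernel) rfl) (by decide +kernel) [(0,78,0)] (by decide +kernel)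
theorem ub_YR : UB.{u} R_YR [0,1,2,3,4,5,6,7,8,9,10,11] 2510411418381323442585600 := (ui_YR.mul ub_YR0 (by decide +kernel) (by decide +kernel)).le (by decide +kernel)

end H7.T
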