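import Cfsg.Agent.H7.FM15
set_option Elab.async false
set_option maxRecDepth 100000
set_option maxHeartbeats 0
namespace H7.T
universe u v

noncomputable def mA22 : ℕ := (nat_lit 0x200000000000000000000000000000000000000000004240000000000000000000000100000000000000001094a0000000000000000000000000c0000000002112d800000000000000000000000001e00000012df000000000000020004a0000000e00002ff8000000004007002f0000018003ff0000000380181e0000401f80000030043800101c00000808c0002000020080000004000000030000001f000007c0001f000c010000)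

noncomputable def o_A22_0 : ℕ := (nat_lit 0x200000000000000000000000000000000000000000004240000000000000000000000100000000000000001094a0000000000000000000000000c0000000002112d800000000000000000000000001e00000012df000000000000020004a0000000e00002ff8000000004007002f0000018003ff0000000380181e0000401f80000030043800101c00000808c0002000020080000004000000030000001f000007c0001f000c010000)

theorem mv_A22_0 : P22.mvOK [] (3,[]) (mapL tws [[(3,[])],[(4,[])],[(7,[])],[(5,[])],[(8,[])],[(6,[])],[(4,[5])],[(7,[8])],[(3,[11,12])]]) 2 o_A22_0 = true := by decide +kernel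
theorem sz_A22_0 : P22.szOK (3,[]) o_A22_0 126 = true := by decide +kernel

noncomputable def o_A22_1 : ℕ := (nat_lit 0x42000000000000000000000001000000000000000010848000000000000000000000000080000000000012d800000000000000000000000000400000000df00000000000002000020000000a00000de8000000004005000c0000018003bd0000000280181c0000401d80000030043800000800000800400000000000000000000000000000000002000004c0001b000c000000)

theorem mv_A22_1 : P22.mvOK [(3,[])] (4,[]) (mapL tws [[(3,[])],[(5,[])],[(8,[])],[(6,[])],[(3,[4,7])],[(0,[12,4,10,12])]]) 4 o_A22_1 = true := by decide +kernel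
theorem sz_A22_1 : P22.szOK (4,[]) o_A22_1 80 = true := by decide +kernel

noncomputable def o_A22_2 : ℕ := bits [42,65,88,120,193,235,266,276,337,369,425,430,473,477,540,545,549,603,685,688,717,719,840,845,886,989,996]

theorem mv_A22_2 : P22.mvOK [(4,[]),(3,[])] (5,[]) (mapL tws [[(8,[])],[(6,[])],[(3,[4,5,7])],[(0,[12,4,10,12])]]) 4 o_A22_2 = true := by decide +kernel
theorem sz_A22_2 : P22.szOK (5,[]) o_A22_2 27 = true := by decide +kernel

noncomputable def o_A22_3 : ℕ := bits [64,91,154,213,268,392,472,489,570,606,720,1166]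

theorem mv_A22_3 : P22.mvOK [(5,[]),(4,[]),(3,[])] (6,[]) (mapL tws [[(8,[])],[(3,[4,5,6,7])],[(0,[12,4,10,12])]]) 2 o_A22_3 = true := by decide +kernel
theorem sz_A22_3 : P22.szOK (6,[]) o_A22_3 12 = true := by decide +kernel

noncomputable def o_A22_4 : ℕ := bits [90,121]

theorem mv_A22_4 : P22.mvOK [(6,[]),(5,[]),(4,[]),(3,[])] (3,[4,5,6,7]) (mapL tws [[(8,[])]]) 1 o_A22_4 = true := by decide +kernel
theorem sz_A22_4 : P22.szOK (3,[4,5,6,7]) o_A22_4 2 = true := by decide +kernel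

theorem lb_A22 {G : Type u} [Group G] (F : FM P22 G) : 6531840 ≤ Nat.card (Subgroup.closure (F.S mA22)) :=
  (by have h := (((Nat.mul_le_mul_left 126 (((Nat.mul_le_mul_left 80 (((Nat.mul_le_mul_left 27 (((Nat.mul_le_mul_left 12 (((Nat.mul_le_mul_left 2 ((have := F.fin; Nat.card_pos) : 1 ≤ _)).trans (FM.pst_ge mv_A22_4 (FM.tws_mem' (by decide +kernel)) sz_A22_4)) : 2 ≤ _)).trans (FM.pst_ge mv_A22_3 (FM.tws_mem' (by decide +kernel)) sz_A22_3)) : 24 ≤ _)).trans (FM.pst_ge mv_A22_2 (FM.tws_mem' (by decide +kernel)) sz_A22_2)) : 648 ≤ _)).trans (FM.pst_ge mv_A22_1 (FM.tws_mem' (by decide +kernel)) sz_A22_1)) : 51840 ≤ _)).trans (FM.pst_ge mv_A22_0 (FM.tws_mem' (by decide +kernel)) sz_A22_0)) : 6531840 ≤ Nat.card (F.PS (Subgroup.closure (F.S mA22)) [])); rw [FM.PS_nil] at h; exact h)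

noncomputable def m_A22_1 : ℕ := bits [0,2,16,40,43,88,92,543]

theorem fx_A22_2 {G : Type u} [Group G] (F : FM P22 G) : F.Fx (F.PS (F.PS ⊤ [(1,[]),(0,[])]) [(4,[]),(3,[]),(7,[]),(5,[]),(8,[]),(3,[11,12])]) m_A22_1 :=
  (FM.Fx.lor (FM.Fx.ps (qs := [(4,[]),(3,[]),(7,[]),(5,[]),(8,[]),(3,[11,12])]) (by decide +kernel)) ((FM.Fx.ps (H := ⊤) (qs := [(1,[]),(0,[])]) (by decide +kernel)).mono inf_le_left)).le (by decide +kernel)

noncomputable def m_A22_3 : ℕ := (nat_lit 0x200000000000000000000000000000000000000000004240000000000000000000000100000000000000001094a0000000000000000000000000c0000000002112d800000000000000000000000001e00000012df000000000000020004a0000000e00002ff8000000004007002f0000018003ff0000000380181e0000401f80000030043800101c00000808c0002000020080000004000000030000001f000007c0001f000c010007)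

theorem fx_A22_4 {G : Type u} [Group G] (F : FM P22 G) : F.Fx (F.PS (F.PS ⊤ [(1,[]),(0,[])]) [(4,[]),(3,[]),(7,[]),(5,[]),(8,[]),(3,[11,12])]) m_A22_3 :=
  ((fx_A22_2 F).orb [(0,[]),(3,[]),(4,[]),(7,[]),(5,[]),(8,[]),(3,[11,12])] (by decide +kernel) 3).le (by decide +kernel)

noncomputable def m_A22_5 : ℕ := bits [248]

theorem i_A22_6 {G : Type u} [Group G] (F : FM P22 G) : F.Inv (F.PS (F.PS ⊤ [(1,[]),(0,[])]) [(4,[]),(3,[]),(7,[]),(5,[]),(8,[]),(3,[11,12])]) m_A22_5 :=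
  (FM.Fx.pat (fx_A22_4 F) FM.Inv.all [(0,[]),(3,[]),(4,[]),(7,[]),(5,[]),(8,[])] [(6,[])] (by decide +kernel)).eq (by decide +kernel)

noncomputable def m_A22_7 : ℕ := (nat_lit 0x200000000000000000000000000000000000000000004240000000000000000000000100000000000000001094a0000000000000000000000000c0000000002112d800000000000000000000000001e00000012df000000000000020004a0000000e00002ff8000000004007002f0000018003ff0000000380181e0000401f80000030043800101c00010808c0002000020080000004000000030000001f000007c0001f000c010007)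

theorem fx_A22_8 {G : Type u} [Group G] (F : FM P22 G) : F.Fx (F.PS (F.PS ⊤ [(1,[]),(0,[])]) [(4,[]),(3,[]),(7,[]),(5,[]),(8,[]),(3,[11,12])]) m_A22_7 :=
  (FM.Fx.lor (fx_A22_4 F) (FM.Fx.one (i_A22_6 F) (by decide +kernel))).le (by decide +kernel)

noncomputable def m_A22_9 : ℕ := (nat_lit 0x200000000000000000000000000000000000000000004240000000000000000000000100000000000000001094a0000000000000000000000000c0000000002112d800000000000000000000000001e00000012df000000000000020004a0000000e00002ff8000000004007402f0000018003ff0000000380181e0000401f80000030043800101c00010808c0002000020080000004000000030000001f000047c0001f001c010067)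

theorem fx_A22_10 {G : Type u} [Group G] (F : FM P22 G) : F.Fx (F.PS (F.PS ⊤ [(1,[]),(0,[])]) [(4,[]),(3,[]),(7,[]),(5,[]),(8,[]),(3,[11,12])]) m_A22_9 :=
  ((fx_A22_8 F).orb [(1,[]),(0,[]),(6,[]),(5,[]),(4,[]),(3,[]),(7,[]),(3,[11,12])] (by decide +kernel) 4).le (by decide +kernel)

theorem bot_A22_11 {G : Type u} [Group G] (F : FM P22 G) : (F.PS (F.PS ⊤ [(1,[]),(0,[])]) [(4,[]),(3,[]),(7,[]),(5,[]),(8,[]),(3,[11,12])]) = ⊥ :=
  (fx_A22_10 F).bot (by decide +kernel)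

theorem th_A22 {G : Type u} [Group G] (F : FM P22 G) : F.D ∩ Subgroup.centralizer (Subgroup.zpowers (F.e (0,[]) * F.e (1,[])) : Set G) = F.S mA22 ∧ {y | y ∈ F.D ∧ Commute (F.e (0,[])) y ∧ Commute (F.e (1,[])) y ∧ y ≠ F.e (0,[]) ∧ y ≠ F.e (1,[])} = F.S mA22 ∧ Dp F.D (F.e (0,[])) ∩ Dp F.D (F.e (1,[])) = F.S mA22 ∧ Subgroup.closure (F.S mA22) = Subgroup.centralizer {F.e (0,[]), F.e (1,[])} ∧ Subgroup.center (Subgroup.closure (F.S mA22)) = ⊥ ∧ Subgroup.closure {F.e (0,[]), F.e (1,[])} ⊓ Subgroup.centralizer {F.e (0,[]), F.e (1,[])} = ⊥ ∧ (∀ x ∈ Subgroup.closure {F.e (0,[]), F.e (1,[])}, ∀ y ∈ Subgroup.centralizer {F.e (0,[]), F.e (1,[])}, x * y = y * x) ∧ Subgroup.closure {F.e (0,[]), F.e (1,[])} ⊔ Subgroup.centralizer {F.e (0,[]), F.e (1,[])} = Subgroup.normalizer (Subgroup.zpowers (F.e (0,[]) * F.e (1,[])) : Set G) ∧ Nonempty (Subgroup.closure {F.e (0,[]), F.e (1,[])} ≃* Equiv.Perm (Fin 3)) :=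
  FM.three_a (gs := [(4,[]),(3,[]),(7,[]),(5,[]),(8,[]),(3,[11,12])]) (r := 4) (by decide +kernel) ((cdn_22 F).le.trans (lb_A22 F)) (bot_A22_11 F)

theorem t3_A22 {G : Type u} [Group G] (F : FM P22 G) : T3 (F.S mA22) :=
  by rw [← FM.S_eq (a := P22.cmL P22.all [(1,[]),(0,[])]) (b := mA22) (by decide +kernel)]; exact F.t3_cmL F.t3_all (by decide +kernel)

theorem tr_A22 {G : Type u} [Group G] (F : FM P22 G) : Tr2 (F.S mA22) :=
  F.tr2 (t3_A22 F) (3,[]) (4,[]) [(4,[]),(3,[]),(7,[]),(5,[]),(8,[]),(3,[11,12])] [(5,[]),(6,[]),(3,[4,7]),(8,[]),(0,[12,4,10,12])] 4 6 (by decide +kernel)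

theorem nk_A22_8 {G : Type u} [Group G] (F : FM P22 G) : F.Pd (FM.VK (F.S mA22) 7) (FM.RQ (fun _ => False)) (bits [16,88,92,276,717,1349]) :=
  FM.Pd.br (FM.ivtK (t3_A22 F) 7 (fun _ _ _ h => h)) (FM.src_k [(3,[]),(5,[]),(8,[]),(0,[11,1,4,11]),(6,[12,11,1,9]),(2,[11,9,12,1,9])] (by decide +kernel)) [] 0 [] (by decide +kernel) (List.forall_mem_nil _)

theorem nk_A22_9 {G : Type u} [Group G] (F : FM P22 G) : F.Pd (FM.VK (F.S mA22) 7) (FM.RQ (fun _ => False)) (bits [16,88,92,276,717]) :=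
  FM.Pd.br (FM.ivtK (t3_A22 F) 7 (fun _ _ _ h => h)) (FM.src_k [(3,[]),(5,[]),(8,[]),(0,[11,1,4,11]),(6,[12,11,1,9])] (by decide +kernel)) [] 0 [(2,[11,9,12,1,9])] (by decide +kernel) (List.forall_mem_cons.2 ⟨((nk_A22_8 F ).mono (by decide +kernel)), (List.forall_mem_nil _)⟩)

theorem nk_A22_11 {G : Type u} [Group G] (F : FM P22 G) : F.Pd (FM.VK (F.S mA22) 7) (FM.RQ (fun _ => False)) (bits [16,88,92,276,1349]) :=
  FM.Pd.br (FM.ivtK (t3_A22 F) 7 (fun _ _ _ h => h)) (FM.src_k [(3,[]),(5,[]),(8,[]),(0,[11,1,4,11]),(2,[11,9,12,1,9])] (by decide +kernel)) [] 0 [(6,[12,11,1,9])] (by decide +kernel) (List.forall_mem_cons.2 ⟨((nk_A22_8 F ).mono (by decide +kernel)), (List.forall_mem_nil _)⟩)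

theorem nk_A22_12 {G : Type u} [Group G] (F : FM P22 G) : F.Pd (FM.VK (F.S mA22) 7) (FM.RQ (fun _ => False)) (bits [16,88,92,276]) :=
  FM.Pd.br (FM.ivtK (t3_A22 F) 7 (fun _ _ _ h => h)) (FM.src_k [(3,[]),(5,[]),(8,[]),(0,[11,1,4,11])] (by decide +kernel)) [] 0 [(6,[12,11,1,9]),(2,[11,9,12,1,9])] (by decide +kernel) (List.forall_mem_cons.2 ⟨((nk_A22_9 F ).mono (by decide +kernel)), (List.forall_mem_cons.2 ⟨((nk_A22_11 F ).mono (by decide +kernel)), (List.forall_mem_nil _)⟩)⟩)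

theorem nk_A22_15 {G : Type u} [Group G] (F : FM P22 G) : F.Pd (FM.VK (F.S mA22) 7) (FM.RQ (fun _ => False)) (bits [16,88,92,717,1349]) :=
  FM.Pd.br (FM.ivtK (t3_A22 F) 7 (fun _ _ _ h => h)) (FM.src_k [(3,[]),(5,[]),(8,[]),(6,[12,11,1,9]),(2,[11,9,12,1,9])] (by decide +kernel)) [] 0 [(0,[11,1,4,11])] (by decide +kernel) (List.forall_mem_cons.2 ⟨((nk_A22_8 F ).mono (by decide +kernel)), (List.forall_mem_nil _)⟩)

theorem nk_A22_16 {G : Type u} [Group G] (F : FM P22 G) : F.Pd (FM.VK (F.S mA22) 7) (FM.RQ (fun _ => False)) (bits [16,88,92,717]) :=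
  FM.Pd.br (FM.ivtK (t3_A22 F) 7 (fun _ _ _ h => h)) (FM.src_k [(3,[]),(5,[]),(8,[]),(6,[12,11,1,9])] (by decide +kernel)) [] 0 [(0,[11,1,4,11]),(2,[11,9,12,1,9])] (by decide +kernel) (List.forall_mem_cons.2 ⟨((nk_A22_9 F ).mono (by decide +kernel)), (List.forall_mem_cons.2 ⟨((nk_A22_15 F ).mono (by decide +kernel)), (List.forall_mem_nil _)⟩)⟩)

theorem nk_A22_18 {G : Type u} [Group G] (F : FM P22 G) : F.Pd (FM.VK (F.S mA22) 7) (FM.RQ (fun _ => False)) (bits [16,88,92,1349]) :=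
  FM.Pd.br (FM.ivtK (t3_A22 F) 7 (fun _ _ _ h => h)) (FM.src_k [(3,[]),(5,[]),(8,[]),(2,[11,9,12,1,9])] (by decide +kernel)) [] 0 [(0,[11,1,4,11]),(6,[12,11,1,9])] (by decide +kernel) (List.forall_mem_cons.2 ⟨((nk_A22_11 F ).mono (by decide +kernel)), (List.forall_mem_cons.2 ⟨((nk_A22_15 F ).mono (by decide +kernel)), (List.forall_mem_nil _)⟩)⟩)

theorem nk_A22_19 {G : Type u} [Group G] (F : FM P22 G) : F.Pd (FM.VK (F.S mA22) 7) (FM.RQ (fun _ => False)) (bits [16,88,92]) :=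
  FM.Pd.br (FM.ivtK (t3_A22 F) 7 (fun _ _ _ h => h)) (FM.src_k [(3,[]),(5,[]),(8,[])] (by decide +kernel)) [] 0 [(0,[11,1,4,11]),(6,[12,11,1,9]),(2,[11,9,12,1,9])] (by decide +kernel) (List.forall_mem_cons.2 ⟨((nk_A22_12 F ).mono (by decide +kernel)), (List.forall_mem_cons.2 ⟨((nk_A22_16 F ).mono (by decide +kernel)), (List.forall_mem_cons.2 ⟨((nk_A22_18 F ).mono (by decide +kernel)), (List.forall_mem_nil _)⟩)⟩)⟩)

theorem nk_A22_20 {G : Type u} [Group G] (F : FM P22 G) : F.Pd (FM.VK (F.S mA22) 7) (FM.RQ (fun _ => False)) (bits [16,88]) :=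
  FM.Pd.br (FM.ivtK (t3_A22 F) 7 (fun _ _ _ h => h)) (FM.src_k [(3,[]),(5,[])] (by decide +kernel)) [[(3,[4,5,6,7])],[(8,[])],[(0,[12,4,10,12])],[(0,[11,1,4,11])]] 2 [(8,[])] (by decide +kernel) (List.forall_mem_cons.2 ⟨((nk_A22_19 F ).mono (by decide +kernel)), (List.forall_mem_nil _)⟩)

theorem nk_A22_21 {G : Type u} [Group G] (F : FM P22 G) : F.Pd (FM.VK (F.S mA22) 7) (FM.RQ (fun _ => False)) (bits [16]) :=
  FM.Pd.br (FM.ivtK (t3_A22 F) 7 (fun _ _ _ h => h)) (FM.src_k [(3,[])] (by decide +kernel)) [[(6,[])],[(5,[])],[(3,[4,7])],[(8,[])],[(0,[12,4,10,12])]] 3 [(5,[])] (by decide +kernel) (List.forall_mem_cons.2 ⟨((nk_A22_20 F ).mono (by decide +kernel)), (List.forall_mem_nil _)⟩)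

theorem nk_A22_22 {G : Type u} [Group G] (F : FM P22 G) : F.Pd (FM.VK (F.S mA22) 7) (FM.RQ (fun _ => False)) (bits []) :=
  FM.Pd.br (FM.ivtK (t3_A22 F) 7 (fun _ _ _ h => h)) (FM.src_k [] (by decide +kernel)) [[(4,[])],[(3,[])],[(7,[])],[(5,[])],[(8,[])],[(6,[])],[(3,[11,12])]] 3 [(3,[])] (by decide +kernel) (List.forall_mem_cons.2 ⟨((nk_A22_21 F ).mono (by decide +kernel)), (List.forall_mem_nil _)⟩)

theorem nk_A22 {G : Type u} [Group G] (F : FM P22 G) : ∀ g, Pr (F.S mA22) 7 g → (fun _ => False) g :=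
  FM.prK (nk_A22_22 F )

theorem wd_A22 {G : Type u} [Group G] (F : FM P22 G) : Cfsg.commutingWidth (F.S mA22) = 6 :=
  FM.width' (B := [(3,[]),(5,[]),(8,[]),(0,[11,1,4,11]),(6,[12,11,1,9]),(2,[11,9,12,1,9])]) (by decide +kernel) (nk_A22 F)

theorem pr_A22 {G : Type u} [Group G] (F : FM P22 G) : ∃ x ∈ F.S mA22, (∃ y ∈ F.S mA22, ¬ Commute x y) ∧ ∃ z ∈ F.S mA22, z ≠ x ∧ Commute x z :=
  have h := F.inq_spec (m := mA22) (qs := [(3,[])]) (by decide +kernel) _ List.mem_cons_self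
  have h1 := (F.S_ncm h.1 mA22).le (F.inq_spec (qs := [(4,[])]) (by decide +kernel) _ List.mem_cons_self).2
  have h2 := (F.S_dpm h.1 mA22).le (F.inq_spec (qs := [(5,[])]) (by decide +kernel) _ List.mem_cons_self).2
  ⟨_, h.2, ⟨_, h1⟩, _, h2⟩

theorem t1_A22 {G : Type u} [Group G] (F : FM P22 G) : ∀ y ∈ F.S mA22, ∃ g ∈ Subgroup.closure (F.S mA22), g * y * g⁻¹ = F.e (3,[]) :=
  fun _ hy => by
    obtain ⟨g, hg, e⟩ := F.orb' (m := mA22) (qs := [(4,[]),(3,[]),(7,[]),(5,[]),(8,[]),(3,[11,12])]) (by decide +kernel) (r := 4) (m' := bit (P22.pt (3,[]))) (F.S_mono (by decide +kernel) hy)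
    exact ⟨g, hg, (F.S_bit (by decide +kernel)).le e⟩

end H7.T
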