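import Cfsg.Agent.H7.T.GQ22O
import Cfsg.Agent.H7.TL2
import Cfsg.Agent.S0288
import Cfsg.Agent.H7.TL3

/-! H8.XQ22O: target group (generated certificate) -/

set_option autoImplicit false
set_option maxRecDepth 200000

open Matrix

namespace H8.Q22O

noncomputable def V : Tr ℕ := (.node (nat_lit 18) (.node (nat_lit 9) (.node (nat_lit 4) (.node (nat_lit 2) (.node (nat_lit 1) (.leaf (nat_lit 5)) (.leaf (nat_lit 7))) (.node (nat_lit 3) (.leaf (nat_lit 10)) (.leaf (nat_lit 11))))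
 (.node (nat_lit 6) (.node (nat_lit 5) (.leaf (nat_lit 13)) (.leaf (nat_lit 14))) (.node (nat_lit 7) (.leaf (nat_lit 16)) (.node (nat_lit 8) (.leaf (nat_lit 17)) (.leaf (nat_lit 18))))))
 (.node (nat_lit 13) (.node (nat_lit 11) (.node (nat_lit 10) (.leaf (nat_lit 19)) (.leaf (nat_lit 20))) (.node (nat_lit 12) (.leaf (nat_lit 22)) (.leaf (nat_lit 24))))
 (.node (nat_lit 15) (.node (nat_lit 14) (.leaf (nat_lit 25)) (.leaf (nat_lit 28))) (.node (nat_lit 16) (.leaf (nat_lit 31)) (.node (nat_lit 17) (.leaf (nat_lit 32)) (.leaf (nat_lit 33)))))))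
 (.node (nat_lit 27) (.node (nat_lit 22) (.node (nat_lit 20) (.node (nat_lit 19) (.leaf (nat_lit 34)) (.leaf (nat_lit 35))) (.node (nat_lit 21) (.leaf (nat_lit 36)) (.leaf (nat_lit 38))))
 (.node (nat_lit 24) (.node (nat_lit 23) (.leaf (nat_lit 40)) (.leaf (nat_lit 41))) (.node (nat_lit 25) (.leaf (nat_lit 44)) (.node (nat_lit 26) (.leaf (nat_lit 47)) (.leaf (nat_lit 48))))))
 (.node (nat_lit 31) (.node (nat_lit 29) (.node (nat_lit 28) (.leaf (nat_lit 49)) (.leaf (nat_lit 50))) (.node (nat_lit 30) (.leaf (nat_lit 51)) (.leaf (nat_lit 52))))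
 (.node (nat_lit 33) (.node (nat_lit 32) (.leaf (nat_lit 54)) (.leaf (nat_lit 56))) (.node (nat_lit 34) (.leaf (nat_lit 57)) (.node (nat_lit 35) (.leaf (nat_lit 60)) (.leaf (nat_lit 63))))))))
theorem pts : ptR C2 6 false V 36 0 36 = true := by decide +kernel
noncomputable def M0 : Sp := [[(nat_lit 0, nat_lit 1), (nat_lit 2, nat_lit 1), (nat_lit 4, nat_lit 1), (nat_lit 5, nat_lit 1)],
  [(nat_lit 1, nat_lit 1), (nat_lit 2, nat_lit 1), (nat_lit 3, nat_lit 1), (nat_lit 4, nat_lit 1)],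
  [(nat_lit 2, nat_lit 1)],
  [(nat_lit 3, nat_lit 1)],
  [(nat_lit 2, nat_lit 1), (nat_lit 4, nat_lit 1)],
  [(nat_lit 2, nat_lit 1), (nat_lit 3, nat_lit 1), (nat_lit 5, nat_lit 1)]]
noncomputable def M1 : Sp := [[(nat_lit 1, nat_lit 1), (nat_lit 2, nat_lit 1), (nat_lit 3, nat_lit 1), (nat_lit 4, nat_lit 1), (nat_lit 5, nat_lit 1)],
  [(nat_lit 0, nat_lit 1), (nat_lit 2, nat_lit 1), (nat_lit 3, nat_lit 1), (nat_lit 4, nat_lit 1), (nat_lit 5, nat_lit 1)],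
  [(nat_lit 1, nat_lit 1), (nat_lit 3, nat_lit 1), (nat_lit 5, nat_lit 1)],
  [(nat_lit 0, nat_lit 1), (nat_lit 1, nat_lit 1), (nat_lit 3, nat_lit 1), (nat_lit 5, nat_lit 1)],
  [(nat_lit 1, nat_lit 1), (nat_lit 4, nat_lit 1)],
  [(nat_lit 0, nat_lit 1), (nat_lit 1, nat_lit 1), (nat_lit 4, nat_lit 1), (nat_lit 5, nat_lit 1)]]
noncomputable def M2 : Sp := [[(nat_lit 1, nat_lit 1), (nat_lit 2, nat_lit 1), (nat_lit 3, nat_lit 1), (nat_lit 4, nat_lit 1)],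
  [(nat_lit 0, nat_lit 1), (nat_lit 2, nat_lit 1), (nat_lit 4, nat_lit 1), (nat_lit 5, nat_lit 1)],
  [(nat_lit 3, nat_lit 1)],
  [(nat_lit 2, nat_lit 1)],
  [(nat_lit 2, nat_lit 1), (nat_lit 3, nat_lit 1), (nat_lit 5, nat_lit 1)],
  [(nat_lit 2, nat_lit 1), (nat_lit 4, nat_lit 1)]]
noncomputable def MT : Tr Sp := (.node (nat_lit 1) (.leaf M0) (.node (nat_lit 2) (.leaf M1) (.leaf M2)))
noncomputable def SC : Tr ℕ := (.node (nat_lit 1) (.leaf (nat_lit 0xfffffffff)) (.node (nat_lit 2) (.leaf (nat_lit 0xfffffffff)) (.leaf (nat_lit 0xfffffffff))))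
theorem act : ActAll C2 6 false V 36 (nat_lit 6) (nat_lit 63) MT G0 SC 3 := actAll_of (by decide +kernel)
noncomputable def OT : Tr ℕ := (.node (nat_lit 1) (.leaf (nat_lit 4)) (.node (nat_lit 2) (.leaf (nat_lit 5)) (.leaf (nat_lit 8))))
noncomputable def BQ (i j : ℕ) : ℕ := ([[0, 0, 1, 0, 0, 0], [0, 0, 0, 1, 0, 0], [0, 0, 0, 0, 0, 0], [0, 0, 0, 0, 0, 0], [0, 0, 0, 0, 1, 1], [0, 0, 0, 0, 0, 1]].getD i []).getD j 0
theorem pw : ∀ j < 3, powChk C2 6 (MT.get j) (OT.get j) = true ∧ 0 < OT.get j ∧ quadChk C2 6 BQ (MT.get j) = true := by decide +kernel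
theorem iso : Nonempty (Cfsg.isometryGroup (ZMod 2) (Cfsg.quadFormMinus 2 (ZMod 2) 1 1) ≃* P) := by
  have h := fm2 (F := ZMod 2)
  have hx := H7.ix_msum 2
  refine iso_of_card' gen (h.pt_inj hx (τGL _) pts) (act.lets h hx fun j hj => h.exists_O hx (fun v => ?_) (pw j hj).1 (pw j hj).2.1 (pw j hj).2.2) ?_
  · simp [Cfsg.quadFormMinus, dotProduct, mulVec, decF, Fintype.sum_sum_type, Fin.sum_univ_succ, BQ, ixS, ixU, H7.ixM, sq]; ring
  · exact (Cfsg.Agent.S0288.result (ZMod.card 2) 3 (by decide) 1 1 (by decide)).le.trans (by rw [card]; decide)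

end H8.Q22O
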