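import Cfsg.Agent.H7.T.Q22_1
import Cfsg.Agent.H7.T.XQ22E
import Cfsg.Agent.H7.T.XQ22O
import Cfsg.Agent.H7.Fac2
set_option Elab.async false
set_option maxRecDepth 100000
set_option maxHeartbeats 0
namespace H7.T
universe u v

def W_e22 : List (List ℕ) := [[0],[28],[27],[25],[24],[19],[18,23],[16,17],[13,14,20,21],[29]]
def T_e22 : List (List (List ℕ)) := [[[]],[[],[]],[[],[],[]],[[],[],[],[]],[[],[],[],[],[]],[[],[],[],[],[9],[9]],[[],[],[],[9],[],[9],[]],[[],[],[9],[9],[9],[],[9],[9]],[[],[9],[9],[],[],[],[],[],[]],[[],[],[],[],[],[],[],[],[],[]]]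
theorem pc_e22 : pcOK (eqW eq_22q W_e22) 0 10 2 T_e22 = true := by decide +kernel

noncomputable def o_e22_0 : ℕ := bits [1,2,3,4,352,398,450,451,506,507,572,573,638,639,721,791,1522,1701,1703,1704,1705,1902,1903,1904,1906,1907,1908,1909,1910,1911,2126,2127,2128,2129,2130,2131,2132,2134,2135,2136,2137,2365,2367,2368,2369,2370,2372,2376,2377,2611,2615,2616,3096,3165,3273,3276,3277,3282,3328,3369,3401,3402,3403,3404]

theorem mvw_e22_0 : P22q.mvOK [] (0,[1]) (mapL (sbW W_e22) [[0],[1],[2],[3],[4],[5],[6],[7],[8],[9]]) 1 o_e22_0 = true := by decide +kernel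
theorem szw_e22_0 : P22q.szOK (0,[1]) o_e22_0 64 = true := by decide +kernel

noncomputable def o_e22_1 : ℕ := bits [5,8,13,22,165,200,207,250,252,314,316,399,1345,1521,1702,1905]

theorem mvw_e22_1 : P22q.mvOK [(0,[1])] (0,[1,2,3]) (mapL (sbW W_e22) [[0,1,2,8,9],[4,6],[6,8],[4,6,8]]) 1 o_e22_1 = true := by decide +kernel
theorem szw_e22_1 : P22q.szOK (0,[1,2,3]) o_e22_1 16 = true := by decide +kernel

theorem pcs_e22 {G : Type u} [Group G] (F : FM P22q G) : PCs (F.zW W_e22) 0 10 2 :=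
  ⟨pc0_of (FM.heW (he_22q F)) (by decide) pc_e22, F.fin, (by have h := (((Nat.mul_le_mul_left 64 (((Nat.mul_le_mul_left 16 ((have := F.fin; Nat.card_pos) : 1 ≤ _)).trans (FM.pst_ge mvw_e22_1 (FM.inWL (by decide +kernel)) szw_e22_1)) : 16 ≤ _)).trans (FM.pst_ge mvw_e22_0 (FM.inWL (by decide +kernel)) szw_e22_0)) : 1024 ≤ Nat.card (F.PS (NN (F.zW W_e22) 10 0) [])); rw [FM.PS_nil] at h; exact h), by decide⟩

def GW_e22 : List (List ℕ) := [[22,14],[13,5,21,16,5],[15]]

theorem gn_e22 {G : Type u} [Group G] (F : FM P22q G) : ∀ w ∈ GW_e22, F.ev w ∈ (Subgroup.centralizer {F.ev [0, 2]}) :=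
  F.cw (by decide +kernel)

theorem nn_e22 {G : Type u} [Group G] (F : FM P22q G) : (NN (F.zW W_e22) 10 0) ≤ (Subgroup.centralizer {F.ev [0, 2]}) :=
  FM.zW_le (F.cw (by decide +kernel))

theorem nr_e22_1 {G : Type u} [Group G] (F : FM P22q G) : F.ev [22,14] ∈ Subgroup.normalizer ((NN (F.zW W_e22) 10 0) : Set G) :=
  FM.nrmW_spec (he_22q F) (U := [[0],[1],[2],[2,3],[0,1,2,4,9],[0,5,9],[2,6,9],[0,2,4,5,6,7],[0,2,3,4,6,8,9],[9]]) (by decide +kernel)

theorem nr_e22_2 {G : Type u} [Group G] (F : FM P22q G) : F.ev [13,5,21,16,5] ∈ Subgroup.normalizer ((NN (F.zW W_e22) 10 0) : Set G) :=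
  FM.nrmW_spec (he_22q F) (U := [[0],[2,3,7,8],[2,3,6,8],[4,5,8,9],[0,2,4,5,6,8,9],[2,4,8],[1,2,7,8,9],[2,3,8],[0,4,7,9],[9]]) (by decide +kernel)

theorem nr_e22_3 {G : Type u} [Group G] (F : FM P22q G) : F.ev [15] ∈ Subgroup.normalizer ((NN (F.zW W_e22) 10 0) : Set G) :=
  FM.nrmW_spec (he_22q F) (U := [[0,9],[1,9],[1,2,9],[1,2,3,9],[2,3,4,9],[0,1,5,9],[0,5,6,9],[1,2,3,4,5,6,7,9],[4,7,8,9],[9]]) (by decide +kernel)

theorem gq_e22 {G : Type u} [Group G] (F : FM P22q G) : ∀ w ∈ GW_e22, F.ev w ∈ Subgroup.normalizer ((NN (F.zW W_e22) 10 0) : Set G) :=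
  (List.forall_mem_cons.2 ⟨(nr_e22_1 F), (List.forall_mem_cons.2 ⟨(nr_e22_2 F), (List.forall_mem_cons.2 ⟨(nr_e22_3 F), (List.forall_mem_nil _)⟩)⟩)⟩)

noncomputable def ms_Q22E_0 : ℕ := bits [945,953,1198,1199]

noncomputable def ms_Q22E_1 : ℕ := bits [59,172,1779,2692]

noncomputable def ms_Q22E_2 : ℕ := bits [431,473,1709,2138]

noncomputable def ms_Q22E_3 : ℕ := bits [93,95,1469,1470]

noncomputable def ms_Q22E_4 : ℕ := bits [86,217,1581,2433]

noncomputable def ms_Q22E_5 : ℕ := bits [92,636,676,689]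

noncomputable def ms_Q22E_6 : ℕ := bits [1051,1128,1133,1381]

noncomputable def ms_Q22E_7 : ℕ := bits [123,124,1263,1264]

noncomputable def ms_Q22E_8 : ℕ := bits [338,369,1915,2379]

noncomputable def ms_Q22E_9 : ℕ := bits [81,136,2000,2498]

noncomputable def ms_Q22E_10 : ℕ := bits [97,246,708,1361]

noncomputable def ms_Q22E_11 : ℕ := bits [427,472,1710,2609]

noncomputable def ms_Q22E_12 : ℕ := bits [862,935,1200,1578]

noncomputable def ms_Q22E_13 : ℕ := bits [43,424,434,637]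

noncomputable def ms_Q22E_14 : ℕ := bits [773,1013,1041,1392]

noncomputable def ms_Q22E_15 : ℕ := bits [118,274,1396,2179]

noncomputable def ms_Q22E_16 : ℕ := bits [174,186,1776,1777]

noncomputable def ms_Q22E_17 : ℕ := bits [62,120,3280,3283]

noncomputable def ms_Q22E_18 : ℕ := bits [68,122,1265,1667]

noncomputable def ms_Q22E_19 : ℕ := bits [137,145,1998,1999]

noncomputable def ms_Q22E_20 : ℕ := bits [868,939,1201,1250]

noncomputable def ms_Q22E_21 : ℕ := bits [392,542,1525,2364]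

noncomputable def ms_Q22E_22 : ℕ := bits [125,197,874,1262]

noncomputable def ms_Q22E_23 : ℕ := bits [869,940,1236,1237]

noncomputable def ms_Q22E_24 : ℕ := bits [70,196,875,1543]

noncomputable def ms_Q22E_25 : ℕ := bits [612,843,1238,1577]

noncomputable def ms_Q22E_26 : ℕ := bits [291,430,2140,2141]

noncomputable def ms_Q22E_27 : ℕ := bits [391,546,1524,1912]

noncomputable def ms_Q22E_28 : ℕ := bits [40,154,3399,3400]

noncomputable def ms_Q22E_29 : ℕ := bits [474,502,1707,1708]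

noncomputable def ms_Q22E_30 : ℕ := bits [944,1191,1239,1251]

noncomputable def ms_Q22E_31 : ℕ := bits [703,763,1395,1444]

noncomputable def ms_Q22E_32 : ℕ := bits [66,539,550,792]

noncomputable def ms_Q22E_33 : ℕ := bits [1049,1050,1052,1127]

noncomputable def ms_Q22E_34 : ℕ := bits [88,89,3103,3217]

noncomputable def ms_Q22E_35 : ℕ := bits [113,173,1778,2242]

noncomputable def ms_Q22E_36 : ℕ := bits [106,112,2244,2245]

noncomputable def ms_Q22E_37 : ℕ := bits [774,1014,1040,1443]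

noncomputable def ms_Q22E_38 : ℕ := bits [96,156,1061,1467]

noncomputable def ms_Q22E_39 : ℕ := bits [157,158,1059,1060]

noncomputable def ms_Q22E_40 : ℕ := bits [146,218,1580,1997]

noncomputable def ms_Q22E_41 : ℕ := bits [308,679,1347,2125]

noncomputable def ms_Q22E_42 : ℕ := bits [370,545,1913,1914]

noncomputable def ms_Q22E_43 : ℕ := bits [47,155,1062,1734]

noncomputable def ms_Q22E_44 : ℕ := bits [767,1008,1393,1394]

noncomputable def ms_Q22E : H8.Tr ℕ := (.node (nat_lit 22) (.node (nat_lit 11) (.node (nat_lit 5) (.node (nat_lit 2) (.node (nat_lit 1) (.leaf ms_Q22E_0) (.leaf ms_Q22E_1)) (.node (nat_lit 3) (.leaf ms_Q22E_2) (.node (nat_lit 4) (.leaf ms_Q22E_3) (.leaf ms_Q22E_4))))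
 (.node (nat_lit 8) (.node (nat_lit 6) (.leaf ms_Q22E_5) (.node (nat_lit 7) (.leaf ms_Q22E_6) (.leaf ms_Q22E_7))) (.node (nat_lit 9) (.leaf ms_Q22E_8) (.node (nat_lit 10) (.leaf ms_Q22E_9) (.leaf ms_Q22E_10)))))
 (.node (nat_lit 16) (.node (nat_lit 13) (.node (nat_lit 12) (.leaf ms_Q22E_11) (.leaf ms_Q22E_12)) (.node (nat_lit 14) (.leaf ms_Q22E_13) (.node (nat_lit 15) (.leaf ms_Q22E_14) (.leaf ms_Q22E_15))))
 (.node (nat_lit 19) (.node (nat_lit 17) (.leaf ms_Q22E_16) (.node (nat_lit 18) (.leaf ms_Q22E_17) (.leaf ms_Q22E_18))) (.node (nat_lit 20) (.leaf ms_Q22E_19) (.node (nat_lit 21) (.leaf ms_Q22E_20) (.leaf ms_Q22E_21))))))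
 (.node (nat_lit 33) (.node (nat_lit 27) (.node (nat_lit 24) (.node (nat_lit 23) (.leaf ms_Q22E_22) (.leaf ms_Q22E_23)) (.node (nat_lit 25) (.leaf ms_Q22E_24) (.node (nat_lit 26) (.leaf ms_Q22E_25) (.leaf ms_Q22E_26))))
 (.node (nat_lit 30) (.node (nat_lit 28) (.leaf ms_Q22E_27) (.node (nat_lit 29) (.leaf ms_Q22E_28) (.leaf ms_Q22E_29))) (.node (nat_lit 31) (.leaf ms_Q22E_30) (.node (nat_lit 32) (.leaf ms_Q22E_31) (.leaf ms_Q22E_32)))))
 (.node (nat_lit 39) (.node (nat_lit 36) (.node (nat_lit 34) (.leaf ms_Q22E_33) (.node (nat_lit 35) (.leaf ms_Q22E_34) (.leaf ms_Q22E_35))) (.node (nat_lit 37) (.leaf ms_Q22E_36) (.node (nat_lit 38) (.leaf ms_Q22E_37) (.leaf ms_Q22E_38))))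
 (.node (nat_lit 42) (.node (nat_lit 40) (.leaf ms_Q22E_39) (.node (nat_lit 41) (.leaf ms_Q22E_40) (.leaf ms_Q22E_41))) (.node (nat_lit 43) (.leaf ms_Q22E_42) (.node (nat_lit 44) (.leaf ms_Q22E_43) (.leaf ms_Q22E_44)))))))

theorem rm_Q22E : ∀ j < 3, P22q.repM ms_Q22E 45 (nat_lit 6) (nat_lit 63) (H8.Q22E.G0.get j) (nthW GW_e22 j) = true := allLt_iff.1 (by decide +kernel)

theorem qw_Q22E {G : Type u} [Group G] (F : FM P22q G) (u : Nat.card (Subgroup.centralizer {F.ev [0, 2]}) ≤ 2 ^ 10 * 51840) : (NN (F.zW W_e22) 10 0) ≤ H9.Op 2 (Subgroup.centralizer {F.ev [0, 2]}) ∧ Nat.card (Subgroup.centralizer {F.ev [0, 2]}) = 2 ^ 10 * 51840 ∧ (Subgroup.centralizer {F.ev [0, 2]}) ≤ Subgroup.normalizer ((NN (F.zW W_e22) 10 0) : Set G) ∧ ∃ _ : ((NN (F.zW W_e22) 10 0).subgroupOf (Subgroup.centralizer {F.ev [0, 2]})).Normal, Nonempty ((Subgroup.centralizer {F.ev [0, 2]}) ⧸ (NN (F.zW W_e22) 10 0).subgroupOf (Subgroup.centralizer {F.ev [0, 2]}) ≃* H8.Q22E.P) :=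
  FM.quotP (pcs_e22 F) (nn_e22 F) H8.Q22E.gen (gn_e22 F) (gq_e22 F) rm_Q22E (by decide +kernel) H8.Q22E.card u

noncomputable def ms_Q22O_0 : ℕ := bits [303,376,387,466,483,565,595,596,711,713,752,878,925,1058,1111,1255,1871,1873,1880,2006,2007,2075,2077,2105,2106,2107,2108,2110,2112,2146,2248,2249,2253,2254,2324,2325,2326,2327,2351,2354,2355,2356,2383,2388,2504,2505,2582,2583,2593,2602,2631,2845,2847,2958,3012,3080,3102,3161,3169,3174,3176,3278,3281,3296]

noncomputable def ms_Q22O_1 : ℕ := bits [362,388,444,465,484,499,564,615,748,753,873,881,921,929,1054,1065,1659,1784,1843,1874,1875,1919,2003,2008,2078,2079,2084,2104,2109,2143,2147,2250,2251,2323,2328,2329,2331,2332,2353,2385,2502,2507,2580,2581,2584,2585,2597,2604,2710,2762,2768,2840,2843,2852,2941,2951,2960,3014,3119,3158,3162,3164,3279,3325]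

noncomputable def ms_Q22O_2 : ℕ := bits [771,947,949,1011,1131,1192,1194,1380,1382,1442,1450,1566,1567,1643,1645,1772,2073,2310,2320,2478,2564,2571,2706,2725,2739,2761,2817,2822,2948,2972,2979,2980,2984,2985,3031,3053,3057,3061,3068,3069,3077,3105,3110,3171,3172,3177,3178,3181,3183,3184,3201,3202,3218,3259,3264,3265,3288,3292,3294,3310,3351,3361,3383,3458]

noncomputable def ms_Q22O_3 : ℕ := bits [866,937,1043,1045,1122,1124,1240,1248,1322,1446,1448,1568,1576,1642,1766,1767,2318,2321,2447,2503,2554,2574,2699,2732,2736,2741,2763,2825,2827,2878,2966,2968,2970,2973,2989,2991,3055,3058,3062,3064,3066,3072,3074,3104,3117,3147,3179,3186,3192,3196,3197,3200,3208,3225,3243,3253,3262,3289,3293,3316,3332,3359,3382,3407]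

noncomputable def ms_Q22O_4 : ℕ := bits [491,607,622,737,765,861,908,910,1037,1039,1100,1107,1231,1294,1311,1419,1597,1598,1723,1724,1793,1794,1797,1798,1803,1804,1869,1926,1927,1930,1931,1936,1937,2015,2016,2021,2022,2026,2027,2093,2101,2152,2153,2158,2159,2163,2164,2264,2265,2340,2344,2397,2398,2449,2506,2595,2626,2685,2701,2708,2711,2869,2875,2891]

noncomputable def ms_Q22O_5 : ℕ := bits [582,623,698,736,766,782,860,916,941,1086,1103,1106,1216,1235,1290,1407,1415,1534,1592,1595,1599,1718,1721,1725,1791,1795,1799,1802,1924,1928,1932,1935,2017,2020,2025,2033,2099,2102,2154,2157,2162,2170,2194,2252,2263,2270,2277,2338,2347,2396,2404,2411,2430,2442,2451,2508,2518,2641,2648,2680,2688,2694,2872,2933]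

noncomputable def ms_Q22O_6 : ℕ := bits [39,53,60,76,142,163,178,202,733,804,894,962,1057,1094,1148,1254,1257,1275,1293,1298,1303,1331,1336,1453,1476,1490,1498,1677,1733,1945,1946,2180,2669,2903,2916,2919,2921,2923,3125,3128,3129,3131,3137,3139,3141,3297,3298,3299,3430,3433,3441,3454,3462,3465,3474,3483,3486,3492,3493,3494,3495,3500,3501,3509]

noncomputable def ms_Q22O_7 : ℕ := bits [1,2,3,4,352,398,450,451,506,507,572,573,638,639,721,791,1522,1701,1703,1704,1705,1902,1903,1904,1906,1907,1908,1909,1910,1911,2126,2127,2128,2129,2130,2131,2132,2134,2135,2136,2137,2365,2367,2368,2369,2370,2372,2376,2377,2611,2615,2616,3096,3165,3273,3276,3277,3282,3328,3369,3401,3402,3403,3404]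

noncomputable def ms_Q22O_8 : ℕ := bits [24,33,38,52,109,128,139,160,899,967,971,1075,1079,1088,1139,1151,1153,1261,1279,1281,1283,1457,1462,1481,1483,1486,1651,1679,1947,2181,2183,2412,2435,2649,2662,2665,2667,2668,2896,2899,2901,2902,2912,2914,2915,3121,3123,3124,3443,3457,3459,3469,3470,3471,3478,3482,3487,3489,3491,3499,3502,3503,3507,3508]

noncomputable def ms_Q22O_9 : ℕ := bits [61,77,87,105,181,205,225,254,872,903,906,974,1053,1055,1082,1085,1090,1092,1099,1142,1145,1252,1288,1289,1291,1299,1329,1495,1542,1731,1732,1944,2924,3132,3142,3145,3148,3151,3300,3302,3303,3305,3309,3311,3313,3323,3326,3335,3365,3368,3372,3397,3415,3416,3417,3418,3423,3435,3436,3437,3438,3463,3464,3481]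

noncomputable def ms_Q22O_10 : ℕ := bits [190,209,239,261,286,322,363,364,409,410,467,523,594,660,751,822,1664,1697,1823,1824,1865,1878,1879,1894,1899,1958,2046,2050,2051,2057,2058,2097,2098,2111,2120,2190,2193,2198,2296,2298,2302,2304,2343,2441,2445,2448,2553,2700,2871,2925,2928,2932,3079,3091,3093,3098,3134,3153,3155,3156,3216,3274,3275,3306]

noncomputable def ms_Q22O_11 : ℕ := bits [226,240,255,262,285,304,321,331,464,468,520,524,593,597,659,663,1612,1741,1815,1819,1825,1849,1856,1952,1955,1959,2044,2047,2053,2055,2067,2070,2082,2083,2088,2187,2191,2195,2297,2300,2307,2314,2315,2317,2330,2443,2557,2567,2673,2682,2865,2906,2911,2930,2935,3016,3088,3095,3135,3136,3222,3224,3272,3322]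

noncomputable def ms_Q22O_12 : ℕ := bits [58,75,83,102,110,129,140,161,905,973,1081,1144,1260,1306,1307,1337,1456,1460,1477,1491,1501,1505,1520,1650,1663,1674,1687,1691,1864,1868,1887,2092,2536,2782,2790,2797,3019,3025,3032,3059,3144,3150,3226,3238,3247,3301,3304,3312,3321,3334,3354,3381,3384,3387,3395,3422,3431,3434,3439,3442,3446,3455,3475,3479]

noncomputable def ms_Q22O_13 : ℕ := bits [80,84,100,103,108,115,127,132,1096,1097,1157,1158,1285,1286,1333,1334,1464,1465,1507,1508,1653,1654,1657,1658,1675,1676,1693,1694,1861,1862,1885,1886,2794,2799,3023,3026,3035,3036,3042,3045,3166,3209,3220,3228,3229,3231,3244,3246,3266,3314,3318,3319,3344,3362,3363,3371,3377,3396,3408,3409,3420,3448,3461,3480]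

noncomputable def ms_Q22O_14 : ℕ := bits [300,327,382,415,458,514,583,584,649,650,739,810,901,969,1089,1152,1430,1431,1558,1559,1621,1622,1625,1626,1631,1632,1748,1749,1752,1753,1758,1759,1831,1832,1836,1837,1841,1842,1963,1964,1969,1970,1974,1975,2063,2064,2205,2206,2375,2414,2416,2422,2591,2614,2617,2622,2652,2671,2674,2677,2756,2863,2866,2904]

noncomputable def ms_Q22O_15 : ℕ := bits [357,383,403,416,457,492,513,529,730,740,801,811,900,912,968,978,1223,1370,1425,1428,1432,1553,1556,1560,1619,1623,1627,1630,1746,1750,1754,1757,1833,1835,1840,1848,1965,1968,1973,1981,2048,2066,2072,2165,2171,2204,2210,2217,2299,2371,2399,2405,2418,2424,2460,2511,2610,2619,2654,2659,2766,2770,2859,2926]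

noncomputable def ms_Q22O_16 : ℕ := bits [356,386,402,419,455,456,497,498,511,512,534,535,580,631,646,673,1215,1363,1414,1416,1433,1544,1546,1561,1605,1624,1629,1735,1751,1756,1771,1773,1834,1967,1972,1991,1992,1994,2168,2203,2214,2290,2309,2335,2374,2402,2419,2487,2495,2528,2544,2546,2563,2588,2613,2620,2655,2705,2734,2786,2787,2804,2860,3028]

noncomputable def ms_Q22O_17 : ℕ := (nat_lit 0x404000000000000000000c000001040000000000000000221000000000000000000002f0000001110000000000000000510000000000000000000000f600000014400000000000064000000000000000000000c1d00000032000000000200000000000000400000001c08000020000000000000010000000c00000000800000000000000000600002800000000000000000000050003000000000000000404002000000000001000000000000000000000000000000000000000000000000000000000000000000)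

noncomputable def ms_Q22O_18 : ℕ := bits [454,493,510,530,577,578,625,626,643,644,670,671,729,785,800,813,1032,1182,1220,1222,1224,1367,1369,1371,1424,1426,1429,1552,1554,1557,1620,1747,1847,1857,1933,1980,1990,2034,2056,2071,2087,2089,2133,2155,2167,2192,2216,2227,2237,2271,2287,2289,2308,2334,2366,2373,2401,2446,2473,2525,2527,2543,2612,2785]

noncomputable def ms_Q22O_19 : ℕ := bits [284,305,320,332,360,361,389,390,406,407,422,423,463,501,519,538,1418,1548,1607,1609,1613,1737,1739,1742,1813,1816,1821,1950,1953,1957,1982,1993,2045,2189,2211,2215,2228,2230,2231,2238,2420,2459,2469,2470,2472,2488,2490,2547,2621,2656,2676,2720,2730,2788,2805,2808,2861,2868,2908,3029,3030,3048,3090,3234]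

noncomputable def ms_Q22O_20 : ℕ := bits [111,117,130,134,141,149,162,167,1258,1259,1304,1305,1308,1309,1342,1343,1454,1455,1458,1459,1492,1493,1499,1500,1503,1504,1518,1519,1648,1649,1689,1690,3001,3037,3046,3051,3084,3159,3191,3214,3215,3223,3230,3233,3235,3239,3240,3245,3248,3269,3290,3291,3308,3329,3347,3367,3370,3374,3375,3376,3385,3410,3428,3432]

noncomputable def ms_Q22O_21 : ℕ := bits [85,104,116,133,143,164,179,203,1056,1093,1098,1159,1253,1256,1287,1292,1300,1302,1310,1330,1335,1452,1463,1494,1496,1497,1502,1517,1652,1656,1688,1860,2800,3027,3033,3043,3154,3175,3212,3227,3232,3237,3249,3251,3252,3254,3268,3307,3315,3320,3324,3327,3331,3336,3346,3366,3373,3380,3388,3398,3411,3419,3421,3426]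

noncomputable def ms_Q22O_22 : ℕ := bits [283,302,319,329,358,385,404,418,581,589,647,655,734,745,805,816,1417,1547,1606,1608,1633,1644,1646,1736,1738,1760,1812,1822,1838,1839,1844,1855,1858,1949,1971,1977,2049,2065,2081,2086,2208,2229,2313,2319,2417,2425,2468,2475,2555,2618,2653,2660,2675,2681,2722,2771,2858,2867,2907,2910,3013,3015,3089,3152]

noncomputable def ms_Q22O_23 : ℕ := bits [238,260,301,328,359,405,460,461,516,517,588,654,735,806,907,975,1473,1509,1610,1611,1670,1671,1692,1740,1814,1817,1818,1850,1851,1882,1951,1954,1983,1984,2043,2068,2069,2074,2076,2186,2212,2213,2219,2221,2311,2312,2462,2464,2623,2670,2672,2679,2844,2862,2864,2870,2905,2927,2929,2931,3005,3092,3094,3133]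

noncomputable def ms_Q22O_24 : ℕ := bits [54,57,71,74,78,82,98,101,1295,1296,1338,1339,1479,1480,1487,1488,1515,1516,1665,1666,1680,1681,1683,1684,1866,1867,1870,1872,1888,1889,2094,2095,2532,2535,2778,2781,2791,2793,2796,2798,2946,3009,3020,3022,3024,3041,3143,3149,3350,3379,3393,3425,3444,3450,3451,3452,3466,3473,3476,3477,3484,3496,3498,3506]

noncomputable def ms_Q22O_25 : ℕ := bits [36,50,56,73,79,99,107,126,1087,1150,1155,1277,1282,1297,1327,1340,1341,1466,1482,1485,1489,1655,1660,1678,1682,1685,1863,1877,1890,2096,2100,2278,2339,2519,2529,2534,2775,2780,2789,2818,2917,2922,3018,3034,3044,3126,3130,3140,3360,3386,3389,3427,3440,3447,3460,3467,3468,3472,3485,3488,3490,3497,3504,3505]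

noncomputable def ms_Q22O_26 : ℕ := (nat_lit 0x1000140000000000044000000000000000000000000000500043400000000000008320000000000000000000000a00019c0000000000000018d00000000000000020400006e0000000000000000dc000000000000020000070000000000000001c00000000000000020000000000000200000000020000000000080000000003000000003000000060000003000084001004002000080000000000000000000000000000000000000)

noncomputable def ms_Q22O_27 : ℕ := bits [579,629,695,731,732,772,783,787,855,856,902,909,948,952,1031,1101,1316,1399,1506,1513,1527,1583,1600,1696,1711,1726,1796,1801,1929,1934,1996,2019,2124,2156,2197,2239,2240,2241,2363,2437,2444,2452,2454,2496,2542,2550,2603,2636,2644,2678,2693,2695,2784,2792,2807,2809,2851,2885,2893,2909,2918,3021,3049,3127]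

noncomputable def ms_Q22O_28 : ℕ := bits [462,500,561,590,591,617,632,633,706,707,746,777,780,789,871,956,1461,1585,1628,1661,1662,1713,1781,1785,1845,1846,1876,1917,1920,2004,2080,2145,2235,2352,2453,2489,2491,2493,2494,2579,2605,2696,2703,2713,2714,2751,2752,2753,2754,2810,2839,2853,2886,2894,2943,2945,2962,3003,3050,3052,3083,3112,3120,3250]

noncomputable def ms_Q22O_29 : ℕ := bits [628,728,742,784,786,852,897,898,913,915,943,1026,1027,1084,1105,1209,1214,1354,1404,1406,1408,1531,1533,1535,1591,1593,1596,1717,1719,1722,1792,1925,1956,2032,2169,2182,2188,2196,2269,2276,2286,2293,2349,2387,2393,2403,2410,2421,2434,2436,2517,2524,2531,2545,2549,2600,2635,2643,2647,2657,2664,2777,2806,2898]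

noncomputable def ms_Q22O_30 : ℕ := bits [951,1134,1135,1196,1233,1246,1247,1249,1325,1384,1387,1438,1439,1445,1447,1641,2316,2556,2559,2560,2568,2573,2733,2740,2742,2773,2795,2811,2814,2815,2826,2831,2837,2881,2882,2952,2953,2974,2990,2992,3007,3038,3065,3073,3075,3107,3108,3187,3194,3195,3199,3207,3242,3261,3333,3337,3338,3340,3342,3357,3358,3412,3414,3424]

noncomputable def ms_Q22O_31 : ℕ := bits [1046,1047,1125,1126,1241,1242,1244,1245,1323,1324,1391,1440,1441,1449,1639,1640,2301,2552,2558,2569,2570,2576,2630,2704,2759,2813,2816,2823,2824,2832,2833,2834,2880,2981,2982,2983,2986,2993,2994,2995,3017,3039,3040,3056,3071,3109,3170,3180,3182,3185,3188,3203,3204,3205,3206,3241,3287,3295,3317,3339,3343,3355,3413,3429]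

noncomputable def ms_Q22O_32 : ℕ := bits [384,480,494,586,610,702,741,743,865,867,914,1044,1095,1225,1301,1427,1672,1698,1699,1782,1783,1883,1884,1896,1897,1901,1918,2001,2002,2035,2036,2103,2114,2123,2142,2172,2173,2272,2273,2279,2281,2341,2348,2406,2407,2413,2415,2520,2521,2592,2596,2650,2651,2709,2765,2846,2876,2938,2950,2957,2959,3097,3101,3118]

noncomputable def ms_Q22O_33 : ℕ := bits [459,495,558,585,611,627,701,770,904,917,1033,1048,1091,1102,1221,1243,1512,1584,1695,1700,1712,1780,1805,1859,1898,1900,1916,1938,2005,2023,2029,2090,2091,2122,2160,2166,2247,2267,2288,2337,2345,2350,2400,2423,2450,2509,2526,2533,2590,2601,2658,2666,2689,2702,2712,2767,2779,2892,2900,2934,2940,2944,3099,3157]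

noncomputable def ms_Q22O_34 : ℕ := bits [1038,1121,1132,1136,1230,1232,1320,1321,1388,1389,1390,1570,1571,1572,1573,1768,2471,2474,2477,2572,2577,2578,2707,2716,2719,2721,2724,2737,2738,2764,2812,2820,2835,2836,2888,2920,2949,2965,2971,2987,3010,3060,3067,3070,3106,3115,3146,3173,3219,3256,3257,3258,3263,3284,3330,3348,3349,3352,3353,3378,3390,3406,3445,3456]

noncomputable def ms_Q22O_35 : ℕ := bits [942,950,1129,1130,1189,1195,1234,1377,1379,1383,1386,1569,1574,1575,1769,1770,2218,2322,2461,2476,2565,2575,2723,2731,2735,2819,2828,2829,2830,2838,2954,2955,2956,2961,2963,2967,2969,2988,3008,3011,3054,3063,3076,3113,3116,3138,3167,3168,3193,3198,3221,3236,3255,3260,3285,3286,3341,3356,3391,3392,3394,3405,3449,3453]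

noncomputable def ms_Q22O : H8.Tr ℕ := (.node (nat_lit 18) (.node (nat_lit 9) (.node (nat_lit 4) (.node (nat_lit 2) (.node (nat_lit 1) (.leaf ms_Q22O_0) (.leaf ms_Q22O_1)) (.node (nat_lit 3) (.leaf ms_Q22O_2) (.leaf ms_Q22O_3)))
 (.node (nat_lit 6) (.node (nat_lit 5) (.leaf ms_Q22O_4) (.leaf ms_Q22O_5)) (.node (nat_lit 7) (.leaf ms_Q22O_6) (.node (nat_lit 8) (.leaf ms_Q22O_7) (.leaf ms_Q22O_8)))))
 (.node (nat_lit 13) (.node (nat_lit 11) (.node (nat_lit 10) (.leaf ms_Q22O_9) (.leaf ms_Q22O_10)) (.node (nat_lit 12) (.leaf ms_Q22O_11) (.leaf ms_Q22O_12)))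
 (.node (nat_lit 15) (.node (nat_lit 14) (.leaf ms_Q22O_13) (.leaf ms_Q22O_14)) (.node (nat_lit 16) (.leaf ms_Q22O_15) (.node (nat_lit 17) (.leaf ms_Q22O_16) (.leaf ms_Q22O_17))))))
 (.node (nat_lit 27) (.node (nat_lit 22) (.node (nat_lit 20) (.node (nat_lit 19) (.leaf ms_Q22O_18) (.leaf ms_Q22O_19)) (.node (nat_lit 21) (.leaf ms_Q22O_20) (.leaf ms_Q22O_21)))
 (.node (nat_lit 24) (.node (nat_lit 23) (.leaf ms_Q22O_22) (.leaf ms_Q22O_23)) (.node (nat_lit 25) (.leaf ms_Q22O_24) (.node (nat_lit 26) (.leaf ms_Q22O_25) (.leaf ms_Q22O_26)))))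
 (.node (nat_lit 31) (.node (nat_lit 29) (.node (nat_lit 28) (.leaf ms_Q22O_27) (.leaf ms_Q22O_28)) (.node (nat_lit 30) (.leaf ms_Q22O_29) (.leaf ms_Q22O_30)))
 (.node (nat_lit 33) (.node (nat_lit 32) (.leaf ms_Q22O_31) (.leaf ms_Q22O_32)) (.node (nat_lit 34) (.leaf ms_Q22O_33) (.node (nat_lit 35) (.leaf ms_Q22O_34) (.leaf ms_Q22O_35)))))))

theorem rm_Q22O : ∀ j < 3, P22q.repM ms_Q22O 36 (nat_lit 6) (nat_lit 63) (H8.Q22O.G0.get j) (nthW GW_e22 j) = true := allLt_iff.1 (by decide +kernel)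

theorem qw_Q22O {G : Type u} [Group G] (F : FM P22q G) (u : Nat.card (Subgroup.centralizer {F.ev [0, 2]}) ≤ 2 ^ 10 * 51840) : (NN (F.zW W_e22) 10 0) ≤ H9.Op 2 (Subgroup.centralizer {F.ev [0, 2]}) ∧ Nat.card (Subgroup.centralizer {F.ev [0, 2]}) = 2 ^ 10 * 51840 ∧ (Subgroup.centralizer {F.ev [0, 2]}) ≤ Subgroup.normalizer ((NN (F.zW W_e22) 10 0) : Set G) ∧ ∃ _ : ((NN (F.zW W_e22) 10 0).subgroupOf (Subgroup.centralizer {F.ev [0, 2]})).Normal, Nonempty ((Subgroup.centralizer {F.ev [0, 2]}) ⧸ (NN (F.zW W_e22) 10 0).subgroupOf (Subgroup.centralizer {F.ev [0, 2]}) ≃* H8.Q22O.P) :=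
  FM.quotP (pcs_e22 F) (nn_e22 F) H8.Q22O.gen (gn_e22 F) (gq_e22 F) rm_Q22O (by decide +kernel) H8.Q22O.card u

end H7.T
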