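import Cfsg.Agent.H7.DL
import Cfsg.Agent.H7.T.Z23b_3
set_option Elab.async false
set_option maxRecDepth 100000
set_option maxHeartbeats 0
namespace H7.T
universe u v

theorem ord_dl {G : Type u} [Group G] (F : FM P23p G) : orderOf (F.ev [25]) = 3 :=
  FM.ord (by norm_num) 0 (by decide +kernel)

noncomputable def m_dl_1 : ℕ := bits [30,41,77,94,136,137,182,185,198,235,278,282,341,342,390,398,408,409,414,415,428,498,561,568,594,604,702,802,808,810,811,813,825,837,863,923,990,1124,1127,1130,1140,1154,1158,1160,1178,1194,1216,1358,1375,1569,1602,1610,1632,1709,1710,1818,1861,2139,2144,2148,2166,2215,2216,2245,2273,2338,2493,2897,2906,2929,2932,3000,3001,3155,3233,3249,3260,3277,3881,3949,3969,3976,4015,4018,4035,4056,4133,4135,4179,4180,4203,4207,4229,4230,4461,4971,4972,5056,5079,5106,5108,5185,5254,5259,5275,6297,8001,8005,22964,23992,24230,24541,24794,25083,25165,25339,25360,25373,25511,25534,25540,25583,25684,25702,25956,25983,26033,26090,26235,26259,26267,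26336,26354,26400,26526,26562,26588,26641,26648,26701,26708,26711,26734,26741,26763,26833,26870,26888,26913,26995,27062,27073,27148,27177,27185,27197,27229,27249,27275,27305,27351,27399,27431,27461,27464,27490,27590,27604,27615,27623,27693,27749,27768,27843,27852,27880,27912,27945,27978,28001,28023,28046,28072,28080,28093,28106,28141,28168,28179,28331,28357,28369,28423,28440,28447,28487,28648,28671,28696,28748,28766,28801,28814,28817,28840,28869,28877,28915,28923,28927,28928,28932,28940,28954,28982,29028,29033,29052,29083,29112,29210,29228,29237,29288,29299,29313,29369,29402,29417,29426,29461,29470,29471,29484,29560,29584,29585,29683,29697,29744,29751,29812,29895,29948,29967,29988,30011,30051,30061,30138,30161,30166,30175,30191,30205,30215,30223,30293,30314,30327,30417,30432,30536,30537,30565,30586,30602,30609,30610,30630,30649,30655,30656,30664,30689,30704,30717,30743,30748,30774,30795,30868,30869,30899,30909,30924,30978,31017,31020,31049,31061,31063,31069,31099,31106,31111,31125,31156,31159,31195,31217,31256,31258,31267,31288,31362,31383,31400,31443,31450,31455,31485,31508,31560,31577,31594,31601,31607,31624,31642,31652,31657,31660,31665]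

theorem i_dl_2 {G : Type u} [Group G] (F : FM P23p G) : F.Inv (F.PS (Subgroup.normalizer (Subgroup.zpowers (F.ev [25]) : Set G)) []) m_dl_1 :=
  (FM.Inv.fixn [25] (inf_le_left.trans le_rfl)).eq (by decide +kernel)

theorem sz_dl_3 : P23p.szOK (5,[]) m_dl_1 324 = true := by decide +kernel

noncomputable def m_dl_4 : ℕ := bits [8001]

theorem fx_dl_5 {G : Type u} [Group G] (F : FM P23p G) : F.Fx (F.PS (Subgroup.normalizer (Subgroup.zpowers (F.ev [25]) : Set G)) [(5,[])]) m_dl_4 :=
  (FM.Fx.ps (qs := [(5,[])]) (by decide +kernel)).le (by decide +kernel)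

noncomputable def m_dl_6 : ℕ := bits [8001]

noncomputable def m_dl_7 : ℕ := bits [8001]

theorem i_dl_8 {G : Type u} [Group G] (F : FM P23p G) : F.Inv (F.PS (Subgroup.normalizer (Subgroup.zpowers (F.ev [25]) : Set G)) [(5,[])]) m_dl_7 :=
  ((fx_dl_5 F).inv (b := m_dl_6) (by decide +kernel)).eq (by decide +kernel)

noncomputable def m_dl_9 : ℕ := bits [30,41,77,94,136,137,182,185,198,235,278,282,341,342,390,398,408,409,414,415,428,498,561,568,594,604,702,802,808,810,811,813,825,837,863,923,990,1124,1127,1130,1140,1154,1158,1160,1178,1194,1216,1358,1375,1569,1602,1610,1632,1709,1710,1818,1861,2139,2144,2148,2166,2215,2216,2245,2273,2338,2493,2897,2906,2929,2932,3000,3001,3155,3233,3249,3260,3277,3881,3949,3969,3976,4015,4018,4035,4056,4133,4135,4179,4180,4203,4207,4229,4230,4461,4971,4972,5056,5079,5106,5108,5185,5254,5259,5275,6297,8005,22964,23992,24230,24541,24794,25083,25165,25339,25360,25373,25511,25534,25540,25583,25684,25702,25956,25983,26033,26090,2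6235,26259,26267,26336,26354,26400,26526,26562,26588,26641,26648,26701,26708,26711,26734,26741,26763,26833,26870,26888,26913,26995,27062,27073,27148,27177,27185,27197,27229,27249,27275,27305,27351,27399,27431,27461,27464,27490,27590,27604,27615,27623,27693,27749,27768,27843,27852,27880,27912,27945,27978,28001,28023,28046,28072,28080,28093,28106,28141,28168,28179,28331,28357,28369,28423,28440,28447,28487,28648,28671,28696,28748,28766,28801,28814,28817,28840,28869,28877,28915,28923,28927,28928,28932,28940,28954,28982,29028,29033,29052,29083,29112,29210,29228,29237,29288,29299,29313,29369,29402,29417,29426,29461,29470,29471,29484,29560,29584,29585,29683,29697,29744,29751,29812,29895,29948,29967,29988,30011,30051,30061,30138,30161,30166,30175,30191,30205,30215,30223,30293,30314,30327,30417,30432,30536,30537,30565,30586,30602,30609,30610,30630,30649,30655,30656,30664,30689,30704,30717,30743,30748,30774,30795,30868,30869,30899,30909,30924,30978,31017,31020,31049,31061,31063,31069,31099,31106,31111,31125,31156,31159,31195,31217,31256,31258,31267,31288,31362,31383,31400,31443,31450,31455,31485,31508,31560,31577,31594,31601,31607,31624,31642,31652,31657,31660,31665]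

theorem i_dl_10 {G : Type u} [Group G] (F : FM P23p G) : F.Inv (F.PS (Subgroup.normalizer (Subgroup.zpowers (F.ev [25]) : Set G)) [(5,[])]) m_dl_9 :=
  (FM.Inv.mns ((i_dl_2 F).mono (FM.PS_le _ _)) (i_dl_8 F)).eq (by decide +kernel)

noncomputable def m_dl_11 : ℕ := bits [30,41,77,182,185,398,428,808,923,1194,1358,1375,1709,1818,2139,2144,2216,2273,2897,3001,3249,3949,3969,4229,4461,4971,8005]

theorem i_dl_12 {G : Type u} [Group G] (F : FM P23p G) : F.Inv (F.PS (Subgroup.normalizer (Subgroup.zpowers (F.ev [25]) : Set G)) [(5,[])]) m_dl_11 :=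
  (FM.Fx.pat (fx_dl_5 F) (i_dl_10 F) [(5,[])] [] (by decide +kernel)).eq (by decide +kernel)

theorem sz_dl_13 : P23p.szOK (2,[]) m_dl_11 27 = true := by decide +kernel

noncomputable def m_dl_14 : ℕ := bits [8001,8005]

theorem fx_dl_15 {G : Type u} [Group G] (F : FM P23p G) : F.Fx (F.PS (Subgroup.normalizer (Subgroup.zpowers (F.ev [25]) : Set G)) [(2,[]),(5,[])]) m_dl_14 :=
  (FM.Fx.lor (FM.Fx.ps (qs := [(2,[]),(5,[])]) (by decide +kernel)) ((fx_dl_5 F).mono (FM.PS_le _ _))).le (by decide +kernel)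

noncomputable def m_dl_16 : ℕ := bits [30,41,2216,3001,3249,3969,4229,4971]

theorem i_dl_17 {G : Type u} [Group G] (F : FM P23p G) : F.Inv (F.PS (Subgroup.normalizer (Subgroup.zpowers (F.ev [25]) : Set G)) [(2,[]),(5,[])]) m_dl_16 :=
  (FM.Fx.pat (fx_dl_15 F) ((i_dl_12 F).mono (FM.PS_le _ _)) [] [(2,[])] (by decide +kernel)).eq (by decide +kernel)

theorem sz_dl_18 : P23p.szOK (4,[12,11,7,10]) m_dl_16 8 = true := by decide +kernel

noncomputable def m_dl_19 : ℕ := bits [30,8001,8005]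

theorem fx_dl_20 {G : Type u} [Group G] (F : FM P23p G) : F.Fx (F.PS (Subgroup.normalizer (Subgroup.zpowers (F.ev [25]) : Set G)) [(4,[12,11,7,10]),(2,[]),(5,[])]) m_dl_19 :=
  (FM.Fx.lor (FM.Fx.ps (qs := [(4,[12,11,7,10]),(2,[]),(5,[])]) (by decide +kernel)) ((fx_dl_15 F).mono (FM.PS_le _ _))).le (by decide +kernel)

noncomputable def m_dl_21 : ℕ := bits [30,41,8001,8005]

theorem fx_dl_22 {G : Type u} [Group G] (F : FM P23p G) : F.Fx (F.PS (Subgroup.normalizer (Subgroup.zpowers (F.ev [25]) : Set G)) [(4,[12,11,7,10]),(2,[]),(5,[])]) m_dl_21 :=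
  ((fx_dl_20 F).orb [(2,[])] (by decide +kernel) 1).le (by decide +kernel)

noncomputable def m_dl_23 : ℕ := bits [94,136,137,198,235,278,282,341,342,390,408,409,414,415,498,561,568,594,604,702,802,810,811,813,825,837,863,990,1124,1127,1130,1140,1154,1158,1160,1178,1216,1569,1602,1610,1632,1710,1861,2148,2166,2215,2245,2338,2493,2906,2929,2932,3000,3155,3233,3260,3277,3881,3976,4015,4018,4035,4056,4133,4135,4179,4180,4203,4207,4230,4972,5056,5079,5106,5108,5185,5254,5259,5275,6297,22964,23992,24230,24541,24794,25083,25165,25339,25360,25373,25511,25534,25540,25583,25684,25702,25956,25983,26033,26090,26235,26259,26267,26336,26354,26400,26526,26562,26588,26641,26648,26701,26708,26711,26734,26741,26763,26833,26870,26888,26913,26995,27062,27073,27148,27177,27185,27197,27229,27249,27275,27305,27351,27399,27431,27461,27464,27490,27590,27604,27615,27623,27693,27749,27768,27843,27852,27880,27912,27945,27978,28001,28023,28046,28072,28080,28093,28106,28141,28168,28179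,28331,28357,28369,28423,28440,28447,28487,28648,28671,28696,28748,28766,28801,28814,28817,28840,28869,28877,28915,28923,28927,28928,28932,28940,28954,28982,29028,29033,29052,29083,29112,29210,29228,29237,29288,29299,29313,29369,29402,29417,29426,29461,29470,29471,29484,29560,29584,29585,29683,29697,29744,29751,29812,29895,29948,29967,29988,30011,30051,30061,30138,30161,30166,30175,30191,30205,30215,30223,30293,30314,30327,30417,30432,30536,30537,30565,30586,30602,30609,30610,30630,30649,30655,30656,30664,30689,30704,30717,30743,30748,30774,30795,30868,30869,30899,30909,30924,30978,31017,31020,31049,31061,31063,31069,31099,31106,31111,31125,31156,31159,31195,31217,31256,31258,31267,31288,31362,31383,31400,31443,31450,31455,31485,31508,31560,31577,31594,31601,31607,31624,31642,31652,31657,31660,31665]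

theorem i_dl_24 {G : Type u} [Group G] (F : FM P23p G) : F.Inv (F.PS (Subgroup.normalizer (Subgroup.zpowers (F.ev [25]) : Set G)) [(4,[12,11,7,10]),(2,[]),(5,[])]) m_dl_23 :=
  (FM.Inv.mns (((i_dl_10 F).mono (FM.PS_le _ _)).mono (FM.PS_le _ _)) (((i_dl_12 F).mono (FM.PS_le _ _)).mono (FM.PS_le _ _))).eq (by decide +kernel)

noncomputable def m_dl_25 : ℕ := bits [94,136,137,198,235,278,282,341,342,408,409,414,415,498,568,594,604,702,802,810,811,813,825,837,990,1124,1127,1130,1140,1154,1158,1160,1178,1569,1602,1610,1632,1861,2148,2166,2215,2245,2493,2906,2929,2932,3000,3155,3233,3260,3277,3881,3976,4015,4018,4035,4133,4135,4179,4180,4203,4207,4230,4972,5056,5079,5106,5108,5254,5259,5275,6297,22964,23992,24230,24541,24794,25083,25165,25339,25360,25373,25511,25534,25540,25583,25684,25702,25956,25983,26033,26090,26235,26259,26267,26336,26354,26400,26526,26562,26588,26641,26648,26701,26708,26711,26734,26741,26763,26833,26870,26888,26913,26995,27062,27073,27148,2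7177,27185,27197,27229,27249,27275,27305,27351,27399,27431,27461,27464,27490,27590,27604,27615,27623,27693,27749,27768,27843,27852,27880,27912,27945,27978,28001,28023,28046,28072,28080,28093,28106,28141,28168,28179,28331,28357,28369,28423,28440,28447,28487,28648,28671,28696,28748,28766,28801,28814,28817,28840,28869,28877,28915,28923,28927,28928,28932,28940,28954,28982,29028,29033,29052,29083,29112,29210,29228,29237,29288,29299,29313,29369,29402,29417,29426,29461,29470,29471,29484,29560,29584,29585,29683,29697,29744,29751,29812,29895,29948,29967,29988,30011,30051,30061,30138,30161,30166,30175,30191,30205,30215,30223,30293,30314,30327,30417,30432,30536,30537,30565,30586,30602,30609,30610,30630,30649,30655,30656,30664,30689,30704,30717,30743,30748,30774,30795,30868,30869,30899,30909,30924,30978,31017,31020,31049,31061,31063,31069,31099,31106,31111,31125,31156,31159,31195,31217,31256,31258,31267,31288,31362,31383,31400,31443,31450,31455,31485,31508,31560,31577,31594,31601,31607,31624,31642,31652,31657,31660,31665]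

theorem i_dl_26 {G : Type u} [Group G] (F : FM P23p G) : F.Inv (F.PS (Subgroup.normalizer (Subgroup.zpowers (F.ev [25]) : Set G)) [(4,[12,11,7,10]),(2,[]),(5,[])]) m_dl_25 :=
  (FM.Fx.pat (fx_dl_22 F) (i_dl_24 F) [] [(2,[])] (by decide +kernel)).eq (by decide +kernel)

theorem sz_dl_27 : P23p.szOK (8,[12]) m_dl_25 288 = true := by decide +kernel

noncomputable def m_dl_28 : ℕ := bits [30,41,8001,8005,31652]

theorem fx_dl_29 {G : Type u} [Group G] (F : FM P23p G) : F.Fx (F.PS (Subgroup.normalizer (Subgroup.zpowers (F.ev [25]) : Set G)) [(8,[12]),(4,[12,11,7,10]),(2,[]),(5,[])]) m_dl_28 :=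
  (FM.Fx.lor (FM.Fx.ps (qs := [(8,[12]),(4,[12,11,7,10]),(2,[]),(5,[])]) (by decide +kernel)) ((fx_dl_22 F).mono (FM.PS_le _ _))).le (by decide +kernel)

noncomputable def m_dl_30 : ℕ := bits [30,41,390,561,8001,8005,28927,29470,29560,29812,30205,30223,30293,30774,31455,31577,31607,31652]

theorem fx_dl_31 {G : Type u} [Group G] (F : FM P23p G) : F.Fx (F.PS (Subgroup.normalizer (Subgroup.zpowers (F.ev [25]) : Set G)) [(8,[12]),(4,[12,11,7,10]),(2,[]),(5,[])]) m_dl_30 :=
  ((fx_dl_29 F).orb [(5,[]),(2,[]),(8,[12])] (by decide +kernel) 2).le (by decide +kernel)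

noncomputable def m_dl_32 : ℕ := bits [390,561,863,1216,1710,2338,4056,5185]

theorem i_dl_33 {G : Type u} [Group G] (F : FM P23p G) : F.Inv (F.PS (Subgroup.normalizer (Subgroup.zpowers (F.ev [25]) : Set G)) [(8,[12]),(4,[12,11,7,10]),(2,[]),(5,[])]) m_dl_32 :=
  (FM.Inv.mns ((i_dl_24 F).mono (FM.PS_le _ _)) ((i_dl_26 F).mono (FM.PS_le _ _))).eq (by decide +kernel)

noncomputable def m_dl_34 : ℕ := bits [30,41,390,561,8001,8005,28927,29470,29560,29812,30205,30223,30293,30774,31455,31577,31607,31652]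

noncomputable def m_dl_35 : ℕ := bits [30,41,390,561,8001,8005,28927,29470,29560,29812,30205,30223,30293,30774,31455,31577,31607,31652]

theorem i_dl_36 {G : Type u} [Group G] (F : FM P23p G) : F.Inv (F.PS (Subgroup.normalizer (Subgroup.zpowers (F.ev [25]) : Set G)) [(8,[12]),(4,[12,11,7,10]),(2,[]),(5,[])]) m_dl_35 :=
  ((fx_dl_31 F).inv (b := m_dl_34) (by decide +kernel)).eq (by decide +kernel)

noncomputable def m_dl_37 : ℕ := bits [863,1216,1710,2338,4056,5185]

theorem i_dl_38 {G : Type u} [Group G] (F : FM P23p G) : F.Inv (F.PS (Subgroup.normalizer (Subgroup.zpowers (F.ev [25]) : Set G)) [(8,[12]),(4,[12,11,7,10]),(2,[]),(5,[])]) m_dl_37 :=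
  (FM.Inv.mns (i_dl_33 F) (i_dl_36 F)).eq (by decide +kernel)

theorem sz_dl_39 : P23p.szOK (3,[7,12,11,6]) m_dl_37 6 = true := by decide +kernel

noncomputable def m_dl_40 : ℕ := bits [30,41,390,561,1216,8001,8005,28927,29470,29560,29812,30205,30223,30293,30774,31455,31577,31607,31652]

theorem fx_dl_41 {G : Type u} [Group G] (F : FM P23p G) : F.Fx (F.PS (Subgroup.normalizer (Subgroup.zpowers (F.ev [25]) : Set G)) [(3,[7,12,11,6]),(8,[12]),(4,[12,11,7,10]),(2,[]),(5,[])]) m_dl_40 :=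
  (FM.Fx.lor (FM.Fx.ps (qs := [(3,[7,12,11,6]),(8,[12]),(4,[12,11,7,10]),(2,[]),(5,[])]) (by decide +kernel)) ((fx_dl_31 F).mono (FM.PS_le _ _))).le (by decide +kernel)

noncomputable def m_dl_42 : ℕ := bits [30,41,390,561,863,1216,1710,2216,2338,3001,3249,3969,4056,4229,4971,5185,8001,8005,26090,27275,27305,27431,27843,28046,28141,28447,28487,28840,28869,28915,28923,28927,29052,29112,29299,29369,29461,29470,29560,29584,29812,30205,30215,30223,30293,30774,30795,30899,31020,31125,31455,31577,31607,31652]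

theorem fx_dl_43 {G : Type u} [Group G] (F : FM P23p G) : F.Fx (F.PS (Subgroup.normalizer (Subgroup.zpowers (F.ev [25]) : Set G)) [(3,[7,12,11,6]),(8,[12]),(4,[12,11,7,10]),(2,[]),(5,[])]) m_dl_42 :=
  ((fx_dl_41 F).orb [(5,[]),(8,[12]),(2,[]),(9,[11,12,7])] (by decide +kernel) 2).le (by decide +kernel)

noncomputable def m_dl_44 : ℕ := bits [207,434,5560,13377,13578,13607,19934,19970,20527]

theorem i_dl_45 {G : Type u} [Group G] (F : FM P23p G) : F.Inv (F.PS (Subgroup.normalizer (Subgroup.zpowers (F.ev [25]) : Set G)) [(3,[7,12,11,6]),(8,[12]),(4,[12,11,7,10]),(2,[]),(5,[])]) m_dl_44 :=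
  (FM.Fx.pat (fx_dl_43 F) FM.Inv.all [(5,[]),(2,[]),(2,[12,6,11]),(7,[12,8,11])] [] (by decide +kernel)).eq (by decide +kernel)

theorem sz_dl_46 : P23p.szOK (0,[11,9,12,4,10]) m_dl_44 9 = true := by decide +kernel

noncomputable def m_dl_47 : ℕ := bits [30,41,207,390,561,863,1216,1710,2216,2338,3001,3249,3969,4056,4229,4971,5185,8001,8005,26090,27275,27305,27431,27843,28046,28141,28447,28487,28840,28869,28915,28923,28927,29052,29112,29299,29369,29461,29470,29560,29584,29812,30205,30215,30223,30293,30774,30795,30899,31020,31125,31455,31577,31607,31652]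

theorem fx_dl_48 {G : Type u} [Group G] (F : FM P23p G) : F.Fx (F.PS (Subgroup.normalizer (Subgroup.zpowers (F.ev [25]) : Set G)) [(0,[11,9,12,4,10]),(3,[7,12,11,6]),(8,[12]),(4,[12,11,7,10]),(2,[]),(5,[])]) m_dl_47 :=
  (FM.Fx.lor (FM.Fx.ps (qs := [(0,[11,9,12,4,10]),(3,[7,12,11,6]),(8,[12]),(4,[12,11,7,10]),(2,[]),(5,[])]) (by decide +kernel)) ((fx_dl_43 F).mono (FM.PS_le _ _))).le (by decide +kernel)

noncomputable def m_dl_49 : ℕ := bits [30,41,207,390,561,863,1216,1710,1855,2216,2338,3001,3249,3969,4056,4229,4277,4881,4971,5185,5188,5351,6198,6304,6438,6456,6790,7115,7158,7821,7905,7922,8001,8005,8234,8273,8277,8330,8417,8886,9506,9586,9614,9754,9872,9973,10042,10247,10379,10648,10770,11180,11486,11503,11578,11599,11639,11704,11813,12394,12448,12753,12851,13087,13377,13533,13607,13630,13779,14332,16078,16507,16835,17882,17929,18158,18879,19519,19650,19874,19905,20225,21306,21314,22818,22851,22853,23535,23685,23891,24132,24504,24712,26090,27275,27305,27431,27843,28046,28141,28447,28487,28564,28840,28869,28915,28923,28927,28959,29052,29112,29299,29369,29461,29462,29470,29527,29542,29560,29584,29812,30205,30215,30216,30223,30293,30774,30795,30899,31020,31125,31455,31577,31607,31652]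

theorem fx_dl_50 {G : Type u} [Group G] (F : FM P23p G) : F.Fx (F.PS (Subgroup.normalizer (Subgroup.zpowers (F.ev [25]) : Set G)) [(0,[11,9,12,4,10]),(3,[7,12,11,6]),(8,[12]),(4,[12,11,7,10]),(2,[]),(5,[])]) m_dl_49 :=
  ((fx_dl_48 F).orb [(8,[12]),(5,[]),(2,[]),(9,[11,12,7]),(2,[12,6,11])] (by decide +kernel) 3).le (by decide +kernel)

theorem cx_dl_51 {G : Type u} [Group G] (F : FM P23p G) : ∀ g ∈ (F.PS (Subgroup.normalizer (Subgroup.zpowers (F.ev [25]) : Set G)) [(0,[11,9,12,4,10]),(3,[7,12,11,6]),(8,[12]),(4,[12,11,7,10]),(2,[]),(5,[])]), Commute (F.ev [25]) g :=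
  FM.comm_of_fix (by norm_num) (ord_dl F) (inf_le_left.trans le_rfl) (fx_dl_50 F) (1,[11,12,7]) (by decide +kernel)

noncomputable def m_dl_52 : ℕ := bits [0,3076,6292]

theorem i_dl_53 {G : Type u} [Group G] (F : FM P23p G) : F.Inv (F.PS (Subgroup.normalizer (Subgroup.zpowers (F.ev [25]) : Set G)) [(0,[11,9,12,4,10]),(3,[7,12,11,6]),(8,[12]),(4,[12,11,7,10]),(2,[]),(5,[])]) m_dl_52 :=
  (FM.Fx.pat (fx_dl_50 F) FM.Inv.all [(5,[]),(2,[]),(5,[12,11,0,3,11]),(5,[11,10,9,12])] [(7,[11,3,9,12]),(9,[11,12,7])] (by decide +kernel)).eq (by decide +kernel)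

theorem sz_dl_54 : P23p.szOK (10,[]) m_dl_52 3 = true := by decide +kernel

noncomputable def m_dl_55 : ℕ := bits [0,30,41,207,390,561,863,1216,1710,1855,2216,2338,3001,3249,3969,4056,4229,4277,4881,4971,5185,5188,5351,6198,6304,6438,6456,6790,7115,7158,7821,7905,7922,8001,8005,8234,8273,8277,8330,8417,8886,9506,9586,9614,9754,9872,9973,10042,10247,10379,10648,10770,11180,11486,11503,11578,11599,11639,11704,11813,12394,12448,12753,12851,13087,13377,13533,13607,13630,13779,14332,16078,16507,16835,17882,17929,18158,18879,19519,19650,19874,19905,20225,21306,21314,22818,22851,22853,23535,23685,23891,24132,24504,24712,26090,27275,27305,27431,27843,28046,28141,28447,28487,28564,28840,28869,28915,28923,28927,28959,29052,29112,29299,29369,29461,29462,29470,29527,29542,29560,29584,29812,30205,30215,30216,30223,30293,30774,30795,30899,31020,31125,31455,31577,31607,31652]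

theorem fx_dl_56 {G : Type u} [Group G] (F : FM P23p G) : F.Fx (F.PS (Subgroup.normalizer (Subgroup.zpowers (F.ev [25]) : Set G)) [(10,[]),(0,[11,9,12,4,10]),(3,[7,12,11,6]),(8,[12]),(4,[12,11,7,10]),(2,[]),(5,[])]) m_dl_55 :=
  (FM.Fx.lor (FM.Fx.ps (qs := [(10,[]),(0,[11,9,12,4,10]),(3,[7,12,11,6]),(8,[12]),(4,[12,11,7,10]),(2,[]),(5,[])]) (by decide +kernel)) ((fx_dl_50 F).mono (FM.PS_le _ _))).le (by decide +kernel)

noncomputable def m_dl_57 : ℕ := bits [0,30,36,41,207,390,442,561,863,1216,1710,1855,2216,2338,3001,3249,3969,4056,4229,4277,4881,4971,5185,5188,5351,6198,6304,6438,6456,6790,7115,7158,7821,7905,7922,8001,8005,8234,8273,8277,8330,8417,8886,9506,9586,9614,9754,9872,9973,10042,10247,10379,10648,10770,11180,11486,11503,11578,11599,11639,11704,11813,12394,12448,12753,12851,13087,13377,13533,13607,13630,13779,14332,16078,16507,16835,17882,17929,18158,18879,19519,19650,19874,19905,20225,21306,21314,22818,22851,22853,23535,23685,23891,24132,24504,24712,26090,27275,27305,27431,27843,28046,28141,28447,28487,28564,28840,28869,28915,28923,28927,28959,29052,29112,29299,29369,29461,29462,29470,29527,29542,29560,29584,29812,30205,30215,30216,30223,30293,30774,30795,30899,31020,31125,31455,31577,31607,31652]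

theorem fx_dl_58 {G : Type u} [Group G] (F : FM P23p G) : F.Fx (F.PS (Subgroup.normalizer (Subgroup.zpowers (F.ev [25]) : Set G)) [(10,[]),(0,[11,9,12,4,10]),(3,[7,12,11,6]),(8,[12]),(4,[12,11,7,10]),(2,[]),(5,[])]) m_dl_57 :=
  ((fx_dl_56 F).grow (W := [[25]]) (List.forall_mem_singleton.2 (fun g hg => (cx_dl_51 F) g (FM.PS_le _ _ hg))) 2).le (by decide +kernel)

noncomputable def m_dl_59 : ℕ := bits [0,1,2,3,4,5,6,8,30,36,41,207,390,442,517,561,863,1216,1710,1855,2216,2338,2527,3001,3249,3969,4056,4229,4277,4881,4971,5185,5188,5351,6198,6304,6438,6456,6790,7115,7158,7821,7905,7922,8001,8005,8234,8273,8277,8330,8417,8886,9506,9586,9614,9754,9872,9973,10042,10247,10379,10648,10770,11180,11486,11503,11578,11599,11639,11704,11813,12394,12448,12753,12851,13087,13377,13533,13607,13630,13779,14332,16078,16507,16835,17882,17929,18158,18879,19519,19650,19874,19905,20225,21306,21314,22818,22851,22853,23535,23685,23891,24132,24504,24712,26090,27275,27305,27431,27843,28046,28141,28447,28487,28564,28840,28869,28915,28923,28927,28959,29052,29112,29299,29369,29461,29462,29470,29527,29542,29560,29584,29812,30205,30215,30216,30223,30293,30774,30795,30899,31020,31125,31455,31577,31607,31652]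

theorem fx_dl_60 {G : Type u} [Group G] (F : FM P23p G) : F.Fx (F.PS (Subgroup.normalizer (Subgroup.zpowers (F.ev [25]) : Set G)) [(10,[]),(0,[11,9,12,4,10]),(3,[7,12,11,6]),(8,[12]),(4,[12,11,7,10]),(2,[]),(5,[])]) m_dl_59 :=
  ((fx_dl_58 F).orb [(10,[]),(8,[12]),(5,[]),(2,[]),(1,[11,12,7])] (by decide +kernel) 4).le (by decide +kernel)

theorem bot_dl_61 {G : Type u} [Group G] (F : FM P23p G) : (F.PS (Subgroup.normalizer (Subgroup.zpowers (F.ev [25]) : Set G)) [(10,[]),(0,[11,9,12,4,10]),(3,[7,12,11,6]),(8,[12]),(4,[12,11,7,10]),(2,[]),(5,[])]) = ⊥ :=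
  (fx_dl_60 F).bot (by decide +kernel)

theorem ubh_dl {G : Type u} [Group G] (F : FM P23p G) : Nat.card (Subgroup.normalizer (Subgroup.zpowers (F.ev [25]) : Set G)) ≤ 3265173504 :=
  (by have h := (((FM.pst_le (i_dl_2 F) sz_dl_3).trans (Nat.mul_le_mul_left 324 (((FM.pst_le (i_dl_12 F) sz_dl_13).trans (Nat.mul_le_mul_left 27 (((FM.pst_le (i_dl_17 F) sz_dl_18).trans (Nat.mul_le_mul_left 8 (((FM.pst_le (i_dl_26 F) sz_dl_27).trans (Nat.mul_le_mul_left 288 (((FM.pst_le (i_dl_38 F) sz_dl_39).trans (Nat.mul_le_mul_left 6 (((FM.pst_le (i_dl_45 F) sz_dl_46).trans (Nat.mul_le_mul_left 9 (((FM.pst_le (i_dl_53 F) sz_dl_54).trans (Nat.mul_le_mul_left 3 ((by rw [bot_dl_61 F, Subgroup.card_bot]) : _ ≤ 1))) : _ ≤ 3))) : _ ≤ 27))) : _ ≤ 162))) : _ ≤ 46656))) : _ ≤ 373248))) : _ ≤ 10077696))) : Nat.card (F.PS (Subgroup.normalizer (Subgroup.zpowers (F.ev [25]) : Set G)) []) ≤ 3265173504); rw [FM.PS_nil] at h; exact h)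

theorem mv_dm_0 : P23p.mvOK [] (5,[]) [[12,8,12],[7,4,3,4,7],[10,11,6,11,10],[8,11,4,11,8],[10,12,6,12,10],[8,12,5,12,8],[8,12,2,12,8],[10,12,4,12,10],[13],[15],[13,14],[13,16]] 1 m_dl_1 = true := by decide +kernel
theorem sz_dm_0 : P23p.szOK (5,[]) m_dl_1 324 = true := by decide +kernel

theorem mw_dl_0 {G : Type u} [Group G] (F : FM P23p G) : ∀ w ∈ ([[12,8,12],[7,4,3,4,7],[10,11,6,11,10],[8,11,4,11,8],[10,12,6,12,10],[8,12,5,12,8],[8,12,2,12,8],[10,12,4,12,10],[13],[15],[13,14],[13,16]] : List (List ℕ)), F.ev w ∈ (Subgroup.normalizer (Subgroup.zpowers (F.ev [25]) : Set G)) :=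
  FM.cjzL (he_23p F) (by decide +kernel)

theorem mv_dm_1 : P23p.mvOK [(5,[])] (2,[]) [[13,16],[13,14,17,20,20,23],[19,20,21,23,23,24,25],[17,19,19,20,21,23,25,25],[13,14,17,17,19,19,21,21],[13,14,19,20,21,24,24,25],[13,16,20,22,23,23,25,25]] 1 m_dl_11 = true := by decide +kernel
theorem sz_dm_1 : P23p.szOK (2,[]) m_dl_11 27 = true := by decide +kernel

theorem mw_dl_1 {G : Type u} [Group G] (F : FM P23p G) : ∀ w ∈ ([[13,16],[13,14,17,20,20,23],[19,20,21,23,23,24,25],[17,19,19,20,21,23,25,25],[13,14,17,17,19,19,21,21],[13,14,19,20,21,24,24,25],[13,16,20,22,23,23,25,25]] : List (List ℕ)), F.ev w ∈ (Subgroup.normalizer (Subgroup.zpowers (F.ev [25]) : Set G)) :=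
  FM.cjzL (he_23p F) (by decide +kernel)

theorem mv_dm_2 : P23p.mvOK [(2,[]),(5,[])] (4,[12,11,7,10]) [[2],[13,16,17,17,19,19,21],[14,14,16,17,17,19,19,25],[11,12,9,6,9,12,11,3,4,0,11,12,9,12,11,0,1,7,12,7,4,12,3,12,4,7,12,0,6,5,3,11,9,1,11,0,11,1,9,11,3,5,4,3,10,9,6,9,10,8,6,3,11,4,1,11,0,11,1,4,11,3,6,10,4,3,2,1,12,11,8,11,12,1,2,3,4,10,6,9,10]] 1 m_dl_16 = true := by decide +kernel
theorem sz_dm_2 : P23p.szOK (4,[12,11,7,10]) m_dl_16 8 = true := by decide +kernel

theorem mw_dl_2 {G : Type u} [Group G] (F : FM P23p G) : ∀ w ∈ ([[2],[13,16,17,17,19,19,21],[14,14,16,17,17,19,19,25],[11,12,9,6,9,12,11,3,4,0,11,12,9,12,11,0,1,7,12,7,4,12,3,12,4,7,12,0,6,5,3,11,9,1,11,0,11,1,9,11,3,5,4,3,10,9,6,9,10,8,6,3,11,4,1,11,0,11,1,4,11,3,6,10,4,3,2,1,12,11,8,11,12,1,2,3,4,10,6,9,10]] : List (List ℕ)), F.ev w ∈ (Subgroup.normalizer (Subgroup.zpowers (F.ev [25]) : Set G)) :=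
  FM.cjzL (he_23p F) (by decide +kernel)

theorem mv_dm_3 : P23p.mvOK [(4,[12,11,7,10]),(2,[]),(5,[])] (8,[12]) [[5],[4,12,11,9,11,12,4],[3,7,11,12,4,12,11,7,3],[21,25,25],[7,11,12,10,12,11,5,7,11,12,10,12,11,7,1,2,11,12,10,12,11,2,1,12,10,5,12,3,12,5,10,7,4,3,4,7,5,4,3,4,5,12,2,9,6,9,5,6,11,0,1,11,8,7,3,7,8,11,1,0,11,3,5,7,3,11,9,1,11,0,11,1,9,11,3,7,4,6,5,10]] 3 m_dl_25 = true := by decide +kernel
theorem sz_dm_3 : P23p.szOK (8,[12]) m_dl_25 288 = true := by decide +kernel

theorem mw_dl_3 {G : Type u} [Group G] (F : FM P23p G) : ∀ w ∈ ([[5],[4,12,11,9,11,12,4],[3,7,11,12,4,12,11,7,3],[21,25,25],[7,11,12,10,12,11,5,7,11,12,10,12,11,7,1,2,11,12,10,12,11,2,1,12,10,5,12,3,12,5,10,7,4,3,4,7,5,4,3,4,5,12,2,9,6,9,5,6,11,0,1,11,8,7,3,7,8,11,1,0,11,3,5,7,3,11,9,1,11,0,11,1,9,11,3,7,4,6,5,10]] : List (List ℕ)), F.ev w ∈ (Subgroup.normalizer (Subgroup.zpowers (F.ev [25]) : Set G)) :=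
  FM.cjzL (he_23p F) (by decide +kernel)

theorem mv_dm_4 : P23p.mvOK [(8,[12]),(4,[12,11,7,10]),(2,[]),(5,[])] (3,[7,12,11,6]) [[8,6,3,11,4,1,11,0,11,1,4,11,3,6,5,3,11,7,0,11,1,11,0,7,11,3,5,10,4,3,2,1,12,11,8,11,12,1,2,3,4,10,9,6,5,6,9,6,8],[3,10,11,7,11,10,7,11,7,11,10,8,12,7,4,12,3,12,4,7,12,1,2,11,12,10,12,11,2,1,10,12,4,3,2,3,4,12,7,6,4,11,5,1,11,0,11,1,5,11,4,6,4,5,11,0,1,11,7,3,7,11,1,0,11,5,8,6,3,11,4,1,11,0,11,1,4,11,3,10]] 2 m_dl_37 = true := by decide +kernel
theorem sz_dm_4 : P23p.szOK (3,[7,12,11,6]) m_dl_37 6 = true := by decide +kernel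

theorem mw_dl_4 {G : Type u} [Group G] (F : FM P23p G) : ∀ w ∈ ([[8,6,3,11,4,1,11,0,11,1,4,11,3,6,5,3,11,7,0,11,1,11,0,7,11,3,5,10,4,3,2,1,12,11,8,11,12,1,2,3,4,10,9,6,5,6,9,6,8],[3,10,11,7,11,10,7,11,7,11,10,8,12,7,4,12,3,12,4,7,12,1,2,11,12,10,12,11,2,1,10,12,4,3,2,3,4,12,7,6,4,11,5,1,11,0,11,1,5,11,4,6,4,5,11,0,1,11,7,3,7,11,1,0,11,5,8,6,3,11,4,1,11,0,11,1,4,11,3,10]] : List (List ℕ)), F.ev w ∈ (Subgroup.normalizer (Subgroup.zpowers (F.ev [25]) : Set G)) :=
  FM.cjzL (he_23p F) (by decide +kernel)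

theorem mv_dm_5 : P23p.mvOK [(3,[7,12,11,6]),(8,[12]),(4,[12,11,7,10]),(2,[]),(5,[])] (0,[11,9,12,4,10]) [[25],[13,14,17,20,20,23,25],[13,14,17,17,21,22,22,24],[13,14,17,17,21,22,22,24,25]] 1 m_dl_44 = true := by decide +kernel
theorem sz_dm_5 : P23p.szOK (0,[11,9,12,4,10]) m_dl_44 9 = true := by decide +kernel

theorem mw_dl_5 {G : Type u} [Group G] (F : FM P23p G) : ∀ w ∈ ([[25],[13,14,17,20,20,23,25],[13,14,17,17,21,22,22,24],[13,14,17,17,21,22,22,24,25]] : List (List ℕ)), F.ev w ∈ (Subgroup.normalizer (Subgroup.zpowers (F.ev [25]) : Set G)) :=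
  FM.cjzL (he_23p F) (by decide +kernel)

theorem mv_dm_6 : P23p.mvOK [(0,[11,9,12,4,10]),(3,[7,12,11,6]),(8,[12]),(4,[12,11,7,10]),(2,[]),(5,[])] (10,[]) [[13,14,17,20,20,23]] 2 m_dl_52 = true := by decide +kernel
theorem sz_dm_6 : P23p.szOK (10,[]) m_dl_52 3 = true := by decide +kernel

theorem mw_dl_6 {G : Type u} [Group G] (F : FM P23p G) : ∀ w ∈ ([[13,14,17,20,20,23]] : List (List ℕ)), F.ev w ∈ (Subgroup.normalizer (Subgroup.zpowers (F.ev [25]) : Set G)) :=
  FM.cjzL (he_23p F) (by decide +kernel)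

theorem card_dl {G : Type u} [Group G] (F : FM P23p G) : Nat.card (Subgroup.normalizer (Subgroup.zpowers (F.ev [25]) : Set G)) = 3265173504 :=
  le_antisymm (ubh_dl F) (by have h := (((Nat.mul_le_mul_left 324 (((Nat.mul_le_mul_left 27 (((Nat.mul_le_mul_left 8 (((Nat.mul_le_mul_left 288 (((Nat.mul_le_mul_left 6 (((Nat.mul_le_mul_left 9 (((Nat.mul_le_mul_left 3 ((have := F.fin; Nat.card_pos) : 1 ≤ _)).trans (FM.pst_ge mv_dm_6 (mw_dl_6 F) sz_dm_6)) : 3 ≤ _)).trans (FM.pst_ge mv_dm_5 (mw_dl_5 F) sz_dm_5)) : 27 ≤ _)).trans (FM.pst_ge mv_dm_4 (mw_dl_4 F) sz_dm_4)) : 162 ≤ _)).trans (FM.pst_ge mv_dm_3 (mw_dl_3 F) sz_dm_3)) : 46656 ≤ _)).trans (FM.pst_ge mv_dm_2 (mw_dl_2 F) sz_dm_2)) : 373248 ≤ _)).trans (FM.pst_ge mv_dm_1 (mw_dl_1 F) sz_dm_1)) : 10077696 ≤ _)).trans (FM.pst_ge mv_dm_0 (mw_dl_0 F) sz_dm_0)) : 3265173504 ≤ Nat.card (F.PS (Subgroup.normalizer (Subgroup.zpowers (F.ev [25]) : Set G)) [])); rw [FM.PS_nil] at h; exact h)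

end H7.T
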