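import Cfsg.Agent.H7.T.DL_0
set_option Elab.async false
set_option maxRecDepth 100000
set_option maxHeartbeats 0
namespace H7.T
universe u v

theorem cw_dl {G : Type u} [Group G] (F : FM P23p G) : ∀ w ∈ ([[2],[23],[20],[16],[13],[19],[22],[18],[15],[21],[24],[7,11,12,10,12,11,5,7,11,12,10,12,11,7,1,2,11,12,10,12,11,2,1,12,10,5,12,3,12,5,10,7,4,3,4,7,5,4,3,4,5,12,2,9,6,9,5,6,11,0,1,11,8,7,3,7,8,11,1,0,11,3,5,7,3,11,9,1,11,0,11,1,9,11,3,7,4,6,5,10]] : List (List ℕ)), F.ev w ∈ (Subgroup.normalizer (Subgroup.zpowers (F.ev [25]) : Set G)) :=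
  FM.cjzL (he_23p F) (by decide +kernel)

theorem co_dl {G : Type u} [Group G] (F : FM P23p G) : IsCoatom (Subgroup.normalizer (Subgroup.zpowers (F.ev [25]) : Set G)) :=
  have := F.fin
  F.coatom_of (f := fx_23p1) (fun _ hx => sn_23b F (Subgroup.subset_closure hx))
    (norm_le_zp (fun s hs => (((fe_23p1 F).ge hs).2 _ (Subgroup.mem_zpowers _)).symm) (((Subgroup.card_le_of_le ((Subgroup.centralizer_closure _).ge.trans (Subgroup.centralizer_le (qs_23b F)))).trans (ubh_c23b F)).trans (ord_dl F).ge))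
    (fun e => absurd ((card_dl F).symm.trans ((congrArg (fun K : Subgroup G => Nat.card K) e).trans (Subgroup.card_top.trans F.card))) (by decide +kernel))
    (cw_dl F) [(10,[]),(1,[])] 2 2 (by decide +kernel) (by decide +kernel)

theorem ds_0 {G : Type u} [Group G] (F : FM P23p G) : F.ev [11,12,9,6,9,12,11,3,4,0,11,12,9,12,11,0,1,7,12,7,4,12,3,12,4,7,12,0,6,5,3,11,9,1,11,0,11,1,9,11,3,5,4,3,10,9,6,9,10,8,6,3,11,4,1,11,0,11,1,4,11,3,6,10,4,3,2,1,12,11,8,11,12,1,2,3,4,10,6,9,10] ∈ DS (Subgroup.normalizer (Subgroup.zpowers (F.ev [25]) : Set G)) 0 :=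
  DS_zero (FM.cjzL (he_23p F) (L := [[11,12,9,6,9,12,11,3,4,0,11,12,9,12,11,0,1,7,12,7,4,12,3,12,4,7,12,0,6,5,3,11,9,1,11,0,11,1,9,11,3,5,4,3,10,9,6,9,10,8,6,3,11,4,1,11,0,11,1,4,11,3,6,10,4,3,2,1,12,11,8,11,12,1,2,3,4,10,6,9,10]]) (by decide +kernel) _ List.mem_cons_self)

theorem ds_1 {G : Type u} [Group G] (F : FM P23p G) : F.ev [13,13,16,16,17,20,20,23,23,24,24,25] ∈ DS (Subgroup.normalizer (Subgroup.zpowers (F.ev [25]) : Set G)) 1 :=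
  F.ds_step (he_23p F) (ds_0 F) (FM.cjzL (he_23p F) (L := [[13,16]]) (by decide +kernel) _ List.mem_cons_self) [0,11,12,9,12,11,0,2,10,11,7,11,10,11,12,10,12,11,7,12,7,8,12,2,12,8,7,12,1,2,11,12,10,12,11,2,1,9,7,8,12,5,12,8,7,0,9,10,3,11,4,1,11,0,11,1,4,11,3,10,4,11,0,1,11,8,7,3,7,8,11,1,0,11,3,12,4,11,8,12,1,12,8,11,4,12,3,7,4,6,10,9,10,8] _ (by decide +kernel)

theorem ds_2 {G : Type u} [Group G] (F : FM P23p G) : F.ev [0,11,12,9,12,11,0,2,4,3,12,2,12,3,1,12,8,7,3,7,8,12,5,12,7,8,12,2,12,8,7,12,10,11,0,1,11,8,7,3,7,8,11,1,0,11,5,4,11,0,1,11,8,7,3,7,8,11,1,0,11,8,7,3,12,4,11,8,12,1,12,8,11,4,12,3,10,4,3,2,1,12,11,8,11,12,1,2,3,4,10,9,6,5,6,9,12,11,6,4,12,11,0,11,12,4,6,11,12,10,9,6,9,10,8] ∈ DS (Subgroup.normalizer (Subgroup.zpowers (F.ev [25]) : Set G)) 2 :=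
  F.ds_step (he_23p F) (ds_1 F) (FM.cjzL (he_23p F) (L := [[3,10,11,7,11,10,7,11,7,11,10,8,12,7,4,12,3,12,4,7,12,1,2,11,12,10,12,11,2,1,10,12,4,3,2,3,4,12,7,6,4,11,5,1,11,0,11,1,5,11,4,6,4,5,11,0,1,11,7,3,7,11,1,0,11,5,8,6,3,11,4,1,11,0,11,1,4,11,3,10]]) (by decide +kernel) _ List.mem_cons_self) [3,7,2,12,1,12,2,7,10,11,7,11,10,1,12,7,4,3,4,7,12,6,12,4,3,2,3,4,12,0,2,5,9,6,9,5,11,0,1,11,7,3,7,11,1,0,11,5,11,0,1,11,8,7,3,7,8,11,1,0,11,3,4,7,3,11,9,1,11,0,11,1,9,11,3,7,3,11,9,1,11,0,11,1,9,11,3,4,10] _ (by decide +kernel)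

theorem ds_3 {G : Type u} [Group G] (F : FM P23p G) : F.ev [3,12,2,12,3,8,7,2,12,1,12,2,7,11,12,10,12,11,7,1,12,8,7,3,7,8,12,4,8,7,12,5,12,7,8,2,11,0,1,11,8,7,3,7,8,11,1,0,11,5,9,5,11,0,1,11,7,3,7,11,1,0,11,7,3,11,9,1,11,0,11,1,9,11,3,7,5,3,11,7,0,11,1,11,0,7,11,3,5,7,12,11,4,0,1,12,11,12,1,0,4,11,12,6,5,6,11,6,4,11,12,8,11,0,11,8,12,11,4,6,11,6,9,10,8] ∈ DS (Subgroup.normalizer (Subgroup.zpowers (F.ev [25]) : Set G)) 3 :=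
  F.ds_step (he_23p F) (ds_2 F) (FM.cjzL (he_23p F) (L := [[13,16]]) (by decide +kernel) _ List.mem_cons_self) [3,12,2,12,3,6,5,0,11,12,9,12,11,0,10,11,7,11,10,6,8,7,12,5,12,7,8,3,2,3,0,8,4,11,0,1,11,8,7,3,7,8,11,1,0,11,5,8,11,5,0,11,1,11,0,5,11,8,10,9,6,9,10,3,12,4,11,8,12,1,12,8,11,4,12,3,9,6,9,5,4,5,4,3,11,9,1,11,0,11,1,9,11,3,4,11,6,4,11,12,8,11,0,11,8,12,11,4,6,11,6,9,10,8] _ (by decide +kernel)

theorem ds_4 {G : Type u} [Group G] (F : FM P23p G) : F.ev [15,15,18,20,20,24] ∈ DS (Subgroup.normalizer (Subgroup.zpowers (F.ev [25]) : Set G)) 4 :=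
  F.ds_step (he_23p F) (ds_3 F) (FM.cjzL (he_23p F) (L := [[15]]) (by decide +kernel) _ List.mem_cons_self) [7,11,12,10,12,11,7,2,12,1,12,2,6,7,11,12,10,12,11,7,4,12,7,4,3,4,8,12,2,12,8,7,12,6,4,11,5,1,11,0,11,1,5,11,4,6,8,11,5,0,11,1,11,0,5,11,8,7,11,0,1,11,8,7,3,7,8,11,1,0,11,3,9,6,5,6,7,3,11,9,1,11,0,11,1,9,11,3,7,4,7,3,11,6,1,11,0,11,1,6,11,3,7,5,11,6,4,11,12,8,11,0,11,8,12,11,4,6,11,9] _ (by decide +kernel)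

theorem ds_5 {G : Type u} [Group G] (F : FM P23p G) : F.ev [18,18,19,21,22,22] ∈ DS (Subgroup.normalizer (Subgroup.zpowers (F.ev [25]) : Set G)) 5 :=
  F.ds_step (he_23p F) (ds_4 F) (FM.cjzL (he_23p F) (L := [[13,16]]) (by decide +kernel) _ List.mem_cons_self) [15,15,16,16,17,19,21,21,22,23,23,24,24,25,25] _ (by decide +kernel)

theorem ds_6 {G : Type u} [Group G] (F : FM P23p G) : F.ev [2,12,1,12,2,8,5,2,12,1,12,2,9,1,2,11,12,10,12,11,2,1,12,8,7,3,7,8,12,5,12,5,4,3,4,5,12,6,5,3,11,9,1,11,0,11,1,9,11,3,5,3,4,9,7,3,11,9,1,11,0,11,1,9,11,3,7,4,12,11,4,0,1,12,11,12,1,0,4,6,4,12,11,0,11,12,4,6,11,12,6,10,9,8] ∈ DS (Subgroup.normalizer (Subgroup.zpowers (F.ev [25]) : Set G)) 6 :=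
  F.ds_step (he_23p F) (ds_5 F) (FM.cjzL (he_23p F) (L := [[13,14,2]]) (by decide +kernel) _ List.mem_cons_self) [11,12,9,6,9,12,11,4,0,11,12,9,12,11,0,4,7,11,12,10,12,11,12,7,4,12,3,12,4,7,12,2,4,12,4,11,8,12,1,12,8,11,4,12,3,8,7,4,3,2,1,12,11,8,11,12,1,2,3,4,10,11,6,4,11,12,8,11,0,11,8,12,11,4,6,11,10,9,6,9,10,8] _ (by decide +kernel)

theorem ds_7 {G : Type u} [Group G] (F : FM P23p G) : F.ev [7,2,12,1,12,10,11,7,11,10,12,10,5,12,3,12,5,10,12,1,2,11,12,10,12,11,2,1,12,7,4,3,12,3,12,4,7,12,0,11,0,1,11,7,3,7,11,1,0,11,3,11,9,1,11,0,11,1,9,11,3,5,4,3,9,6,9,7,3,11,9,1,11,0,11,1,9,11,3,7,10,9,6,9,10,5,4,5,4,3,11,9,1,11,0,11,1,9,11,3,4,10,4,3,2,1,12,11,8,11,12,1,2,3,4,10,6,5,6,10,9,6,9,10] ∈ DS (Subgroup.normalizer (Subgroup.zpowers (F.ev [25]) : Set G)) 7 :=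
  F.ds_step (he_23p F) (ds_6 F) (FM.cjzL (he_23p F) (L := [[8,12,2,12,8,13,14,19,20,21,24,24,25]]) (by decide +kernel) _ List.mem_cons_self) [6,7,11,12,10,12,11,7,1,11,12,9,6,9,12,11,12,7,4,12,3,12,4,7,12,1,2,11,12,10,12,11,2,1,12,5,4,3,4,5,12,3,7,8,12,5,12,8,7,10,5,11,0,1,11,7,3,7,11,1,0,11,5,9,6,9,4,6,4,11,5,1,11,0,11,1,5,11,4,6,9,6,5,6,7,3,11,9,1,11,0,11,1,9,11,3,7,4,10,9,6,9,10,5,12,11,6,4,12,11,0,11,12,4,6,11,12,6,9,10] _ (by decide +kernel)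

theorem ds_8 {G : Type u} [Group G] (F : FM P23p G) : F.ev [17,22,22,24,25,25] ∈ DS (Subgroup.normalizer (Subgroup.zpowers (F.ev [25]) : Set G)) 8 :=
  F.ds_step (he_23p F) (ds_7 F) (FM.cjzL (he_23p F) (L := [[13,16,17,17,19,19,21]]) (by decide +kernel) _ List.mem_cons_self) [10,7,11,12,10,12,11,7,2,6,7,11,12,10,12,11,7,12,8,6,12,4,12,6,8,5,4,3,4,5,4,3,2,3,4,12,6,4,11,5,1,11,0,11,1,5,11,4,6,3,11,0,1,11,8,7,3,7,8,11,1,0,11,8,10,6,3,11,4,1,11,0,11,1,4,11,3,6,9,6,5,10] _ (by decide +kernel)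

theorem ds_9 {G : Type u} [Group G] (F : FM P23p G) : F.ev [25,25] ∈ DS (Subgroup.normalizer (Subgroup.zpowers (F.ev [25]) : Set G)) 9 :=
  F.ds_step (he_23p F) (ds_8 F) (FM.cjzL (he_23p F) (L := [[8,6,3,11,4,1,11,0,11,1,4,11,3,6,5,3,11,7,0,11,1,11,0,7,11,3,5,10,4,3,2,1,12,11,8,11,12,1,2,3,4,10,9,6,5,6,9,6,8]]) (by decide +kernel) _ List.mem_cons_self) [13,13,14,14,17,20,23,25] _ (by decide +kernel)

theorem ne_dl {G : Type u} [Group G] (F : FM P23p G) : F.ev [25,25] ≠ 1 :=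
  F.ev_ne (w := []) (i := 0) (by decide +kernel)

end H7.T
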