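import Cfsg.Agent.H7.FM13
set_option Elab.async false
set_option maxRecDepth 100000
set_option maxHeartbeats 0
namespace H7.T
universe u v

theorem ms_24 : P24.msOK [bits [8,34,0,292404], bits [16,34,297125,292404], bits [75,0,297125,292404]] [(0,[]),(1,[]),(2,[]),(3,[]),(10,[]),(12,[]),(13,[])] 3 = true := by decide +kernel

theorem ord_c5 {G : Type u} [Group G] (F : FM P24 G) : orderOf (F.ev [10,11,0,1]) = 5 :=
  haveI : Fact (Nat.Prime 5) := ⟨by norm_num⟩; orderOf_eq_prime ((FM.ev_rp _ _).symm.trans (FM.ev_eqM ms_24 (w := []) (by decide +kernel))) (F.ev_ne (w := []) (i := 0) (by decide +kernel))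

theorem cj_c5 {G : Type u} [Group G] (F : FM P24 G) : F.ev [10,0,11] * F.ev [10,11,0,1] * (F.ev [10,0,11])⁻¹ = F.ev [10,11,0,1] ^ 2 :=
  by rw [mul_inv_eq_iff_eq_mul, ← FM.ev_rp, ← F.ev_app, ← F.ev_app]; exact (FM.ev_eqM ms_24 (v := appL [10,0,11] [10,11,0,1]) (w := appL (rp 2 [10,11,0,1]) [10,0,11]) (by decide +kernel))

theorem nk_c5 {G : Type u} [Group G] (F : FM P24 G) : F.ev [10,0,11] ^ 4 = 1 :=
  (FM.ev_rp _ _).symm.trans (FM.ev_eqM ms_24 (w := []) (by decide +kernel))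

noncomputable def m_c5_1 : ℕ := bits [75,110,112,151,166,167,168,169,204,233,234,247,248,306,307,308,346,347,360,451,452,453,454,644,645,646,896,1226,21081,27317,27318,35198,44972,56869,71050,87475]

theorem i_c5_2 {G : Type u} [Group G] (F : FM P24 G) : F.Inv (F.PS (Subgroup.normalizer (Subgroup.zpowers (F.ev [10,11,0,1]) : Set G)) []) m_c5_1 :=
  (FM.Inv.fixn [10,11,0,1] (inf_le_left.trans le_rfl)).eq (by decide +kernel)

theorem mv_c5_3 : P24.mvOK [] (8,[]) (mapL tw [(7,[]),(3,[]),(4,[]),(5,[]),(8,[]),(6,[]),(9,[]),(0,[1,13,9,10,13])]) 2 m_c5_1 = true := by decide +kernel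

theorem sz_c5_4 : P24.szOK (8,[]) m_c5_1 36 = true := by decide +kernel

noncomputable def m_c5_5 : ℕ := bits [360]

theorem fx_c5_6 {G : Type u} [Group G] (F : FM P24 G) : F.Fx (F.PS (Subgroup.normalizer (Subgroup.zpowers (F.ev [10,11,0,1]) : Set G)) [(8,[])]) m_c5_5 :=
  (FM.Fx.ps (qs := [(8,[])]) (by decide +kernel)).le (by decide +kernel)

noncomputable def m_c5_7 : ℕ := bits [112,166,168,169,233,247,248,306,346,451,452,644,21081,27317]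

theorem i_c5_8 {G : Type u} [Group G] (F : FM P24 G) : F.Inv (F.PS (Subgroup.normalizer (Subgroup.zpowers (F.ev [10,11,0,1]) : Set G)) [(8,[])]) m_c5_7 :=
  (FM.Fx.pat (fx_c5_6 F) ((i_c5_2 F).mono (FM.PS_le _ _)) [] [(8,[])] (by decide +kernel)).eq (by decide +kernel)

theorem mv_c5_9 : P24.mvOK [(8,[])] (7,[]) (mapL tw [(3,[]),(4,[]),(5,[]),(8,[]),(6,[]),(9,[]),(0,[1,13,9,10,13])]) 1 m_c5_7 = true := by decide +kernel

theorem sz_c5_10 : P24.szOK (7,[]) m_c5_7 14 = true := by decide +kernel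

noncomputable def m_c5_11 : ℕ := bits [169,360]

theorem fx_c5_12 {G : Type u} [Group G] (F : FM P24 G) : F.Fx (F.PS (Subgroup.normalizer (Subgroup.zpowers (F.ev [10,11,0,1]) : Set G)) [(7,[]),(8,[])]) m_c5_11 :=
  (FM.Fx.lor (FM.Fx.ps (qs := [(7,[]),(8,[])]) (by decide +kernel)) ((fx_c5_6 F).mono (FM.PS_le _ _))).le (by decide +kernel)

noncomputable def m_c5_13 : ℕ := bits [169,248,360]

theorem fx_c5_14 {G : Type u} [Group G] (F : FM P24 G) : F.Fx (F.PS (Subgroup.normalizer (Subgroup.zpowers (F.ev [10,11,0,1]) : Set G)) [(7,[]),(8,[])]) m_c5_13 :=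
  ((fx_c5_12 F).orb [(7,[])] (by decide +kernel) 1).le (by decide +kernel)

noncomputable def m_c5_15 : ℕ := bits [75,110,151,204,307,360,27318]

theorem i_c5_16 {G : Type u} [Group G] (F : FM P24 G) : F.Inv (F.PS (Subgroup.normalizer (Subgroup.zpowers (F.ev [10,11,0,1]) : Set G)) [(7,[]),(8,[])]) m_c5_15 :=
  (FM.Fx.pat (fx_c5_14 F) (((i_c5_2 F).mono (FM.PS_le _ _)).mono (FM.PS_le _ _)) [(8,[])] [(7,[])] (by decide +kernel)).eq (by decide +kernel)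

noncomputable def m_c5_17 : ℕ := bits [360]

noncomputable def m_c5_18 : ℕ := bits [75,110,151,204,307,27318]

theorem i_c5_19 {G : Type u} [Group G] (F : FM P24 G) : F.Inv (F.PS (Subgroup.normalizer (Subgroup.zpowers (F.ev [10,11,0,1]) : Set G)) [(7,[]),(8,[])]) m_c5_18 :=
  (FM.Inv.mns (i_c5_16 F) ((fx_c5_14 F).inv (b := m_c5_17) (by decide +kernel))).eq (by decide +kernel)

theorem mv_c5_20 : P24.mvOK [(7,[]),(8,[])] (3,[]) (mapL tw [(4,[]),(5,[]),(6,[]),(9,[]),(0,[1,13,9,10,13])]) 1 m_c5_18 = true := by decide +kernel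

theorem sz_c5_21 : P24.szOK (3,[]) m_c5_18 6 = true := by decide +kernel

noncomputable def m_c5_22 : ℕ := bits [75,169,248,360]

theorem fx_c5_23 {G : Type u} [Group G] (F : FM P24 G) : F.Fx (F.PS (Subgroup.normalizer (Subgroup.zpowers (F.ev [10,11,0,1]) : Set G)) [(3,[]),(7,[]),(8,[])]) m_c5_22 :=
  (FM.Fx.lor (FM.Fx.ps (qs := [(3,[]),(7,[]),(8,[])]) (by decide +kernel)) ((fx_c5_14 F).mono (FM.PS_le _ _))).le (by decide +kernel)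

noncomputable def m_c5_24 : ℕ := bits [75,112,168,169,248,360]

theorem fx_c5_25 {G : Type u} [Group G] (F : FM P24 G) : F.Fx (F.PS (Subgroup.normalizer (Subgroup.zpowers (F.ev [10,11,0,1]) : Set G)) [(3,[]),(7,[]),(8,[])]) m_c5_24 :=
  ((fx_c5_23 F).orb [(3,[])] (by decide +kernel) 1).le (by decide +kernel)

noncomputable def m_c5_26 : ℕ := bits [167,234,308,453,35198]

theorem i_c5_27 {G : Type u} [Group G] (F : FM P24 G) : F.Inv (F.PS (Subgroup.normalizer (Subgroup.zpowers (F.ev [10,11,0,1]) : Set G)) [(3,[]),(7,[]),(8,[])]) m_c5_26 :=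
  (FM.Fx.pat (fx_c5_25 F) ((((i_c5_2 F).mono (FM.PS_le _ _)).mono (FM.PS_le _ _)).mono (FM.PS_le _ _)) [(7,[]),(8,[])] [(3,[])] (by decide +kernel)).eq (by decide +kernel)

theorem mv_c5_28 : P24.mvOK [(3,[]),(7,[]),(8,[])] (4,[]) (mapL tw [(5,[]),(6,[]),(9,[]),(0,[1,13,9,10,13])]) 1 m_c5_26 = true := by decide +kernel

theorem sz_c5_29 : P24.szOK (4,[]) m_c5_26 5 = true := by decide +kernel

noncomputable def m_c5_30 : ℕ := bits [75,112,167,168,169,248,360]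

theorem fx_c5_31 {G : Type u} [Group G] (F : FM P24 G) : F.Fx (F.PS (Subgroup.normalizer (Subgroup.zpowers (F.ev [10,11,0,1]) : Set G)) [(4,[]),(3,[]),(7,[]),(8,[])]) m_c5_30 :=
  (FM.Fx.lor (FM.Fx.ps (qs := [(4,[]),(3,[]),(7,[]),(8,[])]) (by decide +kernel)) ((fx_c5_25 F).mono (FM.PS_le _ _))).le (by decide +kernel)

noncomputable def m_c5_32 : ℕ := bits [75,110,112,166,167,168,169,247,248,360]

theorem fx_c5_33 {G : Type u} [Group G] (F : FM P24 G) : F.Fx (F.PS (Subgroup.normalizer (Subgroup.zpowers (F.ev [10,11,0,1]) : Set G)) [(4,[]),(3,[]),(7,[]),(8,[])]) m_c5_32 :=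
  ((fx_c5_31 F).orb [(4,[])] (by decide +kernel) 1).le (by decide +kernel)

noncomputable def m_c5_34 : ℕ := bits [347,454,645,44972]

theorem i_c5_35 {G : Type u} [Group G] (F : FM P24 G) : F.Inv (F.PS (Subgroup.normalizer (Subgroup.zpowers (F.ev [10,11,0,1]) : Set G)) [(4,[]),(3,[]),(7,[]),(8,[])]) m_c5_34 :=
  (FM.Fx.pat (fx_c5_33 F) (((((i_c5_2 F).mono (FM.PS_le _ _)).mono (FM.PS_le _ _)).mono (FM.PS_le _ _)).mono (FM.PS_le _ _)) [(3,[]),(7,[]),(8,[])] [(4,[])] (by decide +kernel)).eq (by decide +kernel)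

theorem mv_c5_36 : P24.mvOK [(4,[]),(3,[]),(7,[]),(8,[])] (5,[]) (mapL tw [(6,[]),(9,[]),(0,[1,13,9,10,13])]) 1 m_c5_34 = true := by decide +kernel

theorem sz_c5_37 : P24.szOK (5,[]) m_c5_34 4 = true := by decide +kernel

noncomputable def m_c5_38 : ℕ := bits [75,110,112,166,167,168,169,247,248,347,360]

theorem fx_c5_39 {G : Type u} [Group G] (F : FM P24 G) : F.Fx (F.PS (Subgroup.normalizer (Subgroup.zpowers (F.ev [10,11,0,1]) : Set G)) [(5,[]),(4,[]),(3,[]),(7,[]),(8,[])]) m_c5_38 :=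
  (FM.Fx.lor (FM.Fx.ps (qs := [(5,[]),(4,[]),(3,[]),(7,[]),(8,[])]) (by decide +kernel)) ((fx_c5_33 F).mono (FM.PS_le _ _))).le (by decide +kernel)

noncomputable def m_c5_40 : ℕ := bits [75,110,112,151,166,167,168,169,233,234,247,248,346,347,360]

theorem fx_c5_41 {G : Type u} [Group G] (F : FM P24 G) : F.Fx (F.PS (Subgroup.normalizer (Subgroup.zpowers (F.ev [10,11,0,1]) : Set G)) [(5,[]),(4,[]),(3,[]),(7,[]),(8,[])]) m_c5_40 :=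
  ((fx_c5_39 F).orb [(5,[])] (by decide +kernel) 1).le (by decide +kernel)

noncomputable def m_c5_42 : ℕ := bits [646,896,56869]

theorem i_c5_43 {G : Type u} [Group G] (F : FM P24 G) : F.Inv (F.PS (Subgroup.normalizer (Subgroup.zpowers (F.ev [10,11,0,1]) : Set G)) [(5,[]),(4,[]),(3,[]),(7,[]),(8,[])]) m_c5_42 :=
  (FM.Fx.pat (fx_c5_41 F) ((((((i_c5_2 F).mono (FM.PS_le _ _)).mono (FM.PS_le _ _)).mono (FM.PS_le _ _)).mono (FM.PS_le _ _)).mono (FM.PS_le _ _)) [(4,[]),(3,[]),(8,[])] [(5,[])] (by decide +kernel)).eq (by decide +kernel)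

theorem mv_c5_44 : P24.mvOK [(5,[]),(4,[]),(3,[]),(7,[]),(8,[])] (6,[]) (mapL tw [(9,[]),(4,[5,13,1,11,13])]) 1 m_c5_42 = true := by decide +kernel

theorem sz_c5_45 : P24.szOK (6,[]) m_c5_42 3 = true := by decide +kernel

noncomputable def m_c5_46 : ℕ := bits [75,110,112,151,166,167,168,169,233,234,247,248,346,347,360,646]

theorem fx_c5_47 {G : Type u} [Group G] (F : FM P24 G) : F.Fx (F.PS (Subgroup.normalizer (Subgroup.zpowers (F.ev [10,11,0,1]) : Set G)) [(6,[]),(5,[]),(4,[]),(3,[]),(7,[]),(8,[])]) m_c5_46 :=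
  (FM.Fx.lor (FM.Fx.ps (qs := [(6,[]),(5,[]),(4,[]),(3,[]),(7,[]),(8,[])]) (by decide +kernel)) ((fx_c5_41 F).mono (FM.PS_le _ _))).le (by decide +kernel)

noncomputable def m_c5_48 : ℕ := bits [75,110,112,151,166,167,168,169,204,233,234,247,248,306,308,346,347,360,451,454,646]

theorem fx_c5_49 {G : Type u} [Group G] (F : FM P24 G) : F.Fx (F.PS (Subgroup.normalizer (Subgroup.zpowers (F.ev [10,11,0,1]) : Set G)) [(6,[]),(5,[]),(4,[]),(3,[]),(7,[]),(8,[])]) m_c5_48 :=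
  ((fx_c5_47 F).orb [(5,[]),(4,[]),(3,[]),(7,[]),(8,[])] (by decide +kernel) 1).le (by decide +kernel)

noncomputable def m_c5_50 : ℕ := bits [1226,71050]

theorem i_c5_51 {G : Type u} [Group G] (F : FM P24 G) : F.Inv (F.PS (Subgroup.normalizer (Subgroup.zpowers (F.ev [10,11,0,1]) : Set G)) [(6,[]),(5,[]),(4,[]),(3,[]),(7,[]),(8,[])]) m_c5_50 :=
  (FM.Fx.pat (fx_c5_49 F) (((((((i_c5_2 F).mono (FM.PS_le _ _)).mono (FM.PS_le _ _)).mono (FM.PS_le _ _)).mono (FM.PS_le _ _)).mono (FM.PS_le _ _)).mono (FM.PS_le _ _)) [(5,[]),(3,[]),(8,[]),(4,[])] [(6,[])] (by decide +kernel)).eq (by decide +kernel)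

theorem mv_c5_52 : P24.mvOK [(6,[]),(5,[]),(4,[]),(3,[]),(7,[]),(8,[])] (9,[]) (mapL tw [(10,[11,13,2,5,13])]) 1 m_c5_50 = true := by decide +kernel

theorem sz_c5_53 : P24.szOK (9,[]) m_c5_50 2 = true := by decide +kernel

noncomputable def m_c5_54 : ℕ := bits [75,110,112,151,166,167,168,169,204,233,234,247,248,306,308,346,347,360,451,454,646,1226]

theorem fx_c5_55 {G : Type u} [Group G] (F : FM P24 G) : F.Fx (F.PS (Subgroup.normalizer (Subgroup.zpowers (F.ev [10,11,0,1]) : Set G)) [(9,[]),(6,[]),(5,[]),(4,[]),(3,[]),(7,[]),(8,[])]) m_c5_54 :=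
  (FM.Fx.lor (FM.Fx.ps (qs := [(9,[]),(6,[]),(5,[]),(4,[]),(3,[]),(7,[]),(8,[])]) (by decide +kernel)) ((fx_c5_49 F).mono (FM.PS_le _ _))).le (by decide +kernel)

noncomputable def m_c5_56 : ℕ := bits [75,110,112,151,166,167,168,169,204,233,234,247,248,306,307,308,346,347,360,451,452,453,454,644,645,646,896,1226]

theorem fx_c5_57 {G : Type u} [Group G] (F : FM P24 G) : F.Fx (F.PS (Subgroup.normalizer (Subgroup.zpowers (F.ev [10,11,0,1]) : Set G)) [(9,[]),(6,[]),(5,[]),(4,[]),(3,[]),(7,[]),(8,[])]) m_c5_56 :=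
  ((fx_c5_55 F).orb [(6,[]),(5,[]),(4,[]),(3,[]),(7,[]),(8,[])] (by decide +kernel) 1).le (by decide +kernel)

noncomputable def m_c5_58 : ℕ := bits [87475]

theorem i_c5_59 {G : Type u} [Group G] (F : FM P24 G) : F.Inv (F.PS (Subgroup.normalizer (Subgroup.zpowers (F.ev [10,11,0,1]) : Set G)) [(9,[]),(6,[]),(5,[]),(4,[]),(3,[]),(7,[]),(8,[])]) m_c5_58 :=
  (FM.Fx.pat (fx_c5_57 F) ((((((((i_c5_2 F).mono (FM.PS_le _ _)).mono (FM.PS_le _ _)).mono (FM.PS_le _ _)).mono (FM.PS_le _ _)).mono (FM.PS_le _ _)).mono (FM.PS_le _ _)).mono (FM.PS_le _ _)) [(6,[]),(3,[]),(5,[]),(8,[])] [(9,[])] (by decide +kernel)).eq (by decide +kernel)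

noncomputable def m_c5_60 : ℕ := bits [75,110,112,151,166,167,168,169,204,233,234,247,248,306,307,308,346,347,360,451,452,453,454,644,645,646,896,1226,87475]

theorem fx_c5_61 {G : Type u} [Group G] (F : FM P24 G) : F.Fx (F.PS (Subgroup.normalizer (Subgroup.zpowers (F.ev [10,11,0,1]) : Set G)) [(9,[]),(6,[]),(5,[]),(4,[]),(3,[]),(7,[]),(8,[])]) m_c5_60 :=
  (FM.Fx.lor (fx_c5_57 F) (FM.Fx.one (i_c5_59 F) (by decide +kernel))).le (by decide +kernel)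

noncomputable def m_c5_62 : ℕ := bits [75,110,112,151,166,167,168,169,204,233,234,247,248,306,307,308,346,347,360,451,452,453,454,644,645,646,896,1226,21081,27317,27318,35198,44972,56869,71050,87475]

theorem fx_c5_63 {G : Type u} [Group G] (F : FM P24 G) : F.Fx (F.PS (Subgroup.normalizer (Subgroup.zpowers (F.ev [10,11,0,1]) : Set G)) [(9,[]),(6,[]),(5,[]),(4,[]),(3,[]),(7,[]),(8,[])]) m_c5_62 :=
  ((fx_c5_61 F).orb [(9,[]),(6,[]),(5,[]),(4,[]),(3,[]),(7,[]),(8,[])] (by decide +kernel) 1).le (by decide +kernel)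

theorem lb_c5 {G : Type u} [Group G] (F : FM P24 G) : 362880 ≤ Nat.card (F.PS (Subgroup.closure (F.S m_c5_1)) []) :=
  ((Nat.mul_le_mul_left 36 (((Nat.mul_le_mul_left 14 (((Nat.mul_le_mul_left 6 (((Nat.mul_le_mul_left 5 (((Nat.mul_le_mul_left 4 (((Nat.mul_le_mul_left 3 (((Nat.mul_le_mul_left 2 ((have := F.fin; Nat.card_pos) : 1 ≤ _)).trans (FM.pst_ge mv_c5_52 (FM.tw_mem (by decide +kernel)) sz_c5_53)) : 2 ≤ _)).trans (FM.pst_ge mv_c5_44 (FM.tw_mem (by decide +kernel)) sz_c5_45)) : 6 ≤ _)).trans (FM.pst_ge mv_c5_36 (FM.tw_mem (by decide +kernel)) sz_c5_37)) : 24 ≤ _)).trans (FM.pst_ge mv_c5_28 (FM.tw_mem (by decide +kernel)) sz_c5_29)) : 120 ≤ _)).trans (FM.pst_ge mv_c5_20 (FM.tw_mem (by decide +kernel)) sz_c5_21)) : 720 ≤ _)).trans (FM.pst_ge mv_c5_9 (FM.tw_mem (by decide +kernel)) sz_c5_10)) : 10080 ≤ _)).trans (FM.pst_ge mv_c5_3 (FM.tw_mem (by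 decide +kernel)) sz_c5_4))

theorem cm_c5 {G : Type u} [Group G] (F : FM P24 G) : ∀ y ∈ Subgroup.closure (F.S m_c5_1), Commute (F.ev [10,11,0,1]) y ∧ Commute (F.ev [10,0,11]) y :=
  FM.fix_comm [(8,[]),(7,[]),(3,[]),(4,[]),(5,[]),(6,[]),(9,[]),(10,[11,13,2,5,13])] 1 (by decide +kernel)

theorem fe_c5 {G : Type u} [Group G] (F : FM P24 G) : F.D ∩ Subgroup.centralizer (Subgroup.zpowers (F.ev [10,11,0,1]) : Set G) = F.S m_c5_1 :=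
  (FM.fix_eq _).trans (FM.S_eq (by decide +kernel))

noncomputable def m_c5_64 : ℕ := bits [287,433,628,883,1215]

theorem i_c5_65 {G : Type u} [Group G] (F : FM P24 G) : F.Inv (F.PS (Subgroup.normalizer (Subgroup.zpowers (F.ev [10,11,0,1]) : Set G)) [(9,[]),(6,[]),(5,[]),(4,[]),(3,[]),(7,[]),(8,[])]) m_c5_64 :=
  (FM.Fx.pat (fx_c5_63 F) FM.Inv.all [(3,[]),(4,[]),(9,[]),(7,[]),(5,[])] [(8,[]),(6,[])] (by decide +kernel)).eq (by decide +kernel)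

theorem sz_c5_66 : P24.szOK (0,[13,2,5,13]) m_c5_64 5 = true := by decide +kernel

noncomputable def m_c5_67 : ℕ := bits [75,110,112,151,166,167,168,169,204,233,234,247,248,306,307,308,346,347,360,451,452,453,454,644,645,646,896,1215,1226,21081,27317,27318,35198,44972,56869,71050,87475]

theorem fx_c5_68 {G : Type u} [Group G] (F : FM P24 G) : F.Fx (F.PS (Subgroup.normalizer (Subgroup.zpowers (F.ev [10,11,0,1]) : Set G)) [(0,[13,2,5,13]),(9,[]),(6,[]),(5,[]),(4,[]),(3,[]),(7,[]),(8,[])]) m_c5_67 :=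
  (FM.Fx.lor (FM.Fx.ps (qs := [(0,[13,2,5,13]),(9,[]),(6,[]),(5,[]),(4,[]),(3,[]),(7,[]),(8,[])]) (by decide +kernel)) ((fx_c5_63 F).mono (FM.PS_le _ _))).le (by decide +kernel)

noncomputable def m_c5_69 : ℕ := bits [287,433,628,883]

theorem i_c5_70 {G : Type u} [Group G] (F : FM P24 G) : F.Inv (F.PS (Subgroup.normalizer (Subgroup.zpowers (F.ev [10,11,0,1]) : Set G)) [(0,[13,2,5,13]),(9,[]),(6,[]),(5,[]),(4,[]),(3,[]),(7,[]),(8,[])]) m_c5_69 :=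
  (FM.Inv.mns ((i_c5_65 F).mono (FM.PS_le _ _)) ((fx_c5_68 F).inv (b := bits [1215]) (by decide +kernel))).eq (by decide +kernel)

theorem sz_c5_71 : P24.szOK (5,[12,13,4,8,12,13]) m_c5_69 4 = true := by decide +kernel

noncomputable def m_c5_72 : ℕ := bits [75,110,112,151,166,167,168,169,204,233,234,247,248,287,306,307,308,346,347,360,451,452,453,454,644,645,646,896,1215,1226,21081,27317,27318,35198,44972,56869,71050,87475]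

theorem fx_c5_73 {G : Type u} [Group G] (F : FM P24 G) : F.Fx (F.PS (Subgroup.normalizer (Subgroup.zpowers (F.ev [10,11,0,1]) : Set G)) [(5,[12,13,4,8,12,13]),(0,[13,2,5,13]),(9,[]),(6,[]),(5,[]),(4,[]),(3,[]),(7,[]),(8,[])]) m_c5_72 :=
  (FM.Fx.lor (FM.Fx.ps (qs := [(5,[12,13,4,8,12,13]),(0,[13,2,5,13]),(9,[]),(6,[]),(5,[]),(4,[]),(3,[]),(7,[]),(8,[])]) (by decide +kernel)) ((fx_c5_68 F).mono (FM.PS_le _ _))).le (by decide +kernel)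

theorem cx_c5_74 {G : Type u} [Group G] (F : FM P24 G) : ∀ g ∈ (F.PS (Subgroup.normalizer (Subgroup.zpowers (F.ev [10,11,0,1]) : Set G)) [(5,[12,13,4,8,12,13]),(0,[13,2,5,13]),(9,[]),(6,[]),(5,[]),(4,[]),(3,[]),(7,[]),(8,[])]), Commute (F.ev [10,11,0,1]) g :=
  FM.comm_of_fix (by norm_num) (ord_c5 F) (inf_le_left.trans le_rfl) (fx_c5_73 F) (0,[13,2,5,13]) (by decide +kernel)

noncomputable def m_c5_75 : ℕ := bits [75,110,112,151,166,167,168,169,204,233,234,247,248,287,306,307,308,346,347,360,433,451,452,453,454,628,644,645,646,883,896,1215,1226,21081,27317,27318,35198,44972,56869,71050,87475]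

theorem fx_c5_76 {G : Type u} [Group G] (F : FM P24 G) : F.Fx (F.PS (Subgroup.normalizer (Subgroup.zpowers (F.ev [10,11,0,1]) : Set G)) [(5,[12,13,4,8,12,13]),(0,[13,2,5,13]),(9,[]),(6,[]),(5,[]),(4,[]),(3,[]),(7,[]),(8,[])]) m_c5_75 :=
  ((fx_c5_73 F).grow (W := [[10,11,0,1]]) (List.forall_mem_singleton.2 (cx_c5_74 F)) 3).le (by decide +kernel)

noncomputable def m_c5_77 : ℕ := bits [0,1,2,4,6,9,17,64,75,110,112,151,166,167,168,169,204,233,234,247,248,287,306,307,308,346,347,360,433,451,452,453,454,628,644,645,646,883,896,1215,1226,21081,27317,27318,35198,44972,56869,71050,87475]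

theorem fx_c5_78 {G : Type u} [Group G] (F : FM P24 G) : F.Fx (F.PS (Subgroup.normalizer (Subgroup.zpowers (F.ev [10,11,0,1]) : Set G)) [(5,[12,13,4,8,12,13]),(0,[13,2,5,13]),(9,[]),(6,[]),(5,[]),(4,[]),(3,[]),(7,[]),(8,[])]) m_c5_77 :=
  ((fx_c5_76 F).orb [(8,[]),(7,[]),(3,[]),(5,[]),(6,[]),(9,[]),(5,[12,13,4,8,12,13])] (by decide +kernel) 4).le (by decide +kernel)

theorem bot_c5_79 {G : Type u} [Group G] (F : FM P24 G) : (F.PS (Subgroup.normalizer (Subgroup.zpowers (F.ev [10,11,0,1]) : Set G)) [(5,[12,13,4,8,12,13]),(0,[13,2,5,13]),(9,[]),(6,[]),(5,[]),(4,[]),(3,[]),(7,[]),(8,[])]) = ⊥ :=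
  (fx_c5_78 F).bot (by decide +kernel)

theorem ub0_c5 {G : Type u} [Group G] (F : FM P24 G) : Nat.card (F.PS (Subgroup.normalizer (Subgroup.zpowers (F.ev [10,11,0,1]) : Set G)) []) ≤ 7257600 :=
  ((FM.pst_le (i_c5_2 F) sz_c5_4).trans (Nat.mul_le_mul_left 36 (((FM.pst_le (i_c5_8 F) sz_c5_10).trans (Nat.mul_le_mul_left 14 (((FM.pst_le (i_c5_19 F) sz_c5_21).trans (Nat.mul_le_mul_left 6 (((FM.pst_le (i_c5_27 F) sz_c5_29).trans (Nat.mul_le_mul_left 5 (((FM.pst_le (i_c5_35 F) sz_c5_37).trans (Nat.mul_le_mul_left 4 (((FM.pst_le (i_c5_43 F) sz_c5_45).trans (Nat.mul_le_mul_left 3 (((FM.pst_le (i_c5_51 F) sz_c5_53).trans (Nat.mul_le_mul_left 2 (((FM.pst_le (i_c5_65 F) sz_c5_66).trans (Nat.mul_le_mul_left 5 (((FM.pst_le (i_c5_70 F) sz_c5_71).trans (Nat.mul_le_mul_left 4 ((by rw [bot_c5_79 F, Subgroup.card_bot]) : _ ≤ 1))) : _ ≤ 4))) : _ ≤ 20))) : _ ≤ 40)))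 : _ ≤ 120))) : _ ≤ 480))) : _ ≤ 2400))) : _ ≤ 14400))) : _ ≤ 201600)))

theorem sy_c5 {G : Type u} [Group G] (F : FM P24 G) : Nat.card (Subgroup.closure (F.S m_c5_1)) = (8 + 1).factorial ∧ Nonempty ((Subgroup.closure (F.S m_c5_1)) ≃* Equiv.Perm (Fin (8 + 1))) :=
  FM.sym_of' ub_A8 rsw8 (qs := [(8,[]),(7,[]),(3,[]),(4,[]),(5,[]),(6,[]),(9,[]),(10,[11,13,2,5,13])]) rfl 1 (by decide +kernel) (by decide +kernel) (by have h := lb_c5 F; rw [FM.PS_nil] at h; exact h)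

theorem loc_c5 {G : Type u} [Group G] (F : FM P24 G) (i : (Subgroup.normalizer (Subgroup.zpowers (F.ev [10,11,0,1]) : Set G)).index ≡ 1 [MOD 5]) : ∃ K : Subgroup G, Nat.card K = 20 ∧ (Subgroup.zpowers (F.ev [10,11,0,1])) ≤ K ∧ K ⊓ (Subgroup.centralizer ((Subgroup.zpowers (F.ev [10,11,0,1])) : Set G)) = (Subgroup.zpowers (F.ev [10,11,0,1])) ∧ K ⊓ (Subgroup.closure (F.D ∩ (Subgroup.centralizer ((Subgroup.zpowers (F.ev [10,11,0,1])) : Set G)))) = ⊥ ∧ (∀ x ∈ K, ∀ y ∈ (Subgroup.closure (F.D ∩ (Subgroup.centralizer ((Subgroup.zpowers (F.ev [10,11,0,1])) : Set G)))), x * y = y * x) ∧ K ⊔ (Subgroup.closure (F.D ∩ (Subgroup.centralizer ((Subgroup.zpowers (F.ev [10,11,0,1])) : Set G)))) = (Subgroup.normalizer (Subgroup.zpowers (F.ev [10,11,0,1]) : Set G)) ∧ Nonempty ((Subgroup.closure (F.D ∩ (Subgroup.centralizer ((Subgroup.zpowers (F.ev [10,11,0,1])) :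 Set G)))) ≃* Equiv.Perm (Fin 9)) :=
  by
  have := F.fin
  rw [fe_c5 F]
  obtain ⟨h1, h2, h3, h4, h5, h6⟩ := ploc (by norm_num) (ord_c5 F) (cj_c5 F) (nk_c5 F) (by decide) (cm_c5 F) (sy_c5 F).1
    (fun l c => eq_of_mod l c (t := 1) (le_trans (by have h := ub0_c5 F; rw [FM.PS_nil] at h; exact h) (show 7257600 ≤ _ by decide)) i F.card (by decide +kernel)) id
  exact ⟨_, h1, h2, h3, h4, h5, h6, (sy_c5 F).2⟩

theorem ord_c5y {G : Type u} [Group G] (F : FM P24 G) : orderOf (F.ev [8,7,3,4]) = 5 :=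
  haveI : Fact (Nat.Prime 5) := ⟨by norm_num⟩; orderOf_eq_prime ((FM.ev_rp _ _).symm.trans (FM.ev_eqM ms_24 (w := []) (by decide +kernel))) (F.ev_ne (w := []) (i := 64) (by decide +kernel))

theorem c0_c5 {G : Type u} [Group G] (F : FM P24 G) : F.ev [12,13,2,13,12,3,11,12,13,2,4,13,12,8,12,11,6,12,2,12,6,11,12,13,11,9,13,3,13,9,11,13,4,12,13,4,13,12,2,3,7,8,4,5,3,7,4,2,3,2,1,2,9,4,5,6,4,3,7,8,3,4,5,2,3,7,4,3,2,1,13,5,2,13,12,7,12,13,2,5,13,3,13,5,2,13,12,13,2,5,13,3,9,6,13,5,12,13,2,13,12,5,13,6,9,8,7,4,3,4,6,5,6,4,5,8] * F.ev [8,7,3,4] * (F.ev [12,13,2,13,12,3,11,12,13,2,4,13,12,8,12,11,6,12,2,12,6,11,12,13,11,9,13,3,13,9,11,13,4,12,13,4,13,12,2,3,7,8,4,5,3,7,4,2,3,2,1,2,9,4,5,6,4,3,7,8,3,4,5,2,3,7,4,3,2,1,13,5,2,13,12,7,12,13,2,5,13,3,13,5,2,13,12,13,2,5,13,3,9,6,13,5,12,13,2,13,12,5,13,6,9,8,7,4,3,4,6,5,6,4,5,8])⁻¹ = F.ev [10,11,0,1] ^ 1 :=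
  by rw [mul_inv_eq_iff_eq_mul, ← FM.ev_rp, ← F.ev_app, ← F.ev_app]; exact (FM.ev_eqM ms_24 (v := appL [12,13,2,13,12,3,11,12,13,2,4,13,12,8,12,11,6,12,2,12,6,11,12,13,11,9,13,3,13,9,11,13,4,12,13,4,13,12,2,3,7,8,4,5,3,7,4,2,3,2,1,2,9,4,5,6,4,3,7,8,3,4,5,2,3,7,4,3,2,1,13,5,2,13,12,7,12,13,2,5,13,3,13,5,2,13,12,13,2,5,13,3,9,6,13,5,12,13,2,13,12,5,13,6,9,8,7,4,3,4,6,5,6,4,5,8] [8,7,3,4]) (w := appL (rp 1 [10,11,0,1]) [12,13,2,13,12,3,11,12,13,2,4,13,12,8,12,11,6,12,2,12,6,11,12,13,11,9,13,3,13,9,11,13,4,12,13,4,13,12,2,3,7,8,4,5,3,7,4,2,3,2,1,2,9,4,5,6,4,3,7,8,3,4,5,2,3,7,4,3,2,1,13,5,2,13,12,7,12,13,2,5,13,3,13,5,2,13,12,13,2,5,13,3,9,6,13,5,12,13,2,13,12,5,13,6,9,8,7,4,3,4,6,5,6,4,5,8]) (by decide +kernel))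

theorem c1_c5 {G : Type u} [Group G] (F : FM P24 G) : F.ev [8,4,12,5,4,5,12,8,10,5,12,13,1,13,12,5,10,12,11,6,12,2,12,6,11,12,10,5,12,13,1,13,12,5,10,2,12,13,4,13,12,4,3,7,8,2,3,7,4,3,2,1,2,7,5,4,3,4,5,7,8,3,13,5,2,13,12,13,2,5,13,3,6,8,7,6,5,4,3,4,5,6,7,8,7,3,6,8] * F.ev [10,11,0,1,8,7,3,4] * (F.ev [8,4,12,5,4,5,12,8,10,5,12,13,1,13,12,5,10,12,11,6,12,2,12,6,11,12,10,5,12,13,1,13,12,5,10,2,12,13,4,13,12,4,3,7,8,2,3,7,4,3,2,1,2,7,5,4,3,4,5,7,8,3,13,5,2,13,12,13,2,5,13,3,6,8,7,6,5,4,3,4,5,6,7,8,7,3,6,8])⁻¹ = F.ev [10,11,0,1] ^ 4 :=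
  by rw [mul_inv_eq_iff_eq_mul, ← FM.ev_rp, ← F.ev_app, ← F.ev_app]; exact (FM.ev_eqM ms_24 (v := appL [8,4,12,5,4,5,12,8,10,5,12,13,1,13,12,5,10,12,11,6,12,2,12,6,11,12,10,5,12,13,1,13,12,5,10,2,12,13,4,13,12,4,3,7,8,2,3,7,4,3,2,1,2,7,5,4,3,4,5,7,8,3,13,5,2,13,12,13,2,5,13,3,6,8,7,6,5,4,3,4,5,6,7,8,7,3,6,8] [10,11,0,1,8,7,3,4]) (w := appL (rp 4 [10,11,0,1]) [8,4,12,5,4,5,12,8,10,5,12,13,1,13,12,5,10,12,11,6,12,2,12,6,11,12,10,5,12,13,1,13,12,5,10,2,12,13,4,13,12,4,3,7,8,2,3,7,4,3,2,1,2,7,5,4,3,4,5,7,8,3,13,5,2,13,12,13,2,5,13,3,6,8,7,6,5,4,3,4,5,6,7,8,7,3,6,8]) (by decide +kernel))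

theorem c2_c5 {G : Type u} [Group G] (F : FM P24 G) : F.ev [8,4,12,5,4,5,12,8,10,5,12,13,1,13,12,5,10,12,11,6,12,2,12,6,11,12,10,5,12,13,1,13,12,5,10,2,12,13,4,13,12,4,3,7,8,2,3,7,4,3,2,1,2,7,5,4,3,4,5,7,8,3,13,5,2,13,12,13,2,5,13,3,6,8,7,6,5,4,3,4,5,6,7,8,7,3,6,3,7,8,3,7,8,3,7] * F.ev [10,11,0,1,8,7,3,4,8,7,3,4] * (F.ev [8,4,12,5,4,5,12,8,10,5,12,13,1,13,12,5,10,12,11,6,12,2,12,6,11,12,10,5,12,13,1,13,12,5,10,2,12,13,4,13,12,4,3,7,8,2,3,7,4,3,2,1,2,7,5,4,3,4,5,7,8,3,13,5,2,13,12,13,2,5,13,3,6,8,7,6,5,4,3,4,5,6,7,8,7,3,6,3,7,8,3,7,8,3,7])⁻¹ = F.ev [10,11,0,1] ^ 4 :=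
  by rw [mul_inv_eq_iff_eq_mul, ← FM.ev_rp, ← F.ev_app, ← F.ev_app]; exact (FM.ev_eqM ms_24 (v := appL [8,4,12,5,4,5,12,8,10,5,12,13,1,13,12,5,10,12,11,6,12,2,12,6,11,12,10,5,12,13,1,13,12,5,10,2,12,13,4,13,12,4,3,7,8,2,3,7,4,3,2,1,2,7,5,4,3,4,5,7,8,3,13,5,2,13,12,13,2,5,13,3,6,8,7,6,5,4,3,4,5,6,7,8,7,3,6,3,7,8,3,7,8,3,7] [10,11,0,1,8,7,3,4,8,7,3,4]) (w := appL (rp 4 [10,11,0,1]) [8,4,12,5,4,5,12,8,10,5,12,13,1,13,12,5,10,12,11,6,12,2,12,6,11,12,10,5,12,13,1,13,12,5,10,2,12,13,4,13,12,4,3,7,8,2,3,7,4,3,2,1,2,7,5,4,3,4,5,7,8,3,13,5,2,13,12,13,2,5,13,3,6,8,7,6,5,4,3,4,5,6,7,8,7,3,6,3,7,8,3,7,8,3,7]) (by decide +kernel))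

theorem c3_c5 {G : Type u} [Group G] (F : FM P24 G) : F.ev [8,4,12,5,4,5,12,8,10,5,12,13,1,13,12,5,10,12,11,6,12,2,12,6,11,12,10,5,12,13,1,13,12,5,10,2,12,13,4,13,12,4,3,7,8,2,3,7,4,3,2,1,2,7,5,4,3,4,5,7,8,3,13,5,2,13,12,13,2,5,13,3,6,8,7,6,5,4,3,4,5,6,7,8,7,3,6,3,7] * F.ev [10,11,0,1,8,7,3,4,8,7,3,4,8,7,3,4] * (F.ev [8,4,12,5,4,5,12,8,10,5,12,13,1,13,12,5,10,12,11,6,12,2,12,6,11,12,10,5,12,13,1,13,12,5,10,2,12,13,4,13,12,4,3,7,8,2,3,7,4,3,2,1,2,7,5,4,3,4,5,7,8,3,13,5,2,13,12,13,2,5,13,3,6,8,7,6,5,4,3,4,5,6,7,8,7,3,6,3,7])⁻¹ = F.ev [10,11,0,1] ^ 4 :=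
  by rw [mul_inv_eq_iff_eq_mul, ← FM.ev_rp, ← F.ev_app, ← F.ev_app]; exact (FM.ev_eqM ms_24 (v := appL [8,4,12,5,4,5,12,8,10,5,12,13,1,13,12,5,10,12,11,6,12,2,12,6,11,12,10,5,12,13,1,13,12,5,10,2,12,13,4,13,12,4,3,7,8,2,3,7,4,3,2,1,2,7,5,4,3,4,5,7,8,3,13,5,2,13,12,13,2,5,13,3,6,8,7,6,5,4,3,4,5,6,7,8,7,3,6,3,7] [10,11,0,1,8,7,3,4,8,7,3,4,8,7,3,4]) (w := appL (rp 4 [10,11,0,1]) [8,4,12,5,4,5,12,8,10,5,12,13,1,13,12,5,10,12,11,6,12,2,12,6,11,12,10,5,12,13,1,13,12,5,10,2,12,13,4,13,12,4,3,7,8,2,3,7,4,3,2,1,2,7,5,4,3,4,5,7,8,3,13,5,2,13,12,13,2,5,13,3,6,8,7,6,5,4,3,4,5,6,7,8,7,3,6,3,7]) (by decide +kernel))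

theorem c4_c5 {G : Type u} [Group G] (F : FM P24 G) : F.ev [8,4,12,5,4,5,12,8,10,5,12,13,1,13,12,5,10,12,11,6,12,2,12,6,11,12,10,5,12,13,1,13,12,5,10,2,12,13,4,13,12,4,3,7,8,2,3,7,4,3,2,1,2,7,5,4,3,4,5,7,8,3,13,5,2,13,12,13,2,5,13,3,6,8,7,6,5,4,3,4,5,6,7,8,7,3,6,3,7,8,3,7] * F.ev [10,11,0,1,8,7,3,4,8,7,3,4,8,7,3,4,8,7,3,4] * (F.ev [8,4,12,5,4,5,12,8,10,5,12,13,1,13,12,5,10,12,11,6,12,2,12,6,11,12,10,5,12,13,1,13,12,5,10,2,12,13,4,13,12,4,3,7,8,2,3,7,4,3,2,1,2,7,5,4,3,4,5,7,8,3,13,5,2,13,12,13,2,5,13,3,6,8,7,6,5,4,3,4,5,6,7,8,7,3,6,3,7,8,3,7])⁻¹ = F.ev [10,11,0,1] ^ 4 :=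
  by rw [mul_inv_eq_iff_eq_mul, ← FM.ev_rp, ← F.ev_app, ← F.ev_app]; exact (FM.ev_eqM ms_24 (v := appL [8,4,12,5,4,5,12,8,10,5,12,13,1,13,12,5,10,12,11,6,12,2,12,6,11,12,10,5,12,13,1,13,12,5,10,2,12,13,4,13,12,4,3,7,8,2,3,7,4,3,2,1,2,7,5,4,3,4,5,7,8,3,13,5,2,13,12,13,2,5,13,3,6,8,7,6,5,4,3,4,5,6,7,8,7,3,6,3,7,8,3,7] [10,11,0,1,8,7,3,4,8,7,3,4,8,7,3,4,8,7,3,4]) (w := appL (rp 4 [10,11,0,1]) [8,4,12,5,4,5,12,8,10,5,12,13,1,13,12,5,10,12,11,6,12,2,12,6,11,12,10,5,12,13,1,13,12,5,10,2,12,13,4,13,12,4,3,7,8,2,3,7,4,3,2,1,2,7,5,4,3,4,5,7,8,3,13,5,2,13,12,13,2,5,13,3,6,8,7,6,5,4,3,4,5,6,7,8,7,3,6,3,7,8,3,7]) (by decide +kernel))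

theorem xy_c5 {G : Type u} [Group G] (F : FM P24 G) : Commute (F.ev [10,11,0,1]) (F.ev [8,7,3,4]) ∧ F.ev [8,7,3,4] ∉ Subgroup.zpowers (F.ev [10,11,0,1]) :=
  ⟨((F.ev_app _ _).symm.trans ((FM.ev_eqM ms_24 (v := appL [10,11,0,1] [8,7,3,4]) (w := appL [8,7,3,4] [10,11,0,1]) (by decide +kernel)))).trans (F.ev_app _ _), FM.not_mem_zp (8,[]) (by decide +kernel)⟩

theorem co_c5 {G : Type u} [Group G] (F : FM P24 G) : ∀ X : Subgroup G, Nat.card X = 5 → ∃ g, X = Subgroup.zpowers (g * F.ev [10,11,0,1] * g⁻¹) :=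
  have := F.fin; conj_of_pair (by norm_num) (ord_c5 F) (ord_c5y F) (xy_c5 F).1 (xy_c5 F).2 (by rw [F.card]; decide +kernel) ⟨_, (c0_c5 F).symm ▸ Subgroup.npow_mem_zpowers _ _⟩ (lt_step (lt_step (lt_step (lt_step (lt_step (lt_zero _) ⟨1, by simp⟩) (by rw [← FM.ev_rp, ← F.ev_app]; exact ⟨_, (c1_c5 F).symm ▸ Subgroup.npow_mem_zpowers _ _⟩)) (by rw [← FM.ev_rp, ← F.ev_app]; exact ⟨_, (c2_c5 F).symm ▸ Subgroup.npow_mem_zpowers _ _⟩)) (by rw [← FM.ev_rp, ← F.ev_app]; exact ⟨_, (c3_c5 F).symm ▸ Subgroup.npow_mem_zpowers _ _⟩)) (by rw [← FM.ev_rp, ← F.ev_app]; exact ⟨_, (c4_c5 F).symm ▸ Subgroup.npow_mem_zpowers _ _⟩))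

end H7.T
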