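import Cfsg.Agent.H7.T.D2
import Cfsg.Agent.H7.Pres2
import Cfsg.Prelude.Def_Spor_Fi23
set_option Elab.async false
set_option maxRecDepth 100000
set_option maxHeartbeats 0
namespace H7.T
universe u

theorem imp_F23_YA0_93c : impCert R_F23 [1,2,3,4,5,7,8] R_YA0 [(1,0),(2,0),(3,0),(4,0),(5,0),(7,0),(8,0),(19,0),(20,0),(21,0),(22,0),(25,0),(26,0),(27,0),(28,0),(29,0),(32,0),(33,0),(34,0),(35,0),(38,0),(39,0),(40,0),(43,0),(44,0),(47,0),(48,0),(54,0),(55,0)] = true := by decide +kernel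
theorem imp_F23_YA0_93 : Imp.{u} R_F23 [1,2,3,4,5,7,8] R_YA0 := Imp.of_cert imp_F23_YA0_93c

theorem der_F23_sp2 : Der.{u} R_F23 [[3,4,5,3,2,1,3,7,8,3,4,5,3,2,1,3,7,8,3,4,5,3,2,1,3,7,8,3,4,5,3,2,1,3,7,8,3,4,5,3,2,1,3,7,8,3,4,5,3,2,1,3,7,8,3,4,5,3,2,1,3,7,8,3,4,5,3,2,1,3,7,8,3,4,5,3,2,1,3,7,8,3,4,5,3,2,1,3,7,8]] :=
  orc_A0.rels ok_YA0 imp_F23_YA0_93 [[2,3,4,2,1,0,2,5,6,2,3,4,2,1,0,2,5,6,2,3,4,2,1,0,2,5,6,2,3,4,2,1,0,2,5,6,2,3,4,2,1,0,2,5,6,2,3,4,2,1,0,2,5,6,2,3,4,2,1,0,2,5,6,2,3,4,2,1,0,2,5,6,2,3,4,2,1,0,2,5,6,2,3,4,2,1,0,2,5,6]] (by decide +kernel) (by decide +kernel) (by decide +kernel)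

theorem der_F23_D : Der.{u} R_F23 R_YD :=
  Der.trans ((Der.refl R_F23).and der_F23_sp2) (Der.of_cert (c := [(0,0),(1,0),(2,0),(3,0),(4,0),(5,0),(6,0),(7,0),(8,0),(9,0),(10,0),(11,0),(12,0),(13,0),(14,0),(15,0),(16,0),(17,0),(18,0),(19,0),(20,0),(21,0),(22,0),(23,0),(24,0),(25,0),(26,0),(27,0),(28,0),(29,0),(30,0),(31,0),(32,0),(33,0),(34,0),(35,0),(36,0),(37,0),(38,0),(39,0),(40,0),(41,0),(42,0),(43,0),(44,0),(45,0),(46,0),(47,0),(48,0),(49,0),(50,0),(51,0),(52,0),(53,0),(54,0),(55,0),(57,0)]) (by decide +kernel))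

theorem lb_94 : LB N_YD [[0,1,2,3,4,5,7,0,1,2,3,4,5,7,0,1,2,3,4,5,7,0,1,2,3,4,5,7,0,1,2,3,4,5,7,0,1,2,3,4,5,7,0,1,2,3,4,5,7,0,1,2,3,4,5,7,0,1,2,3,4,5,7]] [31671] 2 :=
  (LB.of_chain (kp := 12) ok_YD (by decide +kernel) [(31671,1,[[0,1,2,3,4,5,7,0,1,2,3,4,5,7,0,1,2,3,4,5,7,0,1,2,3,4,5,7,0,1,2,3,4,5,7,0,1,2,3,4,5,7,0,1,2,3,4,5,7,0,1,2,3,4,5,7,0,1,2,3,4,5,7]])] (by decide +kernel)).cat
    (rels_YD.inv inv_YD) (by decide +kernel) (c := [[0]]) (by decide +kernel)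

theorem ui_YD_95 : UI.{u} R_YD [0,1,2,3,4,5,6,7,8,9] [[0,1,2,3,4,5,7,0,1,2,3,4,5,7,0,1,2,3,4,5,7,0,1,2,3,4,5,7,0,1,2,3,4,5,7,0,1,2,3,4,5,7,0,1,2,3,4,5,7,0,1,2,3,4,5,7,0,1,2,3,4,5,7]] 4089470473293004800 :=
  UI.of_UB ub_YD rels_YD lb_94 (by decide +kernel) (by decide +kernel)

theorem der_F23_l : Der.{u} R_F23 [[0,1,2,3,4,5,7,0,1,2,3,4,5,7,0,1,2,3,4,5,7,0,1,2,3,4,5,7,0,1,2,3,4,5,7,0,1,2,3,4,5,7,0,1,2,3,4,5,7,0,1,2,3,4,5,7,0,1,2,3,4,5,7]] := Der.of_cert (c := [(56,0)]) (by decide +kernel)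

theorem ub_F23 : UB.{u} R_F23 [0,1,2,3,4,5,6,7,8,9] 4089470473293004800 := ui_YD_95.kill der_F23_D der_F23_l

def idx_Fi23 : Cfsg.Spor.Fi23.Gen → ℕ
  | .a => 0
  | .b => 1
  | .c => 2
  | .d => 3
  | .e => 4
  | .f => 5
  | .g => 6
  | .h => 7
  | .i => 8
  | .j => 9
def all_Fi23 : List Cfsg.Spor.Fi23.Gen := [.a, .b, .c, .d, .e, .f, .g, .h, .i, .j]
theorem hall_Fi23 : ∀ x, x ∈ all_Fi23 := by intro x; cases x <;> decide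
def L_Fi23 : List (FreeGroup Cfsg.Spor.Fi23.Gen) := [Cfsg.Spor.Fi23.a, Cfsg.Spor.Fi23.b, Cfsg.Spor.Fi23.c, Cfsg.Spor.Fi23.d, Cfsg.Spor.Fi23.e, Cfsg.Spor.Fi23.f, Cfsg.Spor.Fi23.g, Cfsg.Spor.Fi23.h, Cfsg.Spor.Fi23.i, Cfsg.Spor.Fi23.j]
theorem let_Fi23 : letOK Cfsg.Spor.Fi23.edges all_Fi23 L_Fi23 idx_Fi23 iv_F23 = true := by decide +kernel
def R0_Fi23 : List (List ℕ) := [[0,0],[0,1,0,1,0,1],[0,2,0,2],[0,3,0,3],[0,4,0,4],[0,7,0,7],[0,5,0,5],[0,6,0,6],[0,9,0,9],[0,8,0,8],[1,0,1,0,1,0],[1,1],[1,2,1,2,1,2],[1,3,1,3],[1,4,1,4],[1,7,1,7],[1,5,1,5],[1,6,1,6],[1,9,1,9],[1,8,1,8],[2,0,2,0],[2,1,2,1,2,1],[2,2],[2,3,2,3,2,3],[2,4,2,4],[2,7,2,7],[2,5,2,5],[2,6,2,6],[2,9,2,9],[2,8,2,8],[3,0,3,0],[3,1,3,1],[3,2,3,2,3,2],[3,3],[3,4,3,4,3,4],[3,7,3,7,3,7],[3,5,3,5],[3,6,3,6],[3,9,3,9],[3,8,3,8],[4,0,4,0],[4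,1,4,1],[4,2,4,2],[4,3,4,3,4,3],[4,4],[4,7,4,7],[4,5,4,5,4,5],[4,6,4,6],[4,9,4,9],[4,8,4,8],[7,0,7,0],[7,1,7,1],[7,2,7,2],[7,3,7,3,7,3],[7,4,7,4],[7,7],[7,5,7,5],[7,6,7,6],[7,9,7,9],[7,8,7,8,7,8],[5,0,5,0],[5,1,5,1],[5,2,5,2],[5,3,5,3],[5,4,5,4,5,4],[5,7,5,7],[5,5],[5,6,5,6,5,6],[5,9,5,9],[5,8,5,8],[6,0,6,0],[6,1,6,1],[6,2,6,2],[6,3,6,3],[6,4,6,4],[6,7,6,7],[6,5,6,5,6,5],[6,6],[6,9,6,9,6,9],[6,8,6,8],[9,0,9,0],[9,1,9,1],[9,2,9,2],[9,3,9,3],[9,4,9,4],[9,7,9,7],[9,5,9,5],[9,6,9,6,9,6],[9,9],[9,8,9,8],[8,0,8,0],[8,1,8,1],[8,2,8,2],[8,3,8,3],[8,4,8,4],[8,7,8,7,8,7],[8,5,8,5],[8,6,8,6],[8,9,8,9],[8,8],[3,2,1,3,4,5,3,7,8,3,2,1,3,4,5,3,7,8,3,2,1,3,4,5,3,7,8,3,2,1,3,4,5,3,7,8,3,2,1,3,4,5,3,7,8,3,2,1,3,4,5,3,7,8,3,2,1,3,4,5,3,7,8,3,2,1,3,4,5,3,7,8,3,2,1,3,4,5,3,7,8,3,2,1,3,4,5,3,7,8],[0,1,2,3,4,5,7,0,1,2,3,4,5,7,0,1,2,3,4,5,7,0,1,2,3,4,5,7,0,1,2,3,4,5,7,0,1,2,3,4,5,7,0,1,2,3,4,5,7,0,1,2,3,4,5,7,0,1,2,3,4,5,7]]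
theorem R0_Fi23_eq : (relL Cfsg.Spor.Fi23.edges Cfsg.Spor.Fi23.extra).map (trW idx_Fi23 iv_F23) = R0_Fi23 := by decide +kernel

theorem der0_Fi23 : Der.{u} R_F23 R0_Fi23 := Der.of_cert (c := [(0,0),(10,0),(11,0),(12,0),(13,0),(17,0),(14,0),(15,0),(16,0),(18,0),(10,1),(1,0),(19,0),(20,0),(21,0),(25,0),(22,0),(23,0),(24,0),(26,0),(11,1),(19,1),(2,0),(27,0),(28,0),(32,0),(29,0),(30,0),(31,0),(33,0),(12,1),(20,1),(27,1),(3,0),(34,0),(38,0),(35,0),(36,0),(37,0),(39,0),(13,1),(21,1),(28,1),(34,1),(4,0),(43,0),(40,0),(41,0),(42,0),(44,0),(17,1),(25,1),(32,1),(38,1),(43,1),(7,0),(47,1),(50,1),(52,1),(54,0),(14,1),(22,1),(29,1),(35,1),(40,1),(47,0),(5,0),(45,0),(46,0),(48,0),(15,1),(23,1),(30,1),(36,1),(41,1),(50,0),(45,1),(6,0),(49,0),(51,0),(16,1),(24,1),(31,1),(37,1),(42,1),(52,0),(46,1),(49,1),(9,0),(53,0),(18,1),(26,1),(33,1),(39,1),(44,1),(54,1),(48,1),(51,1),(53,1),(8,0),(55,0),(56,0)])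 (by decide +kernel)

noncomputable def M_Fi23 : Mdl Cfsg.Spor.Fi23 := Mdl.ofPres Cfsg.Spor.Fi23.edges Cfsg.Spor.Fi23.extra L_Fi23 idx_Fi23 iv_F23 31671 NL_F23 okL_F23
  rels_F23 inv_F23 (by intro x; cases x <;> decide) (R0_Fi23_eq ▸ der0_Fi23) (by decide +kernel) rfl

theorem rels_Fi23 : Rels M_Fi23.gs R_F23 :=
  Der.of_cert (c := [(0,0),(11,0),(22,0),(33,0),(44,0),(66,0),(77,0),(55,0),(99,0),(88,0),(1,0),(2,0),(3,0),(4,0),(6,0),(7,0),(8,0),(5,0),(9,0),(12,0),(13,0),(14,0),(16,0),(17,0),(18,0),(15,0),(19,0),(23,0),(24,0),(26,0),(27,0),(28,0),(25,0),(29,0),(34,0),(36,0),(37,0),(38,0),(35,0),(39,0),(46,0),(47,0),(48,0),(45,0),(49,0),(67,0),(68,0),(56,1),(69,0),(78,0),(57,1),(79,0),(58,1),(89,0),(59,0),(100,0),(101,0)]) (by decide +kernel) _ _ (R0_Fi23_eq ▸ rels_gsP hall_Fi23 let_Fi23 : Rels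 M_Fi23.gs R0_Fi23)

theorem gen_Fi23 : genW M_Fi23.gs (sing [0,1,2,3,4,5,6,7,8,9]) = ⊤ :=
  gen_gsP hall_Fi23 let_Fi23 _ fun x _ => gs_mem_sing (by cases x <;> decide)

theorem lb_96 : LB N_F23 [[0],[1],[2],[3],[4],[5],[6],[7],[8],[9]] [0,1,2,2527,3,517,4,5,6,8] 4089470473293004800 :=
  (LB.of_chain (kp := 12) ok_F23 (by decide +kernel) [(0,13,[[0],[1],[2],[3],[4],[5],[6],[7],[8],[9]]),(1,12,[[0],[1],[2],[3],[4],[5],[6],[7],[8]]),(2,9,[[0],[1],[2],[3],[4],[5],[7],[8]]),(2527,8,[[0],[1],[2],[3],[4],[7],[8]]),(3,5,[[0],[1],[2],[3],[4],[7]]),(517,5,[[0],[1],[2],[3],[7]]),(4,4,[[0],[1],[2],[3]]),(5,3,[[0],[1],[2]]),(6,2,[[0],[1]]),(8,1,[[0]])] (by decide +kernel)).cat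
    (rels_F23.inv inv_F23) (by decide +kernel) (c := [[0],[2],[4],[6],[8],[10],[12],[14],[16],[18],[0],[2],[4],[6],[8],[10],[12],[14],[16],[0],[2],[4],[6],[8],[10],[14],[16],[0],[2],[4],[6],[8],[14],[16],[0],[2],[4],[6],[8],[14],[0],[2],[4],[6],[14],[0],[2],[4],[6],[0],[2],[4],[0],[2],[0]]) (by decide +kernel)

theorem top_Fi23 : Finite Cfsg.Spor.Fi23 ∧ Nat.card Cfsg.Spor.Fi23 = 4089470473293004800 ∧ IsBase (⊤ : Subgroup Cfsg.Spor.Fi23) M_Fi23.sys.dec [0,1,2,2527,3,517,4,5,6,8] :=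
  Mdl.top_pack ub_F23 rels_Fi23 lb_96 gen_Fi23

theorem stab_Fi23_o : orbGe 31671 12 N_F23 (sing [0,1,2,3,4,5,6,7,8,9]) 13 0 31671 = true := by decide +kernel
theorem stab_Fi23 : genW M_Fi23.gs (sing [0,1,2,3,4,5,6,7,8]) = MulAction.stabilizer _ (M_Fi23.sys.dec 0) ∧ (genW M_Fi23.gs (sing [0,1,2,3,4,5,6,7,8])).index = 31671 :=
  Mdl.stab_eq (ui_YD.top (der_F23_D _ _ rels_Fi23) gen_Fi23) (by decide +kernel) (Mdl.genW_le_stab (by decide +kernel)) stab_Fi23_o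

theorem mc_Fi23_0 : band (Nat.blt 1 31671) (band (tb (wapp N_F23 [9] (bit 0)) 1) (sub (ones 31671) (growN N_F23 ([9] :: [[0],[1],[2],[3],[4],[5],[6],[7],[8]]) 12 (bit 0)))) = true := by decide +kernel

theorem mc_Fi23_1 : band (Nat.blt 53 31671) (band (tb (wapp N_F23 [9,6,5,4,3,2,7,3,4,5,6,9] (bit 0)) 53) (sub (ones 31671) (growN N_F23 ([9,6,5,4,3,2,7,3,4,5,6,9] :: [[0],[1],[2],[3],[4],[5],[6],[7],[8]]) 6 (bit 0)))) = true := by decide +kernel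

theorem mc_Fi23 : maxCertD 31671 N_F23 (ones 31671) 0 [[0],[1],[2],[3],[4],[5],[6],[7],[8]] [(1,12,[9]),(53,6,[9,6,5,4,3,2,7,3,4,5,6,9])] = true :=
  maxCertD_intro (by decide +kernel) (List.forall_mem_cons.2 ⟨mc_Fi23_0, List.forall_mem_cons.2 ⟨mc_Fi23_1, List.forall_mem_nil _⟩⟩) (by decide +kernel)

theorem core_Fi23 : ∀ N : Subgroup Cfsg.Spor.Fi23, N.Normal → N ≤ MulAction.stabilizer _ (M_Fi23.sys.dec 0) → N = ⊥ :=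
  Mdl.core_bot top_Fi23.2.2 (W := sing [0,1,2,3,4,5,6,7,8,9]) (r := 13) (by decide +kernel)

theorem orb_Fi23_28160 : (MulAction.orbit (genW M_Fi23.gs (sing [0,1,2,3,4,5,6,7,8])) (M_Fi23.sys.dec 1)).ncard = 28160 :=
  Mdl.orbit_ncard (kp := 12) (r := 12) (by decide +kernel) (by decide +kernel)

theorem orb_Fi23_3510 : (MulAction.orbit (genW M_Fi23.gs (sing [0,1,2,3,4,5,6,7,8])) (M_Fi23.sys.dec 53)).ncard = 3510 :=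
  Mdl.orbit_ncard (kp := 12) (r := 6) (by decide +kernel) (by decide +kernel)

theorem coatom_Fi23 : IsCoatom (MulAction.stabilizer Cfsg.Spor.Fi23 (M_Fi23.sys.dec 0)) :=
  Mdl.isCoatom gen_Fi23 mc_Fi23 (by decide +kernel) (w := [9]) (by decide +kernel)
noncomputable def t_Fi23 : List ℕ := (appL [9,6,5,4,3,2,1,7,3,2,4,3,5,4,6,5,7,3,2,4,3,7,9,6,5,4,3,2] (appL [1] (winv iv_F23 [9,6,5,4,3,2,1,7,3,2,4,3,5,4,6,5,7,3,2,4,3,7,9,6,5,4,3,2] [])))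
theorem cent_Fi23 : ∀ x ∈ MulAction.stabilizer Cfsg.Spor.Fi23 (M_Fi23.sys.dec 0), x * wev M_Fi23.gs t_Fi23 = wev M_Fi23.gs t_Fi23 * x :=
  stab_Fi23.1 ▸ comm_genW fun w hw => by
    simpa only [appL_eq, wev_append] using Mdl.eq_of_base top_Fi23.2.2 (v := appL w t_Fi23) (w := appL t_Fi23 w) (by
      simp only [sing, List.map, List.mem_cons, List.not_mem_nil, or_false] at hw
      rcases hw with rfl | rfl | rfl | rfl | rfl | rfl | rfl | rfl | rfl <;> decide +kernel)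
theorem conj_Fi23 : ∀ a ∈ [0,1,2,3,4,5,6,7,8,9], IsConj (wev M_Fi23.gs t_Fi23) (M_Fi23.gs a) := fun a ha =>
  braidCert_spec rels_Fi23 [(1,0),(1,2),(2,3),(3,4),(3,7),(4,5),(7,8),(5,6),(6,9)] [1] (by
    simpa [t_Fi23] using isConj_word (rels_Fi23.inv inv_F23) (u := [9,6,5,4,3,2,1,7,3,2,4,3,5,4,6,5,7,3,2,4,3,7,9,6,5,4,3,2]) (by decide +kernel) [1]) a
    (memN_spec (allL_iff.1 (show allL (fun a => memN a _) _ = true by decide +kernel) a ha))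
theorem sq_Fi23 : wev M_Fi23.gs t_Fi23 * wev M_Fi23.gs t_Fi23 = 1 := by
  rw [← wev_append, ← wev_fred (rels_Fi23.inv inv_F23), show fred iv_F23 10 (t_Fi23 ++ t_Fi23) = [] by decide +kernel, wev_nil]
theorem simple_Fi23 : IsSimpleGroup Cfsg.Spor.Fi23 :=
  simple_of_t coatom_Fi23 core_Fi23 cent_Fi23 gen_Fi23 conj_Fi23 sq_Fi23
    (rels_Fi23 [0,1,2,3,4,5,7,0,1,2,3,4,5,7,0,1,2,3,4,5,7,0,1,2,3,4,5,7,0,1,2,3,4,5,7,0,1,2,3,4,5,7,0,1,2,3,4,5,7,0,1,2,3,4,5,7,0,1,2,3,4,5,7] (memW_spec (by decide +kernel))) (by decide +kernel) (by decide +kernel)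

end H7.T
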