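import Cfsg.Agent.H7.T.FN13
import Cfsg.Agent.H7.T.G0
import Cfsg.Agent.H7.T.D2
import Cfsg.Agent.H7.Pres3
import Cfsg.Prelude.Def_Spor_Fi24
set_option Elab.async false
set_option maxRecDepth 100000
set_option maxHeartbeats 0
namespace H7.T
universe u

def R_YF : List (List ℕ) := [[0,0],[1,1],[2,2],[3,3],[4,4],[5,5],[6,6],[7,7],[8,8],[9,9],[10,10],[11,11],[10,11,10,11,10,11],[10,0,10,0],[10,1,10,1],[10,2,10,2],[10,3,10,3],[10,4,10,4],[10,5,10,5],[10,6,10,6],[10,9,10,9],[10,7,10,7],[10,8,10,8],[11,0,11,0,11,0],[11,1,11,1],[11,2,11,2],[11,3,11,3],[11,4,11,4],[11,5,11,5],[11,6,11,6],[11,9,11,9],[11,7,11,7],[11,8,11,8],[0,1,0,1,0,1],[0,2,0,2],[0,3,0,3],[0,4,0,4],[0,5,0,5],[0,6,0,6],[0,9,0,9],[0,7,0,7],[0,8,0,8],[1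,2,1,2,1,2],[1,3,1,3],[1,4,1,4],[1,5,1,5],[1,6,1,6],[1,9,1,9],[1,7,1,7],[1,8,1,8],[2,3,2,3,2,3],[2,4,2,4],[2,5,2,5],[2,6,2,6],[2,9,2,9],[2,7,2,7],[2,8,2,8],[3,4,3,4,3,4],[3,5,3,5],[3,6,3,6],[3,9,3,9],[3,7,3,7,3,7],[3,8,3,8],[4,5,4,5,4,5],[4,6,4,6],[4,9,4,9],[4,7,4,7],[4,8,4,8],[5,6,5,6,5,6],[5,9,5,9],[5,7,5,7],[5,8,5,8],[6,9,6,9,6,9],[6,7,6,7],[6,8,6,8],[9,7,9,7],[9,8,9,8],[7,8,7,8,7,8],[10,7,5,4,3,2,1,0,7,5,4,3,2,1,0,7,5,4,3,2,1,0,7,5,4,3,2,1,0,7,5,4,3,2,1,0,7,5,4,3,2,1,0,7,5,4,3,2,1,0,7,5,4,3,2,1,0,7,5,4,3,2,1,0],[3,2,1,0,11,10,3,4,5,6,9,3,7,8,3,2,1,0,11,10,3,4,5,6,9,3,7,8,3,2,1,0,11,10,3,4,5,6,9,3,7,8,3,2,1,0,11,10,3,4,5,6,9,3,7,8,3,2,1,0,11,10,3,4,5,6,9,3,7,8,3,2,1,0,11,10,3,4,5,6,9,3,7,8,3,2,1,0,11,10,3,4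,5,6,9,3,7,8,3,2,1,0,11,10,3,4,5,6,9,3,7,8,3,2,1,0,11,10,3,4,5,6,9,3,7,8,3,2,1,0,11,10,3,4,5,6,9,3,7,8,3,2,1,0,11,10,3,4,5,6,9,3,7,8,3,2,1,0,11,10,3,4,5,6,9,3,7,8,3,2,1,0,11,10,3,4,5,6,9,3,7,8,3,2,1,0,11,10,3,4,5,6,9,3,7,8,3,2,1,0,11,10,3,4,5,6,9,3,7,8,3,2,1,0,11,10,3,4,5,6,9,3,7,8,3,2,1,0,11,10,3,4,5,6,9,3,7,8],[3,2,1,3,4,5,3,7,8,3,2,1,3,4,5,3,7,8,3,2,1,3,4,5,3,7,8,3,2,1,3,4,5,3,7,8,3,2,1,3,4,5,3,7,8,3,2,1,3,4,5,3,7,8,3,2,1,3,4,5,3,7,8,3,2,1,3,4,5,3,7,8,3,2,1,3,4,5,3,7,8,3,2,1,3,4,5,3,7,8],[3,4,5,3,2,1,3,7,8,3,4,5,3,2,1,3,7,8,3,4,5,3,2,1,3,7,8,3,4,5,3,2,1,3,7,8,3,4,5,3,2,1,3,7,8,3,4,5,3,2,1,3,7,8,3,4,5,3,2,1,3,7,8,3,4,5,3,2,1,3,7,8,3,4,5,3,2,1,3,7,8,3,4,5,3,2,1,3,7,8]]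
def iv_YF : List ℕ := [0,1,2,3,4,5,6,7,8,9,10,11]
theorem inv_YF : invOK R_YF iv_YF 12 = true := by decide +kernel

theorem imp_F24_YG_117c : impCert R_F24 [11,0,1,2,3,4,5,7,10,8] R_YG [(11,0),(0,0),(1,0),(2,0),(3,0),(4,0),(5,0),(7,0),(10,0),(8,0),(12,0),(13,0),(14,0),(15,0),(16,0),(17,0),(18,0),(21,0),(22,0),(23,0),(24,0),(25,0),(26,0),(27,0),(28,0),(31,0),(32,0),(33,0),(34,0),(35,0),(36,0),(37,0),(40,0),(41,0),(42,0),(43,0),(44,0),(45,0),(48,0),(49,0),(50,0),(51,0),(52,0),(55,0),(56,0),(57,0),(58,0),(61,0),(62,0),(63,0),(66,0),(67,0),(70,0),(71,0),(77,0),(78,0)] = true := by decide +kernel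
theorem imp_F24_YG_117 : Imp.{u} R_F24 [11,0,1,2,3,4,5,7,10,8] R_YG := Imp.of_cert imp_F24_YG_117c

theorem der_F24_sp : Der.{u} R_F24 [[3,2,1,3,4,5,3,7,8,3,2,1,3,4,5,3,7,8,3,2,1,3,4,5,3,7,8,3,2,1,3,4,5,3,7,8,3,2,1,3,4,5,3,7,8,3,2,1,3,4,5,3,7,8,3,2,1,3,4,5,3,7,8,3,2,1,3,4,5,3,7,8,3,2,1,3,4,5,3,7,8,3,2,1,3,4,5,3,7,8],[3,4,5,3,2,1,3,7,8,3,4,5,3,2,1,3,7,8,3,4,5,3,2,1,3,7,8,3,4,5,3,2,1,3,7,8,3,4,5,3,2,1,3,7,8,3,4,5,3,2,1,3,7,8,3,4,5,3,2,1,3,7,8,3,4,5,3,2,1,3,7,8,3,4,5,3,2,1,3,7,8,3,4,5,3,2,1,3,7,8]] :=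
  orc_G.rels ok_YG imp_F24_YG_117 [[4,3,2,4,5,6,4,7,9,4,3,2,4,5,6,4,7,9,4,3,2,4,5,6,4,7,9,4,3,2,4,5,6,4,7,9,4,3,2,4,5,6,4,7,9,4,3,2,4,5,6,4,7,9,4,3,2,4,5,6,4,7,9,4,3,2,4,5,6,4,7,9,4,3,2,4,5,6,4,7,9,4,3,2,4,5,6,4,7,9],[4,5,6,4,3,2,4,7,9,4,5,6,4,3,2,4,7,9,4,5,6,4,3,2,4,7,9,4,5,6,4,3,2,4,7,9,4,5,6,4,3,2,4,7,9,4,5,6,4,3,2,4,7,9,4,5,6,4,3,2,4,7,9,4,5,6,4,3,2,4,7,9,4,5,6,4,3,2,4,7,9,4,5,6,4,3,2,4,7,9]] (by decide +kernel) (by decide +kernel) (by decide +kernel)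

theorem der_F24_F : Der.{u} R_F24 R_YF :=
  Der.trans ((Der.refl R_F24).and der_F24_sp) (Der.of_cert (c := [(0,0),(1,0),(2,0),(3,0),(4,0),(5,0),(6,0),(7,0),(8,0),(9,0),(10,0),(11,0),(12,0),(13,0),(14,0),(15,0),(16,0),(17,0),(18,0),(19,0),(20,0),(21,0),(22,0),(23,0),(24,0),(25,0),(26,0),(27,0),(28,0),(29,0),(30,0),(31,0),(32,0),(33,0),(34,0),(35,0),(36,0),(37,0),(38,0),(39,0),(40,0),(41,0),(42,0),(43,0),(44,0),(45,0),(46,0),(47,0),(48,0),(49,0),(50,0),(51,0),(52,0),(53,0),(54,0),(55,0),(56,0),(57,0),(58,0),(59,0),(60,0),(61,0),(62,0),(63,0),(64,0),(65,0),(66,0),(67,0),(68,0),(69,0),(70,0),(71,0),(72,0),(73,0),(74,0),(75,0),(76,0),(77,0),(78,0),(79,0),(80,0),(81,0)]) (by decide +kernel))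

theorem rels_YF : Rels (pms N_F24) R_YF := der_F24_F _ _ rels_F24

theorem imp_YF_YD_118c : impCert R_YF [6,5,4,3,2,1,0,7,8,11] R_YD [(6,0),(5,0),(4,0),(3,0),(2,0),(1,0),(0,0),(7,0),(8,0),(11,0),(68,1),(64,1),(59,1),(53,1),(46,1),(38,1),(29,1),(73,0),(74,0),(63,1),(58,1),(52,1),(45,1),(37,1),(28,1),(70,0),(71,0),(57,1),(51,1),(44,1),(36,1),(27,1),(66,0),(67,0),(50,1),(43,1),(35,1),(26,1),(61,0),(62,0),(42,1),(34,1),(25,1),(55,0),(56,0),(33,1),(24,1),(48,0),(49,0),(23,1),(40,0),(41,0),(31,0),(32,0),(77,0),(81,0),(80,0)] = true := by decide +kernel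
theorem imp_YF_YD_118 : Imp.{u} R_YF [6,5,4,3,2,1,0,7,8,11] R_YD := Imp.of_cert imp_YF_YD_118c

theorem lb_119_9 : LB N_YD [[3,2,4,3,7,3,4,2,3,8,7,2,0,1,2,3,4,5,7,3,2,1,4,3,8,7,3,4,5,6,0,6,5,4,3,7,8,3,4,1,2,3,7,5,4,3,2,1,8,3,2,4,3,7,3,4,2,3,7,8,1,2,3,4,5,7,3,2,1,4,3,8,7,3,4,5,6,0,6,5,4,3,7,8,3,4,1,2,3,7,5,4,3,2,1,4]] [5] (2 * 1) :=
  LB.step (kp := 12) (W1 := [[3,2,4,3,7,3,4,2,3,8,7,2,0,1,2,3,4,5,7,3,2,1,4,3,8,7,3,4,5,6,0,6,5,4,3,7,8,3,4,1,2,3,7,5,4,3,2,1,8,3,2,4,3,7,3,4,2,3,7,8,1,2,3,4,5,7,3,2,1,4,3,8,7,3,4,5,6,0,6,5,4,3,7,8,3,4,1,2,3,7,5,4,3,2,1,4]]) (r := 1) ok_YD (by decide +kernel) (LB.nil _) (by decide +kernel) (by decide +kernel) (by decide +kernel) (by decide +kernel)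

theorem lb_119_8 : LB N_YD [[7,8],[3,2,4,3,7,3,4,2,3,8,7,2,0,1,2,3,4,5,7,3,2,1,4,3,8,7,3,4,5,6,0,6,5,4,3,7,8,3,4,1,2,3,7,5,4,3,2,1,8,3,2,4,3,7,3,4,2,3,7,8,1,2,3,4,5,7,3,2,1,4,3,8,7,3,4,5,6,0,6,5,4,3,7,8,3,4,1,2,3,7,5,4,3,2,1,4]] [7,5] (3 * 2) :=
  LB.step (kp := 12) (W1 := [[7,8],[3,2,4,3,7,3,4,2,3,8,7,2,0,1,2,3,4,5,7,3,2,1,4,3,8,7,3,4,5,6,0,6,5,4,3,7,8,3,4,1,2,3,7,5,4,3,2,1,8,3,2,4,3,7,3,4,2,3,7,8,1,2,3,4,5,7,3,2,1,4,3,8,7,3,4,5,6,0,6,5,4,3,7,8,3,4,1,2,3,7,5,4,3,2,1,4]]) (r := 1) ok_YD (by decide +kernel) (show LB _ _ _ 2 from lb_119_9) (by decide +kernel) (by decide +kernel) (by decide +kernel) (by decide +kernel)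

theorem lb_119_7 : LB N_YD [[7],[8],[3,2,4,3,7,3,4,2,3,8,7,2,0,1,2,3,4,5,7,3,2,1,4,3,8,7,3,4,5,6,0,6,5,4,3,7,8,3,4,1,2,3,7,5,4,3,2,1,8,3,2,4,3,7,3,4,2,3,7,8,1,2,3,4,5,7,3,2,1,4,3,8,7,3,4,5,6,0,6,5,4,3,7,8,3,4,1,2,3,7,5,4,3,2,1,4],[7,8]] [31671,7,5] (2 * 6) :=
  LB.step (kp := 12) (W1 := [[7],[8],[3,2,4,3,7,3,4,2,3,8,7,2,0,1,2,3,4,5,7,3,2,1,4,3,8,7,3,4,5,6,0,6,5,4,3,7,8,3,4,1,2,3,7,5,4,3,2,1,8,3,2,4,3,7,3,4,2,3,7,8,1,2,3,4,5,7,3,2,1,4,3,8,7,3,4,5,6,0,6,5,4,3,7,8,3,4,1,2,3,7,5,4,3,2,1,4]]) (r := 1) ok_YD (by decide +kernel) (show LB _ _ _ 6 from lb_119_8) (by decide +kernel) (by decide +kernel) (by decide +kernel) (by decide +kernel)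

theorem lb_119_6 : LB N_YD [[7],[8],[3,2,4,3,7,3,4,2,3],[2,0,1,2,3,4,5,7,3,2,1,4,3,8,7,3,4,5,6,0,6,5,4,3,7,8,3,4,1,2,3,7,5,4,3,2,1,8,3,2,4,3,7,3,4,2,3,7,8,1,2,3,4,5,7,3,2,1,4,3,8,7,3,4,5,6,0,6,5,4,3,7,8,3,4,1,2,3,7,5,4,3,2,1,4],[3,2,4,3,7,3,4,2,3,8,7,2,0,1,2,3,4,5,7,3,2,1,4,3,8,7,3,4,5,6,0,6,5,4,3,7,8,3,4,1,2,3,7,5,4,3,2,1,8,3,2,4,3,7,3,4,2,3,7,8,1,2,3,4,5,7,3,2,1,4,3,8,7,3,4,5,6,0,6,5,4,3,7,8,3,4,1,2,3,7,5,4,3,2,1,4],[7,8]] [3,31671,7,5] (4 * 12) :=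
  LB.step (kp := 12) (W1 := [[7],[8],[3,2,4,3,7,3,4,2,3],[2,0,1,2,3,4,5,7,3,2,1,4,3,8,7,3,4,5,6,0,6,5,4,3,7,8,3,4,1,2,3,7,5,4,3,2,1,8,3,2,4,3,7,3,4,2,3,7,8,1,2,3,4,5,7,3,2,1,4,3,8,7,3,4,5,6,0,6,5,4,3,7,8,3,4,1,2,3,7,5,4,3,2,1,4]]) (r := 1) ok_YD (by decide +kernel) (show LB _ _ _ 12 from lb_119_7) (by decide +kernel) (by decide +kernel) (by decide +kernel) (by decide +kernel)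

theorem lb_119_5 : LB N_YD [[2],[7],[8],[3,2,4,3,7,3,4,2,3],[0,1,2,3,4,5,7,3,2,1,4,3,8,7,3,4,5,6,0,6,5,4,3,7,8,3,4,1,2,3,7,5,4,3,2,1,8,3,2,4,3,7,3,4,2,3,7,8,1,2,3,4,5,7,3,2,1,4,3,8,7,3,4,5,6,0,6,5,4,3,7,8,3,4,1,2,3,7,5,4,3,2,1,4],[2,0,1,2,3,4,5,7,3,2,1,4,3,8,7,3,4,5,6,0,6,5,4,3,7,8,3,4,1,2,3,7,5,4,3,2,1,8,3,2,4,3,7,3,4,2,3,7,8,1,2,3,4,5,7,3,2,1,4,3,8,7,3,4,5,6,0,6,5,4,3,7,8,3,4,1,2,3,7,5,4,3,2,1,4],[3,2,4,3,7,3,4,2,3,8,7,2,0,1,2,3,4,5,7,3,2,1,4,3,8,7,3,4,5,6,0,6,5,4,3,7,8,3,4,1,2,3,7,5,4,3,2,1,8,3,2,4,3,7,3,4,2,3,7,8,1,2,3,4,5,7,3,2,1,4,3,8,7,3,4,5,6,0,6,5,4,3,7,8,3,4,1,2,3,7,5,4,3,2,1,4],[7,8]] [75,3,31671,7,5] (2 * 48) :=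
  LB.step (kp := 12) (W1 := [[2],[7],[8],[3,2,4,3,7,3,4,2,3],[0,1,2,3,4,5,7,3,2,1,4,3,8,7,3,4,5,6,0,6,5,4,3,7,8,3,4,1,2,3,7,5,4,3,2,1,8,3,2,4,3,7,3,4,2,3,7,8,1,2,3,4,5,7,3,2,1,4,3,8,7,3,4,5,6,0,6,5,4,3,7,8,3,4,1,2,3,7,5,4,3,2,1,4]]) (r := 1) ok_YD (by decide +kernel) (show LB _ _ _ 48 from lb_119_6) (by decide +kernel) (by decide +kernel) (by decide +kernel) (by decide +kernel)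

theorem lb_119_4 : LB N_YD [[0],[2],[4],[7],[8],[3,2,4,3,7,3,4,2,3],[1,2,3,4,5,7,3,2,1,4,3,8,7,3,4,5,6,0,6,5,4,3,7,8,3,4,1,2,3,7,5,4,3,2,1],[0,1,2,3,4,5,7,3,2,1,4,3,8,7,3,4,5,6,0,6,5,4,3,7,8,3,4,1,2,3,7,5,4,3,2,1,8,3,2,4,3,7,3,4,2,3,7,8,1,2,3,4,5,7,3,2,1,4,3,8,7,3,4,5,6,0,6,5,4,3,7,8,3,4,1,2,3,7,5,4,3,2,1,4],[2,0,1,2,3,4,5,7,3,2,1,4,3,8,7,3,4,5,6,0,6,5,4,3,7,8,3,4,1,2,3,7,5,4,3,2,1,8,3,2,4,3,7,3,4,2,3,7,8,1,2,3,4,5,7,3,2,1,4,3,8,7,3,4,5,6,0,6,5,4,3,7,8,3,4,1,2,3,7,5,4,3,2,1,4],[3,2,4,3,7,3,4,2,3,8,7,2,0,1,2,3,4,5,7,3,2,1,4,3,8,7,3,4,5,6,0,6,5,4,3,7,8,3,4,1,2,3,7,5,4,3,2,1,8,3,2,4,3,7,3,4,2,3,7,8,1,2,3,4,5,7,3,2,1,4,3,8,7,3,4,5,6,0,6,5,4,3,7,8,3,4,1,2,3,7,5,4,3,2,1,4],[7,8]] [71,75,3,31671,7,5] (16 * 96) :=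
  LB.step (kp := 12) (W1 := [[0],[2],[4],[7],[8],[3,2,4,3,7,3,4,2,3],[1,2,3,4,5,7,3,2,1,4,3,8,7,3,4,5,6,0,6,5,4,3,7,8,3,4,1,2,3,7,5,4,3,2,1]]) (r := 2) ok_YD (by decide +kernel) (show LB _ _ _ 96 from lb_119_5) (by decide +kernel) (by decide +kernel) (by decide +kernel) (by decide +kernel)

theorem lb_119_3 : LB N_YD [[0],[2],[3],[4],[7],[8],[1,2,3,4,5,7,3,2,1,4,3,8,7,3,4,5,6,0,6,5,4,3,7,8,3,4,1,2,3,7,5,4,3,2,1],[3,2,4,3,7,3,4,2,3],[0,1,2,3,4,5,7,3,2,1,4,3,8,7,3,4,5,6,0,6,5,4,3,7,8,3,4,1,2,3,7,5,4,3,2,1,8,3,2,4,3,7,3,4,2,3,7,8,1,2,3,4,5,7,3,2,1,4,3,8,7,3,4,5,6,0,6,5,4,3,7,8,3,4,1,2,3,7,5,4,3,2,1,4],[2,0,1,2,3,4,5,7,3,2,1,4,3,8,7,3,4,5,6,0,6,5,4,3,7,8,3,4,1,2,3,7,5,4,3,2,1,8,3,2,4,3,7,3,4,2,3,7,8,1,2,3,4,5,7,3,2,1,4,3,8,7,3,4,5,6,0,6,5,4,3,7,8,3,4,1,2,3,7,5,4,3,2,1,4],[3,2,4,3,7,3,4,2,3,8,7,2,0,1,2,3,4,5,7,3,2,1,4,3,8,7,3,4,5,6,0,6,5,4,3,7,8,3,4,1,2,3,7,5,4,3,2,1,8,3,2,4,3,7,3,4,2,3,7,8,1,2,3,4,5,7,3,2,1,4,3,8,7,3,4,5,6,0,6,5,4,3,7,8,3,4,1,2,3,7,5,4,3,2,1,4],[7,8]]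 [18086,71,75,3,31671,7,5] (30 * 1536) :=
  LB.step (kp := 12) (W1 := [[0],[2],[3],[4],[7],[8],[1,2,3,4,5,7,3,2,1,4,3,8,7,3,4,5,6,0,6,5,4,3,7,8,3,4,1,2,3,7,5,4,3,2,1]]) (r := 2) ok_YD (by decide +kernel) (show LB _ _ _ 1536 from lb_119_4) (by decide +kernel) (by decide +kernel) (by decide +kernel) (by decide +kernel)

theorem lb_119_2 : LB N_YD [[0],[2],[3],[4],[5],[7],[8],[1,2,3,4,5,7,3,2,1,4,3,8,7,3,4,5,6,0,6,5,4,3,7,8,3,4,1,2,3,7,5,4,3,2,1],[3,2,4,3,7,3,4,2,3],[0,1,2,3,4,5,7,3,2,1,4,3,8,7,3,4,5,6,0,6,5,4,3,7,8,3,4,1,2,3,7,5,4,3,2,1,8,3,2,4,3,7,3,4,2,3,7,8,1,2,3,4,5,7,3,2,1,4,3,8,7,3,4,5,6,0,6,5,4,3,7,8,3,4,1,2,3,7,5,4,3,2,1,4],[2,0,1,2,3,4,5,7,3,2,1,4,3,8,7,3,4,5,6,0,6,5,4,3,7,8,3,4,1,2,3,7,5,4,3,2,1,8,3,2,4,3,7,3,4,2,3,7,8,1,2,3,4,5,7,3,2,1,4,3,8,7,3,4,5,6,0,6,5,4,3,7,8,3,4,1,2,3,7,5,4,3,2,1,4],[3,2,4,3,7,3,4,2,3,8,7,2,0,1,2,3,4,5,7,3,2,1,4,3,8,7,3,4,5,6,0,6,5,4,3,7,8,3,4,1,2,3,7,5,4,3,2,1,8,3,2,4,3,7,3,4,2,3,7,8,1,2,3,4,5,7,3,2,1,4,3,8,7,3,4,5,6,0,6,5,4,3,7,8,3,4,1,2,3,7,5,4,3,2,1,4],[7,8]]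 [2,18086,71,75,3,31671,7,5] (567 * 46080) :=
  LB.step (kp := 12) (W1 := [[0],[2],[3],[4],[5],[7],[8],[1,2,3,4,5,7,3,2,1,4,3,8,7,3,4,5,6,0,6,5,4,3,7,8,3,4,1,2,3,7,5,4,3,2,1]]) (r := 6) ok_YD (by decide +kernel) (show LB _ _ _ 46080 from lb_119_3) (by decide +kernel) (by decide +kernel) (by decide +kernel) (by decide +kernel)

theorem lb_119_1 : LB N_YD [[0],[2],[3],[4],[5],[6],[7],[8],[1,2,3,4,5,7,3,2,1,4,3,8,7,3,4,5,6,0,6,5,4,3,7,8,3,4,1,2,3,7,5,4,3,2,1],[3,2,4,3,7,3,4,2,3],[0,1,2,3,4,5,7,3,2,1,4,3,8,7,3,4,5,6,0,6,5,4,3,7,8,3,4,1,2,3,7,5,4,3,2,1,8,3,2,4,3,7,3,4,2,3,7,8,1,2,3,4,5,7,3,2,1,4,3,8,7,3,4,5,6,0,6,5,4,3,7,8,3,4,1,2,3,7,5,4,3,2,1,4],[2,0,1,2,3,4,5,7,3,2,1,4,3,8,7,3,4,5,6,0,6,5,4,3,7,8,3,4,1,2,3,7,5,4,3,2,1,8,3,2,4,3,7,3,4,2,3,7,8,1,2,3,4,5,7,3,2,1,4,3,8,7,3,4,5,6,0,6,5,4,3,7,8,3,4,1,2,3,7,5,4,3,2,1,4],[3,2,4,3,7,3,4,2,3,8,7,2,0,1,2,3,4,5,7,3,2,1,4,3,8,7,3,4,5,6,0,6,5,4,3,7,8,3,4,1,2,3,7,5,4,3,2,1,8,3,2,4,3,7,3,4,2,3,7,8,1,2,3,4,5,7,3,2,1,4,3,8,7,3,4,5,6,0,6,5,4,3,7,8,3,4,1,2,3,7,5,4,3,2,1,4],[7,8]]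 [1,2,18086,71,75,3,31671,7,5] (2816 * 26127360) :=
  LB.step (kp := 12) (W1 := [[0],[2],[3],[4],[5],[6],[7],[8],[1,2,3,4,5,7,3,2,1,4,3,8,7,3,4,5,6,0,6,5,4,3,7,8,3,4,1,2,3,7,5,4,3,2,1]]) (r := 7) ok_YD (by decide +kernel) (show LB _ _ _ 26127360 from lb_119_2) (by decide +kernel) (by decide +kernel) (by decide +kernel) (by decide +kernel)

theorem lb_119_0 : LB N_YD [[0],[2],[3],[4],[5],[6],[7],[8],[9],[1,2,3,4,5,7,3,2,1,4,3,8,7,3,4,5,6,0,6,5,4,3,7,8,3,4,1,2,3,7,5,4,3,2,1],[3,2,4,3,7,3,4,2,3],[0,1,2,3,4,5,7,3,2,1,4,3,8,7,3,4,5,6,0,6,5,4,3,7,8,3,4,1,2,3,7,5,4,3,2,1,8,3,2,4,3,7,3,4,2,3,7,8,1,2,3,4,5,7,3,2,1,4,3,8,7,3,4,5,6,0,6,5,4,3,7,8,3,4,1,2,3,7,5,4,3,2,1,4],[2,0,1,2,3,4,5,7,3,2,1,4,3,8,7,3,4,5,6,0,6,5,4,3,7,8,3,4,1,2,3,7,5,4,3,2,1,8,3,2,4,3,7,3,4,2,3,7,8,1,2,3,4,5,7,3,2,1,4,3,8,7,3,4,5,6,0,6,5,4,3,7,8,3,4,1,2,3,7,5,4,3,2,1,4],[3,2,4,3,7,3,4,2,3,8,7,2,0,1,2,3,4,5,7,3,2,1,4,3,8,7,3,4,5,6,0,6,5,4,3,7,8,3,4,1,2,3,7,5,4,3,2,1,8,3,2,4,3,7,3,4,2,3,7,8,1,2,3,4,5,7,3,2,1,4,3,8,7,3,4,5,6,0,6,5,4,3,7,8,3,4,1,2,3,7,5,4,3,2,1,4],[7,8]]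 [0,1,2,18086,71,75,3,31671,7,5] (3510 * 73574645760) :=
  LB.step (kp := 12) (W1 := [[0],[2],[3],[4],[5],[6],[7],[8],[9],[1,2,3,4,5,7,3,2,1,4,3,8,7,3,4,5,6,0,6,5,4,3,7,8,3,4,1,2,3,7,5,4,3,2,1]]) (r := 8) ok_YD (by decide +kernel) (show LB _ _ _ 73574645760 from lb_119_1) (by decide +kernel) (by decide +kernel) (by decide +kernel) (by decide +kernel)

theorem lb_119 : LB N_YD [[0],[2],[3],[4],[5],[6],[7],[8],[9],[1,2,3,4,5,7,3,2,1,4,3,8,7,3,4,5,6,0,6,5,4,3,7,8,3,4,1,2,3,7,5,4,3,2,1]] [0,1,2,18086,71,75,3,31671,7,5] 258247006617600 :=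
  (show LB _ _ _ 258247006617600 from lb_119_0).cat (rels_YD.inv inv_YD) (by decide +kernel) (c := [[0],[2],[4],[6],[8],[10],[12],[14],[16],[18],[4,2,6,4,12,4,6,2,4],[0,18,14,4,2,6,4,12,4,6,2,4,12,14,18,6],[2,0,18,14,4,2,6,4,12,4,6,2,4,12,14,18,6],[4,2,6,4,12,4,6,2,4,14,12,2,0,18,14,4,2,6,4,12,4,6,2,4,12,14,18,6],[12,14]]) (by decide +kernel)

theorem ui_YD_120 : UI.{u} R_YD [0,1,2,3,4,5,6,7,8,9] [[0],[2],[3],[4],[5],[6],[7],[8],[9],[1,2,3,4,5,7,3,2,1,4,3,8,7,3,4,5,6,0,6,5,4,3,7,8,3,4,1,2,3,7,5,4,3,2,1]] 31671 :=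
  UI.of_UB ub_YD rels_YD lb_119 (by decide +kernel) (by decide +kernel)

theorem imp_YF_YD_121c : impCert R_YF [0,1,2,3,4,5,6,7,8,9] R_YD [(0,0),(1,0),(2,0),(3,0),(4,0),(5,0),(6,0),(7,0),(8,0),(9,0),(33,0),(34,0),(35,0),(36,0),(37,0),(38,0),(39,0),(40,0),(41,0),(42,0),(43,0),(44,0),(45,0),(46,0),(47,0),(48,0),(49,0),(50,0),(51,0),(52,0),(53,0),(54,0),(55,0),(56,0),(57,0),(58,0),(59,0),(60,0),(61,0),(62,0),(63,0),(64,0),(65,0),(66,0),(67,0),(68,0),(69,0),(70,0),(71,0),(72,0),(73,0),(74,0),(75,0),(76,0),(77,0),(80,0),(81,0)] = true := by decide +kernel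
theorem imp_YF_YD_121 : Imp.{u} R_YF [0,1,2,3,4,5,6,7,8,9] R_YD := Imp.of_cert imp_YF_YD_121c

def hs_YF : List (List ℕ × List (List ℕ) × ℕ) := [([6,5,4,3,2,1,0,7,8,11],[[6],[5],[4],[3],[2],[1],[0],[7],[8]],31671),([0,1,2,3,4,5,6,7,8,9],[[0],[2],[3],[4],[5],[6],[7],[8],[9],[1,2,3,4,5,7,3,2,1,4,3,8,7,3,4,5,6,0,6,5,4,3,7,8,3,4,1,2,3,7,5,4,3,2,1]],31671)]
theorem hh_YF : ∀ h ∈ hs_YF, UI.{u} R_YF h.1 h.2.1 h.2.2 :=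
  List.forall_mem_cons.2 ⟨ui_YD.ren imp_YF_YD_118 (by decide +kernel) (by decide +kernel),
    List.forall_mem_cons.2 ⟨ui_YD_120.ren imp_YF_YD_121 (by decide +kernel) (by decide +kernel),
    List.forall_mem_nil _⟩⟩

end H7.T
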