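import Cfsg.Agent.H7.T.F24_4
import Cfsg.Agent.H7.T.F24_5
import Cfsg.Agent.H7.T.F24_6
import Cfsg.Agent.H7.T.F24_7
set_option Elab.async false
set_option maxRecDepth 100000
set_option maxHeartbeats 0
namespace H7.T
universe u

theorem r_YF_0 : Run.{u} 306936 N_F24 R_YF 0 (bit 0) (mkK 306936 (bit 0) [0,1,2,3,4,5,6,7,8,9,10]) D_YF_0 K_YF_0 := (Run.of_cert ok_F24 (by decide +kernel) inv_YF hh_YF e_YF_0 0)

theorem r_YF_1 : Run.{u} 306936 N_F24 R_YF 0 (bit 0) (mkK 306936 (bit 0) [0,1,2,3,4,5,6,7,8,9,10]) D_YF_1 K_YF_1 := r_YF_0.trans (Run.of_cert ok_F24 (by decide +kernel) inv_YF hh_YF e_YF_1 0)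

theorem r_YF_2 : Run.{u} 306936 N_F24 R_YF 0 (bit 0) (mkK 306936 (bit 0) [0,1,2,3,4,5,6,7,8,9,10]) D_YF_2 K_YF_2 := r_YF_1.trans (Run.of_cert ok_F24 (by decide +kernel) inv_YF hh_YF e_YF_2 0)

theorem r_YF_3 : Run.{u} 306936 N_F24 R_YF 0 (bit 0) (mkK 306936 (bit 0) [0,1,2,3,4,5,6,7,8,9,10]) D_YF_3 K_YF_3 := r_YF_2.trans (Run.of_cert ok_F24 (by decide +kernel) inv_YF hh_YF e_YF_3 0)

theorem r_YF_4 : Run.{u} 306936 N_F24 R_YF 0 (bit 0) (mkK 306936 (bit 0) [0,1,2,3,4,5,6,7,8,9,10]) D_YF_4 K_YF_4 := r_YF_3.trans (Run.of_cert ok_F24 (by decide +kernel) inv_YF hh_YF e_YF_4 0)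

theorem r_YF_5 : Run.{u} 306936 N_F24 R_YF 0 (bit 0) (mkK 306936 (bit 0) [0,1,2,3,4,5,6,7,8,9,10]) D_YF_5 K_YF_5 := r_YF_4.trans (Run.of_cert ok_F24 (by decide +kernel) inv_YF hh_YF e_YF_5 0)

theorem r_YF_6 : Run.{u} 306936 N_F24 R_YF 0 (bit 0) (mkK 306936 (bit 0) [0,1,2,3,4,5,6,7,8,9,10]) D_YF_6 K_YF_6 := r_YF_5.trans (Run.of_cert ok_F24 (by decide +kernel) inv_YF hh_YF e_YF_6 0)

theorem r_YF_7 : Run.{u} 306936 N_F24 R_YF 0 (bit 0) (mkK 306936 (bit 0) [0,1,2,3,4,5,6,7,8,9,10]) D_YF_7 K_YF_7 := r_YF_6.trans (Run.of_cert ok_F24 (by decide +kernel) inv_YF hh_YF e_YF_7 0)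

theorem r_YF_8 : Run.{u} 306936 N_F24 R_YF 0 (bit 0) (mkK 306936 (bit 0) [0,1,2,3,4,5,6,7,8,9,10]) D_YF_8 K_YF_8 := r_YF_7.trans (Run.of_cert ok_F24 (by decide +kernel) inv_YF hh_YF e_YF_8 0)

theorem r_YF_9 : Run.{u} 306936 N_F24 R_YF 0 (bit 0) (mkK 306936 (bit 0) [0,1,2,3,4,5,6,7,8,9,10]) D_YF_9 K_YF_9 := r_YF_8.trans (Run.of_cert ok_F24 (by decide +kernel) inv_YF hh_YF e_YF_9 0)

theorem r_YF_10 : Run.{u} 306936 N_F24 R_YF 0 (bit 0) (mkK 306936 (bit 0) [0,1,2,3,4,5,6,7,8,9,10]) (ones 306936) (mkK 306936 (ones 306936) [0,1,2,3,4,5,6,7,8,9,10,11]) := r_YF_9.trans (Run.of_cert ok_F24 (by decide +kernel) inv_YF hh_YF e_YF_10 0)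

theorem ui_YF : UI.{u} R_YF [0,1,2,3,4,5,6,7,8,9,10,11] (sing [0,1,2,3,4,5,6,7,8,9,10]) 306936 :=
  UI.of_run (kp := 16) (O := (ones 306936)) ok_F24 (by decide +kernel) rels_YF r_YF_10 (by decide +kernel)

theorem ub_YF0 : UB.{u} R_YF [0,1,2,3,4,5,6,7,8,9,10] 8178940946586009600 :=
  UI.redundant (UI.ren (S := [0,1,2,3,4,5,6,7,8,9]) (W := []) ub_YD imp_YF_YD_121 (by decide +kernel) rfl) (by decide +kernel) [(0,78,0)] (by decide +kernel)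
theorem ub_YF : UB.{u} R_YF [0,1,2,3,4,5,6,7,8,9,10,11] 2510411418381323442585600 := (ui_YF.mul ub_YF0 (by decide +kernel) (by decide +kernel)).le (by decide +kernel)
theorem ub_F24 : UB.{u} R_F24 [0,1,2,3,4,5,6,7,8,9,10,11] 2510411418381323442585600 := ub_YF.der der_F24_F

end H7.T
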