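import Cfsg.Agent.H7.T.F24_8
set_option Elab.async false
set_option maxRecDepth 100000
set_option maxHeartbeats 0
namespace H7.T
universe u

def idx_Fi24 : Cfsg.Spor.Fi24.Gen → ℕ
  | .a => 0
  | .b => 1
  | .c => 2
  | .d => 3
  | .e => 4
  | .f => 5
  | .g => 6
  | .h => 7
  | .i => 8
  | .j => 9
  | .l => 10
  | .k => 11
def all_Fi24 : List Cfsg.Spor.Fi24.Gen := [.a, .b, .c, .d, .e, .f, .g, .h, .i, .j, .l, .k]
theorem hall_Fi24 : ∀ x, x ∈ all_Fi24 := by intro x; cases x <;> decide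
def L_Fi24 : List (FreeGroup Cfsg.Spor.Fi24.Gen) := [Cfsg.Spor.Fi24.a, Cfsg.Spor.Fi24.b, Cfsg.Spor.Fi24.c, Cfsg.Spor.Fi24.d, Cfsg.Spor.Fi24.e, Cfsg.Spor.Fi24.f, Cfsg.Spor.Fi24.g, Cfsg.Spor.Fi24.h, Cfsg.Spor.Fi24.i, Cfsg.Spor.Fi24.j, Cfsg.Spor.Fi24.l, Cfsg.Spor.Fi24.k]
theorem let_Fi24 : letOK Cfsg.Spor.Fi24.edges all_Fi24 L_Fi24 idx_Fi24 iv_F24 = true := by decide +kernel
def R0_Fi24 : List (List ℕ) := [[10,10],[10,11,10,11,10,11],[10,0,10,0],[10,1,10,1],[10,2,10,2],[10,3,10,3],[10,4,10,4],[10,7,10,7],[10,5,10,5],[10,6,10,6],[10,9,10,9],[10,8,10,8],[11,10,11,10,11,10],[11,11],[11,0,11,0,11,0],[11,1,11,1],[11,2,11,2],[11,3,11,3],[11,4,11,4],[11,7,11,7],[11,5,11,5],[11,6,11,6],[11,9,11,9],[11,8,11,8],[0,10,0,10],[0,11,0,11,0,11],[0,0],[0,1,0,1,0,1],[0,2,0,2],[0,3,0,3],[0,4,0,4],[0,7,0,7],[0,5,0,5],[0,6,0,6],[0,9,0,9],[0,8,0,8],[1,10,1,10],[1,11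,1,11],[1,0,1,0,1,0],[1,1],[1,2,1,2,1,2],[1,3,1,3],[1,4,1,4],[1,7,1,7],[1,5,1,5],[1,6,1,6],[1,9,1,9],[1,8,1,8],[2,10,2,10],[2,11,2,11],[2,0,2,0],[2,1,2,1,2,1],[2,2],[2,3,2,3,2,3],[2,4,2,4],[2,7,2,7],[2,5,2,5],[2,6,2,6],[2,9,2,9],[2,8,2,8],[3,10,3,10],[3,11,3,11],[3,0,3,0],[3,1,3,1],[3,2,3,2,3,2],[3,3],[3,4,3,4,3,4],[3,7,3,7,3,7],[3,5,3,5],[3,6,3,6],[3,9,3,9],[3,8,3,8],[4,10,4,10],[4,11,4,11],[4,0,4,0],[4,1,4,1],[4,2,4,2],[4,3,4,3,4,3],[4,4],[4,7,4,7],[4,5,4,5,4,5],[4,6,4,6],[4,9,4,9],[4,8,4,8],[7,10,7,10],[7,11,7,11],[7,0,7,0],[7,1,7,1],[7,2,7,2],[7,3,7,3,7,3],[7,4,7,4],[7,7],[7,5,7,5],[7,6,7,6],[7,9,7,9],[7,8,7,8,7,8],[5,10,5,10],[5,11,5,11],[5,0,5,0],[5,1,5,1],[5,2,5,2],[5,3,5,3],[5,4,5,4,5,4],[5,7,5,7],[5,5],[5,6,5,6,5,6],[5,9,5,9],[5,8,5,8],[6,10,6,10],[6,11,6,11],[6,0,6,0],[6,1,6,1],[6,2,6,2],[6,3,6,3],[6,4,6,4],[6,7,6,7],[6,5,6,5,6,5],[6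,6],[6,9,6,9,6,9],[6,8,6,8],[9,10,9,10],[9,11,9,11],[9,0,9,0],[9,1,9,1],[9,2,9,2],[9,3,9,3],[9,4,9,4],[9,7,9,7],[9,5,9,5],[9,6,9,6,9,6],[9,9],[9,8,9,8],[8,10,8,10],[8,11,8,11],[8,0,8,0],[8,1,8,1],[8,2,8,2],[8,3,8,3],[8,4,8,4],[8,7,8,7,8,7],[8,5,8,5],[8,6,8,6],[8,9,8,9],[8,8],[10,7,5,4,3,2,1,0,7,5,4,3,2,1,0,7,5,4,3,2,1,0,7,5,4,3,2,1,0,7,5,4,3,2,1,0,7,5,4,3,2,1,0,7,5,4,3,2,1,0,7,5,4,3,2,1,0,7,5,4,3,2,1,0],[3,2,1,0,11,10,3,4,5,6,9,3,7,8,3,2,1,0,11,10,3,4,5,6,9,3,7,8,3,2,1,0,11,10,3,4,5,6,9,3,7,8,3,2,1,0,11,10,3,4,5,6,9,3,7,8,3,2,1,0,11,10,3,4,5,6,9,3,7,8,3,2,1,0,11,10,3,4,5,6,9,3,7,8,3,2,1,0,11,10,3,4,5,6,9,3,7,8,3,2,1,0,11,10,3,4,5,6,9,3,7,8,3,2,1,0,11,10,3,4,5,6,9,3,7,8,3,2,1,0,11,10,3,4,5,6,9,3,7,8,3,2,1,0,11,10,3,4,5,6,9,3,7,8,3,2,1,0,11,10,3,4,5,6,9,3,7,8,3,2,1,0,11,10,3,4,5,6,9,3,7,8,3,2,1,0,11,10,3,4,5,6,9,3,7,8,3,2,1,0,11,10,3,4,5,6,9,3,7,8,3,2,1,0,11,10,3,4,5,6,9,3,7,8,3,2,1,0,11,10,3,4,5,6,9,3,7,8]]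
theorem R0_Fi24_eq : (relL Cfsg.Spor.Fi24.edges Cfsg.Spor.Fi24.extra).map (trW idx_Fi24 iv_F24) = R0_Fi24 := by decide +kernel

theorem der0_Fi24 : Der.{u} R_F24 R0_Fi24 := Der.of_cert (c := [(10,0),(12,0),(13,0),(14,0),(15,0),(16,0),(17,0),(21,0),(18,0),(19,0),(20,0),(22,0),(12,1),(11,0),(23,0),(24,0),(25,0),(26,0),(27,0),(31,0),(28,0),(29,0),(30,0),(32,0),(13,1),(23,1),(0,0),(33,0),(34,0),(35,0),(36,0),(40,0),(37,0),(38,0),(39,0),(41,0),(14,1),(24,1),(33,1),(1,0),(42,0),(43,0),(44,0),(48,0),(45,0),(46,0),(47,0),(49,0),(15,1),(25,1),(34,1),(42,1),(2,0),(50,0),(51,0),(55,0),(52,0),(53,0),(54,0),(56,0),(16,1),(26,1),(35,1),(43,1),(50,1),(3,0),(57,0),(61,0),(58,0),(59,0),(60,0),(62,0),(17,1),(27,1),(36,1),(44,1),(51,1),(57,1),(4,0),(66,0),(63,0),(64,0),(65,0),(67,0),(21,1),(31,1),(40,1),(48,1),(55,1),(61,1),(66,1),(7,0),(70,1),(73,1),(75,1),(77,0),(18,1),(28,1),(37,1),(45,1),(52,1),(58,1),(63,1),(70,0),(5,0),(68,0),(69,0),(71,0),(19,1),(29,1),(38,1),(46,1),(53,1),(59,1),(64,1),(73,0),(68,1),(6,0),(72,0),(74,0),(20,1),(30,1),(39,1),(47,1),(54,1),(60,1),(65,1),(75,0),(69,1),(72,1),(9,0),(76,0),(22,1),(32,1),(41,1),(49,1),(56,1),(62,1),(67,1),(77,1),(71,1),(74,1),(76,1),(8,0),(78,0),(79,0)])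 (by decide +kernel)

noncomputable def M_Fi24 : Mdl Cfsg.Spor.Fi24 := Mdl.ofPres Cfsg.Spor.Fi24.edges Cfsg.Spor.Fi24.extra L_Fi24 idx_Fi24 iv_F24 306936 NL_F24 okL_F24
  rels_F24 inv_F24 (by intro x; cases x <;> decide) (R0_Fi24_eq ▸ der0_Fi24) (by decide +kernel) rfl

theorem rels_Fi24 : Rels M_Fi24.gs R_F24 :=
  Der.of_cert (c := [(26,0),(39,0),(52,0),(65,0),(78,0),(104,0),(117,0),(91,0),(143,0),(130,0),(0,0),(13,0),(1,0),(2,0),(3,0),(4,0),(5,0),(6,0),(8,0),(9,0),(10,0),(7,0),(11,0),(14,0),(15,0),(16,0),(17,0),(18,0),(20,0),(21,0),(22,0),(19,0),(23,0),(27,0),(28,0),(29,0),(30,0),(32,0),(33,0),(34,0),(31,0),(35,0),(40,0),(41,0),(42,0),(44,0),(45,0),(46,0),(43,0),(47,0),(53,0),(54,0),(56,0),(57,0),(58,0),(55,0),(59,0),(66,0),(68,0),(69,0),(70,0),(67,0),(71,0),(80,0),(81,0),(82,0),(79,0),(83,0),(105,0),(106,0),(92,1),(107,0),(118,0),(93,1),(119,0),(94,1),(131,0),(95,0),(144,0),(145,0)])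 (by decide +kernel) _ _ (R0_Fi24_eq ▸ rels_gsP hall_Fi24 let_Fi24 : Rels M_Fi24.gs R0_Fi24)

theorem gen_Fi24 : genW M_Fi24.gs (sing [0,1,2,3,4,5,6,7,8,9,10,11]) = ⊤ :=
  gen_gsP hall_Fi24 let_Fi24 _ fun x _ => gs_mem_sing (by cases x <;> decide)

theorem lb_122_10 : LB N_F24 [[4]] [9] (2 * 1) :=
  LB.step (kp := 16) (W1 := [[4]]) (r := 1) ok_F24 (by decide +kernel) (LB.nil _) (by decide +kernel) (by decide +kernel) (by decide +kernel) (by decide +kernel)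

theorem lb_122_9 : LB N_F24 [[3],[4]] [6,9] (3 * 2) :=
  LB.step (kp := 16) (W1 := [[3],[4]]) (r := 1) ok_F24 (by decide +kernel) (show LB _ _ _ 2 from lb_122_10) (by decide +kernel) (by decide +kernel) (by decide +kernel) (by decide +kernel)

theorem lb_122_8 : LB N_F24 [[3],[4],[7]] [17,6,9] (4 * 6) :=
  LB.step (kp := 16) (W1 := [[3],[4],[7]]) (r := 2) ok_F24 (by decide +kernel) (show LB _ _ _ 6 from lb_122_9) (by decide +kernel) (by decide +kernel) (by decide +kernel) (by decide +kernel)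

theorem lb_122_7 : LB N_F24 [[2],[3],[4],[7]] [4,17,6,9] (8 * 24) :=
  LB.step (kp := 16) (W1 := [[2],[3],[4],[7]]) (r := 3) ok_F24 (by decide +kernel) (show LB _ _ _ 24 from lb_122_8) (by decide +kernel) (by decide +kernel) (by decide +kernel) (by decide +kernel)

theorem lb_122_6 : LB N_F24 [[2],[3],[4],[7],[8]] [64,4,17,6,9] (10 * 192) :=
  LB.step (kp := 16) (W1 := [[2],[3],[4],[7],[8]]) (r := 4) ok_F24 (by decide +kernel) (show LB _ _ _ 192 from lb_122_7) (by decide +kernel) (by decide +kernel) (by decide +kernel) (by decide +kernel)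

theorem lb_122_5 : LB N_F24 [[2],[3],[4],[5],[7],[8]] [646,64,4,17,6,9] (27 * 1920) :=
  LB.step (kp := 16) (W1 := [[2],[3],[4],[5],[7],[8]]) (r := 6) ok_F24 (by decide +kernel) (show LB _ _ _ 1920 from lb_122_6) (by decide +kernel) (by decide +kernel) (by decide +kernel) (by decide +kernel)

theorem lb_122_4 : LB N_F24 [[1],[2],[3],[4],[5],[7],[8]] [2,646,64,4,17,6,9] (243 * 51840) :=
  LB.step (kp := 16) (W1 := [[1],[2],[3],[4],[5],[7],[8]]) (r := 6) ok_F24 (by decide +kernel) (show LB _ _ _ 51840 from lb_122_5) (by decide +kernel) (by decide +kernel) (by decide +kernel) (by decide +kernel)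

theorem lb_122_3 : LB N_F24 [[1],[2],[3],[4],[5],[6],[7],[8]] [1226,2,646,64,4,17,6,9] (728 * 12597120) :=
  LB.step (kp := 16) (W1 := [[1],[2],[3],[4],[5],[6],[7],[8]]) (r := 9) ok_F24 (by decide +kernel) (show LB _ _ _ 12597120 from lb_122_4) (by decide +kernel) (by decide +kernel) (by decide +kernel) (by decide +kernel)

theorem lb_122_2 : LB N_F24 [[0],[1],[2],[3],[4],[5],[6],[7],[8]] [1,1226,2,646,64,4,17,6,9] (28160 * 9170703360) :=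
  LB.step (kp := 16) (W1 := [[0],[1],[2],[3],[4],[5],[6],[7],[8]]) (r := 9) ok_F24 (by decide +kernel) (show LB _ _ _ 9170703360 from lb_122_3) (by decide +kernel) (by decide +kernel) (by decide +kernel) (by decide +kernel)

theorem lb_122_1 : LB N_F24 [[0],[1],[2],[3],[4],[5],[6],[7],[8],[9]] [87475,1,1226,2,646,64,4,17,6,9] (31671 * 258247006617600) :=
  LB.step (kp := 16) (W1 := [[0],[1],[2],[3],[4],[5],[6],[7],[8],[9]]) (r := 13) ok_F24 (by decide +kernel) (show LB _ _ _ 258247006617600 from lb_122_2) (by decide +kernel) (by decide +kernel) (by decide +kernel) (by decide +kernel)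

theorem lb_122_0 : LB N_F24 [[0],[1],[2],[3],[4],[5],[6],[7],[8],[9],[10],[11]] [0,87475,1,1226,2,646,64,4,17,6,9] (306936 * 8178940946586009600) :=
  LB.step (kp := 16) (W1 := [[0],[1],[2],[3],[4],[5],[6],[7],[8],[9],[10],[11]]) (r := 10) ok_F24 (by decide +kernel) (show LB _ _ _ 8178940946586009600 from lb_122_1) (by decide +kernel) (by decide +kernel) (by decide +kernel) (by decide +kernel)

theorem lb_122 : LB N_F24 [[0],[1],[2],[3],[4],[5],[6],[7],[8],[9],[10],[11]] [0,87475,1,1226,2,646,64,4,17,6,9] 2510411418381323442585600 :=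
  (show LB _ _ _ 2510411418381323442585600 from lb_122_0).cat (rels_F24.inv inv_F24) (by decide +kernel) (c := [[0],[2],[4],[6],[8],[10],[12],[14],[16],[18],[20],[22]]) (by decide +kernel)

theorem top_Fi24 : Finite Cfsg.Spor.Fi24 ∧ Nat.card Cfsg.Spor.Fi24 = 2510411418381323442585600 ∧ IsBase (⊤ : Subgroup Cfsg.Spor.Fi24) M_Fi24.sys.dec [0,87475,1,1226,2,646,64,4,17,6,9] :=
  Mdl.top_pack ub_F24 rels_Fi24 lb_122 gen_Fi24

theorem stab_Fi24_o : orbGe 306936 16 N_F24 (sing [0,1,2,3,4,5,6,7,8,9,10,11]) 10 0 306936 = true := by decide +kernel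
theorem stab_Fi24 : genW M_Fi24.gs (sing [0,1,2,3,4,5,6,7,8,9,10]) = MulAction.stabilizer _ (M_Fi24.sys.dec 0) ∧ (genW M_Fi24.gs (sing [0,1,2,3,4,5,6,7,8,9,10])).index = 306936 :=
  Mdl.stab_eq (ui_YF.top (der_F24_F _ _ rels_Fi24) gen_Fi24) (by decide +kernel) (Mdl.genW_le_stab (by decide +kernel)) stab_Fi24_o

theorem mc_Fi24_0 : band (Nat.blt 1 306936) (band (tb (wapp N_F24 [11] (bit 0)) 1) (sub (ones 306936) (growN N_F24 ([11] :: [[0],[1],[2],[3],[4],[5],[6],[7],[8],[9]]) 9 (bit 0)))) = true := by decide +kernel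

theorem mc_Fi24_1 : band (Nat.blt 8 306936) (band (tb (wapp N_F24 [11,0,10,11] (bit 0)) 8) (sub (ones 306936) (growN N_F24 ([11,0,10,11] :: [[0],[1],[2],[3],[4],[5],[6],[7],[8],[9]]) 9 (bit 0)))) = true := by decide +kernel

theorem mc_Fi24 : maxCertD 306936 N_F24 (ones 306936) 0 [[0],[1],[2],[3],[4],[5],[6],[7],[8],[9]] [(1,9,[11]),(8,9,[11,0,10,11])] = true :=
  maxCertD_intro (by decide +kernel) (List.forall_mem_cons.2 ⟨mc_Fi24_0, List.forall_mem_cons.2 ⟨mc_Fi24_1, List.forall_mem_nil _⟩⟩) (by decide +kernel)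

theorem core_Fi24 : ∀ N : Subgroup Cfsg.Spor.Fi24, N.Normal → N ≤ MulAction.stabilizer _ (M_Fi24.sys.dec 0) → N = ⊥ :=
  Mdl.core_bot top_Fi24.2.2 (W := sing [0,1,2,3,4,5,6,7,8,9,10,11]) (r := 10) (by decide +kernel)

theorem coatom_Fi24 : IsCoatom (MulAction.stabilizer Cfsg.Spor.Fi24 (M_Fi24.sys.dec 0)) :=
  Mdl.isCoatom gen_Fi24 mc_Fi24 (by decide +kernel) (w := [11]) (by decide +kernel)
theorem cent_Fi24 : ∀ x ∈ MulAction.stabilizer Cfsg.Spor.Fi24 (M_Fi24.sys.dec 0), x * M_Fi24.gs 10 = M_Fi24.gs 10 * x :=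
  stab_Fi24.1 ▸ comm_of_rels rels_Fi24 (by decide +kernel)
theorem conj_Fi24 : ∀ a ∈ [0,1,2,3,4,5,6,7,8,9,10,11], IsConj (M_Fi24.gs 10) (M_Fi24.gs a) := fun a ha =>
  braidCert_spec rels_Fi24 [(10,11),(11,0),(0,1),(1,2),(2,3),(3,4),(3,7),(4,5),(7,8),(5,6),(6,9)] [10] (by simpa using IsConj.refl (M_Fi24.gs 10)) a
    (memN_spec (allL_iff.1 (show allL (fun a => memN a _) _ = true by decide +kernel) a ha))
theorem sq_Fi24 : M_Fi24.gs 10 * M_Fi24.gs 10 = 1 := rels_Fi24.inv inv_F24 10 (by decide)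
noncomputable def sgn_Fi24 : Cfsg.Spor.Fi24 →* ℤˣ :=
  homP (gs := fun _ => -1) (idx := idx_Fi24) (iv := iv_F24) (by simp) (R0_Fi24_eq ▸ rels_sign (by decide +kernel))
theorem sgn_Fi24_gs (a : ℕ) (ha : a < 12) : sgn_Fi24 (M_Fi24.gs a) = -1 := homP_gsP (L := L_Fi24) _ _ (by decide +kernel) ha
theorem index_Fi24' : (commutator Cfsg.Spor.Fi24).index = 2 :=
  index_commutator_two gen_Fi24 conj_Fi24 sq_Fi24 sgn_Fi24 (sgn_Fi24_gs 10 (by decide))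
theorem card_Fi24' : Nat.card Cfsg.Spor.Fi24' = 1255205709190661721292800 := by
  have := (commutator Cfsg.Spor.Fi24).index_mul_card
  rw [index_Fi24', top_Fi24.2.1] at this
  exact Nat.eq_of_mul_eq_mul_left two_pos (this.trans (by norm_num))
theorem min_Fi24 (N : Subgroup Cfsg.Spor.Fi24) (hN : N.Normal) (h : N ≠ ⊥) : commutator Cfsg.Spor.Fi24 ≤ N :=
  (commutator_le_of_t coatom_Fi24 core_Fi24 cent_Fi24 gen_Fi24 conj_Fi24 N h).2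
theorem simple_Fi24' : IsSimpleGroup Cfsg.Spor.Fi24' :=
  have := top_Fi24.1
  simple_index_two index_Fi24' min_Fi24 (by rw [card_Fi24']; norm_num)

end H7.T
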