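import Cfsg.Agent.H7.T.Y24_0
import Cfsg.Agent.H7.LB
import Cfsg.Agent.H7.T.XU43X
import Cfsg.Agent.H7.Fac
set_option Elab.async false
set_option maxRecDepth 100000
set_option maxHeartbeats 0
namespace H7.T
universe u v

def GW_k : List (List ℕ) := [[0,5,4,11,12,4,11,5,6,8,9,12,11,7,12,6,12,7,11,12],[8,7],[3,4,2,3]]
def r_k : List ℕ := [1,11,12,4,8,12,11,0,2,11,12,8,4,12,11,2,0,1]

def W_k : List (List ℕ) := [[0,4],[4,10],[7,12,11,7,12,3,12,7,11,12],[3,7,4,3,2,3,4,7,3,7],[6,13,5,2,13,11,10,11,13,2,5,13],[8,3,7,4,3,2,3,4,7,3,7,8],[3,12,4,1,12,0,12,1,4,12,3,8],[13,10,9,13,1,0,1,13,9,10,13,9],[11,5,12,4,12,5,2,12,5,4,5,12,2,11],[1,13,10,4,13,1,0,1,13,4,10,13,1,9],[3,12,10,6,12,7,3,7,0,12,6,10,12,3],[11,12,4,5,4,12,11,10,2,11,12,4,5,4,12,11],[10,0,2,4]]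
def T_k : List (List (List ℕ)) := [[[]],[[],[]],[[],[],[]],[[],[],[],[]],[[],[],[],[],[]],[[],[],[12],[],[],[]],[[],[],[],[12],[],[12],[]],[[],[],[],[],[],[],[],[]],[[12],[12],[12],[],[],[12],[12],[],[]],[[],[],[],[],[12],[],[],[],[],[]],[[],[],[],[],[],[12],[12],[12],[12],[],[]],[[],[12],[],[12],[],[12],[12],[],[],[],[],[]],[[],[],[],[],[],[],[],[],[],[],[],[],[]]]
theorem pc_k : pcOK (eqW eq_24 W_k) 0 13 2 T_k = true := by decide +kernel

noncomputable def o_k_0 : ℕ := bits [1,2,3,5,50,64,72,74,75,99,100,101,109,110,111,112,152,153,155,156,165,166,168,235,236,239,247,349,503,505,700,701,1652,2253,2255,2256,3088,3089,3090,3091,4252,4253,4255,5841,14624,18906,18972,18981,18983,19141,23061,24445,24453,24556,24565,24567,24575,24577,24767,24776,24781,24782,29573,29574,31480,31488,31496,31655,31657,31665,31667,31677,31905,31910,31911,31916,31921,31922,31927,31928,37698,37699,37700,40265,40273,40496,40498,40509,40776,40788,40793,40794,40799,40800,40805,40806,40811,40812,40819,47676,47677,51023,51304,51627,51628,51629,51644,51645,51650,51651,51658,51663,51664,51671,56833,59724,64200,64651,64652,64653,64668,64669,64676,64693,64874,79463,79954,79964]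

theorem mvw_k_0 : P24.mvOK [] (10,[11]) (mapL (sbW W_k) [[0],[1],[2],[3],[4],[5],[6],[7],[8],[9],[10],[11],[12]]) 1 o_k_0 = true := by decide +kernel
theorem szw_k_0 : P24.szOK (10,[11]) o_k_0 128 = true := by decide +kernel

noncomputable def o_k_1 : ℕ := (nat_lit 0x101)

theorem mvw_k_1 : P24.mvOK [(10,[11])] (10,[]) (mapL (sbW W_k) [[1,2,3,4,5,8,12]]) 1 o_k_1 = true := by decide +kernel
theorem szw_k_1 : P24.szOK (10,[]) o_k_1 2 = true := by decide +kernel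

noncomputable def o_k_2 : ℕ := (nat_lit 0x400000000a00000c0008000050)

theorem mvw_k_2 : P24.mvOK [(10,[]),(10,[11])] (0,[1,11,10]) (mapL (sbW W_k) [[5,7],[3,5],[0,1,12]]) 1 o_k_2 = true := by decide +kernel
theorem szw_k_2 : P24.szOK (0,[1,11,10]) o_k_2 8 = true := by decide +kernel

noncomputable def o_k_3 : ℕ := bits [17,24,36,7032]

theorem mvw_k_3 : P24.mvOK [(0,[1,11,10]),(10,[]),(10,[11])] (1,[12,8,11,12]) (mapL (sbW W_k) [[7],[4]]) 1 o_k_3 = true := by decide +kernel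
theorem szw_k_3 : P24.szOK (1,[12,8,11,12]) o_k_3 4 = true := by decide +kernel

theorem pcs_k {G : Type u} [Group G] (F : FM P24 G) : PCs (F.zW W_k) 0 13 2 :=
  ⟨pc0_of (FM.heW (he_24 F)) (by decide) pc_k, F.fin, (by have h := (((Nat.mul_le_mul_left 128 (((Nat.mul_le_mul_left 2 (((Nat.mul_le_mul_left 8 (((Nat.mul_le_mul_left 4 ((have := F.fin; Nat.card_pos) : 1 ≤ _)).trans (FM.pst_ge mvw_k_3 (FM.inWL (by decide +kernel)) szw_k_3)) : 4 ≤ _)).trans (FM.pst_ge mvw_k_2 (FM.inWL (by decide +kernel)) szw_k_2)) : 32 ≤ _)).trans (FM.pst_ge mvw_k_1 (FM.inWL (by decide +kernel)) szw_k_1)) : 64 ≤ _)).trans (FM.pst_ge mvw_k_0 (FM.inWL (by decide +kernel)) szw_k_0)) : 8192 ≤ Nat.card (F.PS (NN (F.zW W_k) 13 0) [])); rw [FM.PS_nil] at h; exact h), by decide⟩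

theorem cm_k {G : Type u} [Group G] (F : FM P24 G) : ∀ x ∈ (NN (F.zW W_k) 13 0), ∀ y ∈ (NN (F.zW W_k) 13 0), x * y * x⁻¹ * y⁻¹ ∈ (NN (F.zW W_k) 13 12) :=
  pc_comm (FM.heW (he_24 F)) pc_k (by decide) (by decide +kernel)

end H7.T
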