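import Cfsg.Agent.H7.T.K4_0
set_option Elab.async false
set_option maxRecDepth 100000
set_option maxHeartbeats 0
namespace H7.T
universe u v

theorem nr_k_1 {G : Type u} [Group G] (F : FM P24 G) : F.ev [0,5,4,11,12,4,11,5,6,8,9,12,11,7,12,6,12,7,11,12] ∈ Subgroup.normalizer ((NN (F.zW W_k) 13 0) : Set G) :=
  FM.nrmW_spec (he_24 F) (U := [[11,12],[8,11,12],[0,1,2,6,8],[1,5,8,11,12],[7],[0,3,5,7,8,11],[0,2,9],[1,4,5,11],[3,5,6,12],[3,6,8,10,11],[0,2,5,6,8,9,11,12],[3,5,12],[12]]) (by decide +kernel)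

theorem nr_k_2 {G : Type u} [Group G] (F : FM P24 G) : F.ev [8,7] ∈ Subgroup.normalizer ((NN (F.zW W_k) 13 0) : Set G) :=
  FM.nrmW_spec (he_24 F) (U := [[0],[1],[2,6],[5],[4],[3,5],[2],[7],[3,6,8,12],[9],[3,5,6,10,12],[2,3,5,6,11],[12]]) (by decide +kernel)

theorem nr_k_3 {G : Type u} [Group G] (F : FM P24 G) : F.ev [3,4,2,3] ∈ Subgroup.normalizer ((NN (F.zW W_k) 13 0) : Set G) :=
  FM.nrmW_spec (he_24 F) (U := [[1,12],[0,12],[2,3],[3],[4],[5],[3,5,6,12],[7],[0,1,3,8,12],[7,9,12],[3,4,10,12],[1,2,3,8,11],[12]]) (by decide +kernel)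

theorem nr_k_4 {G : Type u} [Group G] (F : FM P24 G) : F.ev [1,11,12,4,8,12,11,0,2,11,12,8,4,12,11,2,0,1] ∈ Subgroup.normalizer ((NN (F.zW W_k) 13 0) : Set G) :=
  FM.nrmW_spec (he_24 F) (U := [[1],[0,1,12],[2,3],[2,12],[0,1,2,3,10],[2,6,12],[3,5,6,12],[9],[11],[7,9,12],[1,2,4,10,12],[8,11,12],[12]]) (by decide +kernel)

theorem gq_k {G : Type u} [Group G] (F : FM P24 G) : ∀ w ∈ GW_k ++ [r_k], F.ev w ∈ Subgroup.normalizer ((NN (F.zW W_k) 13 0) : Set G) :=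
  (List.forall_mem_cons.2 ⟨(nr_k_1 F), (List.forall_mem_cons.2 ⟨(nr_k_2 F), (List.forall_mem_cons.2 ⟨(nr_k_3 F), (List.forall_mem_cons.2 ⟨(nr_k_4 F), (List.forall_mem_nil _)⟩)⟩)⟩)⟩)

theorem kn_k {G : Type u} [Group G] (F : FM P24 G) : ∀ w ∈ GW_k, F.ev w * F.ev r_k * (F.ev w)⁻¹ ∈ (NN (F.zW W_k) 13 0) ⊔ Subgroup.zpowers (F.ev r_k) :=
  (List.forall_mem_cons.2 ⟨(FM.kn_of (s := true) (by decide +kernel) (FM.inNW_spec (he_24 F) (v := [0,5,4,11,12,4,11,5,6,8,9,12,11,7,12,6,12,7,11,12,1,11,12,4,8,12,11,0,2,11,12,8,4,12,11,2,0,1,12,11,7,12,6,12,7,11,12,9,8,6,5,11,4,12,11,4,5,0,1,0,2,11,12,4,8,12,11,2,0,11,12,8,4,12,11,1]) (u := [0,3,4,6,9,10]) (by decide +kernel))), (List.forall_mem_cons.2 ⟨(FM.kn_of (s := true) (by decide +kernel) (FM.inNW_spec (he_24 F) (v := [8,7,1,11,12,4,8,12,11,0,2,11,12,8,4,12,11,2,0,1,7,8,1,0,2,11,12,4,8,12,11,2,0,11,12,8,4,12,11,1])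 (u := [5]) (by decide +kernel))), (List.forall_mem_cons.2 ⟨(FM.kn_of (s := false) (by decide +kernel) (FM.inNW_spec (he_24 F) (v := [3,4,2,3,1,11,12,4,8,12,11,0,2,11,12,8,4,12,11,2,0,1,3,2,4,3,1,11,12,4,8,12,11,0,2,11,12,8,4,12,11,2,0,1]) (u := [1,3,6,11,12]) (by decide +kernel))), (List.forall_mem_nil _)⟩)⟩)⟩)

theorem or_k {G : Type u} [Group G] (F : FM P24 G) : orderOf (F.ev r_k ^ 1) = 3 :=
  haveI : Fact (Nat.Prime 3) := ⟨by norm_num⟩; orderOf_eq_prime (by rw [← pow_mul]; exact (FM.ev_rp _ _).symm.trans (he_24 F _ [] (by decide +kernel))) (FM.ev_rp (F := F) 1 r_k ▸ F.ne1 (w := rp 1 r_k) (m := bit 0) (by decide +kernel))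

theorem cz_k {G : Type u} [Group G] (F : FM P24 G) : ∀ w ∈ W_k ++ (GW_k ++ [r_k]), F.ev w ∈ Subgroup.centralizer {F.ev [10, 0, 2, 4]} :=
  FM.cwE (he_24 F) (by decide +kernel)

end H7.T
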