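import Cfsg.Agent.H7.T.Y0
import Cfsg.Agent.H7.T.D2
set_option Elab.async false
set_option maxRecDepth 100000
set_option maxHeartbeats 0
namespace H7.T
universe u v

def R_YM0 : List (List ℕ) := [[0,0],[1,1],[2,2],[3,3],[4,4],[5,5],[6,6],[0,1,0,1,0,1],[0,2,0,2],[0,3,0,3],[0,4,0,4],[0,5,0,5],[0,6,0,6],[1,2,1,2,1,2],[1,3,1,3],[1,4,1,4],[1,5,1,5],[1,6,1,6],[2,3,2,3,2,3],[2,4,2,4],[2,5,2,5,2,5],[2,6,2,6],[3,4,3,4,3,4],[3,5,3,5],[3,6,3,6],[4,5,4,5],[4,6,4,6],[5,6,5,6,5,6],[5,6,2,5,3,2,1,2,3,5,2,6,5,0,1,4,2,3,5,6,2,5,3,2,1,2,3,5,2,6,5,0,1,4,2,3,5,6,2,5,3,2,1,2,3,5,2,6,5,0,1,4,2,3,5,6,2,5,3,2,1,2,3,5,2,6,5,0,1,4,2,3]]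
def iv_YM0 : List ℕ := [0,1,2,3,4,5,6]
theorem inv_YM0 : invOK R_YM0 iv_YM0 7 = true := by decide +kernel

noncomputable def n_YM0_0 : Net := (Net.cons (nat_lit 1) (nat_lit 0x1445401000155500544055014051005010004100001400400000000150000)
  (Net.cons (nat_lit 2) (nat_lit 0x1120122000033120000111120302000001000002100100020301001210)
  (Net.cons (nat_lit 4) (nat_lit 0x5010f000a0204000c0c06070107000908070004000600010102010e00)
  (Net.cons (nat_lit 8) (nat_lit 0xf60076002e000f0082009300c8007500c00011000000000003003d0080)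
  (Net.cons (nat_lit 16) (nat_lit 0x400009edb000045bf000094da0000657100004f900000601800001800)
  (Net.cons (nat_lit 32) (nat_lit 0x160800000000decff341000000002d818d000000000000180000)
  (Net.cons (nat_lit 64) (nat_lit 0x660019f40400000000000000000001fc8000000000000)
  (Net.cons (nat_lit 128) (nat_lit 0x66001010000001248000000000000)
  (Net.cons (nat_lit 64) (nat_lit 0x660010100000000000000000000001248000000000000)
  (Net.cons (nat_lit 32) (nat_lit 0x9e4e6001000000000d8000000000000000000000)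
  (Net.cons (nat_lit 16) (nat_lit 0x9e48000044800000114b0000240000000d800000001800000000)
  (Net.cons (nat_lit 8) (nat_lit 0x160016000e000e00030012000900340081001000000000000000180000)
  (Net.cons (nat_lit 4) (nat_lit 0x5010f000a0204000c0c06070107000908070004000600010102010800)
  (Net.cons (nat_lit 2) (nat_lit 0x1120122000033120000111120302000001000002100100020301001200)
  (Net.cons (nat_lit 1) (nat_lit 0x445401000155500544055014051005010004100000400000000000150000)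
  Net.nil)))))))))))))))

noncomputable def n_YM0_1 : Net := (Net.cons (nat_lit 1) (nat_lit 0x551115544051115154000140401000001151510045404101004050400450)
  (Net.cons (nat_lit 2) (nat_lit 0x233033012020222120221300100000102010210001302000202120200130)
  (Net.cons (nat_lit 4) (nat_lit 0x9080c060f020e010402000401000205000e050105010601080203070008)
  (Net.cons (nat_lit 8) (nat_lit 0xef00e300750040002200c300ac00040090003100310092000d00100000)
  (Net.cons (nat_lit 16) (nat_lit 0x60000fdf700007d0100001363000012af00007b310000d40000001000)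
  (Net.cons (nat_lit 32) (nat_lit 0x6d73000000000d7f42aa0000000002c9e04100000000005000000)
  (Net.cons (nat_lit 64) (nat_lit 0x26880937004000000000000000000a910040001000000)
  (Net.cons (nat_lit 128) (nat_lit 0x2880000004008100000000000000)
  (Net.cons (nat_lit 64) (nat_lit 0x28800000040000000000000000008100000000000000)
  (Net.cons (nat_lit 32) (nat_lit 0x24000000000009370288000000000281004000000000001000000)
  (Net.cons (nat_lit 16) (nat_lit 0x40000913200005500000003200000008e000029100000040000000000)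
  (Net.cons (nat_lit 8) (nat_lit 0xa300a700310000002200c300ac00040090003100310090000400100000)
  (Net.cons (nat_lit 4) (nat_lit 0x9080c060f020e010402000401000205000e050105010601080000010000)
  (Net.cons (nat_lit 2) (nat_lit 0x223023012020222120221300100000102010210001302000202120200020)
  (Net.cons (nat_lit 1) (nat_lit 0x551115544051115154000140401000001151500044004001004050400450)
  Net.nil)))))))))))))))

noncomputable def n_YM0_2 : Net := (Net.cons (nat_lit 1) (nat_lit 0x500104410051400415104500014040000440050050401045004000011404)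
  (Net.cons (nat_lit 2) (nat_lit 0x1330000213213100303120321032000021012002000102102130000000000)
  (Net.cons (nat_lit 4) (nat_lit 0x307000e0308000908020d0c020100020d01000100000608040000010e00)
  (Net.cons (nat_lit 8) (nat_lit 0x63006b002a0082005700090038002200c2000000800046007b00900080)
  (Net.cons (nat_lit 16) (nat_lit 0x7000097780000140a00000c5900008ac0000015370000ecc000001000)
  (Net.cons (nat_lit 32) (nat_lit 0x15c500000000c3befb72000000003ac101010000000068000000)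
  (Net.cons (nat_lit 64) (nat_lit 0x3ac74190280200000000000000005139000000000000)
  (Net.cons (nat_lit 128) (nat_lit 0x3a42000000004138000000000000)
  (Net.cons (nat_lit 64) (nat_lit 0x3a420000000000000000000000004138000000000000)
  (Net.cons (nat_lit 32) (nat_lit 0x850000000041b83a4200000000100100000000000000000000)
  (Net.cons (nat_lit 16) (nat_lit 0x1550000000020000085800000ac0000011010000680000000000)
  (Net.cons (nat_lit 8) (nat_lit 0x43006b002a0082005700090038002200c2000000000000006800100000)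
  (Net.cons (nat_lit 4) (nat_lit 0x307000e0308000908020d0c020100020d0100010000020c000000010800)
  (Net.cons (nat_lit 2) (nat_lit 0x1330000213212100102120121032000021012002000102102130000000000)
  (Net.cons (nat_lit 1) (nat_lit 0x500104410051400415104500014040000440050050401045004000011400)
  Net.nil)))))))))))))))

noncomputable def n_YM0_3 : Net := (Net.cons (nat_lit 1) (nat_lit 0x550144000154044441041010405010110115000040000055001115040040)
  (Net.cons (nat_lit 2) (nat_lit 0x310131330301101232100120100000120310202100202010021111000030)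
  (Net.cons (nat_lit 4) (nat_lit 0x60f02060205050606000008010e0409040e0800000e020c080505040208)
  (Net.cons (nat_lit 8) (nat_lit 0x67002500d000ed00590028000600d100e8004000000006003100560020)
  (Net.cons (nat_lit 16) (nat_lit 0x40000fe36000082650000813800005055000058b90000a5c100004000)
  (Net.cons (nat_lit 32) (nat_lit 0xf4d900000000af99ce9400000000d06cf04800000000a1400000)
  (Net.cons (nat_lit 64) (nat_lit 0x68d8d98000000000000000000005d28004000000000)
  (Net.cons (nat_lit 128) (nat_lit 0x684000000000d00000000000000)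
  (Net.cons (nat_lit 64) (nat_lit 0x6840000000000000000000000000d00000000000000)
  (Net.cons (nat_lit 32) (nat_lit 0x9000000008d98068400000000502800400000000000000000)
  (Net.cons (nat_lit 16) (nat_lit 0xbd51000082010000811000001004000050280000a14000000000)
  (Net.cons (nat_lit 8) (nat_lit 0x240064009100ec005900280006009100a8000000000004002100400000)
  (Net.cons (nat_lit 4) (nat_lit 0x60f02060205050606000008010e0409040e0800000e020c080505040200)
  (Net.cons (nat_lit 2) (nat_lit 0x310131330301101232100120100000120310202100202010021111000020)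
  (Net.cons (nat_lit 1) (nat_lit 0x550144000154044441041010405010110115000040000055001115040040)
  Net.nil)))))))))))))))

noncomputable def n_YM0_4 : Net := (Net.cons (nat_lit 1) (nat_lit 0x400110004150011044114144101401500550405000040014004041101100)
  (Net.cons (nat_lit 2) (nat_lit 0x1230102120323200031233311200321100020100200220001011131300000)
  (Net.cons (nat_lit 4) (nat_lit 0x40f01030602010503080102090006010504000200040802000000090f00)
  (Net.cons (nat_lit 8) (nat_lit 0xb7009300810028007d0095004b002000d00008000000020015006e00a0)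
  (Net.cons (nat_lit 16) (nat_lit 0x30000bfda0000c191000012df00005205000010da0000130100000a00)
  (Net.cons (nat_lit 32) (nat_lit 0x1926500000000af633d5800000000281c80500000000011400000)
  (Net.cons (nat_lit 64) (nat_lit 0x20925867a000000000000000000008978000000400000)
  (Net.cons (nat_lit 128) (nat_lit 0x20900001800008160000000000000)
  (Net.cons (nat_lit 64) (nat_lit 0x209000018000000000000000000008160000000000000)
  (Net.cons (nat_lit 32) (nat_lit 0x25000000008762090000000000081800000000000000400000)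
  (Net.cons (nat_lit 16) (nat_lit 0x100009642000090010000005a00000004000000580000110000000000)
  (Net.cons (nat_lit 8) (nat_lit 0x93009300810038007c0085004b002000d00008000000020011000a0000)
  (Net.cons (nat_lit 4) (nat_lit 0x40f01030602000502090002080006010504000200040802000000080a00)
  (Net.cons (nat_lit 2) (nat_lit 0x230102120323200031233311200321100020100200220001011131300000)
  (Net.cons (nat_lit 1) (nat_lit 0x400110004150011044114144101401500550405000040014004041101100)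
  Net.nil)))))))))))))))

noncomputable def n_YM0_5 : Net := (Net.cons (nat_lit 1) (nat_lit 0x5000140000400010440000054001011001041014010400004140504004)
  (Net.cons (nat_lit 2) (nat_lit 0x120130112200300210000022211011111110131220000000200020210002)
  (Net.cons (nat_lit 4) (nat_lit 0x10e000e040000020b000109000800000600080501010504000000050400)
  (Net.cons (nat_lit 8) (nat_lit 0x8500800080002300c80092002c00df0065009c00040005002100ba0000)
  (Net.cons (nat_lit 16) (nat_lit 0x7cff0000122b00000d7e000074da0000feaf0000458000009000)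
  (Net.cons (nat_lit 32) (nat_lit 0xe7800000000a789c94100000000187c11240000000081800000)
  (Net.cons (nat_lit 64) (nat_lit 0x1024184a400000000000000000000992c000080000000)
  (Net.cons (nat_lit 128) (nat_lit 0x10041002400008100000000000000)
  (Net.cons (nat_lit 64) (nat_lit 0x100410024000000000000000000008100000000000000)
  (Net.cons (nat_lit 32) (nat_lit 0x200000000008581004100000000182c00000000000080000000)
  (Net.cons (nat_lit 16) (nat_lit 0xcf80000020800000164000000400000982c0000018000000000)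
  (Net.cons (nat_lit 8) (nat_lit 0x400800080002300c0009a002400cf0075008400040004000100900000)
  (Net.cons (nat_lit 4) (nat_lit 0x10e000e040000020b000109000800000600080501010504000000010000)
  (Net.cons (nat_lit 2) (nat_lit 0x120130112200300210000022211011111110131220000000200020210000)
  (Net.cons (nat_lit 1) (nat_lit 0x5000140000400010440000054001011001041014010400004140504004)
  Net.nil)))))))))))))))

noncomputable def n_YM0_6 : Net := (Net.cons (nat_lit 1) (nat_lit 0x414400001055500000040004000005000414010401041500000001)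
  (Net.cons (nat_lit 2) (nat_lit 0x10300100210111000100231100022030002011322012201010002200000)
  (Net.cons (nat_lit 4) (nat_lit 0x302000b00000b0007030100050004040c090a0b0e0d0200000000)
  (Net.cons (nat_lit 8) (nat_lit 0x20001004000b0003a00c800c900b20060004200880088008f00940000)
  (Net.cons (nat_lit 16) (nat_lit 0x3fb9000043b60000461900004196000047550000faea00008000)
  (Net.cons (nat_lit 32) (nat_lit 0x1060700000000bfee344900000000f1916aa9000000004aa00000)
  (Net.cons (nat_lit 64) (nat_lit 0x100063009408000000000000000000f394aa000000000)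
  (Net.cons (nat_lit 128) (nat_lit 0x140800e28000000000000)
  (Net.cons (nat_lit 64) (nat_lit 0x1408000000000000000000e28000000000000)
  (Net.cons (nat_lit 32) (nat_lit 0x10006000000003e2800000000000001114aa00000000000000000)
  (Net.cons (nat_lit 16) (nat_lit 0x36090000810600004609000040800000431100004aa000000000)
  (Net.cons (nat_lit 8) (nat_lit 0x200010000003000ba004800c900b20060004200880088008a00800000)
  (Net.cons (nat_lit 4) (nat_lit 0x302000b00000b0007030100050004040c090a0b0e0d0200000000)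
  (Net.cons (nat_lit 2) (nat_lit 0x10300100210111000100231100022030002011322012201010002200000)
  (Net.cons (nat_lit 1) (nat_lit 0x414400001055500000040004000005000414010401041500000000)
  Net.nil)))))))))))))))

noncomputable def NL_YM0 : List Net := [n_YM0_0,n_YM0_1,n_YM0_2,n_YM0_3,n_YM0_4,n_YM0_5,n_YM0_6]
theorem okL_YM0 : okL 243 NL_YM0 = true := by decide +kernel
noncomputable def N_YM0 : ℕ → Net := nth NL_YM0
theorem ok_YM0 : ∀ a, (N_YM0 a).ok 243 = true := ok_nth okL_YM0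

def ps_YM0 : List (List ℕ × List ℕ) := [([0,0],[]),([1,1],[]),([2,2],[]),([3,3],[]),([4,4],[]),([5,5],[]),([6,6],[]),([0,1,0],[1,0,1]),([0,2],[2,0]),([0,3],[3,0]),([0,4],[4,0]),([0,5],[5,0]),([0,6],[6,0]),([1,2,1],[2,1,2]),([1,3],[3,1]),([1,4],[4,1]),([1,5],[5,1]),([1,6],[6,1]),([2,3,2],[3,2,3]),([2,4],[4,2]),([2,5,2],[5,2,5]),([2,6],[6,2]),([3,4,3],[4,3,4]),([3,5],[5,3]),([3,6],[6,3]),([4,5],[5,4]),([4,6],[6,4]),([5,6,5],[6,5,6]),([5,6,2,5,3,2,1,2,3,5,2,6,5,0,1,4,2,3,5,6,2,5,3,2,1,2,3,5,2,6,5,0,1,4,2,3],[3,2,4,1,0,5,6,2,5,3,2,1,2,3,5,2,6,5,3,2,4,1,0,5,6,2,5,3,2,1,2,3,5,2,6,5])]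

theorem pl_YM0 : ∀ j < 8, planeOK N_YM0 ps_YM0 (plN 243 8 j) = true := allLt_iff.1 (by decide +kernel)

theorem rels_YM0 : Rels (pms N_YM0) R_YM0 := rels_of_planes ok_YM0 (by decide +kernel) (iv := iv_YM0) pl_YM0 (by decide +kernel)

theorem imp_YM0_E6_7001c : impCert R_YM0 [1,2,5,3,0,6] R_E6 [(1,0),(2,0),(5,0),(3,0),(0,0),(6,0),(7,0),(8,0),(11,0),(12,0),(9,0),(13,0),(16,0),(17,0),(14,0),(20,0),(21,0),(18,0),(27,0),(23,1),(24,1)] = true := by decide +kernel
theorem imp_YM0_E6_7001 : Imp.{u} R_YM0 [1,2,5,3,0,6] R_E6 := Imp.of_cert imp_YM0_E6_7001c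

theorem imp_YM0_E6_7002c : impCert R_YM0 [1,2,3,5,0,4] R_E6 [(1,0),(2,0),(3,0),(5,0),(0,0),(4,0),(7,0),(8,0),(9,0),(10,0),(11,0),(13,0),(14,0),(15,0),(16,0),(18,0),(19,0),(20,0),(22,0),(23,0),(25,0)] = true := by decide +kernel
theorem imp_YM0_E6_7002 : Imp.{u} R_YM0 [1,2,3,5,0,4] R_E6 := Imp.of_cert imp_YM0_E6_7002c

def hs_YM0 : List (List ℕ × List (List ℕ) × ℕ) := [([1,2,5,3,0,6],[[1],[2],[5],[3],[0]],27),([1,2,3,5,0,4],[[0],[1],[2],[3],[4]],72),([1,2,5,3,0,6],[[0],[2],[3],[5],[6]],216)]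
theorem hh_YM0 : ∀ h ∈ hs_YM0, UI.{u} R_YM0 h.1 h.2.1 h.2.2 :=
  List.forall_mem_cons.2 ⟨ui_E6.ren imp_YM0_E6_7001 (by decide +kernel) (by decide +kernel),
    List.forall_mem_cons.2 ⟨ui_E6_51.ren imp_YM0_E6_7002 (by decide +kernel) (by decide +kernel),
    List.forall_mem_cons.2 ⟨ui_E6_54.ren imp_YM0_E6_7001 (by decide +kernel) (by decide +kernel),
    List.forall_mem_nil _⟩⟩⟩

theorem e_YM0_0 : erun 243 5 N_YM0 R_YM0 iv_YM0 7 hs_YM0 (stK (ones 243) (mkK 243 (ones 243) [0,1,2,3,4,5,6]))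
  [.orb [1,2,5,3,0,6] [[0],[1],[2],[3],[5]] 27 0 0 7, .rel 26 0, .rel 25 0, .rel 19 1, .rel 15 1, .rel 10 1, .orb [1,2,3,5,0,4] [[0],[1],[2],[3],[4]] 72 1 4 5, .rel 26 1, .rel 24 1, .rel 21 1, .orb [1,2,5,3,0,6] [[0],[2],[3],[5],[6]] 216 8 4 5, .rel 26 0, .rel 25 0, .rel 19 1, .rel 15 1, .rel 28 15, .rel 4 0, .rel 15 1, .rel 19 1, .rel 25 0, .rel 26 1, .rel 22 1, .rel 10 1, .rel 19 1, .rel 24 1, .rel 21 1, .rel 27 1]
  (bit 0) (mkK 243 (bit 0) [0,1,2,3,4,5]) = true := by decide +kernel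

theorem r_YM0_0 : Run.{u} 243 N_YM0 R_YM0 0 (bit 0) (mkK 243 (bit 0) [0,1,2,3,4,5]) (ones 243) (mkK 243 (ones 243) [0,1,2,3,4,5,6]) := (Run.of_cert ok_YM0 (by decide +kernel) inv_YM0 hh_YM0 e_YM0_0 0)

theorem ui_YM0 : UI.{u} R_YM0 [0,1,2,3,4,5,6] (sing [0,1,2,3,4,5]) 243 :=
  UI.of_run (kp := 5) (O := (ones 243)) ok_YM0 (by decide +kernel) rels_YM0 r_YM0_0 (by decide +kernel)

theorem ub_YM0 : UB.{u} R_YM0 [0,1,2,3,4,5,6] 12597120 :=
  (ui_YM0.mul (UI.perm (S' := [0,1,2,3,4,5]) (UI.ren (S := [1,2,3,5,0,4]) (W := []) ub_E6 imp_YM0_E6_7002 (by decide +kernel) rfl) (by decide +kernel) (by decide +kernel)) (by decide +kernel) (by decide +kernel)).le (by decide +kernel)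

theorem lb_7003 : LB N_YM0 [[0],[1],[2],[3],[4],[5],[6]] [0,1,2,31,3,4] 12597120 :=
  (LB.of_chain (kp := 5) ok_YM0 (by decide +kernel) [(0,7,[[0],[1],[2],[3],[4],[5],[6]]),(1,6,[[0],[1],[2],[3],[4],[5]]),(2,3,[[0],[1],[2],[3],[4]]),(31,2,[[0],[1],[3],[4]]),(3,2,[[0],[1]]),(4,1,[[0]])] (by decide +kernel)).cat
    (rels_YM0.inv inv_YM0) (by decide +kernel) (c := [[0],[2],[4],[6],[8],[10],[12],[0],[2],[4],[6],[8],[10],[0],[2],[4],[6],[8],[0],[2],[6],[8],[0],[2],[0]]) (by decide +kernel)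

theorem orc_M0 : Orc.{u} R_YM0 [0,1,2,3,4,5,6] N_YM0 [0,1,2,31,3,4] := ub_YM0.oracle rels_YM0 lb_7003

def R_F23x : List (List ℕ) := [[0,0],[1,1],[2,2],[3,3],[4,4],[5,5],[6,6],[7,7],[8,8],[9,9],[0,1,0,1,0,1],[0,2,0,2],[0,3,0,3],[0,4,0,4],[0,5,0,5],[0,6,0,6],[0,9,0,9],[0,7,0,7],[0,8,0,8],[1,2,1,2,1,2],[1,3,1,3],[1,4,1,4],[1,5,1,5],[1,6,1,6],[1,9,1,9],[1,7,1,7],[1,8,1,8],[2,3,2,3,2,3],[2,4,2,4],[2,5,2,5],[2,6,2,6],[2,9,2,9],[2,7,2,7],[2,8,2,8],[3,4,3,4,3,4],[3,5,3,5],[3,6,3,6],[3,9,3,9],[3,7,3,7,3,7],[3,8,3,8],[4,5,4,5,4,5],[4,6,4,6],[4,9,4,9],[4,7,4,7],[4,8,4,8],[5,6,5,6,5,6],[5,9,5,9],[5,7,5,7],[5,8,5,8],[6,9,6,9,6,9],[6,7,6,7],[6,8,6,8],[9,7,9,7],[9,8,9,8],[7,8,7,8,7,8]]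
def iv_F23x : List ℕ := [0,1,2,3,4,5,6,7,8,9]
theorem inv_F23x : invOK R_F23x iv_F23x 10 = true := by decide +kernel

def R_F23m : List (List ℕ) := [[0,0],[1,1],[2,2],[3,3],[4,4],[5,5],[6,6],[7,7],[8,8],[9,9],[0,1,0,1,0,1],[0,2,0,2],[0,3,0,3],[0,4,0,4],[0,5,0,5],[0,6,0,6],[0,9,0,9],[0,7,0,7],[0,8,0,8],[1,2,1,2,1,2],[1,3,1,3],[1,4,1,4],[1,5,1,5],[1,6,1,6],[1,9,1,9],[1,7,1,7],[1,8,1,8],[2,3,2,3,2,3],[2,4,2,4],[2,5,2,5],[2,6,2,6],[2,9,2,9],[2,7,2,7],[2,8,2,8],[3,4,3,4,3,4],[3,5,3,5],[3,6,3,6],[3,9,3,9],[3,7,3,7,3,7],[3,8,3,8],[4,5,4,5,4,5],[4,6,4,6],[4,9,4,9],[4,7,4,7],[4,8,4,8],[5,6,5,6,5,6],[5,9,5,9],[5,7,5,7],[5,8,5,8],[6,9,6,9,6,9],[6,7,6,7],[6,8,6,8],[9,7,9,7],[9,8,9,8],[7,8,7,8,7,8],[7,8,3,7,4,3,2,3,4,7,3,8,7,1,2,5,3,4,7,8,3,7,4,3,2,3,4,7,3,8,7,1,2,5,3,4,7,8,3,7,4,3,2,3,4,7,3,8,7,1,2,5,3,4,7,8,3,7,4,3,2,3,4,7,3,8,7,1,2,5,3,4],[0,1,2,3,4,5,7,0,1,2,3,4,5,7,0,1,2,3,4,5,7,0,1,2,3,4,5,7,0,1,2,3,4,5,7,0,1,2,3,4,5,7,0,1,2,3,4,5,7,0,1,2,3,4,5,7,0,1,2,3,4,5,7]]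
def iv_F23m : List ℕ := [0,1,2,3,4,5,6,7,8,9]
theorem inv_F23m : invOK R_F23m iv_F23m 10 = true := by decide +kernel

theorem imp_F23m_YM0_7004c : impCert R_F23m [1,2,3,4,5,7,8] R_YM0 [(1,0),(2,0),(3,0),(4,0),(5,0),(7,0),(8,0),(19,0),(20,0),(21,0),(22,0),(25,0),(26,0),(27,0),(28,0),(29,0),(32,0),(33,0),(34,0),(35,0),(38,0),(39,0),(40,0),(43,0),(44,0),(47,0),(48,0),(54,0),(55,0)] = true := by decide +kernel
theorem imp_F23m_YM0_7004 : Imp.{u} R_F23m [1,2,3,4,5,7,8] R_YM0 := Imp.of_cert imp_F23m_YM0_7004c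

theorem der_sp23 : Der.{u} R_F23m [[3,2,1,3,4,5,3,7,8,3,2,1,3,4,5,3,7,8,3,2,1,3,4,5,3,7,8,3,2,1,3,4,5,3,7,8,3,2,1,3,4,5,3,7,8,3,2,1,3,4,5,3,7,8,3,2,1,3,4,5,3,7,8,3,2,1,3,4,5,3,7,8,3,2,1,3,4,5,3,7,8,3,2,1,3,4,5,3,7,8]] :=
  orc_M0.rels ok_YM0 imp_F23m_YM0_7004 [[2,1,0,2,3,4,2,5,6,2,1,0,2,3,4,2,5,6,2,1,0,2,3,4,2,5,6,2,1,0,2,3,4,2,5,6,2,1,0,2,3,4,2,5,6,2,1,0,2,3,4,2,5,6,2,1,0,2,3,4,2,5,6,2,1,0,2,3,4,2,5,6,2,1,0,2,3,4,2,5,6,2,1,0,2,3,4,2,5,6]] (by decide +kernel) (by decide +kernel) (by decide +kernel)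

theorem der_F23m : Der.{u} R_F23m R_F23 :=
  Der.trans ((Der.refl R_F23m).and der_sp23) (Der.of_cert (c := [(0,0),(1,0),(2,0),(3,0),(4,0),(5,0),(6,0),(7,0),(8,0),(9,0),(10,0),(11,0),(12,0),(13,0),(14,0),(15,0),(16,0),(17,0),(18,0),(19,0),(20,0),(21,0),(22,0),(23,0),(24,0),(25,0),(26,0),(27,0),(28,0),(29,0),(30,0),(31,0),(32,0),(33,0),(34,0),(35,0),(36,0),(37,0),(38,0),(39,0),(40,0),(41,0),(42,0),(43,0),(44,0),(45,0),(46,0),(47,0),(48,0),(49,0),(50,0),(51,0),(52,0),(53,0),(54,0),(57,0),(56,0)]) (by decide +kernel))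

theorem lb_7005 : LB N_E7 [[0],[1],[2],[3],[4],[5],[6]] [0,1,13,2,8,3,4] 2903040 :=
  (LB.of_chain (kp := 3) ok_E7 (by decide +kernel) [(0,9,[[0],[1],[2],[3],[4],[5],[6]]),(1,5,[[0],[1],[2],[3],[4],[5]]),(13,4,[[0],[1],[2],[3],[5]]),(2,3,[[0],[1],[2],[3]]),(8,2,[[1],[2],[3]]),(3,1,[[1],[2]]),(4,1,[[2]])] (by decide +kernel)).cat
    (rels_E7.inv inv_E7) (by decide +kernel) (c := [[0],[2],[4],[6],[8],[10],[12],[0],[2],[4],[6],[8],[10],[0],[2],[4],[6],[10],[0],[2],[4],[6],[2],[4],[6],[2],[4],[4]]) (by decide +kernel)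

theorem orc_M7 : Orc.{u} R_E7 [0,1,2,3,4,5,6] N_E7 [0,1,13,2,8,3,4] := ub_E7.oracle rels_E7 lb_7005

theorem imp_F23x_E7_7006c : impCert R_F23x [2,3,4,7,1,5,0] R_E7 [(2,0),(3,0),(4,0),(7,0),(1,0),(5,0),(0,0),(10,0),(11,0),(12,0),(13,0),(14,0),(17,0),(19,0),(20,0),(21,0),(22,0),(25,0),(27,0),(28,0),(29,0),(32,0),(34,0),(35,0),(38,0),(40,0),(43,0),(47,0)] = true := by decide +kernel
theorem imp_F23x_E7_7006 : Imp.{u} R_F23x [2,3,4,7,1,5,0] R_E7 := Imp.of_cert imp_F23x_E7_7006c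

theorem der_e7x : Der.{u} R_F23x [[0,1,2,3,4,5,7,0,1,2,3,4,5,7,0,1,2,3,4,5,7,0,1,2,3,4,5,7,0,1,2,3,4,5,7,0,1,2,3,4,5,7,0,1,2,3,4,5,7,0,1,2,3,4,5,7,0,1,2,3,4,5,7,0,1,2,3,4,5,7,0,1,2,3,4,5,7,0,1,2,3,4,5,7,0,1,2,3,4,5,7,0,1,2,3,4,5,7,0,1,2,3,4,5,7,0,1,2,3,4,5,7,0,1,2,3,4,5,7,0,1,2,3,4,5,7]] :=
  orc_M7.rels ok_E7 imp_F23x_E7_7006 [[6,4,0,1,2,5,3,6,4,0,1,2,5,3,6,4,0,1,2,5,3,6,4,0,1,2,5,3,6,4,0,1,2,5,3,6,4,0,1,2,5,3,6,4,0,1,2,5,3,6,4,0,1,2,5,3,6,4,0,1,2,5,3,6,4,0,1,2,5,3,6,4,0,1,2,5,3,6,4,0,1,2,5,3,6,4,0,1,2,5,3,6,4,0,1,2,5,3,6,4,0,1,2,5,3,6,4,0,1,2,5,3,6,4,0,1,2,5,3,6,4,0,1,2,5,3]] (by decide +kernel) (by decide +kernel) (by decide +kernel)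

end H7.T
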