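import Cfsg.Agent.H7.Inv23
import Cfsg.Agent.H7.FM8
set_option Elab.async false
set_option maxRecDepth 100000
set_option maxHeartbeats 0
namespace H7.T
universe u v

theorem pa23_0 {G : Type u} [Group G] (F : FM P23 G) : Nat.card (F.PA []) ≤ 31671 * Nat.card (F.PA [(10,[])]) :=
  FM.PA_step (FM.aut_D (uniq23 F)) [] [] (10,[]) 0 31671 (by decide +kernel)

theorem pa23_1 {G : Type u} [Group G] (F : FM P23 G) : Nat.card (F.PA [(10,[])]) ≤ 28160 * Nat.card (F.PA [(9,[]),(10,[])]) :=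
  FM.PA_step (FM.aut_D (uniq23 F)) [] [(10,[])] (9,[]) 0 28160 (by decide +kernel)

theorem pa23_2 {G : Type u} [Group G] (F : FM P23 G) : Nat.card (F.PA [(9,[]),(10,[])]) ≤ 21840 * Nat.card (F.PA [(11,[]),(9,[]),(10,[])]) :=
  FM.PA_step (FM.aut_D (uniq23 F)) [] [(10,[]),(9,[]),(9,[10])] (11,[]) 1 21840 (by decide +kernel)

theorem pa23_3 {G : Type u} [Group G] (F : FM P23 G) : Nat.card (F.PA [(11,[]),(9,[]),(10,[])]) ≤ 324 * Nat.card (F.PA [(5,[]),(11,[]),(9,[]),(10,[])]) :=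
  FM.PA_step (FM.aut_D (uniq23 F)) [(10,[]),(9,[])] [(11,[])] (5,[]) 0 324 (by decide +kernel)

theorem pa23_4 {G : Type u} [Group G] (F : FM P23 G) : Nat.card (F.PA [(5,[]),(11,[]),(9,[]),(10,[])]) ≤ 324 * Nat.card (F.PA [(6,[]),(5,[]),(11,[]),(9,[]),(10,[])]) :=
  FM.PA_step (FM.aut_D (uniq23 F)) [(10,[]),(5,[11,10,9,11])] [(9,[]),(5,[]),(11,[]),(5,[11]),(5,[11,9])] (6,[]) 2 324 (by decide +kernel)

theorem pa23_5 {G : Type u} [Group G] (F : FM P23 G) : Nat.card (F.PA [(6,[]),(5,[]),(11,[]),(9,[]),(10,[])]) ≤ 2 * Nat.card (F.PA [(0,[]),(6,[]),(5,[]),(11,[]),(9,[]),(10,[])]) :=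
  FM.PA_step (FM.aut_D (uniq23 F)) [(10,[]),(9,[]),(6,[]),(5,[]),(4,[]),(2,[3])] [(0,[1])] (0,[]) 4 2 (by decide +kernel)

theorem pa23_6 {G : Type u} [Group G] (F : FM P23 G) : Nat.card (F.PA [(0,[]),(6,[]),(5,[]),(11,[]),(9,[]),(10,[])]) ≤ 1 * Nat.card (F.PA [(2,[]),(0,[]),(6,[]),(5,[]),(11,[]),(9,[]),(10,[])]) :=
  FM.PA_step (FM.aut_D (uniq23 F)) [(10,[]),(9,[]),(1,[11]),(6,[]),(5,[])] [] (2,[]) 3 1 (by decide +kernel)

theorem aut23 {G : Type u} [Group G] (F : FM P23 G) : Nat.card (MulAut G) ≤ 4089470473293004800 :=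
  FM.PA_nil (F := F) ▸ ((pa23_0 F).trans (Nat.mul_le_mul_left 31671 (((pa23_1 F).trans (Nat.mul_le_mul_left 28160 (((pa23_2 F).trans (Nat.mul_le_mul_left 21840 (((pa23_3 F).trans (Nat.mul_le_mul_left 324 (((pa23_4 F).trans (Nat.mul_le_mul_left 324 (((pa23_5 F).trans (Nat.mul_le_mul_left 2 (((pa23_6 F).trans (Nat.mul_le_mul_left 1 ((FM.PA_bot (qs := [(2,[]),(0,[]),(6,[]),(5,[]),(11,[]),(9,[]),(10,[])]) 4 (by decide +kernel)).le : _ ≤ 1))) : _ ≤ 1))) : _ ≤ 2))) : _ ≤ 648))) : _ ≤ 209952))) : _ ≤ 4585351680))) : _ ≤ 129123503308800)))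

end H7.T
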