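import Cfsg.Agent.H7.T.Q22_0
set_option Elab.async false
set_option maxRecDepth 100000
set_option maxHeartbeats 0
namespace H7.T
universe u v

noncomputable def m1_22q : ℕ := bits [4,16,38,52,55,2930,3274,3322]

theorem i_as22q {G : Type u} [Group G] (F : FM P22q G) : F.Inv (F.PS (Subgroup.normalizer (F.S m1_22q)) []) m1_22q :=
  FM.Inv.st.up []

noncomputable def L_as22q_1 : List Pc := [(3,[]),(1,[2]),(1,[9]),(4,[11]),(2,[11]),(6,[11]),(11,[12,10])]

theorem sp_as22q_2 : P22q.spOK (P22q.f3 m1_22q) 2 L_as22q_1 = true := by decide +kernel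

theorem rp_as22q_3 : P22q.repOK' m1_22q [] [(0,[1,9])] (L_as22q_1 ++ []) [] 0 = true := by decide +kernel

noncomputable def m_as22q_4 : ℕ := bits [52]

theorem i_as22q_5 {G : Type u} [Group G] (F : FM P22q G) : F.Inv (F.PS (Subgroup.normalizer (F.S m1_22q)) []) m_as22q_4 :=
  FM.Inv.reps' (i_as22q F) (r' := 0) (List.forall_mem_nil _) rp_as22q_3 (by decide +kernel) (List.forall_mem_cons.2 ⟨(FM.Sp.app (FM.sp3 (i_as22q F) (by decide +kernel) sp_as22q_2) (FM.Sp.nil _)), (List.forall_mem_nil _)⟩)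

noncomputable def m_as22q_6 : ℕ := bits [52]

theorem fx_as22q_7 {G : Type u} [Group G] (F : FM P22q G) : F.Fx (F.PS (Subgroup.normalizer (F.S m1_22q)) []) m_as22q_6 :=
  (FM.Fx.one (i_as22q_5 F) (by decide +kernel)).le (by decide +kernel)

noncomputable def m_as22q_8 : ℕ := bits [16,52]

theorem i_as22q_9 {G : Type u} [Group G] (F : FM P22q G) : F.Inv (F.PS (Subgroup.normalizer (F.S m1_22q)) []) m_as22q_8 :=
  (FM.Fx.pat (fx_as22q_7 F) (i_as22q F) [(0,[1,9])] [] (by decide +kernel)).eq (by decide +kernel)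

noncomputable def m_as22q_10 : ℕ := bits [52]

noncomputable def m_as22q_11 : ℕ := bits [16]

theorem i_as22q_12 {G : Type u} [Group G] (F : FM P22q G) : F.Inv (F.PS (Subgroup.normalizer (F.S m1_22q)) []) m_as22q_11 :=
  (FM.Inv.mns (i_as22q_9 F) ((fx_as22q_7 F).inv (b := m_as22q_10) (by decide +kernel))).eq (by decide +kernel)

noncomputable def m_as22q_13 : ℕ := bits [16,52]

theorem fx_as22q_14 {G : Type u} [Group G] (F : FM P22q G) : F.Fx (F.PS (Subgroup.normalizer (F.S m1_22q)) []) m_as22q_13 :=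
  (FM.Fx.lor (fx_as22q_7 F) (FM.Fx.one (i_as22q_12 F) (by decide +kernel))).le (by decide +kernel)

noncomputable def m_as22q_15 : ℕ := bits [38]

theorem i_as22q_16 {G : Type u} [Group G] (F : FM P22q G) : F.Inv (F.PS (Subgroup.normalizer (F.S m1_22q)) []) m_as22q_15 :=
  (FM.Fx.pat (fx_as22q_14 F) (i_as22q F) [(3,[])] [(0,[1,9])] (by decide +kernel)).eq (by decide +kernel)

noncomputable def m_as22q_17 : ℕ := bits [16,38,52]

theorem fx_as22q_18 {G : Type u} [Group G] (F : FM P22q G) : F.Fx (F.PS (Subgroup.normalizer (F.S m1_22q)) []) m_as22q_17 :=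
  (FM.Fx.lor (fx_as22q_14 F) (FM.Fx.one (i_as22q_16 F) (by decide +kernel))).le (by decide +kernel)

noncomputable def m_as22q_19 : ℕ := bits [4]

theorem i_as22q_20 {G : Type u} [Group G] (F : FM P22q G) : F.Inv (F.PS (Subgroup.normalizer (F.S m1_22q)) []) m_as22q_19 :=
  (FM.Fx.pat (fx_as22q_18 F) (i_as22q F) [(1,[9])] [(3,[])] (by decide +kernel)).eq (by decide +kernel)

noncomputable def m_as22q_21 : ℕ := bits [4,16,38,52]

theorem fx_as22q_22 {G : Type u} [Group G] (F : FM P22q G) : F.Fx (F.PS (Subgroup.normalizer (F.S m1_22q)) []) m_as22q_21 :=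
  (FM.Fx.lor (fx_as22q_18 F) (FM.Fx.one (i_as22q_20 F) (by decide +kernel))).le (by decide +kernel)

noncomputable def m_as22q_23 : ℕ := bits [3274]

theorem i_as22q_24 {G : Type u} [Group G] (F : FM P22q G) : F.Inv (F.PS (Subgroup.normalizer (F.S m1_22q)) []) m_as22q_23 :=
  (FM.Fx.pat (fx_as22q_22 F) (i_as22q F) [] [(1,[2]),(3,[])] (by decide +kernel)).eq (by decide +kernel)

noncomputable def m_as22q_25 : ℕ := bits [4,16,38,52,3274]

theorem fx_as22q_26 {G : Type u} [Group G] (F : FM P22q G) : F.Fx (F.PS (Subgroup.normalizer (F.S m1_22q)) []) m_as22q_25 :=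
  (FM.Fx.lor (fx_as22q_22 F) (FM.Fx.one (i_as22q_24 F) (by decide +kernel))).le (by decide +kernel)

noncomputable def m_as22q_27 : ℕ := bits [55]

theorem i_as22q_28 {G : Type u} [Group G] (F : FM P22q G) : F.Inv (F.PS (Subgroup.normalizer (F.S m1_22q)) []) m_as22q_27 :=
  (FM.Fx.pat (fx_as22q_26 F) (i_as22q F) [] [(3,[]),(2,[11]),(1,[9])] (by decide +kernel)).eq (by decide +kernel)

noncomputable def m_as22q_29 : ℕ := bits [4,16,38,52,55,3274]

theorem fx_as22q_30 {G : Type u} [Group G] (F : FM P22q G) : F.Fx (F.PS (Subgroup.normalizer (F.S m1_22q)) []) m_as22q_29 :=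
  (FM.Fx.lor (fx_as22q_26 F) (FM.Fx.one (i_as22q_28 F) (by decide +kernel))).le (by decide +kernel)

noncomputable def m_as22q_31 : ℕ := bits [3322]

theorem i_as22q_32 {G : Type u} [Group G] (F : FM P22q G) : F.Inv (F.PS (Subgroup.normalizer (F.S m1_22q)) []) m_as22q_31 :=
  (FM.Fx.pat (fx_as22q_30 F) (i_as22q F) [(2,[11]),(11,[12,10])] [] (by decide +kernel)).eq (by decide +kernel)

noncomputable def m_as22q_33 : ℕ := bits [4,16,38,52,55,3274,3322]

theorem fx_as22q_34 {G : Type u} [Group G] (F : FM P22q G) : F.Fx (F.PS (Subgroup.normalizer (F.S m1_22q)) []) m_as22q_33 :=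
  (FM.Fx.lor (fx_as22q_30 F) (FM.Fx.one (i_as22q_32 F) (by decide +kernel))).le (by decide +kernel)

noncomputable def m_as22q_35 : ℕ := bits [2930]

theorem i_as22q_36 {G : Type u} [Group G] (F : FM P22q G) : F.Inv (F.PS (Subgroup.normalizer (F.S m1_22q)) []) m_as22q_35 :=
  (FM.Fx.pat (fx_as22q_34 F) (i_as22q F) [(2,[11]),(1,[2])] [(11,[12,10])] (by decide +kernel)).eq (by decide +kernel)

noncomputable def m_as22q_37 : ℕ := bits [4,16,38,52,55,2930,3274,3322]

theorem fx_as22q_38 {G : Type u} [Group G] (F : FM P22q G) : F.Fx (F.PS (Subgroup.normalizer (F.S m1_22q)) []) m_as22q_37 :=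
  (FM.Fx.lor (fx_as22q_34 F) (FM.Fx.one (i_as22q_36 F) (by decide +kernel))).le (by decide +kernel)

noncomputable def m_as22q_39 : ℕ := bits [0,1,4,5,6,16,28,38,52,55,70,92,486,2930,3274,3322]

theorem fx_as22q_40 {G : Type u} [Group G] (F : FM P22q G) : F.Fx (F.PS (Subgroup.normalizer (F.S m1_22q)) []) m_as22q_39 :=
  ((fx_as22q_38 F).orb [(3,[]),(1,[2]),(1,[9]),(4,[11]),(2,[11]),(6,[11])] (by decide +kernel) 4).le (by decide +kernel)

theorem bot_as22q_41 {G : Type u} [Group G] (F : FM P22q G) : (F.PS (Subgroup.normalizer (F.S m1_22q)) []) = ⊥ :=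
  (fx_as22q_40 F).bot (by decide +kernel)

theorem st1_22q {G : Type u} [Group G] (F : FM P22q G) : (Subgroup.normalizer (F.S m1_22q)) = ⊥ :=
  FM.PS_nil.symm.trans (bot_as22q_41 F)

noncomputable def eq_22q (v w : List ℕ) : Bool := Nat.beq (wapp P22q.Ns v m1_22q) (wapp P22q.Ns w m1_22q)

theorem he_22q {G : Type u} [Group G] (F : FM P22q G) : ∀ v w, eq_22q v w = true → wev F.gs v = wev F.gs w :=
  F.eq1 (st1_22q F)

def W_s22 : List (List ℕ) := [[13],[14],[15],[16],[17],[18],[19],[20],[21],[22],[23],[24],[25],[26],[27],[28],[29]]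
def T_s22 : List (List (List ℕ)) := [[[5,8,10,13]],[[5,8,10,11],[13]],[[3,6,9,11,13,14,15],[4,5,6,8,9,11,14,16],[3,5,6,8,9,10,11,14]],[[9,10,12,15,16],[5,6,10,11,12,14,16],[6,9,10,11,13,14,15],[6,11,12,13,14]],[[5,6,9,11,16],[16],[5,9,15],[6,11,12,13,14,15,16],[15]],[[11],[],[6,14,15],[15,16],[16],[]],[[12,16],[13,14,16],[13,14],[14,15],[14,15,16],[16],[16]],[[8,11,13],[8],[8],[9,11,13,14,15,16],[9,11,13,14,15,16],[11],[12,13],[]],[[11,13],[],[9,12,16],[10,11,12,13,15,16],[10,13,16],[13],[14],[],[]],[[10,11,12,14,15,16],[10,16],[10,11,12],[12,13,14,16],[14,16],[14,16],[15,16],[],[],[]],[[13],[],[13],[15,16],[],[],[],[],[],[],[]],[[13],[13],[12,14,16],[14,16],[14,16],[],[16],[],[],[],[],[]],[[14,16],[14],[14,15,16],[15,16],[15],[16],[],[],[],[],[],[],[]],[[],[],[15,16],[16],[],[],[],[],[],[],[],[],[],[]],[[16],[],[15,16],[16],[],[],[],[],[],[],[],[],[],[],[]],[[16],[],[16],[],[],[],[],[],[],[],[],[],[],[],[],[]],[[],[],[],[],[],[],[],[],[],[],[],[],[],[],[],[],[]]]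
theorem pc_s22 : pcOK (eqW eq_22q W_s22) 0 17 2 T_s22 = true := by decide +kernel

noncomputable def o_s22_0 : ℕ := (nat_lit 0x38f8face44e3ca400a7a4087801e2000001320000000814802a2de000432000000000400000000000000002000926a1b3a0000010400000000010000700000000000000000000000001a9d10e9000000103000000000000130001e00000000000044010002000000103a418200000031b8000010000008000d8001a000000085800360080040080018100600000377e0000000c0000030000680008000000060d801c8080120b00180080003ffc000000002800080010020040000000007c0501080224f00200000fdc0000000000200800400212000000000280010884ab8000003a00000a00000080000211022a00404000002251540000400c004845a500042200002250542210000000a880000010a002f008c2b1b98002250000001508510000040000002924800000f60085525cc0002a000010064000000000048840000000c1d00048872000100000200000000201100c20000001c08002222000000000002c1000058cc860000008000163000000004c46081cea62000000081cc000000c850c4706400000311000050410202000010000100400000020000240000240009000048010000220000803000303000c20100001e)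

theorem mvw_s22_0 : P22q.mvOK [] (0,[1]) (mapL (sbW W_s22) [[0],[1],[2],[3],[4],[5],[6],[7],[8],[9],[10],[11],[12],[13],[14],[15],[16]]) 1 o_s22_0 = true := by decide +kernel
theorem szw_s22_0 : P22q.szOK (0,[1]) o_s22_0 512 = true := by decide +kernel

noncomputable def o_s22_1 : ℕ := bits [5,8,9,13,14,15,22,23,25,35,37,55,131,135,159,165,166,170,199,200,201,207,208,249,250,251,252,253,259,314,315,316,317,318,323,399,400,401,411,508,776,877,955,1000,1064,1118,1123,1170,1177,1181,1269,1319,1345,1353,1359,1362,1514,1521,1532,1541,1673,1702,1720,1905]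

theorem mvw_s22_1 : P22q.mvOK [(0,[1])] (0,[1,2,3]) (mapL (sbW W_s22) [[0,5,7,8,10,11],[0,1,5,8,10],[5,10,11,13],[8,13],[11,13],[13]]) 1 o_s22_1 = true := by decide +kernel
theorem szw_s22_1 : P22q.szOK (0,[1,2,3]) o_s22_1 64 = true := by decide +kernel

noncomputable def o_s22_2 : ℕ := bits [13,22,165,200]

theorem mvw_s22_2 : P22q.mvOK [(0,[1,2,3]),(0,[1])] (0,[11,6,7,12]) (mapL (sbW W_s22) [[7],[10]]) 1 o_s22_2 = true := by decide +kernel
theorem szw_s22_2 : P22q.szOK (0,[11,6,7,12]) o_s22_2 4 = true := by decide +kernel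

theorem pcs_s22 {G : Type u} [Group G] (F : FM P22q G) : PCs (F.zW W_s22) 0 17 2 :=
  ⟨pc0_of (FM.heW (he_22q F)) (by decide) pc_s22, F.fin, (by have h := (((Nat.mul_le_mul_left 512 (((Nat.mul_le_mul_left 64 (((Nat.mul_le_mul_left 4 ((have := F.fin; Nat.card_pos) : 1 ≤ _)).trans (FM.pst_ge mvw_s22_2 (FM.inWL (by decide +kernel)) szw_s22_2)) : 4 ≤ _)).trans (FM.pst_ge mvw_s22_1 (FM.inWL (by decide +kernel)) szw_s22_1)) : 256 ≤ _)).trans (FM.pst_ge mvw_s22_0 (FM.inWL (by decide +kernel)) szw_s22_0)) : 131072 ≤ Nat.card (F.PS (NN (F.zW W_s22) 17 0) [])); rw [FM.PS_nil] at h; exact h), by decide⟩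

end H7.T
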