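import Cfsg.Agent.H7.T.Q22_3
import Cfsg.Agent.H7.T.Q22_4
import Cfsg.Agent.H7.T.Q22_5
import Cfsg.Agent.H7.T.Q22_6
import Cfsg.Agent.H7.T.Q22_7
import Cfsg.Agent.H7.T.Q22_8
import Cfsg.Agent.H7.T.Q22_9
import Cfsg.Agent.H7.T.Q22_10
import Cfsg.Agent.H7.T.Q22_11
set_option Elab.async false
set_option maxRecDepth 100000
set_option maxHeartbeats 0
namespace H7.T
universe u v

theorem jc_s22_0 : cjT (eqW eq_22q W_s22) 2 10 7 10 1023 (JT_s22.get 0) [0] 0 (2 ^ 10) = true := (by norm_num : 1024 = 2 ^ 10) ▸ ((cjT_add jc_s22_0_0 jc_s22_0_1) : cjT (eqW eq_22q W_s22) 2 10 7 10 1023 (JT_s22.get 0) [0] 0 1024 = true)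

theorem jc_s22_1 : cjT (eqW eq_22q W_s22) 2 10 7 10 1023 (JT_s22.get 1) [1] 0 (2 ^ 10) = true := (by norm_num : 1024 = 2 ^ 10) ▸ ((cjT_add jc_s22_1_0 jc_s22_1_1) : cjT (eqW eq_22q W_s22) 2 10 7 10 1023 (JT_s22.get 1) [1] 0 1024 = true)

theorem jc_s22_2 : cjT (eqW eq_22q W_s22) 2 10 7 10 1023 (JT_s22.get 2) [2] 0 (2 ^ 10) = true := (by norm_num : 1024 = 2 ^ 10) ▸ ((cjT_add jc_s22_2_0 jc_s22_2_1) : cjT (eqW eq_22q W_s22) 2 10 7 10 1023 (JT_s22.get 2) [2] 0 1024 = true)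

theorem jc_s22_3 : cjT (eqW eq_22q W_s22) 2 10 7 10 1023 (JT_s22.get 3) [3] 0 (2 ^ 10) = true := (by norm_num : 1024 = 2 ^ 10) ▸ ((cjT_add jc_s22_3_0 jc_s22_3_1) : cjT (eqW eq_22q W_s22) 2 10 7 10 1023 (JT_s22.get 3) [3] 0 1024 = true)

theorem jc_s22_4 : cjT (eqW eq_22q W_s22) 2 10 7 10 1023 (JT_s22.get 4) [4] 0 (2 ^ 10) = true := (by norm_num : 1024 = 2 ^ 10) ▸ ((cjT_add jc_s22_4_0 jc_s22_4_1) : cjT (eqW eq_22q W_s22) 2 10 7 10 1023 (JT_s22.get 4) [4] 0 1024 = true)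

theorem jc_s22_5 : cjT (eqW eq_22q W_s22) 2 10 7 10 1023 (JT_s22.get 5) [5] 0 (2 ^ 10) = true := (by norm_num : 1024 = 2 ^ 10) ▸ ((cjT_add jc_s22_5_0 jc_s22_5_1) : cjT (eqW eq_22q W_s22) 2 10 7 10 1023 (JT_s22.get 5) [5] 0 1024 = true)

theorem jc_s22_6 : cjT (eqW eq_22q W_s22) 2 10 7 10 1023 (JT_s22.get 6) [6] 0 (2 ^ 10) = true := (by norm_num : 1024 = 2 ^ 10) ▸ ((cjT_add jc_s22_6_0 jc_s22_6_1) : cjT (eqW eq_22q W_s22) 2 10 7 10 1023 (JT_s22.get 6) [6] 0 1024 = true)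

theorem jb_s22 : jtab 2 7 10 10 1023 JT_s22 JK_s22 JC_s22 [573] 0 (2 ^ 7) = true := (by norm_num : 128 = 2 ^ 7) ▸ ((jtab_add (jtab_add (jtab_add (jtab_add jb_s22_0 jb_s22_1) jb_s22_2) jb_s22_3) jb_s22_4) : jtab 2 7 10 10 1023 JT_s22 JK_s22 JC_s22 [573] 0 128 = true)

theorem ea_s22 {G : Type u} [Group G] (F : FM P22q G) : Cfsg.IsElementaryAbelian 2 (NN (F.zW W_s22) 17 7) :=
  pc_elab (FM.heW (he_22q F)) pc_s22 (by decide) (by decide +kernel)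

theorem jm_s22 {G : Type u} [Group G] (F : FM P22q G) : ∀ B ≤ (NN (F.zW W_s22) 17 0), Cfsg.IsElementaryAbelian 2 B → Nat.card (NN (F.zW W_s22) 17 7) ≤ Nat.card B → B ≤ (NN (F.zW W_s22) 17 7) :=
  fun _ l e c => PCs.jmax (q := 7) (r := 10) (kp := 7) (k := 10) (m := 1023) (T := JT_s22) (pcs_s22 F) (by norm_num) (ea_s22 F) (fun i hi => by
      interval_cases i
      exacts [mul_one (F.zW W_s22 0) ▸ cjT_spec (FM.heW (he_22q F)) jc_s22_0, mul_one (F.zW W_s22 1) ▸ cjT_spec (FM.heW (he_22q F)) jc_s22_1, mul_one (F.zW W_s22 2) ▸ cjT_spec (FM.heW (he_22q F)) jc_s22_2, mul_one (F.zW W_s22 3) ▸ cjT_spec (FM.heW (he_22q F)) jc_s22_3, mul_one (F.zW W_s22 4) ▸ cjT_spec (FM.heW (he_22q F)) jc_s22_4, mul_one (F.zW W_s22 5) ▸ cjT_spec (FM.heW (he_22q F)) jc_s22_5, mul_one (F.zW W_s22 6) ▸ cjT_spec (FM.heW (he_22q F)) jc_s22_6])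
    jb_s22 (by rw [jk_s22]; decide +kernel) l e (((pcs_s22 F).card (by decide) (by decide)).ge.trans c)

theorem jj_s22 {G : Type u} [Group G] (F : FM P22q G) : Cfsg.thompsonSubgroupOf 2 (NN (F.zW W_s22) 17 0) = (NN (F.zW W_s22) 17 7) :=
  have := F.fin; thompson_eq (NN_mono (by decide)) (ea_s22 F) (jm_s22 F)

noncomputable def B22q : List Pc := [(0,[]),(2,[]),(4,[]),(7,[]),(9,[]),(6,[]),(10,[]),(2,[11,4,12]),(0,[1,2,9,1]),(0,[1,9,10,1]),(0,[12,3,6,11]),(1,[11,3,6,12]),(0,[1,2,10,1]),(0,[11,1,3,12]),(1,[9,8,12,5]),(7,[8,9,10,8]),(5,[12,8,10,12]),(0,[12,3,4,11,1]),(0,[11,6,9,11,3]),(0,[12,10,1,8,11]),(0,[1,11,12,2,3]),(0,[1,11,12,7,3])]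

theorem bi_s22 {G : Type u} [Group G] (F : FM P22q G) : F.Inv (NN (F.zW W_s22) 17 0) (P22q.bm B22q) :=
  FM.Inv.nn (by decide +kernel)

theorem ba_s22 {G : Type u} [Group G] (F : FM P22q G) : (Subgroup.closure (F.S (P22q.bm B22q))) ≤ (NN (F.zW W_s22) 17 7) :=
  FM.cl_le (qs := B22q) 0 (by decide +kernel) (List.forall_mem_cons.2 ⟨(FM.inNW_spec (he_22q F) (v := [0]) (u := [13,14,15,16]) (by decide +kernel)), (List.forall_mem_cons.2 ⟨(FM.inNW_spec (he_22q F) (v := [2]) (u := [13,14,15]) (by decide +kernel)), (List.forall_mem_cons.2 ⟨(FM.inNW_spec (he_22q F) (v := [4]) (u := [10,13]) (by decide +kernel)), (List.forall_mem_cons.2 ⟨(FM.inNW_spec (he_22q F) (v := [7]) (u := [7,8,11,13]) (by decide +kernel)), (List.forall_mem_cons.2 ⟨(FM.inNW_spec (he_22q F) (v := [9]) (u := [7,9,11,12,14,16]) (by decide +kernel)), (List.forall_mem_cons.2 ⟨(FM.inNW_spec (he_22q F) (v := [6])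 (u := [10]) (by decide +kernel)), (List.forall_mem_cons.2 ⟨(FM.inNW_spec (he_22q F) (v := [10]) (u := [7,8,12,13,14]) (by decide +kernel)), (List.forall_mem_cons.2 ⟨(FM.inNW_spec (he_22q F) (v := [12,4,11,2,11,4,12]) (u := [7,9,11,13,14,15,16]) (by decide +kernel)), (List.forall_mem_cons.2 ⟨(FM.inNW_spec (he_22q F) (v := [1,9,2,1,0,1,2,9,1]) (u := [7,8,9,10,12,14]) (by decide +kernel)), (List.forall_mem_cons.2 ⟨(FM.inNW_spec (he_22q F) (v := [1,10,9,1,0,1,9,10,1]) (u := [7,8,9,10,11,14,15]) (by decide +kernel)), (List.forall_mem_cons.2 ⟨(FM.inNW_spec (he_22q F) (v := [11,6,3,12,0,12,3,6,11]) (u := [7,8]) (by decide +kernel)), (List.forall_mem_cons.2 ⟨(FM.inNW_spec (he_22q F) (v := [12,6,3,11,1,11,3,6,12]) (u := [7,11]) (by decide +kernel)), (List.forall_mem_cons.2 ⟨(FM.inNW_spec (he_22q F) (v := [1,10,2,1,0,1,2,10,1]) (u := [7,8,11,12,14,16]) (by decide +kernel)),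 (List.forall_mem_cons.2 ⟨(FM.inNW_spec (he_22q F) (v := [12,3,1,11,0,11,1,3,12]) (u := [7]) (by decide +kernel)), (List.forall_mem_cons.2 ⟨(FM.inNW_spec (he_22q F) (v := [5,12,8,9,1,9,8,12,5]) (u := [7,12,13]) (by decide +kernel)), (List.forall_mem_cons.2 ⟨(FM.inNW_spec (he_22q F) (v := [8,10,9,8,7,8,9,10,8]) (u := [7,9,13,15]) (by decide +kernel)), (List.forall_mem_cons.2 ⟨(FM.inNW_spec (he_22q F) (v := [12,10,8,12,5,12,8,10,12]) (u := [10,13,15]) (by decide +kernel)), (List.forall_mem_cons.2 ⟨(FM.inNW_spec (he_22q F) (v := [1,11,4,3,12,0,12,3,4,11,1]) (u := [7,8,9,10,11,12,13]) (by decide +kernel)), (List.forall_mem_cons.2 ⟨(FM.inNW_spec (he_22q F) (v := [3,11,9,6,11,0,11,6,9,11,3]) (u := [7,8,9,10,13,15,16]) (by decide +kernel)), (List.forall_mem_cons.2 ⟨(FM.inNW_spec (he_22q F) (v := [11,8,1,10,12,0,12,10,1,8,11]) (u := [7,9,12,16]) (by decide +kernel)), (List.forall_mem_cons.2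 ⟨(FM.inNW_spec (he_22q F) (v := [3,2,12,11,1,0,1,11,12,2,3]) (u := [7,11,12,13,16]) (by decide +kernel)), (List.forall_mem_cons.2 ⟨(FM.inNW_spec (he_22q F) (v := [3,7,12,11,1,0,1,11,12,7,3]) (u := [10,15,16]) (by decide +kernel)), (List.forall_mem_nil _)⟩)⟩)⟩)⟩)⟩)⟩)⟩)⟩)⟩)⟩)⟩)⟩)⟩)⟩)⟩)⟩)⟩)⟩)⟩)⟩)⟩)⟩)

theorem ab_s22_7 {G : Type u} [Group G] (F : FM P22q G) : F.ev [20] ∈ (Subgroup.closure (F.S (P22q.bm B22q))) :=
  (show F.ev _ = F.ev _ from he_22q F [20] (tws [(0,[11,1,3,12])]) (by decide +kernel)).symm ▸ FM.tws_mem (by decide +kernel)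

theorem ab_s22_8 {G : Type u} [Group G] (F : FM P22q G) : F.ev [21] ∈ (Subgroup.closure (F.S (P22q.bm B22q))) :=
  (show F.ev _ = F.ev _ from he_22q F [21] (tws [(0,[12,3,6,11]),(0,[11,1,3,12])]) (by decide +kernel)).symm ▸ FM.tws_mem (by decide +kernel)

theorem ab_s22_9 {G : Type u} [Group G] (F : FM P22q G) : F.ev [22] ∈ (Subgroup.closure (F.S (P22q.bm B22q))) :=
  (show F.ev _ = F.ev _ from he_22q F [22] (tws [(0,[]),(2,[11,4,12]),(1,[11,3,6,12])]) (by decide +kernel)).symm ▸ FM.tws_mem (by decide +kernel)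

theorem ab_s22_10 {G : Type u} [Group G] (F : FM P22q G) : F.ev [23] ∈ (Subgroup.closure (F.S (P22q.bm B22q))) :=
  (show F.ev _ = F.ev _ from he_22q F [23] (tws [(6,[])]) (by decide +kernel)).symm ▸ FM.tws_mem (by decide +kernel)

theorem ab_s22_11 {G : Type u} [Group G] (F : FM P22q G) : F.ev [24] ∈ (Subgroup.closure (F.S (P22q.bm B22q))) :=
  (show F.ev _ = F.ev _ from he_22q F [24] (tws [(1,[11,3,6,12]),(0,[11,1,3,12])]) (by decide +kernel)).symm ▸ FM.tws_mem (by decide +kernel)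

theorem ab_s22_12 {G : Type u} [Group G] (F : FM P22q G) : F.ev [25] ∈ (Subgroup.closure (F.S (P22q.bm B22q))) :=
  (show F.ev _ = F.ev _ from he_22q F [25] (tws [(0,[]),(0,[1,2,9,1]),(0,[11,6,9,11,3])]) (by decide +kernel)).symm ▸ FM.tws_mem (by decide +kernel)

theorem ab_s22_13 {G : Type u} [Group G] (F : FM P22q G) : F.ev [26] ∈ (Subgroup.closure (F.S (P22q.bm B22q))) :=
  (show F.ev _ = F.ev _ from he_22q F [26] (tws [(4,[]),(6,[])]) (by decide +kernel)).symm ▸ FM.tws_mem (by decide +kernel)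

theorem ab_s22_14 {G : Type u} [Group G] (F : FM P22q G) : F.ev [27] ∈ (Subgroup.closure (F.S (P22q.bm B22q))) :=
  (show F.ev _ = F.ev _ from he_22q F [27] (tws [(0,[]),(4,[]),(0,[1,11,12,7,3])]) (by decide +kernel)).symm ▸ FM.tws_mem (by decide +kernel)

theorem ab_s22_15 {G : Type u} [Group G] (F : FM P22q G) : F.ev [28] ∈ (Subgroup.closure (F.S (P22q.bm B22q))) :=
  (show F.ev _ = F.ev _ from he_22q F [28] (tws [(4,[]),(5,[12,8,10,12])]) (by decide +kernel)).symm ▸ FM.tws_mem (by decide +kernel)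

theorem ab_s22_16 {G : Type u} [Group G] (F : FM P22q G) : F.ev [29] ∈ (Subgroup.closure (F.S (P22q.bm B22q))) :=
  (show F.ev _ = F.ev _ from he_22q F [29] (tws [(0,[]),(2,[])]) (by decide +kernel)).symm ▸ FM.tws_mem (by decide +kernel)

theorem ab_s22 {G : Type u} [Group G] (F : FM P22q G) : (Subgroup.closure (F.S (P22q.bm B22q))) = (NN (F.zW W_s22) 17 7) :=
  le_antisymm (ba_s22 F) (FM.zW_le (List.forall_mem_cons.2 ⟨(ab_s22_7 F), (List.forall_mem_cons.2 ⟨(ab_s22_8 F), (List.forall_mem_cons.2 ⟨(ab_s22_9 F), (List.forall_mem_cons.2 ⟨(ab_s22_10 F), (List.forall_mem_cons.2 ⟨(ab_s22_11 F), (List.forall_mem_cons.2 ⟨(ab_s22_12 F), (List.forall_mem_cons.2 ⟨(ab_s22_13 F), (List.forall_mem_cons.2 ⟨(ab_s22_14 F), (List.forall_mem_cons.2 ⟨(ab_s22_15 F), (List.forall_mem_cons.2 ⟨(ab_s22_16 F), (List.forall_mem_nil _)⟩)⟩)⟩)⟩)⟩)⟩)⟩)⟩)⟩)⟩))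

end H7.T
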