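import Cfsg.Agent.H7.T.Q23_0
set_option Elab.async false
set_option maxRecDepth 100000
set_option maxHeartbeats 0
namespace H7.T
universe u v

noncomputable def m1_23q : ℕ := bits [990,1150,2171,6528,8002,30143,30164,30294,31006]

theorem i_as23q {G : Type u} [Group G] (F : FM P23q G) : F.Inv (F.PS (Subgroup.normalizer (F.S m1_23q)) []) m1_23q :=
  FM.Inv.st.up []

noncomputable def L_as23q_1 : List Pc := [(4,[]),(1,[2]),(8,[11]),(3,[11]),(7,[11]),(10,[11]),(10,[11,12]),(5,[11,12])]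

theorem sp_as23q_2 : P23q.spOK (P23q.f3 m1_23q) 2 L_as23q_1 = true := by decide +kernel

theorem rp_as23q_3 : P23q.repOK' m1_23q [] [(4,[11,12])] (L_as23q_1 ++ []) [] 0 = true := by decide +kernel

noncomputable def m_as23q_4 : ℕ := bits [990]

theorem i_as23q_5 {G : Type u} [Group G] (F : FM P23q G) : F.Inv (F.PS (Subgroup.normalizer (F.S m1_23q)) []) m_as23q_4 :=
  FM.Inv.reps' (i_as23q F) (r' := 0) (List.forall_mem_nil _) rp_as23q_3 (by decide +kernel) (List.forall_mem_cons.2 ⟨(FM.Sp.app (FM.sp3 (i_as23q F) (by decide +kernel) sp_as23q_2) (FM.Sp.nil _)), (List.forall_mem_nil _)⟩)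

noncomputable def m_as23q_6 : ℕ := bits [990]

theorem fx_as23q_7 {G : Type u} [Group G] (F : FM P23q G) : F.Fx (F.PS (Subgroup.normalizer (F.S m1_23q)) []) m_as23q_6 :=
  (FM.Fx.one (i_as23q_5 F) (by decide +kernel)).le (by decide +kernel)

noncomputable def m_as23q_8 : ℕ := bits [990,1150]

theorem i_as23q_9 {G : Type u} [Group G] (F : FM P23q G) : F.Inv (F.PS (Subgroup.normalizer (F.S m1_23q)) []) m_as23q_8 :=
  (FM.Fx.pat (fx_as23q_7 F) (i_as23q F) [(4,[11,12])] [] (by decide +kernel)).eq (by decide +kernel)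

noncomputable def m_as23q_10 : ℕ := bits [990]

noncomputable def m_as23q_11 : ℕ := bits [1150]

theorem i_as23q_12 {G : Type u} [Group G] (F : FM P23q G) : F.Inv (F.PS (Subgroup.normalizer (F.S m1_23q)) []) m_as23q_11 :=
  (FM.Inv.mns (i_as23q_9 F) ((fx_as23q_7 F).inv (b := m_as23q_10) (by decide +kernel))).eq (by decide +kernel)

noncomputable def m_as23q_13 : ℕ := bits [990,1150]

theorem fx_as23q_14 {G : Type u} [Group G] (F : FM P23q G) : F.Fx (F.PS (Subgroup.normalizer (F.S m1_23q)) []) m_as23q_13 :=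
  (FM.Fx.lor (fx_as23q_7 F) (FM.Fx.one (i_as23q_12 F) (by decide +kernel))).le (by decide +kernel)

noncomputable def m_as23q_15 : ℕ := bits [2171]

theorem i_as23q_16 {G : Type u} [Group G] (F : FM P23q G) : F.Inv (F.PS (Subgroup.normalizer (F.S m1_23q)) []) m_as23q_15 :=
  (FM.Fx.pat (fx_as23q_14 F) (i_as23q F) [(10,[11,12])] [(4,[11,12])] (by decide +kernel)).eq (by decide +kernel)

noncomputable def m_as23q_17 : ℕ := bits [990,1150,2171]

theorem fx_as23q_18 {G : Type u} [Group G] (F : FM P23q G) : F.Fx (F.PS (Subgroup.normalizer (F.S m1_23q)) []) m_as23q_17 :=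
  (FM.Fx.lor (fx_as23q_14 F) (FM.Fx.one (i_as23q_16 F) (by decide +kernel))).le (by decide +kernel)

noncomputable def m_as23q_19 : ℕ := bits [8002]

theorem i_as23q_20 {G : Type u} [Group G] (F : FM P23q G) : F.Inv (F.PS (Subgroup.normalizer (F.S m1_23q)) []) m_as23q_19 :=
  (FM.Fx.pat (fx_as23q_18 F) (i_as23q F) [(5,[11,12])] [(10,[11,12])] (by decide +kernel)).eq (by decide +kernel)

noncomputable def m_as23q_21 : ℕ := bits [990,1150,2171,8002]

theorem fx_as23q_22 {G : Type u} [Group G] (F : FM P23q G) : F.Fx (F.PS (Subgroup.normalizer (F.S m1_23q)) []) m_as23q_21 :=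
  (FM.Fx.lor (fx_as23q_18 F) (FM.Fx.one (i_as23q_20 F) (by decide +kernel))).le (by decide +kernel)

noncomputable def m_as23q_23 : ℕ := bits [6528]

theorem i_as23q_24 {G : Type u} [Group G] (F : FM P23q G) : F.Inv (F.PS (Subgroup.normalizer (F.S m1_23q)) []) m_as23q_23 :=
  (FM.Fx.pat (fx_as23q_22 F) (i_as23q F) [(4,[])] [(5,[11,12])] (by decide +kernel)).eq (by decide +kernel)

noncomputable def m_as23q_25 : ℕ := bits [990,1150,2171,6528,8002]

theorem fx_as23q_26 {G : Type u} [Group G] (F : FM P23q G) : F.Fx (F.PS (Subgroup.normalizer (F.S m1_23q)) []) m_as23q_25 :=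
  (FM.Fx.lor (fx_as23q_22 F) (FM.Fx.one (i_as23q_24 F) (by decide +kernel))).le (by decide +kernel)

noncomputable def m_as23q_27 : ℕ := bits [30164]

theorem i_as23q_28 {G : Type u} [Group G] (F : FM P23q G) : F.Inv (F.PS (Subgroup.normalizer (F.S m1_23q)) []) m_as23q_27 :=
  (FM.Fx.pat (fx_as23q_26 F) (i_as23q F) [] [(1,[2]),(10,[11,12])] (by decide +kernel)).eq (by decide +kernel)

noncomputable def m_as23q_29 : ℕ := bits [990,1150,2171,6528,8002,30164]

theorem fx_as23q_30 {G : Type u} [Group G] (F : FM P23q G) : F.Fx (F.PS (Subgroup.normalizer (F.S m1_23q)) []) m_as23q_29 :=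
  (FM.Fx.lor (fx_as23q_26 F) (FM.Fx.one (i_as23q_28 F) (by decide +kernel))).le (by decide +kernel)

noncomputable def m_as23q_31 : ℕ := bits [30294]

theorem i_as23q_32 {G : Type u} [Group G] (F : FM P23q G) : F.Inv (F.PS (Subgroup.normalizer (F.S m1_23q)) []) m_as23q_31 :=
  (FM.Fx.pat (fx_as23q_30 F) (i_as23q F) [(1,[2])] [(4,[]),(3,[11])] (by decide +kernel)).eq (by decide +kernel)

noncomputable def m_as23q_33 : ℕ := bits [990,1150,2171,6528,8002,30164,30294]

theorem fx_as23q_34 {G : Type u} [Group G] (F : FM P23q G) : F.Fx (F.PS (Subgroup.normalizer (F.S m1_23q)) []) m_as23q_33 :=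
  (FM.Fx.lor (fx_as23q_30 F) (FM.Fx.one (i_as23q_32 F) (by decide +kernel))).le (by decide +kernel)

noncomputable def m_as23q_35 : ℕ := bits [31006]

theorem i_as23q_36 {G : Type u} [Group G] (F : FM P23q G) : F.Inv (F.PS (Subgroup.normalizer (F.S m1_23q)) []) m_as23q_35 :=
  (FM.Fx.pat (fx_as23q_34 F) (i_as23q F) [(3,[11]),(7,[11])] [] (by decide +kernel)).eq (by decide +kernel)

noncomputable def m_as23q_37 : ℕ := bits [990,1150,2171,6528,8002,30164,30294,31006]

theorem fx_as23q_38 {G : Type u} [Group G] (F : FM P23q G) : F.Fx (F.PS (Subgroup.normalizer (F.S m1_23q)) []) m_as23q_37 :=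
  (FM.Fx.lor (fx_as23q_34 F) (FM.Fx.one (i_as23q_36 F) (by decide +kernel))).le (by decide +kernel)

noncomputable def m_as23q_39 : ℕ := bits [30143]

theorem i_as23q_40 {G : Type u} [Group G] (F : FM P23q G) : F.Inv (F.PS (Subgroup.normalizer (F.S m1_23q)) []) m_as23q_39 :=
  (FM.Fx.pat (fx_as23q_38 F) (i_as23q F) [(3,[11]),(1,[2])] [(7,[11])] (by decide +kernel)).eq (by decide +kernel)

noncomputable def m_as23q_41 : ℕ := bits [990,1150,2171,6528,8002,30143,30164,30294,31006]

theorem fx_as23q_42 {G : Type u} [Group G] (F : FM P23q G) : F.Fx (F.PS (Subgroup.normalizer (F.S m1_23q)) []) m_as23q_41 :=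
  (FM.Fx.lor (fx_as23q_38 F) (FM.Fx.one (i_as23q_40 F) (by decide +kernel))).le (by decide +kernel)

noncomputable def m_as23q_43 : ℕ := bits [0,1,2,3,4,5,6,8,517,990,1150,2171,2527,6528,8002,30143,30164,30294,31006]

theorem fx_as23q_44 {G : Type u} [Group G] (F : FM P23q G) : F.Fx (F.PS (Subgroup.normalizer (F.S m1_23q)) []) m_as23q_43 :=
  ((fx_as23q_42 F).orb [(4,[]),(1,[2]),(8,[11]),(3,[11]),(7,[11]),(10,[11])] (by decide +kernel) 4).le (by decide +kernel)

theorem bot_as23q_45 {G : Type u} [Group G] (F : FM P23q G) : (F.PS (Subgroup.normalizer (F.S m1_23q)) []) = ⊥ :=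
  (fx_as23q_44 F).bot (by decide +kernel)

theorem st1_23q {G : Type u} [Group G] (F : FM P23q G) : (Subgroup.normalizer (F.S m1_23q)) = ⊥ :=
  FM.PS_nil.symm.trans (bot_as23q_45 F)

noncomputable def eq_23q (v w : List ℕ) : Bool := Nat.beq (wapp P23q.Ns v m1_23q) (wapp P23q.Ns w m1_23q)

theorem he_23q {G : Type u} [Group G] (F : FM P23q G) : ∀ v w, eq_23q v w = true → wev F.gs v = wev F.gs w :=
  F.eq1 (st1_23q F)

def W_s23 : List (List ℕ) := [[13],[14],[15],[16],[17],[18],[19],[20],[21],[22],[23],[24],[25],[26],[27],[28],[29],[30]]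
def T_s23 : List (List (List ℕ)) := [[[5,6,9,11,12,13,16,17]],[[8,9,10,12,13,15,17],[5,8,10]],[[3,5,6,9,11,12,13,16,17],[3,4,5,6,8,9,10,12,13,17],[3,14,15,17]],[[6,13,16,17],[5,13,14],[16],[]],[[5,9,14],[5,6,9,10,12,13,14,15,16],[5,6,9,11,14,17],[6,12,14,15,16,17],[6,11,12,15,16,17]],[[10,13,14,15],[10,13],[6,10,14,15,17],[],[13,14,15,17],[]],[[12,13,14,15,16,17],[12],[12,13,15,16,17],[17],[14,16],[],[17]],[[9,12,13,14,15],[8,13,14],[],[],[9,10,12,13,17],[10],[12,13,15],[]],[[11,12,16],[10],[9,11,12,15,16],[10,13],[10,11,13,14,15],[13],[15],[],[]],[[10,12,13,15,16,17],[11,12,15,16],[10,14,15],[12,13,15,16,17],[12,13,14,16],[14,15],[16,17],[],[],[]],[[14,15,17],[13],[12,13,15,17],[],[14,15,17],[],[17],[],[],[],[]],[[13,15,16,17],[14],[13,15,16,17],[14],[14],[],[],[],[],[],[],[]],[[16],[15,17],[14,17],[17],[16,17],[17],[],[],[],[],[],[],[]],[[17],[],[14,16],[],[],[],[],[],[],[],[],[],[],[]],[[17],[],[17],[],[],[],[],[],[],[],[],[],[],[],[]],[[],[17],[16,17],[17],[17],[],[],[],[],[],[],[],[],[],[],[]],[[17],[],[17],[],[],[],[],[],[],[],[],[],[],[],[],[],[]],[[],[],[],[],[],[],[],[],[],[],[],[],[],[],[],[],[],[]]]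
theorem pc_s23 : pcOK (eqW eq_23q W_s23) 0 18 2 T_s23 = true := by decide +kernel

noncomputable def o_s23_0 : ℕ := bits [1,2,25,33,36,42,46,49,59,62,68,81,87,119,205,214,267,276,296,301,312,313,346,353,364,373,389,394,405,406,435,442,458,459,501,502,509,514,525,540,541,566,588,589,627,630,662,663,714,716,726,732,769,770,784,806,840,841,895,896,943,1003,1018,1031,1048,1080,1081,1095,1101,1104,1120,1133,1134,1182,1254,1255,1423,1424,1439,1448,1449,1497,1517,1521,1527,1529,1531,1536,1549,1553,1557,1573,1574,1707,1733,1942,1943,1944,1957,1968,1979,1980,2079,2082,2084,2092,2097,2099,2102,2106,2121,2125,2129,2134,2137,2157,2158,2335,2472,2524,2612,2623,2624,2625,2635,2646,2657,2677,2678,2710,2785,2819,2821,2826,2832,2847,2851,2857,2873,2877,2881,2886,2889,2890,2918,3321,3322,3443,3454,3465,3481,3488,3498,3533,3548,3582,3608,3687,3691,3695,3705,3739,3745,3754,3781,3812,3816,3821,3824,3832,4235,4236,4273,4418,4419,4430,4443,4468,4475,4482,4508,4565,4616,4646,4650,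4654,4756,4762,4769,4773,4778,4787,4792,4838,4938,4941,4949,5197,5270,5287,5288,5326,5340,5475,5557,5558,5571,5628,5641,5646,5670,5679,5680,5758,5856,5862,5869,5873,5878,6021,6025,6029,6034,6039,6048,6063,6067,6069,6119,6189,6271,6426,6447,6465,6470,6471,6522,6584,6604,6610,6800,6921,6922,6927,7038,7042,7044,7055,7065,7075,7081,7082,7095,7145,7286,7292,7296,7301,7306,7315,7516,7521,7525,7530,7543,7583,7596,7635,7651,7707,7724,7725,7765,7869,7910,7916,7920,7921,7935,7943,7952,7957,7958,7962,7999,8010,8014,8032,8096,8265,8278,8287,8466,8538,8585,8620,8632,8642,8652,8654,8655,8668,8669,8678,8724,8737,8902,8908,8913,8920,8933,9172,9185,9215,9225,9309,9327,9378,9402,9450,9451,9472,9473,9489,9502,9524,9525,9601,9610,9611,9643,9649,9653,9654,9657,9672,9686,9689,9719,9738,9763,9796,9802,10003,10017,10030,10044,10301,10328,10382,10394,10424,10464,10519,10538,10542,10561,10609,10610,10611,10760,10797,10801,10811,11138,11157,11392,11440,11441,11464,11465,11499,11525,11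526,11597,11603,11626,11633,11713,11732,11734,11737,11996,12013,12029,12038,12469,12479,12536,12875,12918,13616,13639,13666,13672,13701,13702,13827,13838,14177,14194,14639,14707,15877,15881,15886,15909,15988,15995,16005,16013,16370,16417,18009,18084,18086,19137,19158,19437,20255,20313,20668,20868,20885,20953,20981,20993,20994,21010,21020,21173,21234,21238,21245,21364,21498,21806,21879,21897,21913,21924,21930,21946,21989,22088,22249,22284,22290,22376,22443,22453,22465,22541,22567,22581,22600,22894,23209,23238,23296,23363,23475,23590,23605,25137,25324,25723,25932,26019,26022,26143,26219,26307,26321,26330,26450,26519,26551,26748,26785,26858,26860,26905,26918,26919,26966,27042,27087,27126,27130,27142,27240,27242,27244,27325,27546,27550,27568,27737,27938,27954,27962,27995,28043,28086,28087,28268,28311,28312,28328,29015,29016]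

theorem mvw_s23_0 : P23q.mvOK [] (9,[10]) (mapL (sbW W_s23) [[0],[1],[2],[3],[4],[5],[6],[7],[8],[9],[10],[11],[12],[13],[14],[15],[16],[17]]) 1 o_s23_0 = true := by decide +kernel
theorem szw_s23_0 : P23q.szOK (9,[10]) o_s23_0 512 = true := by decide +kernel

noncomputable def o_s23_1 : ℕ := bits [3,4,13,16,18,20,22,23,28,29,31,39,40,56,243,356,357,517,518,736,1082,1430,1498,1501,1952,1955,2052,2054,2056,2636,2638,2640]

theorem mvw_s23_1 : P23q.mvOK [(9,[10])] (5,[6,9,10]) (mapL (sbW W_s23) [[1,5,8,11,13,14],[3,5,8,13,14],[8,10,11],[13],[14]]) 1 o_s23_1 = true := by decide +kernel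
theorem szw_s23_1 : P23q.szOK (5,[6,9,10]) o_s23_1 32 = true := by decide +kernel

noncomputable def o_s23_2 : ℕ := (nat_lit 0x9be0)

theorem mvw_s23_2 : P23q.mvOK [(5,[6,9,10]),(9,[10])] (2,[12,5,6,12]) (mapL (sbW W_s23) [[5,10,11],[10,11],[10]]) 1 o_s23_2 = true := by decide +kernel
theorem szw_s23_2 : P23q.szOK (2,[12,5,6,12]) o_s23_2 8 = true := by decide +kernel

noncomputable def o_s23_3 : ℕ := (nat_lit 0x900)

theorem mvw_s23_3 : P23q.mvOK [(2,[12,5,6,12]),(5,[6,9,10]),(9,[10])] (2,[12,6,5,12,1]) (mapL (sbW W_s23) [[7]]) 1 o_s23_3 = true := by decide +kernel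
theorem szw_s23_3 : P23q.szOK (2,[12,6,5,12,1]) o_s23_3 2 = true := by decide +kernel

theorem pcs_s23 {G : Type u} [Group G] (F : FM P23q G) : PCs (F.zW W_s23) 0 18 2 :=
  ⟨pc0_of (FM.heW (he_23q F)) (by decide) pc_s23, F.fin, (by have h := (((Nat.mul_le_mul_left 512 (((Nat.mul_le_mul_left 32 (((Nat.mul_le_mul_left 8 (((Nat.mul_le_mul_left 2 ((have := F.fin; Nat.card_pos) : 1 ≤ _)).trans (FM.pst_ge mvw_s23_3 (FM.inWL (by decide +kernel)) szw_s23_3)) : 2 ≤ _)).trans (FM.pst_ge mvw_s23_2 (FM.inWL (by decide +kernel)) szw_s23_2)) : 16 ≤ _)).trans (FM.pst_ge mvw_s23_1 (FM.inWL (by decide +kernel)) szw_s23_1)) : 512 ≤ _)).trans (FM.pst_ge mvw_s23_0 (FM.inWL (by decide +kernel)) szw_s23_0)) : 262144 ≤ Nat.card (F.PS (NN (F.zW W_s23) 18 0) [])); rw [FM.PS_nil] at h; exact h), by decide⟩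

end H7.T
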