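import Cfsg.Agent.H7.T.Q23_2
set_option Elab.async false
set_option maxRecDepth 100000
set_option maxHeartbeats 0
namespace H7.T
universe u v

theorem jb_s23_0 : jtab 2 7 11 11 2047 JT_s23 JK_s23 JC_s23 [1081] 0 16 = true := by decide +kernel

theorem jb_s23_1 : jtab 2 7 11 11 2047 JT_s23 JK_s23 JC_s23 [1081] 16 16 = true := by decide +kernel

theorem jb_s23_2 : jtab 2 7 11 11 2047 JT_s23 JK_s23 JC_s23 [1081] 32 16 = true := by decide +kernel

theorem jb_s23_3 : jtab 2 7 11 11 2047 JT_s23 JK_s23 JC_s23 [1081] 48 16 = true := by decide +kernel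

theorem jb_s23_4 : jtab 2 7 11 11 2047 JT_s23 JK_s23 JC_s23 [1081] 64 16 = true := by decide +kernel

theorem jb_s23_5 : jtab 2 7 11 11 2047 JT_s23 JK_s23 JC_s23 [1081] 80 16 = true := by decide +kernel

theorem jb_s23_6 : jtab 2 7 11 11 2047 JT_s23 JK_s23 JC_s23 [1081] 96 16 = true := by decide +kernel

theorem jb_s23_7 : jtab 2 7 11 11 2047 JT_s23 JK_s23 JC_s23 [1081] 112 16 = true := by decide +kernel

end H7.T
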