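import Cfsg.Agent.H7.T.Q23_2
set_option Elab.async false
set_option maxRecDepth 100000
set_option maxHeartbeats 0
namespace H7.T
universe u v

noncomputable def Jt_s23 : JT := (.br 16 (.lf 5 4) (.br 48 (.lf 4 4) (.br 80 (.lf 4 4) (.br 112 (.lf 4 4) (.br 1 (.lf 4 4) (.br 9 (.lf 4 4) (.br 2 (.lf 3 4) (.br 19 (.lf 3 4) (.br 3 (.lf 3 4) (.br 5 (.lf 3 4) (.br 13 (.lf 3 7) (.br 21 (.lf 3 4) (.br 26 (.lf 3 4) (.br 61 (.lf 3 7) (.br 33 (.lf 3 4) (.br 41 (.lf 3 4) (.br 69 (.lf 3 4) (.br 77 (.lf 3 7) (.br 85 (.lf 3 4) (.br 125 (.lf 3 7) (.br 11 (.lf 3 4) (.br 34 (.lf 3 4) (.br 51 (.lf 3 4) (.br 27 (.lf 3 4) (.br 35 (.lf 3 4) (.br 58 (.lf 3 4) (.br 43 (.lf 3 4) (.br 65 (.lf 3 4) (.br 73 (.lf 3 4) (.br 59 (.lf 3 4) (.br 66 (.lf 3 4) (.br 83 (.lf 3 4) (.br 4 (.lf 3 4)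 (.br 7 (.lf 3 4) (.br 15 (.lf 3 4) (.br 20 (.lf 3 4) (.br 28 (.lf 3 4) (.br 29 (.lf 3 4) (.br 31 (.lf 3 4) (.br 36 (.lf 3 4) (.br 37 (.lf 3 7) (.br 45 (.lf 3 4) (.br 47 (.lf 3 4) (.br 53 (.lf 3 7) (.br 67 (.lf 3 4) (.br 75 (.lf 3 4) (.br 90 (.lf 3 4) (.br 12 (.lf 2 4) (.br 23 (.lf 2 4) (.br 39 (.lf 2 4) (.br 44 (.lf 2 4) (.br 52 (.lf 2 4) (.br 55 (.lf 2 4) (.br 60 (.lf 2 4) (.br 63 (.lf 2 4) (.br 91 (.lf 2 4) (.br 93 (.lf 2 4) (.br 97 (.lf 2 4) (.br 101 (.lf 2 7) (.br 105 (.lf 2 4) (.br 109 (.lf 2 4) (.br 117 (.lf 2 7) (.br 6 (.lf 2 2) (.br 14 (.lf 2 2) (.br 30 (.lf 2 2) (.br 38 (.lf 2 2) (.br 68 (.lf 2 4) (.br 71 (.lf 2 4) (.br 79 (.lf 2 4) (.br 84 (.lf 2 4) (.br 92 (.lf 2 4) (.br 95 (.lf 2 4) (.br 98 (.lf 2 4) (.br 100 (.lf 2 4) (.br 107 (.lf 2 4) (.br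 111 (.lf 2 4) (.br 115 (.lf 2 4) (.br 22 (.lf 2 2) (.br 46 (.lf 2 2) (.br 54 (.lf 2 2) (.br 62 (.lf 2 2) (.br 76 (.lf 2 4) (.br 87 (.lf 2 4) (.br 99 (.lf 2 4) (.br 103 (.lf 2 4) (.br 108 (.lf 2 4) (.br 116 (.lf 2 4) (.br 119 (.lf 2 4) (.br 122 (.lf 2 4) (.br 123 (.lf 2 4) (.br 124 (.lf 2 4) (.br 127 (.lf 2 4) (.br 70 (.lf 2 2) (.br 78 (.lf 2 2) (.br 94 (.lf 2 2) (.br 102 (.lf 2 2) (.br 86 (.lf 1 2) (.br 110 (.lf 1 2) (.br 118 (.lf 1 2) (.br 126 (.lf 1 2) (.br 8 (.br 17 (.lf 4 5) (.lf 3 7)) (.br 17 (.lf 3 7) (.br 25 (.lf 3 7) (.br 40 (.lf 3 7) (.br 49 (.lf 3 7) (.br 57 (.lf 3 7) (.br 72 (.lf 3 7) (.br 81 (.lf 3 7) (.br 89 (.lf 3 7) (.br 104 (.lf 2 7) (.br 113 (.lf 2 7) (.br 121 (.lf 2 7) (.br 10 (.br 18 (.lf 4 6) (.lf 3 7)) (.br 18 (.lf 3 7) (.br 24 (.lf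 3 7) (.br 32 (.lf 3 7) (.br 42 (.lf 3 7) (.br 50 (.lf 3 7) (.br 56 (.lf 3 7) (.br 64 (.lf 3 7) (.br 74 (.lf 3 7) (.br 82 (.lf 2 7) (.br 88 (.lf 2 7) (.br 96 (.lf 2 7) (.br 106 (.lf 2 7) (.br 114 (.lf 1 7) (.br 120 (.lf 1 7) .dn)))))))))))))))))))))))))))))))))))))))))))))))))))))))))))))))))))))))))))))))))))))))))))))))))))))))))))))))))))))))))))))))
theorem jk_s23 : jchk 2 11 8 JK_s23 JC_s23 Jt_s23 (ones (2 ^ 7)) (ones (2 ^ 11)) = true := by decide +kernel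

end H7.T
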