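import Cfsg.Agent.H7.T.Q23_2
set_option Elab.async false
set_option maxRecDepth 100000
set_option maxHeartbeats 0
namespace H7.T
universe u v

theorem jc_s23_2_6 : cjT (eqW eq_23q W_s23) 2 11 7 11 2047 (JT_s23.get 2) [2] 1380 230 = true := by decide +kernel

theorem jc_s23_2_7 : cjT (eqW eq_23q W_s23) 2 11 7 11 2047 (JT_s23.get 2) [2] 1610 230 = true := by decide +kernel

theorem jc_s23_2_8 : cjT (eqW eq_23q W_s23) 2 11 7 11 2047 (JT_s23.get 2) [2] 1840 208 = true := by decide +kernel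

theorem jc_s23_3_0 : cjT (eqW eq_23q W_s23) 2 11 7 11 2047 (JT_s23.get 3) [3] 0 230 = true := by decide +kernel

theorem jc_s23_3_1 : cjT (eqW eq_23q W_s23) 2 11 7 11 2047 (JT_s23.get 3) [3] 230 230 = true := by decide +kernel

theorem jc_s23_3_2 : cjT (eqW eq_23q W_s23) 2 11 7 11 2047 (JT_s23.get 3) [3] 460 230 = true := by decide +kernel

theorem jc_s23_3_3 : cjT (eqW eq_23q W_s23) 2 11 7 11 2047 (JT_s23.get 3) [3] 690 230 = true := by decide +kernel

theorem jc_s23_3_4 : cjT (eqW eq_23q W_s23) 2 11 7 11 2047 (JT_s23.get 3) [3] 920 230 = true := by decide +kernel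

end H7.T
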