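import Cfsg.Agent.H7.T.Q23_3
import Cfsg.Agent.H7.T.Q23_4
import Cfsg.Agent.H7.T.Q23_5
import Cfsg.Agent.H7.T.Q23_6
import Cfsg.Agent.H7.T.Q23_7
import Cfsg.Agent.H7.T.Q23_8
import Cfsg.Agent.H7.T.Q23_9
import Cfsg.Agent.H7.T.Q23_10
import Cfsg.Agent.H7.T.Q23_11
import Cfsg.Agent.H7.T.Q23_12
set_option Elab.async false
set_option maxRecDepth 100000
set_option maxHeartbeats 0
namespace H7.T
universe u v

theorem jc_s23_0 : cjT (eqW eq_23q W_s23) 2 11 7 11 2047 (JT_s23.get 0) [0] 0 (2 ^ 11) = true := (by norm_num : 2048 = 2 ^ 11) ▸ ((cjT_add (cjT_add (cjT_add (cjT_add (cjT_add (cjT_add (cjT_add (cjT_add jc_s23_0_0 jc_s23_0_1) jc_s23_0_2) jc_s23_0_3) jc_s23_0_4) jc_s23_0_5) jc_s23_0_6) jc_s23_0_7) jc_s23_0_8) : cjT (eqW eq_23q W_s23) 2 11 7 11 2047 (JT_s23.get 0) [0] 0 2048 = true)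

theorem jc_s23_1 : cjT (eqW eq_23q W_s23) 2 11 7 11 2047 (JT_s23.get 1) [1] 0 (2 ^ 11) = true := (by norm_num : 2048 = 2 ^ 11) ▸ ((cjT_add (cjT_add (cjT_add (cjT_add (cjT_add (cjT_add (cjT_add (cjT_add jc_s23_1_0 jc_s23_1_1) jc_s23_1_2) jc_s23_1_3) jc_s23_1_4) jc_s23_1_5) jc_s23_1_6) jc_s23_1_7) jc_s23_1_8) : cjT (eqW eq_23q W_s23) 2 11 7 11 2047 (JT_s23.get 1) [1] 0 2048 = true)

theorem jc_s23_2 : cjT (eqW eq_23q W_s23) 2 11 7 11 2047 (JT_s23.get 2) [2] 0 (2 ^ 11) = true := (by norm_num : 2048 = 2 ^ 11) ▸ ((cjT_add (cjT_add (cjT_add (cjT_add (cjT_add (cjT_add (cjT_add (cjT_add jc_s23_2_0 jc_s23_2_1) jc_s23_2_2) jc_s23_2_3) jc_s23_2_4) jc_s23_2_5) jc_s23_2_6) jc_s23_2_7) jc_s23_2_8) : cjT (eqW eq_23q W_s23) 2 11 7 11 2047 (JT_s23.get 2) [2] 0 2048 = true)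

theorem jc_s23_3 : cjT (eqW eq_23q W_s23) 2 11 7 11 2047 (JT_s23.get 3) [3] 0 (2 ^ 11) = true := (by norm_num : 2048 = 2 ^ 11) ▸ ((cjT_add (cjT_add (cjT_add (cjT_add (cjT_add (cjT_add (cjT_add (cjT_add jc_s23_3_0 jc_s23_3_1) jc_s23_3_2) jc_s23_3_3) jc_s23_3_4) jc_s23_3_5) jc_s23_3_6) jc_s23_3_7) jc_s23_3_8) : cjT (eqW eq_23q W_s23) 2 11 7 11 2047 (JT_s23.get 3) [3] 0 2048 = true)

theorem jc_s23_4 : cjT (eqW eq_23q W_s23) 2 11 7 11 2047 (JT_s23.get 4) [4] 0 (2 ^ 11) = true := (by norm_num : 2048 = 2 ^ 11) ▸ ((cjT_add (cjT_add (cjT_add (cjT_add (cjT_add (cjT_add (cjT_add (cjT_add jc_s23_4_0 jc_s23_4_1) jc_s23_4_2) jc_s23_4_3) jc_s23_4_4) jc_s23_4_5) jc_s23_4_6) jc_s23_4_7) jc_s23_4_8) : cjT (eqW eq_23q W_s23) 2 11 7 11 2047 (JT_s23.get 4) [4] 0 2048 = true)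

theorem jc_s23_5 : cjT (eqW eq_23q W_s23) 2 11 7 11 2047 (JT_s23.get 5) [5] 0 (2 ^ 11) = true := (by norm_num : 2048 = 2 ^ 11) ▸ ((cjT_add (cjT_add (cjT_add (cjT_add (cjT_add (cjT_add (cjT_add (cjT_add jc_s23_5_0 jc_s23_5_1) jc_s23_5_2) jc_s23_5_3) jc_s23_5_4) jc_s23_5_5) jc_s23_5_6) jc_s23_5_7) jc_s23_5_8) : cjT (eqW eq_23q W_s23) 2 11 7 11 2047 (JT_s23.get 5) [5] 0 2048 = true)

theorem jc_s23_6 : cjT (eqW eq_23q W_s23) 2 11 7 11 2047 (JT_s23.get 6) [6] 0 (2 ^ 11) = true := (by norm_num : 2048 = 2 ^ 11) ▸ ((cjT_add (cjT_add (cjT_add (cjT_add (cjT_add (cjT_add (cjT_add (cjT_add jc_s23_6_0 jc_s23_6_1) jc_s23_6_2) jc_s23_6_3) jc_s23_6_4) jc_s23_6_5) jc_s23_6_6) jc_s23_6_7) jc_s23_6_8) : cjT (eqW eq_23q W_s23) 2 11 7 11 2047 (JT_s23.get 6) [6] 0 2048 = true)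

theorem jb_s23 : jtab 2 7 11 11 2047 JT_s23 JK_s23 JC_s23 [1081] 0 (2 ^ 7) = true := (by norm_num : 128 = 2 ^ 7) ▸ ((jtab_add (jtab_add (jtab_add (jtab_add (jtab_add (jtab_add (jtab_add jb_s23_0 jb_s23_1) jb_s23_2) jb_s23_3) jb_s23_4) jb_s23_5) jb_s23_6) jb_s23_7) : jtab 2 7 11 11 2047 JT_s23 JK_s23 JC_s23 [1081] 0 128 = true)

theorem ea_s23 {G : Type u} [Group G] (F : FM P23q G) : Cfsg.IsElementaryAbelian 2 (NN (F.zW W_s23) 18 7) :=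
  pc_elab (FM.heW (he_23q F)) pc_s23 (by decide) (by decide +kernel)

theorem jm_s23 {G : Type u} [Group G] (F : FM P23q G) : ∀ B ≤ (NN (F.zW W_s23) 18 0), Cfsg.IsElementaryAbelian 2 B → Nat.card (NN (F.zW W_s23) 18 7) ≤ Nat.card B → B ≤ (NN (F.zW W_s23) 18 7) :=
  fun _ l e c => PCs.jmax (q := 7) (r := 11) (kp := 8) (k := 11) (m := 2047) (T := JT_s23) (pcs_s23 F) (by norm_num) (ea_s23 F) (fun i hi => by
      interval_cases i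
      exacts [mul_one (F.zW W_s23 0) ▸ cjT_spec (FM.heW (he_23q F)) jc_s23_0, mul_one (F.zW W_s23 1) ▸ cjT_spec (FM.heW (he_23q F)) jc_s23_1, mul_one (F.zW W_s23 2) ▸ cjT_spec (FM.heW (he_23q F)) jc_s23_2, mul_one (F.zW W_s23 3) ▸ cjT_spec (FM.heW (he_23q F)) jc_s23_3, mul_one (F.zW W_s23 4) ▸ cjT_spec (FM.heW (he_23q F)) jc_s23_4, mul_one (F.zW W_s23 5) ▸ cjT_spec (FM.heW (he_23q F)) jc_s23_5, mul_one (F.zW W_s23 6) ▸ cjT_spec (FM.heW (he_23q F)) jc_s23_6])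
    jb_s23 (by rw [jk_s23]; decide +kernel) l e (((pcs_s23 F).card (by decide) (by decide)).ge.trans c)

theorem jj_s23 {G : Type u} [Group G] (F : FM P23q G) : Cfsg.thompsonSubgroupOf 2 (NN (F.zW W_s23) 18 0) = (NN (F.zW W_s23) 18 7) :=
  have := F.fin; thompson_eq (NN_mono (by decide)) (ea_s23 F) (jm_s23 F)

end H7.T
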