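import Cfsg.Agent.H7.Pres
set_option Elab.async false
set_option maxRecDepth 100000
set_option maxHeartbeats 0
namespace H7.T
universe u

def R_SZ : List (List ℕ) := [[0,0],[1,1],[2,2],[3,3],[4,4],[5,5],[6,6],[0,1,0,1,0,1,0,1,0,1],[0,2,0,2],[0,3,0,3],[0,4,0,4],[0,5,0,5],[0,6,0,6],[1,2,1,2,1,2],[1,3,1,3],[1,4,1,4],[1,5,1,5,1,5],[1,6,1,6,1,6],[2,3,2,3,2,3,2,3,2,3,2,3,2,3,2,3],[2,4,2,4],[2,5,2,5],[2,6,2,6],[3,4,3,4,3,4],[3,5,3,5],[3,6,3,6],[4,5,4,5],[4,6,4,6],[5,6,5,6,5,6,5,6],[0,3,2,3,2,3,2,3,2],[0,6,5,6,5],[0,1,2,5,0,1,2,5,0,1,2,5,0,1,2,5,0,1,2,5],[1,5,6,1,5,6,1,5,6,1,5,6,1,5,6],[1,2,3,2,3,1,2,3,2,3,1,2,3,2,3,1,2,3,2,3,1,2,3,2,3,4,1,2,3,2,3,1,2,3,2,3,1,2,3,2,3,1,2,3,2,3,1,2,3,2,3,4,1,2,3,2,3,1,2,3,2,3,1,2,3,2,3,1,2,3,2,3,1,2,3,2,3,4],[0,1,2,0,1,2,0,1,2,0,1,2,0,1,2]]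
def iv_SZ : List ℕ := [0,1,2,3,4,5,6]
theorem inv_SZ : invOK R_SZ iv_SZ 7 = true := by decide +kernel

noncomputable def n_SZ_0 : Net := (Net.cons (nat_lit 1) (nat_lit 0x50150155145411504005151051104440444101505455155110015554504411415010110440411510405054400511001144540555040054055515154040511504101041115154545005054545411451110401400010455055504441454411040501004405510114055554054014544000414051415455554045414044104544155511105401504000014555001440554001101454450054545500010100154054014005440000511141004010404500410400504450401100014055155005415140410414044014154105505545040101150540400004111551410050454)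
  (Net.cons (nat_lit 2) (nat_lit 0x2002203023121121300012100220132032033320210133110223013312303011321333303313031010332010021021021233100321230122130020112212211333310201003010130320020212301120022011332313103031313222023302321230130100213322211333031003231131301322210122200312302002120101222123121321310020333313322221021313332330311121202220210232223100331101133321213100302310200133021201110213021121010021210022302020001000311323323113231302332310030121311022221033200200330)
  (Net.cons (nat_lit 4) (nat_lit 0xb07060e040909090f0b050204090c0b06070c090308030204000c0c0a060b0608070e0e0e090c0206000d050a05020c030e0f070a0e07040705080703010a000e0c0a070b0a0c0c02050f0700060a06050d070e000f09080802070e07010f0200080008010e010c0b000b0103060402060a0c010608050b0c0a02040a0d0d000a08080801070d0c0f0b04030409000101070d00080101070c0b040d010f0f060402090e010a020e0e00010c0506050b0609080a000706030a0e0c09040e090d0406060c000b0c070f07050501000503020408000a090c06030b09080500)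
  (Net.cons (nat_lit 8) (nat_lit 0xe500420081009d00da001800db00b50037003a001d00cb00f5001a00d0003e00bb00e100b1008100e4007000ec003500600089003400ee009900b600f9008a00dc003b0075002600d4008e009500780073006300d7004800e900940064005900280048008f002c00e5006f003f009300b6004c005f00ef001000b3002900410027004400dc002c004100570007009f000800190088002b005100050065005400d8000a0023000a009d00d600f400d5000200c6009a00d900c80087003400d50000007d0067000b003f00d900e9000000cc006c00220046001000a40000)
  (Net.cons (nat_lit 16) (nat_lit 0x1e0000f28200002f7a000090f500009cea000085ce0000729900003ef2000028180000367e0000bd29000090f90000c1cc0000bce50000ddbe000008c70000cb230000e524000076950000eadb000088f60000a7240000b1700000f07b00003dc200000e8f000067030000199100008e8d000072cc0000996f000045db000018520000264d0000a7710000c6b800004c920000b02200005f6c00005828000046ce0000eb6f0000176f0000270300001032000024ee0000e75200004a4d000080610000592d00008f10000067880000bb2a0000008800000aff0000b400)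
  (Net.cons (nat_lit 32) (nat_lit 0x304d95000000007d34287100000000e299c2dc000000006fdcd55600000000ffde74c200000000153dfe19000000003d9fe9b8000000005d9edab4000000002848f33400000000dff8f4b8000000002ba265f900000000c292203800000000e362548f00000000cd73569f000000006383670f00000000b38b2ec100000000de8658640000000092d87c4300000000db963de300000000e20b3b630000000060d1d74100000000404d2d8c00000000f0a247b70000000018af45cb000000007ce7746c000000002f07932100000000b72dfff6000000000abc0000)
  (Net.cons (nat_lit 64) (nat_lit 0x2a6c7455cd9fd60000000000000000a54c17a6776a05d100000000000000008d6a05bfbf11a5710000000000000000005146ff3884c9b40000000000000000f719980d33b899d30000000000000000a0c28641a65a9f6b0000000000000000ee7ad3ad1e03386200000000000000001008a8d8788760a400000000000000004027803cb133281a000000000000000059f8fdf238652b8f0000000000000000401812452021c8040000000000000000004112000105810200000000000000004816254d9c39cb3e00000000000000003400e33400000000)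
  (Net.cons (nat_lit 128) (nat_lit 0x3ae2adecba0cd57b3b4c54b8e3f65a00000000000000000000000000000000d3ae7ebbfc371cf6918acf4ed3424c8b000000000000000000000000000000003befe610f750f70bfbdf840775120a0500000000000000000000000000000000ec9143cda25b2800090090016862728500000000000000000000000000000000a61102824baa642540d88012b82579020000000000000000000000000000000072e911870395ff4f7fef7daf26ebcff700000000000000000000000000000000481200090400c3340000000000000000)
  (Net.cons (nat_lit 256) (nat_lit 0xcc3d3bdcff48e773df7cf0a3743eb391cf6d2deadf364f3f1fdcebff9adc9d9e0000000000000000000000000000000000000000000000000000000000000000e58dfbd5d2d36738b573bffd78b56d2e37fa7f9d62a7b9f3f78afc98ec1a5ae50000000000000000000000000000000000000000000000000000000000000000322900ae230d344058a80d8aa002d20508010040010004000000000200000000)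
  (Net.cons (nat_lit 512) (nat_lit 0x24eee8d0fb93da960dd159e9b2ba7aed833574274d77b4c20037aae3122b0500000000000000000000000000000000000000000000000000000000000000000000000000000000000000000000000000000000000000000000000000000000943e2d2bb8ee0bb788eed018ca5eb39b5be939e4efd164a648dd8e8fb263e70d2040002800080000000000008000100008010040010004000000000200000000)
  (Net.cons (nat_lit 1024) (nat_lit 0x4ec0090921018800180104900080000001004200920804000140020022201103a052b286c0b8708ae4008825a929148010060cfd04424085582079261a5082040000000000000000000000000000000000000000000000000000000000000)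
  (Net.cons (nat_lit 512) (nat_lit 0x4ec009092101880018010490008000000100420092080400014002002220100000000000000000000000000000000000000000000000000000000000000000000000000000000000000000000000000000000000000000000000000000000103a052b286c0b8708ae4008825a929148010060cfd04424085582079261a5082040000000000000000000000000000000000000000000000000000000000000)
  (Net.cons (nat_lit 256) (nat_lit 0x3ca9c968c98b1a8c2e1109207a9af16c0324704f8456348a55a3a6d3038d0d00000000000000000000000000000000000000000000000000000000000000008424280090c20332804890104804210a13e83984200120a240880c88a002420500000000000000000000000000000000000000000000000000000000000000000000002800080000000000008000100008010040010004000000000200000000)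
  (Net.cons (nat_lit 128) (nat_lit 0x6a8452d80d6100c514aa282227a00000000000000000000000000000000330eadab04a4159fc29948409608195200000000000000000000000000000000cdcc1d0105423702407a000f33511c00000000000000000000000000000000000d9001c800ca7040001140052821708400000000000000000000000000000000c20111801188202040c09012a804710200000000000000000000000000000000322900860305344058a80d8a2002c2050000000000000000000000000000000000000000000000000000000000000000)
  (Net.cons (nat_lit 64) (nat_lit 0x29fc7015c40b150000000000000000760e5231206b9490000000000000000028c487bc9a8466a000000000000000006273857e5a9500f4000000000000000035258d1960bbd8820000000000000000e1ed1745a64897290000000000000000a90103a84a10746800000000000000005191b0dc382538a50000000000000000011d1130a102681000000000000000005920add2688462840000000000000000404000002029c00b0000000000000000000100040105c0440000000000000000481200090400c33400000000000000000000000000000000)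
  (Net.cons (nat_lit 32) (nat_lit 0x2198950000000062327e7300000000f38d06cf0000000037d981470000000000cbae730000000019d8ea0f000000001d15a9a2000000002c9e98b600000000326cf42100000000d87da889000000002c2379fb00000000c20330a200000000a1600485000000008577028b000000001003560500000000e30a3ac100000000be12286c00000000909a784300000000da0f2ca600000000a28b3863000000002051164c0000000040042d8800000000302006820000000019a70dce0000000028342448000000002c028225000000003400e3340000000000000000)
  (Net.cons (nat_lit 16) (nat_lit 0x130000e00300000d69000053f400003ce10000d6ce0000718900007cd30000caab0000b4ed0000ee2c000091780000d21f0000bce600008e8c000053d20000981600009421000036a000002858000048e10000deac000090f50000e2ca000079c100005c970000260c00004d840000b70c000002dd00005a4a000005db000078530000525e0000f3730000c6b0000019910000813300001f69000018280000228c0000ab65000012660000624600005033000078e600002a0b00000600000010210000012100008a110000420c00009f2e0000040400000abc00000000)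
  (Net.cons (nat_lit 8) (nat_lit 0xc500420091001f00c8001b00f3009500110038000d00d900e500290050000e009900f300a3009100dc006a00ed0027004200b8003600ee008300a400e9008a00ce003b0065005000c4008e0097005a0073003f004700e800e900860066004b0028004a0095002c00e7006f002f008300b0004d004d00ef001200b3000900c100270056004c0024004100570007009f00190009008c002b005100040065005400c800030029000a00d400c200b000d10002008e009200d0008000ca0079008400410024006a0007003a00c800010004004800a800260003000400b00000)
  (Net.cons (nat_lit 4) (nat_lit 0xb07060e0509090b0f0905020609060906070e09030a030205000d0e08060b0408070e0c0e090c060c000f070c04000c030f0c040a0e07040b07080703010c020e080f07090a090808050f0700060a06050d0302080f0b0b0a03070e07000d0300080008010e010c0b000b01010608000e080c000000050b0c0a02040a0103000a09000801070c0c0f0b04030409000101060900080001070c0b040d010f0f060402080e010a020e0e00010c0506050b0609080a000306030a0e0c09040e090d0406060c000b0c070f070505010005030a0400000a010406030b090d0000)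
  (Net.cons (nat_lit 2) (nat_lit 0x2000223023101121300032100220132010033300210133110223013312303011321333303313031010332012021021021233100322232122130020112212211333310201003010130320020212301120022011332303101011313222023302321230132100032322211313001003331131301332210122200312302002120101220123121321310020313131322221201313232310301121200220210232223100331101131101213100302310200133021001110213021121010021210022302000001000311322223111231100222310030121111022320022301311000)
  (Net.cons (nat_lit 1) (nat_lit 0x50150155141411500005151051104401044101505455155110015554504411415010110440411510405454500511001144540550040054041515154040500504001041115154545005054545411451110401400011455115504401454411040501004401500114055544004014544000414051415455554045404044104544154511105401504000014555001440554001101454450054545500010000144054014005440000511140004010404500400400504450401100014055055005415140410414040014154105105545040001150540400004111551410050400)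
  Net.nil)))))))))))))))))))))

noncomputable def n_SZ_1 : Net := (Net.cons (nat_lit 1) (nat_lit 0x4010410050050400510510505541505000004105101141451444454154550410544040550015004555000144140415011501105054410551504411005101110145515050144055140544151045415151440040450104111140140045050501450114110044541444500550401444411444100400511451510455541054445544000155501040514145555051105014011105450040504051400554510040041114545541501045410015405110101000045100415550450550554055414051454414055445551510044000110541004540140504010115414140140050004)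
  (Net.cons (nat_lit 2) (nat_lit 0x1330112213122123232100300101033300233321221131311202103333022012001123001000031013303030021221133323201220302233232133302130223302310322312113013131322102120010303330310000103230322322110210100311132233101120333300200200323213321000020300322010232113010221022210131202112000120131200021312101220120032113103103003212301232123021012010213033210232012001302212002210223123110031233121200321023230022321000031322033002322200203023012222103012012002)
  (Net.cons (nat_lit 4) (nat_lit 0x20f010a010102040d050c0a0b02080c030c0b0d0b02000b0e060d0d040e0001060105080c06020b010e09020a070903090f07080900080b0d0c0d000f0f0b0000000d020107030c0e030f080205050b010209050207040c0f06060b010706070806060a07090f0f03070a090d0e010e0e050b0707090b0d050401090300020b0e0c04000c0c07090a070800060909060904000d0700090f050508000b0200010a0b0d060601090601050d000708020f0e0e00010a0005010d01050d06010b0106080106080c0e070e0b0b0e0709090906060f080b000b0a07060801080a04)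
  (Net.cons (nat_lit 8) (nat_lit 0xe300b500e3008e003f006500b0006c001f00f400b5004d0031001200e9002d000c003c004c008100ed0003006a008d007c00b60015003700f1003900090045006c0020000f00ba008200a5006a00ea0062006500b700a4004c000500120026007400730018003b00c8000a00130043006000b80090001d005f00e7007c001d00e7009700ed0086005000a800e500b1001800750035003900760036003a006f0047001d009f0065006b00e1008700d40097005300ef0014004a00a8003a00fa00a4001a0019003200b700020034005200f8003700fa0045000c00970080)
  (Net.cons (nat_lit 16) (nat_lit 0x60000aa020000216f00009a310000b2980000fa7a0000e00900006cd40000903c00000d2a0000f3a30000569d000034ed0000fb8100000944000023c40000f1f500004a630000c6da000079b20000811c0000cabb00001896000014440000f2940000f4c100002ac20000744f0000ae5f00000d8e000051b8000018ce0000495f00003be4000024080000ca9a0000dc02000019cd0000fb2b00009e9700009042000013d0000075d70000196c00008600000038f80000597000000056000089bc0000cb9100006ae000006ef7000038620000188f00000c9f00003e00)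
  (Net.cons (nat_lit 32) (nat_lit 0x3bd17700000000f2fd93f1000000009a37d6cd000000005ce81917000000002ae33be200000000f8fefa6700000000aaf88fca00000000f029ee0e000000002c01a3290000000012a7c7f50000000096bd1ad600000000286da656000000002c29f9f2000000003d2f7ddb000000003dd24b9f0000000010ee4c1700000000753dc3fa00000000259a854300000000907250c00000000032e2c1ae00000000e395001f000000009c74146600000000f2e83ccb00000000bdfef06200000000b82872fd0000000023601e7d0000000081cbf3db00000000427e0000)
  (Net.cons (nat_lit 64) (nat_lit 0xa9d8f93d1752f00000000000000003525674123cf15fa0000000000000000769e2c17e2f2fe8b0000000000000000653bd7ada0f24c6c0000000000000000c866292adee1cc1c0000000000000000b235fe26a258434e0000000000000000597208b89fd0a72d0000000000000000c9926342c7acf54d000000000000000086424d4e71e1157c0000000000000000ef80af877f7f323b00000000000000000e4f45c93c60f28c00000000000000000f5704a1f4413a740000000000000000e7f6dffffeffffdf0000000000000000b100721802400000)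
  (Net.cons (nat_lit 128) (nat_lit 0x2ee67e6e747c2acefb76acde05406c0000000000000000000000000000000021b581ade4cb3e1a8e961debdbe692750000000000000000000000000000000072879563955a6f42e495a121dcbfbef3000000000000000000000000000000009280a1c402b903caa35e4e81be4d460800000000000000000000000000000000900e720884a4d000a44c4afc96702604000000000000000000000000000000003dcf7ef33ff577e67ffce4fbf5f3ff7f000000000000000000000000000000000e740ca7e59352180000000000000000)
  (Net.cons (nat_lit 256) (nat_lit 0xdf7effac78b0cd7fb52becf5a63b0148efef74fbfd8dde9d79ab5f6a71fbb1e40000000000000000000000000000000000000000000000000000000000000000d7fa6ffffbd9ccffd6db3e975d6c6d9374fef957eaf228facf7effebb2d5eebb0000000000000000000000000000000000000000000000000000000000000000100be000002000647f5ca4e3e781561a89010000100900052001000044001040)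
  (Net.cons (nat_lit 512) (nat_lit 0x37f3baebe337be61f85f4c9eef7cadffcbd907937b7337a55da8a7cde4dfdb0000000000000000000000000000000000000000000000000000000000000000000000000000000000000000000000000000000000000000000000000000000062b599dd468a999b83274e26d355b23c9b87f7a4b97df667765fa49be56a565e0000800000000000010000000201000089010000100900052001000044001040)
  (Net.cons (nat_lit 1024) (nat_lit 0x31011a81c2229840900b0018c43ca11002c904027000220458a0858000421a208590810402110303264422c311923c8b0516a0910dd60530010018456a10440000000000000000000000000000000000000000000000000000000000000000)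
  (Net.cons (nat_lit 512) (nat_lit 0x31011a81c2229840900b0018c43ca11002c904027000220458a0858000421a00000000000000000000000000000000000000000000000000000000000000000000000000000000000000000000000000000000000000000000000000000000208590810402110303264422c311923c8b0516a0910dd60530010018456a10440000000000000000000000000000000000000000000000000000000000000000)
  (Net.cons (nat_lit 256) (nat_lit 0x9090ab6b210137632e4442c32bea99efcd17a29124f617b10508bacde65fcd00000000000000000000000000000000000000000000000000000000000000004234195c4288899880010a04104420001082e10428702062465ea483a000461a00000000000000000000000000000000000000000000000000000000000000000000800000000000010000000201000089010000100900052001000044001040)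
  (Net.cons (nat_lit 128) (nat_lit 0x4a0a06221162000615468c2cbc04c00000000000000000000000000000000211d045e4f12509044a255215c1438f5000000000000000000000000000000001cc10cab101f632f260fad2359af9270000000000000000000000000000000009202722080100280814846901610250000000000000000000000000000000000138028580a9180ae874cae84b645624800000000000000000000000000000000900b6000002000647e5ca4e3e580561a0000000000000000000000000000000000000000000000000000000000000000)
  (Net.cons (nat_lit 64) (nat_lit 0x22760018131b0e00000000000000002d0104c1228311ba00000000000000001e90a61449b634c00000000000000000af1b915f450204700000000000000000aad80109d7a5402f000000000000000093853894880322990000000000000000124c6e9ce01fc2a50000000000000000e9842982c66792710000000000000000c5da456d28881cad0000000000000000e490eb57c68c548100000000000000000d4701e9148386240000000000000000665344838420565c00000000000000000e7404a7e493521800000000000000000000000000000000)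
  (Net.cons (nat_lit 32) (nat_lit 0x2203fe00000000e2dfdba000000000583b9069000000005c60791400000000c40ff52900000000fa5a14a00000000060d6200c00000000aaf1207d000000000411cb70000000001c2585f800000000970b540d00000000412d033a000000006e351d3600000000572f193600000000b54c2b230000000039ea00c6000000001547260200000000671aeb8000000000987c14e60000000090c88d5600000000830d4cad000000009854502000000000b0f87abb0000000059dcb40000000000f2281c9f0000000009c016bf00000000a34072180000000002400000)
  (Net.cons (nat_lit 16) (nat_lit 0xa00002a8c0000212300003ab100003a3400005a2c000060a10000c640000034b20000816a00005bb300007c27000084430000fb850000aaa10000a1b60000594d0000e27b00006e460000519800002f2c0000e38900007500000034e40000f09100007de500002a7c00005473000026c500002d9a0000792200003054000068ed000011440000a790000048a60000e41c0000195d0000d13b0000b62700003aa0000001620000c5e1000001fc0000803a00009042000001620000286200008508000081910000006200006454000032c1000010080000003c00000000)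
  (Net.cons (nat_lit 8) (nat_lit 0x49009d004300e000350047001000c2009500fe00bd00650011009a00eb0065002a00fc00ee00ad00cd00210040008500d600140015001c00f800390021006f00cd000400af00b200ec00a8000c000c00400068009500e6006e008f003c002c006700720098003100c8000a0012006100ca0010009000b0005b00610077003e0025001500c7009600db00a800ed00b300900057009d001300dc003e009a00cf00e400150017004d006300c3000300fa00bf00f300e70014004a00a80016005400a400b0001900320011000000360052005a0035007a0045000c00340000)
  (Net.cons (nat_lit 4) (nat_lit 0x300080901020e0d050c000b0a00040b04010f0908020b0e0e0d0506060a010e010d000c0c02090b0c090002070b0b09070100010908090f070500070d0b0202000d000307030c0c09050002050f0101000907020706040a040a01010700070707040a0f02070f0305080b0704010c0c0f090f0703090705060b0b0b02000b040e080a0e0a0d02020d02080c010b040104080f0508090d0d070202090202030001070e0409010403050d02050002050c040203000a0f010d09050d060b0b0b0c0a030c020e0e070e03010c05010b0906060d080900090805040a030a0800)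
  (Net.cons (nat_lit 2) (nat_lit 0x1330110033302303010102320121213300031101201131133022123111000030003121021202011213303010221001130121201000100231010113122132023300132302312133213133120102322010303330330000101230102302010210302313112031121322331102200202103213301000200100122032232133030221020030311202330000100133002021130103000122212312303103021012323212123021012012213013210230012221300212002210223123110031233123000321023230022321000211322033002322000203023012222103012012000)
  (Net.cons (nat_lit 1) (nat_lit 0x4010410050050400510510505541505000004105101141451444454154550410544040550015004555000144140415011501105014410551504411005101110145515050144055140544151045415151440040450104110140140045040501410114110044541444500550401444411444100400511451510455541054445544004155501440514145555051105014011105450040504051400554510040001110545541501045410015405110100000045100415550450550554055414041454414055445551510044000110541004540140504010115414140100010004)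
  Net.nil)))))))))))))))))))))

noncomputable def n_SZ_2 : Net := (Net.cons (nat_lit 1) (nat_lit 0x4055555450001515041401050110505015114404411111114151504550154440001400440004504014004001040145400505510055051501451144000105504045111054440005500445110514444404555504400044510410015051045454500411455104551100500500404100414414455444511510445001404114055500040515540415555445041504455011551105101410045010415055110105000415500005111441040411545114541511005444554144011145514050014154444455000544101454140051140555010440405145101451115050440141000)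
  (Net.cons (nat_lit 2) (nat_lit 0x232310323331303130012202001132001302332130022123312200332211002300103103122001123133023000011011031100202321220330301230010300231202100120031231021213002030002211203323000020320013110112133322101321232303302210303111031203002102210111123131230032003001332310102132203003130110330313030222320211200200313012001013120133211233232320312111121012113321310100202113030232120231123233111100212201210301103111231023303002020003033002220001020113133110)
  (Net.cons (nat_lit 4) (nat_lit 0x302040b050603040c0707040c0f0005020502030f0f020a0802010a0d0509060f05050a07020608070b0b060f0a0b0f060009010f010b04030e010b0a0d060b020e040b060109080b00070a0b050d03030c0304080d0a05030e0a03000205060a0a040900070f070e05060a0d03080701010a0f090e0e04080902050f030c0e07040a0a060b000c05030f05090f00040e0508040e02010d090702010a070a080f0b02050b0309020709050c03030801010606030f0909070d0702030a0103000c0f080408010d0800090108010903020009060a03080f060409040001070c)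
  (Net.cons (nat_lit 8) (nat_lit 0x9b00ad00b300be00020025001300240001004000b400c1006a00b100930098006b0028000700b400c20043005900b000ee00a7006100e100ed007800d900b900c7009a00ab00f200e8002b00df00b900f5003600b10007001f003900fc00c00017001200d800a000ce00a10070000d002100bd00d5000900bf0030001c004c00a3007a005e001f0059002f00f2002f00080076003a00430058008e00a8001a003400b000870051005800f3004b00840007006a0074001000c30037009300bd005700c0009700b00091003f000b0098008e008800b100f4009100880030)
  (Net.cons (nat_lit 16) (nat_lit 0x3e000001fe00009099000063de00000fe30000aaa900003f880000965a000030c60000c8df00000d390000728700008d9a0000b9770000a40f000050080000a13d0000c3c80000e01e000045c400002bbb0000789a00001689000001ca00007f1f0000f26e00001c4700007b91000048c00000078d000008440000e6070000ebdc0000c0040000d3bd0000b27100004e2700003244000081c30000bfcd0000080000005e0b000086070000b0450000878a00001c460000cafe000088c000006b3e0000c3790000b99600003f6b000029720000346a000087ee00008b00)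
  (Net.cons (nat_lit 32) (nat_lit 0x3187dc0000000039867c39000000008c6f0bfe000000003f0234ef00000000f7e29d4900000000a962483f000000008eb493f500000000491094be0000000091ac91fe00000000ca4bf5c900000000af613c04000000002f8889110000000012557eeb00000000437f132600000000ed0e302600000000b1821abd000000005c1c242100000000ddb546480000000009d9285f000000008914a725000000004516cf2c00000000305e87310000000039bf660c0000000093cb0d8700000000e975ba7000000000ca74580000000000f8e3b4e70000000074620000)
  (Net.cons (nat_lit 64) (nat_lit 0x38ed3210832e0600000000000000005935abf302cbf18d0000000000000000640c17caaac662d40000000000000000b0cbe8fba2f9895c00000000000000001de1512dae20a16000000000000000000177dfbf090d6ff60000000000000000348fa8d62fba7c7100000000000000008343681eacb2f5140000000000000000f08412946ef548840000000000000000f23e7b1dec3b5fbe000000000000000017100580e1152889000000000000000086048b48300c08200000000000000000f6f7fffcbddfefef00000000000000000991846200000000)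
  (Net.cons (nat_lit 128) (nat_lit 0x129139e40a9207e5f35eae5c652e3200000000000000000000000000000000fde3d9a99ac9c14e449f3da25945925200000000000000000000000000000000973847fe93387bcbc799b0b43d2c4a0000000000000000000000000000000000dd6d18288193b81857400e418b5825b0000000000000000000000000000000002f0c219b84f0b0b8b4354a7486a8229800000000000000000000000000000000bffffeefef79bd99fdff7efffffbfcaf0000000000000000000000000000000086047a183b0184e20100000000000000)
  (Net.cons (nat_lit 256) (nat_lit 0x825e34df85b07cadafbb277184bbf7ff72bfebefe666eafeebdda33cf1d9ffbf0000000000000000000000000000000000000000000000000000000000000000c7d91294f9565a4ffd2ff71fb5577e9fbededd537dca1fd7d6f25debaa6fbcf20000000000000000000000000000000000000000000000000000000000000000290885a140f11c0096ff7a4bdb0935aa402000a400304000010da00041000008)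
  (Net.cons (nat_lit 512) (nat_lit 0x1ace13888bd70dce50446ff679b7e0df7dfff6333c7fbebdafef9749a86089000000000000000000000000000000000000000000000000000000000000000000000000000000000000000000000000000000000000000000000000000000007867fd729fafc5cf029010e028dd8370ea392fafa03efa12bd2ffc9bdfd135af41400000008104000200004000080100402000a400304000010da00041000008)
  (Net.cons (nat_lit 1024) (nat_lit 0x42008808430c40000004300002008850140020081c0094224c83080020803827ed6216a98583029010e008dd8160422123ae8034e010290da0105590010d4140000000000000000000000000000000000000000000000000000000000000)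
  (Net.cons (nat_lit 512) (nat_lit 0x42008808430c40000004300002008850140020081c0094224c8308002080000000000000000000000000000000000000000000000000000000000000000000000000000000000000000000000000000000000000000000000000000000003827ed6216a98583029010e008dd8160422123ae8034e010290da0105590010d4140000000000000000000000000000000000000000000000000000000000000)
  (Net.cons (nat_lit 256) (nat_lit 0x182f0c22148186078e905067aeddb7e08e49f3f611347bb63d8daf155ca8410d0000000000000000000000000000000000000000000000000000000000000000404014128906404d0000000020000210a8180c01200e1a0294225c8b8a4134a2000000000000000000000000000000000000000000000000000000000000000000000000008104000200004000080100402000a400304000010da00041000008)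
  (Net.cons (nat_lit 128) (nat_lit 0x128c010287c62624d5452ac7c11060000000000000000000000000000000002086e15046686386415912a62221ae0400000000000000000000000000000000596548c0120ca38b85aef014055d028d00000000000000000000000000000000031c0012251018c1861102748409609400000000000000000000000000000000a8681825a9351448152004c0e149269800000000000000000000000000000000290885a140701800947f7a0bdb0134aa0000000000000000000000000000000000000000000000000000000000000000)
  (Net.cons (nat_lit 64) (nat_lit 0x288a121a05523700000000000000005f118db1151bd7c90000000000000000e73e04bc79933a9f000000000000000024dbf24cd679990c00000000000000009b4051259d91894000000000000000007210460a7c0817ff0000000000000000c48aa2e32b4b1cd1000000000000000053025018ecf3948c0000000000000000529008a47bb018000000000000000000626a78018b337f2e000000000000000092040930a288288c00000000000000003f06c7a8995128a8000000000000000086047a083b0184e200000000000000000100000000000000)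
  (Net.cons (nat_lit 32) (nat_lit 0x20012800000000a8026813000000008d5f2dca0000000097b31022000000007290993a000000006cb635bd00000000de60b947000000007901a57700000000908cf0d200000000c82d8054000000003e3149940000000008dea6c10000000036456a4200000000662f229700000000cd7a50200000000095364c06000000001f290091000000009ea552890000000029894f5800000000286092dc0000000067029ff800000000c1ca8d8700000000a8cf72400000000078088423000000003074f05800000000e004f248000000000a8184620000000000000000)
  (Net.cons (nat_lit 16) (nat_lit 0x2400001dce00009a8f0000648f0000056500003ad800006a8d0000d80b000007400000d9950000423900004290000087dc0000ef330000f45e0000156d0000f63d0000e2880000b64c000030560000289d00004c9b000076cf000046c800001f1f0000a40f0000186200000a2500006ec00000009b00004dc1000083230000a9fd000081400000ce190000b03000006bd200001070000080030000d98900000c04000052be0000c3c20000d2900000ae9a00000a0600004e09000038100000018800000361000021400000cb2a00003153000084e20000046200000000)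
  (Net.cons (nat_lit 8) (nat_lit 0x9a008d0095008c004200270006002400050045009100c5002f00e300e200cf004b002f004600a000800041005e00e200fe00a5007500b200a80038009c00990043009f00ab00b200b7002c00ea00cd00b0001100b00000001d007800ee008200270042008b00a000ce009500100029002100d90085000d00d8009f0068006100c500180038003b000900390097000900680052001600ef003500b200cd00780064008000d400a2007700d3007100bd0077003e002e00b100410005004700c600550090004c003100c3006400c300b8004000080011007d000100880000)
  (Net.cons (nat_lit 4) (nat_lit 0x302040b0509030409010704080b0504020506070e02060a09060d0101050d020f0c040a0604030c050f0b020f0e0f0f030009010b050a00030a000a0608070a020c050b0600090a0300070a0a040d020409070509090205070a0e07000200020e0a040800070a070a05020b000308070104090b0f0a06050809020f03060c0c07040f0f02030408040206010d0a06000b0108050a050501010702040e050e0d030902000a0a0c0f080d010c07080908050207070109000a0d0a020a0a070a090c0f0c030008090a020f090b060e0302050f08090108090604090400000300)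
  (Net.cons (nat_lit 2) (nat_lit 0x232310223321203120012202001132101302232130032022313200322310102300102002023100023133022010000110120010200320130330301230011300231202110120031231120303012031003300202323000130231012110002022320100331232303303200303011031203002102300111023031230023103001333311003033212003033110130312020222323211200210313012000013120022211333232020312132021012113230310100002012230230121222222232023100220211030320202110031333103202320000033202220203020113133110)
  (Net.cons (nat_lit 1) (nat_lit 0x4051555450001515041401050110505005114404411111114151504550154440001400440004504014004001000145400505510055051501451144000105504045111054440005500445110514444404555504400044510400015051041454400411455104541100500504404101414414455444511510445001404114055500050515540415155440041504055051551100101410045000415055110105140415500001451441055411505114544511005454054144011005511550014140444400000504100040140051000141000000400001100051011050040141000)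
  Net.nil)))))))))))))))))))))

noncomputable def n_SZ_3 : Net := (Net.cons (nat_lit 1) (nat_lit 0x10500045505151414545501101454101005114151141150155154555041140505501004140014154110454544545004151455444054040010004141441001450555504545055405410545144144441145154401501005455545511505504451411511110014541144101505454410104401501045504441015441050554011110451105414145514100505550040041541444500050110405404504404405045550045450540055151545010141441455155511105140010001540554445410045401500500110114541151545501144500450401001554440054010501000)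
  (Net.cons (nat_lit 2) (nat_lit 0x1303102231230022200011312131213222123021323220102010021232230112033113121023330002000000321222312312131112033300300131133020332313010031133332032211133103210211333301122000012001223030030020300033133202102131132303130223121003131231222110030123300012112333010030123003030333212212231202102110021121213210002332311223222020013032110301031133332223322131212000300031002303030212002113111020222233231110221312233230331103302030003210130000023302000)
  (Net.cons (nat_lit 4) (nat_lit 0x300080b00060b0c0004070c0f070400010e04060c0e030a050e070a080a0b050c0e040f060204070c0a0e03040203010100070d0f0c0c0006010e0f01050e04070b04020904060a0e0b030a000e0e020b00070c0609010004070b0709020e0200040e0d0c0c060c030d0b060d0a01080401000f0003000a030c0b0c0a080002020207010d010a060002060e0c0208010f020207030f0a00060b030e0b04010e0b0d09080209090e000a0e0b0101000e0606020b030706060d01090b0b010c0d060d0a03060705070b01010b0d09000e0f010309000f040202060b02090300)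
  (Net.cons (nat_lit 8) (nat_lit 0x3f005d002b007800c100ed001200a700a800220077002e00e2007700e3000500a3000300c20002008e0066000a009c0064000600bb00bf009800b400e100e1009d0013002b004a00cd00bb0023007500e400d50080009100a800c8002f0076008500a8009d005800bf004800720024006d00ae00aa004200ea00e800590045001e00c1005b00d000b7008a0044000b00fe00fd001e000c00b0001100b400ae0054002b005a006c00fd0087004900f20032007c0058007400ed004c0066000800420012000300450044004800b5008500940015000400560029003f0090)
  (Net.cons (nat_lit 16) (nat_lit 0x1600006fc90000ea830000371000006b2c0000dea200004c860000ef4600009376000038760000e095000079a300003c0a000013a30000d72d0000eae5000002ee00004e850000eb8200007c69000089e10000fcb60000d60b0000d5000000078600000c320000e03000006b7c0000c2720000d63c0000bdbc00006b8d0000bda7000049c5000026740000bc6200007dcc0000090000007ffe00008b890000ad200000c09c00002d2e0000263100003711000048df0000b6fe0000924000007b81000046b8000029f20000c6b60000b994000030a4000031fa00000d00)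
  (Net.cons (nat_lit 32) (nat_lit 0x37918e00000000f95123cb000000005b3ea695000000001ae71acf0000000064c3bf6500000000cd7ef76600000000e53dd86c00000000b8abd35b000000008c2f96dc000000007d27c045000000000f7b77180000000053161362000000003a53ed3e00000000ecbd707c00000000f5fcfadf000000000a87f6ac000000000d4a46ea0000000097f612cd00000000754e292100000000debbdb8c00000000bd159f57000000007c41620700000000501d0e0200000000002d16f00000000063b02af6000000002d02add60000000024aeefb70000000060e90000)
  (Net.cons (nat_lit 64) (nat_lit 0x135d8f6b3e013200000000000000009b28a4fcb7858f630000000000000000af26aad2f14faa9c00000000000000001ad70834cc9efcca000000000000000045334d3fb7263160000000000000000050d5af0779744cd20000000000000000c1499b08c61d663600000000000000008fe3cc8775c1886c0000000000000000d394ed15baed9ae30000000000000000aeabbdfccad3b8270000000000000000a517641bd1580d580000000000000000a804000ca80012100000000000000000f9e59cdefbdffef900000000000000009000e6f100000000)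
  (Net.cons (nat_lit 128) (nat_lit 0x1281d47d7fefa9a057ebc2a2fa020200000000000000000000000000000000e5506afabfe3d6debf7ce6a22d31d652000000000000000000000000000000009875afa56df0f9ec5bf2169fbaae23ad0000000000000000000000000000000027a5683098c0351ec08e01dc74726ad200000000000000000000000000000000894f4113529b9d31c061789516676f0300000000000000000000000000000000b98f7d9dff7dbf7ffefdff7ffffebfed000000000000000000000000000000004f51100cc204b6a10000000000000000)
  (Net.cons (nat_lit 256) (nat_lit 0x6d9bd9d14fe4b13dfff48edd1c7fbef6c7ab329ffbbac79bfe3ae66e7777f8d7000000000000000000000000000000000000000000000000000000000000000047d6f7ce78ed3b1efa279d6ceb57dbf9705fdd779f5faff911dd7273f2d9ccb80000000000000000000000000000000000000000000000000000000000000000900e61112d220d524ae90cfcd21094ae86802000202000000a20040801001044)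
  (Net.cons (nat_lit 512) (nat_lit 0x344c573e0fcf33e1997bf0127bf496dff5feea25e008447ee5945c9f055d7d00000000000000000000000000000000000000000000000000000000000000000000000000000000000000000000000000000000000000000000000000000000af581afbd38b44ed349e22933c09e2d2a786fbe76d726d52fe6dad6dd356bdfc0240001000020400000000800000000282802000202000000a20040801001044)
  (Net.cons (nat_lit 1024) (nat_lit 0x3404463008480020001000020140100000c860044008400045004082000428a8081839830244e5149c22933c08a0c28780228260324402ee20ad0d114639440240000000000000000000000000000000000000000000000000000000000000)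
  (Net.cons (nat_lit 512) (nat_lit 0x3404463008480020001000020140100000c86004400840004500408200042800000000000000000000000000000000000000000000000000000000000000000000000000000000000000000000000000000000000000000000000000000000a8081839830244e5149c22933c08a0c28780228260324402ee20ad0d114639440240000000000000000000000000000000000000000000000000000000000000)
  (Net.cons (nat_lit 256) (nat_lit 0xa8185c79ae028c56d59d31f03e22b4c6dcd55aa261b244062ea0ad1d1d473945000000000000000000000000000000000000000000000000000000000000000007500ac35089000820120210100962102506d9670d402950304d0060c21084b800000000000000000000000000000000000000000000000000000000000000000000001000020400000000800000000282802000202000000a20040801001044)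
  (Net.cons (nat_lit 128) (nat_lit 0x6a190ea386128d196fe0017004520000000000000000000000000000000058f90541716acea52a10d207422c4002000000000000000000000000000000004b30764811204086da65914e2f03c4f200000000000000000000000000000000000601131a01383752800d459a0611a0000000000000000000000000000000008580119258492408200404a80010460000000000000000000000000000000000900e61012d2009524ae90c7cd21094ac0000000000000000000000000000000004000000000000000000000000000000)
  (Net.cons (nat_lit 64) (nat_lit 0x14630d80b4072b00000000000000001e548c2c116316260000000000000000f288900014d6a8d90000000000000000e3966e6cb190c2a900000000000000007a954b4819401020000000000000000024a1630b017651be000000000000000070006d846889171000000000000000002662117c028229200000000000000000e012535812fa269000000000000000001bc8c4f272c9dd2c0000000000000000a1012013b2200460000000000000000098056418ff100d7800000000000000004951000cc204b6a100000000000000000000000000000000)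
  (Net.cons (nat_lit 32) (nat_lit 0x7f6d20000000042262ea500000000a3d304ba0000000090b8340f00000000c50528f2000000006de6f90a00000000e460d65e000000002920189f000000004ad3399e00000000599b6532000000001f27f94100000000ca4360da0000000019a8b606000000006aa034300000000002d9cc2f00000000d6933b0c00000000d2c4114a000000009716f62500000000b460480800000000e786bfe4000000006bd5e11f0000000049080034000000004161301200000000524938a000000000136d1842000000001014a08c000000001000e6a10000000000000000)
  (Net.cons (nat_lit 16) (nat_lit 0x2e00006f0c0000f9fd00000ceb0000978b000087c500006d0500006be200008a610000a4370000e1c80000f38f00002d0b000045c400008c7e0000463000004bcf000040ce0000c3870000885b000050210000d87e0000f8a000000885000072790000c989000083e50000f95e000074230000a2bb00007c3f000042070000e28a000055210000c60500009f5100000de200002e230000cd970000f6230000c9cf0000a2f4000049150000000000005be100003d700000d0060000bb710000312100006b470000a9440000ce790000a980000030a0000020e800000000)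
  (Net.cons (nat_lit 8) (nat_lit 0x69007d006100740023004f00b00087009a005000c300a50088006a00ac00af002700c700e200690075009100b1001000a8006f004800dc004300c900ff006000ae008600fc00580067000c0008008d0080001c0055002600ba0040002100030082008a005b002100f8004b0060001500b4003400270037009100e800910000000b00c900d700e000a6005b0044004a00fa00e400de00af0062005900e500af0093002f008a006c00d80083006200780063006d006d0060006d0049000900b600030023001600c500f800450095001500890014001400420019000d0000)
  (Net.cons (nat_lit 4) (nat_lit 0x30906080001030f0d0d0908080a050c020601020a0e0b040101070b000c0b0f03070c0a0509040f0807090d070f0709080601090a0e0d01020c0d050b090d08020b08080d090300030303060d0d0e0900040b0d010e030902050d070501080600070b01050d0308030d0600090200000601080c0a0f0a07080809080a0d0b05050c0101000309080103060c040308050b020306030400080b00050a0000090c0a070a080209010e000e0e0a0803090900050609030406060d01090b0b050d0f00030c03050705070b00010f0d08000e0e000309000e040202060b02090100)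
  (Net.cons (nat_lit 2) (nat_lit 0x2030131011001203202222031311033202232322210312220021320130121210230112122132321113311213322322312330121300123213202232030333331102010010112200222230002122231012223311132102313101022030302031102023022232112231223123130002121012131110222112100031110002132330113020120300010032233202232200102100022021133213000332303222202022022032100301031133332103322320210002300021002303330212002110111200222233231110221212013230331103300030003210130000023302000)
  (Net.cons (nat_lit 1) (nat_lit 0x410045104551014541500101055101001114151141040155154504001140405500004150114054110454555545404151455444144000011004141541015415555504545054440010555141154150145154001501005441145511505510441411511110114551144101114454450104401501450104455014441050554051110441505414145100140445540044040541444501450400400515004454404045551045410540151151545010000440055141515105140010001040554401404044001100100110014541151545501144500410401001550440054010501000)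
  Net.nil)))))))))))))))))))))

noncomputable def n_SZ_4 : Net := (Net.cons (nat_lit 1) (nat_lit 0x10545445114104441154410115505445551414555511500445400515514044455455015401410450400044151414141104554045515044510000015005055014554001101541445550500440511140010104501100040001044501510004555511501401051000004044400010014400145500015454414051041410450101155410000415411415541544550504410001041000100000050044511000400004414405441404055504004054000010400540000051045411514000050015005100000041150001415544010540114501045501510400000145001514040000)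
  (Net.cons (nat_lit 2) (nat_lit 0x3131220300332123213323311230001010320203123202220230010211310223133223300100120011131000011310133121001231123320020300101210013102103200221110222013003201211201111011211330223110322003020023111322001022022322230000032101111000021331111022030010103002231003001003231303121000022002311220000301002123220020100001013202313200313111333201022003311000000121320212001322001332233330321301100223222321021311002022322020001330300121223230022301033001000)
  (Net.cons (nat_lit 4) (nat_lit 0x10a090b0a0b07070e090f00050d010b090a0601060d0f0e0802000703060b00080703030b070b0e04080a010001040c040e0b03000b050b05090c070c03040c0c0000070b0b0a0e0200000c0b0c0708090208060706000a01050e090a0e020d090508000806000b000e0a09010a0303030a0a0b060d070c06070c04000403050f0a0a0c060e000905080904080e0303080b060a010e080905030b0f09050404040000050203000203020f080e0a0a0e0e000904010c0f0401030d0a090e030303090206050a090902000603060705080f0f070f04000d0202090006000100)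
  (Net.cons (nat_lit 8) (nat_lit 0xfa007700b9009100cc007500de0074002400cf00bb00b4004b00f500d1009800e500a9004800be001c00bf00f800cb00a300cf004d00010041008d002a00c3005300b60040007a001800e7001600ce003e0026005a00da00d300e2005600c8005a004200610092009200ad0040006e006f00120001001b00f5002100a100c200e400040029003c00dd0000003c0079004a004500de00c300f600aa003e00e300400046003100f00051007f001a00f100f7004900d600ae00fe0063000400df00a100ae0002003a0044002d002d0046003d00c5009e00cf00c000000000)
  (Net.cons (nat_lit 16) (nat_lit 0x340000b3470000dcb50000351700002dbb0000dacc0000633f0000555400007b680000305f0000e8080000ef3c0000a22800008ae4000006790000a0b5000074c200001c2900007d330000330800007c700000e0bd000084ac00002e4e0000425c0000997e0000557800006e120000162e00003c1e00006a000000df3c0000d48d0000e0b90000a26d0000574d00005d160000882c00008c83000044c000001d7e00003c700000dbe30000460c0000165d0000f2d00000f6190000bea900005af40000d6fa0000eae60000decb0000f5ee00000890000048dd0000e000)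
  (Net.cons (nat_lit 32) (nat_lit 0x1ab4ea00000000051c32da00000000d537931000000000f720ef1d000000006e9abc7d00000000dc44d49800000000add89b7200000000c0a5a89b00000000d06b7dad00000000e2a7de7e0000000050a2610e0000000004b849530000000084e58cae00000000d99f706e0000000012f36850000000007066ab3e0000000012476327000000006acd9d0f00000000b9ead2ac00000000c973f3a0000000002df5a18d000000002a32040200000000d201ee1c000000002bdea20600000000d654671600000000887039d30000000069f9fffe000000000f980000)
  (Net.cons (nat_lit 64) (nat_lit 0x17a3f82f24f1920000000000000000268a84ce17d0990f0000000000000000186bff0a340837e20000000000000000570010f86a3721200000000000000000003d4bcd206fa8a100000000000000000177ac7faffeee0c00000000000000008fcfe508356b1e0200000000000000002beab83d9ca56c280000000000000000a2717e4b25519f4d00000000000000004e125eba1208bc490000000000000000f884808fe871e51000000000000000000401c090b2a8c9b00000000000000000cfb7dcdbffffff9b0000000000000000b062fd9800000000)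
  (Net.cons (nat_lit 128) (nat_lit 0x3d0ca9fef83203e69fd8913896175700000000000000000000000000000000a719f70bd803feade4cfc8d0c4046cd5000000000000000000000000000000006777746e2f9f662d360a21474e26702100000000000000000000000000000000624249800e70728aa968a313803a2c8200000000000000000000000000000000aba44a231605e64580091cdce4067bfd000000000000000000000000000000007dcdfbefbef9fdf6ffffa7e7ffffff3f0000000000000000000000000000000006050001b3e2fd180000000000000000)
  (Net.cons (nat_lit 256) (nat_lit 0x787dfff5bbfde9db53b2f737bad705499fc1cafcb08ff3f5b2f60c4b3cddf8fd0000000000000000000000000000000000000000000000000000000000000000a3c21c8a64577e044dbcb7fd13aaffebb61be7ffedfb9d5f6f8b9bbffe0f948a0000000000000000000000000000000000000000000000000000000000000000216ce321091000e6fe9d0a27b2e3e51040400000000000200040200000c06000)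
  (Net.cons (nat_lit 512) (nat_lit 0x2e17dbc7d975044f57589ba8491edbf1c2b1c32912ad2c4de9a2a7d6cae40a00000000000000000000000000000000000000000000000000000000000000000000000000000000000000000000000000000000000000000000000000000000debdf1e7d7afa77b92735a9aac4d0cd46dd229a01a1c7aaafd7daf65b3f2fe7f83a4000101000000000008000000000040400000000000200040200000c06000)
  (Net.cons (nat_lit 1024) (nat_lit 0x2100a4401240404000088000818c02000218108100800490982a5820284025c3de1e593aa817b92734a02ac45041449c00820120462a090742c4001f07a7d8380000000000000000000000000000000000000000000000000000000000000)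
  (Net.cons (nat_lit 512) (nat_lit 0x2100a4401240404000088000818c02000218108100800490982a582028402000000000000000000000000000000000000000000000000000000000000000000000000000000000000000000000000000000000000000000000000000000005c3de1e593aa817b92734a02ac45041449c00820120462a090742c4001f07a7d8380000000000000000000000000000000000000000000000000000000000000)
  (Net.cons (nat_lit 256) (nat_lit 0x5c3d67d1d3fbc16b9b720202a441045bc9c099a0311627a894dc2c43d5f27a7d0000000000000000000000000000000000000000000000000000000000000000828010024605260000001098000808c0249221800818180a6d098325b202840200000000000000000000000000000000000000000000000000000000000000000024000101000000000008000000000040400000000000200040200000c06000)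
  (Net.cons (nat_lit 128) (nat_lit 0x803910258f000085748108c010613000000000000000000000000000000009001c264688f28512683c90049ac805600000000000000000000000000000000126218c28c83c28d043a822e04a864a200000000000000000000000000000000e3020a810220c8414808315f5326f3210000000000000000000000000000000086e4108344152e0028001b98004828c2000000000000000000000000000000002148e320081000e6fe9d0227b2e3e5100000000000000000000000000000000000000000000000000000000000000000)
  (Net.cons (nat_lit 64) (nat_lit 0x350fd0c185b3070000000000000000f002d782195bd00c0000000000000000b77106ba5016057c00000000000000004788b1a657b955b000000000000000002285d3a4a0e77a110000000000000000f0c494e6d3cca0d700000000000000005a4203012862843700000000000000004a021198122830810000000000000000844900826456385000000000000000000fde983f968164080000000000000000d4a5810ab3adc910000000000000000009c5e103ba51e592000000000000000006050001b3e2fd1800000000000000000000000000000000)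
  (Net.cons (nat_lit 32) (nat_lit 0x228c2c000000006b05d41b00000000c206c05200000000aff8654d00000000eed47c7800000000c15b98e200000000da0f3582000000004220a99900000000646717f4000000000c0a362e00000000f065ea3e000000001204c2240000000084e64689000000000d1207720000000042312e520000000060a2215e0000000074048951000000002e45ab9100000000ac6c9fac00000000699614c20000000060e03589000000000392246000000000924c561e00000000f3380204000000009a04c215000000000421f51800000000a060fd180000000000000000)
  (Net.cons (nat_lit 16) (nat_lit 0x2a0000c14700006cf20000e19d00009093000070490000435b0000bc160000821200001a1800001428000049170000186d00008d6800003309000057e0000066140000956c0000c7120000904b0000f08700005a0e00009c850000284b000073ee0000ab320000b029000075ce0000ccae000021a6000062d30000e27c000044380000df4c0000c1d10000c0810000c01e0000c74c000060c00000141c0000f4c10000a6500000f0c40000a66e00005ad000003d330000311c00003f0c0000163d00000b460000272e00009a0a00003826000040580000089800000000)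
  (Net.cons (nat_lit 8) (nat_lit 0xca00bd00b30033004f0075009d009d005000ce006e0037000600730038009f007000a90093009300010031009b008c006a000000e700f0003d00b20092000800b9006e003300f300e700080054005a00e9006500a100f100c00013009700f900f800a400020085000a0020002800b100a20092008500a900710016005a008300c900f1004900780036004100f400bd00460021009200c7002e00aa00b700660085004b006500fe00510018000e00e1003e00c60051008900e80002001800d2002c0065002b0026000d00a00080005a00f4000800d60007008000000000)
  (Net.cons (nat_lit 4) (nat_lit 0x10a09080b020a020601000301050b090706030504080a0e060b080d0e080d080c060b03030b0c000e090507000c0c040c04010102020d0f050c0c02000a0a080e04000b000b010e0600040006040c0c06000e0603020a0109090b0d040c080100060800080605010404040d050803030802020b02090f08020d0c0c0f0a030a06060e0409070d020508090c0d0209070c0b000100020c09000b020a08000004000300050409010e01060b080b0d0b0d0b050400050d0b0201060f0d090b020607040602000c080c03000207020304090b0f030f04050d0202090006000000)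
  (Net.cons (nat_lit 2) (nat_lit 0x202111030021202002011233132332232003110212132213311321123323130210233001010022330203212000111121030203311113132133230222323003133101010002002220323022300302100221122031112003132131033100033123112003111222310121100032111110000001111111002020120020120013231201102202201020300021102323020000301002123220020111201021202313300303111332202022003311010000121320212001332001332332330231301100221223331020201112022302121010220300121332230022201033001000)
  (Net.cons (nat_lit 1) (nat_lit 0x545445110114041154010114541445144444555501540445000510505514404051410401415014400044011414141050554045104054510000015104054014554001401541444150550140511145010104401104040001044040510404415511501400051000504144400010040400145500115554414101040445100101155011405540004000041544550005010001041000100000050001011000000004415005441404051504004054000010400540000051045411514000050015005100000041150001415544010540114501045501510400000145001514040000)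
  Net.nil)))))))))))))))))))))

noncomputable def n_SZ_5 : Net := (Net.cons (nat_lit 1) (nat_lit 0x14511101515504144040504111154041510505540005001554041415145514101550505545045444041001150551104500514111045101041514045511544150154044105144055000441055040505455044414151451510010541011554005041004451150105140101414401014040044011405541444415151005441441401541004440141054440511515405501514101455015415400501451045545511001051541510010505551044540515404410044545005510404404004054454510504111554001004144414050551500551541001010444001505110404050)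
  (Net.cons (nat_lit 2) (nat_lit 0x113330313323103131023332123100101001031231111220001023312023033122002212102003311333220233332103203311210001221333201322210201313300311111212310121300200203122100122022130033233303323301330012100310030002032010003003033200013302333311230221112112032323210333033001231011022030012232030110230030011202031232132210113022132302020312303322100223313022100303303010331131213130132113013312213223221211003010230002221030330221000231230201201300232110)
  (Net.cons (nat_lit 4) (nat_lit 0x10100010a060b03030e0502060d030a090c05060e010d0000070d0d040b03060e04070207050a03080a0b0e080c0b0601090e090c0c0b020d0902090d0b0508010b05040d070304070800020a080b04070a000d0c01000c03080a0a090c0a0303030c01080f0d0d07030806090005050b000b0708080104020b040c0d060b0900000c03010a06050c0c0e020c06030c02020104080806080d0f070d000204000b0c060c0b0b0508020d0a0703000208020b0e0b06050c010a0706090d09060b070b0c0002050600040b0d070e0a0f0a0e0601030e02040d0e080c0e0a070c)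
  (Net.cons (nat_lit 8) (nat_lit 0x1700fd006400a80029004800f2004f00e9006300f8005800430000004e00b500c2007b00a2002400b400600077006a002100dc0059001600320031004c003d007f002e00e700a300ea00a100640024006f00790024002e00f7005c002200c2004000710011009300a5005a002a0002008100f700bc0091001b000e00420030000c004c00ba005500e500c100300044006e0052006f00b700d8009400f2001300bf00a20055002900b000820049009900100009009f00ff000b00ad0094009100f600c0006c0049000600ce0002003100f700f000e50064000200090030)
  (Net.cons (nat_lit 16) (nat_lit 0x2f000055730000d4d800003c1a0000653d00006bbf0000614a00004c48000078830000d779000026d50000216d0000feee000065b4000027160000063c000010020000e84a00005c3e000069c4000069420000555200002b87000057c0000065f900006d670000a7cc0000cc4200004dc3000034bb00001acd0000f1d80000f8bd0000ccb5000013f20000549e0000d49a00001a3300001b670000ed920000ac90000033010000406400005250000048a10000a6bd00003e71000097580000208d00008fc30000d40c0000278800009d460000e2e30000aaf700008b00)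
  (Net.cons (nat_lit 32) (nat_lit 0x302d2100000000d0378a96000000003cb4622500000000b9ee5818000000008da4a39800000000e4a6fce200000000f7a749b3000000003195209b000000005890e97b0000000070c7a7c5000000004cd6760f000000003110a04d00000000b810b55c0000000037fe3ee400000000e3d2c7ac0000000049688d9400000000a31f309d00000000df3e7d5300000000765dd986000000004d584d770000000007f3eb7300000000681dbb840000000014541ba800000000c0eb2c28000000007d175dd1000000000c2143c100000000ed535def0000000068fb0000)
  (Net.cons (nat_lit 64) (nat_lit 0x3c2d13b756592d0000000000000000111f9f43cc5e770c000000000000000077169194ec7af6cd000000000000000049e1c548eda7ca220000000000000000424d11247653351700000000000000001286cd4832fd86b90000000000000000d1d046b6a17bc1d2000000000000000029354eb06c2b11040000000000000000256454b64211288e00000000000000002a1fc8ffaa0518e10000000000000000445a4eea38b1906d000000000000000005148481c6c815240000000000000000023dd7dbb73fffff000000000000000015007d6b08000000)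
  (Net.cons (nat_lit 128) (nat_lit 0x1026905d36e87df8836709f5459cd0000000000000000000000000000000001b67b0674fdf5eff180f5f4852c283370000000000000000000000000000000096ecbf45a5f187b7e5f2d2222a1e2373000000000000000000000000000000000438220070435156fc2890d5480c09a000000000000000000000000000000000cd400a086068d000ae2008ff4a1118cd00000000000000000000000000000000dde0b4ade9ea7c32f6feeba7cfae773a000000000000000000000000000000000814828087087d6b0000000000000000)
  (Net.cons (nat_lit 256) (nat_lit 0xc71c4722a5508bc1c7efb6ccad6f6e7cfdd7c3abad26fe7e9f42fb649fbbf23f0000000000000000000000000000000000000000000000000000000000000000f77579be1f716aa5e9d897b7e1db7bb54aae375c5be1e9f9e8edafc9bff57d770000000000000000000000000000000000000000000000000000000000000000d5c82c0c48e00140a0ff88e88e083560b5414023000400000100000000080000)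
  (Net.cons (nat_lit 512) (nat_lit 0x2c2b51b5b7ef5d2ec1627f58edb9c7ffdd6d7ff04515a9c7c704f44a4883cf000000000000000000000000000000000000000000000000000000000000000000000000000000000000000000000000000000000000000000000000000000003a3ec35157869fef1f4524597210a8c5ffd36effe8669486f7aedc868a5b132802c80000000001400001004800000040b5414023000400000100000000080000)
  (Net.cons (nat_lit 1024) (nat_lit 0x24284114a10e1420004033000001874200245c50400080c085049040400180180a83414186956b174520481200a040bd514aa3a006940637225006021b020802c0000000000000000000000000000000000000000000000000000000000000)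
  (Net.cons (nat_lit 512) (nat_lit 0x24284114a10e1420004033000001874200245c50400080c08504904040018000000000000000000000000000000000000000000000000000000000000000000000000000000000000000000000000000000000000000000000000000000000180a83414186956b174520481200a040bd514aa3a006940637225006021b020802c0000000000000000000000000000000000000000000000000000000000000)
  (Net.cons (nat_lit 256) (nat_lit 0x120c0b10e5229b631745226608ec3044bddd6ba3f005842de72250660a1b824c00000000000000000000000000000000000000000000000000000000000000002234431017008a8408000411601008854292245c48600080c08c8c8088401120000000000000000000000000000000000000000000000000000000000000000000080000000001400001004800000040b5414023000400000100000000080000)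
  (Net.cons (nat_lit 128) (nat_lit 0x1002120116e0480801220850c59a00000000000000000000000000000000009b068c530de56ef8280a1b2a3202800700000000000000000000000000000000d6b3816fe5c317b1914274230002204300000000000000000000000000000000c460080810200110a82890df201408c1000000000000000000000000000000009538002050400844c8090891480818a000000000000000000000000000000000d5c02c0c40e00000a0fe88a08e0835200000000000000000000000000000000000000000000000000000000000000000)
  (Net.cons (nat_lit 64) (nat_lit 0x182103b104092d0000000000000000114c0b71c84f670d000000000000000037179df4c83bcc4c000000000000000029a0e160cda6ca420000000000000000820d1a24724a2b5400000000000000005acfc34532cca6ac000000000000000081e0028c906ac1510000000000000000693d48be4e0b11420000000000000000672d54be401009eb00000000000000006a37c8d6a8041884000000000000000015210683288010080000000000000000453c848886e8152000000000000000000c1482808708756b00000000000000000000000000000000)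
  (Net.cons (nat_lit 32) (nat_lit 0x300d0100000000c0b688f6000000000cb4626500000000b94c501a00000000ad648df800000000ec26f6f000000000c78768f30000000009c5281800000000d000e55900000000500fa9e300000000445f5c0a000000002119805100000000a808955a0000000087a69ea60000000043a9c1880000000049588fb200000000b108108800000000cd04513100000000440dd982000000000d694d560000000015e2e35300000000300cb384000000005c54998000000000808a2c2800000000151657e300000000081057c1000000001400754b0000000008000000)
  (Net.cons (nat_lit 16) (nat_lit 0x24000055730000d4d800001c1800002f2700006bf90000610800004c12000058c100005769000006c70000291f000056460000672400002f1600006a5c000090400000ea5000005c54000049c50000e96300005f4a000023fd000054e90000649900004645000003ec00004c020000c7e3000034d8000012ec0000f9f90000728d0000cd94000013900000d4b400005cd80000101000000346000065b30000a4b1000033610000480400004831000040880000ae9c0000724100009200000028b50000c3a30000911400000bb80000c10600006843000020f300000000)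
  (Net.cons (nat_lit 8) (nat_lit 0x1d00fd006400a000290048005000e700e1006300f8005800430000004e00a500c2005b00a2002400b40060007700e800a100de005b001600320011006c001d00f9002c00e700a300ea00a100c400a4006f005b0028002c00f700dc002200c0004100530031009100a5001a002a0000008300e700360091001b000a00400030000e004c00bb005000c500c100180004006e0050006d00bd0058009400f0001300be00a20054002000b000d20049008900900009009f00ff004b00ad00940090001400a2007800590044002e007200610017006200250044000200090000)
  (Net.cons (nat_lit 4) (nat_lit 0x10100010a060200030c0502060f010a030605060e010d000007070c040b01040c04050805040a02080a0b0e080c0b0601090e09060c09020d09020f0f0b0108010b05040d0309040f0800000a080b04030a000f0c01000c0308080a09040a0301030c030a090d0f05030806010005050b000b07000801040203040c0d060b0900000c03010a06050c0c0c02040c030c02020104080802080d0f070d000204000b0c060c0b0b0001020d080606000208020b060306050c010e0306090808020b070b040002010204040b0d070e0b0908060600000c00040c0c080c0e0a0300)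
  (Net.cons (nat_lit 2) (nat_lit 0x2120030310123103130023320123102123201031231111220001023312023033122000012102003311333320233312103202311010001221333201321210201313300311111212310121300200201322100122022120033233303323301330012100310030002032010003003013200013302333311230221110112032323210333033001231011022030012332030110230030000202031232132210113022132302020312202322100222202022100303303010331031213030132101013312213223221211003100230002221030320221000231230201201300232110)
  (Net.cons (nat_lit 1) (nat_lit 0x14511101510504144040504111154041510505540015001554041415145514101550505545045444041001050551104500514111045101041514045514544150154104105144055000441055040505455044414151441100010541011554005041004451110115140001404401014000044011405541444415151005441441401541004440041054440510515405501514101455015415400501451045545511000051541510010505551044540115404410044545005510404404004054454510504111554001004144414050551500551541001010444001505110404050)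
  Net.nil)))))))))))))))))))))

noncomputable def n_SZ_6 : Net := (Net.cons (nat_lit 1) (nat_lit 0x4040115505400011044511100011514550404450151015410450150450001011100400451555145544050455545400445000010140054041450415404045555510510145504055044510110510055010515415101010504100011011110451111404445550145115155045011110101100510110400154140005411141104444014440405000044554054115014005405444544045041500110505441411414054100105410545150505440015055040450415440040400554404111015550414154544044101441450114515541040554155041104000105001554050441)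
  (Net.cons (nat_lit 2) (nat_lit 0x1121232011010310101231011322023233022201002212323021200330210031013001102032222222210202302102120233322103033011102200101133013201022232331322330210113323100220122330032303132101220132212333002110312231131030332202313010222103303113321202330312212002102202133302313120000112021301121333030212212000213233202123230113121003200211033202022112121231103323201102312023113331112122220122022012000222231311233300112231002201301233101000113200130010220)
  (Net.cons (nat_lit 4) (nat_lit 0x2070f01060e010008060a050308000f060009040a0a06060105040f0e00000a060f0e0c010c090c030a090d08030b0206010e00050b0f020a02010a0f09050e0a0e030308050e0d0b0e090e0c01070c050706060c0101070904090a00000407040a00080a0b0f090b0e050a0c01090c0c0608010b09080c0c0902050206050706080e09000204060d03020606020c0307010c0e09030d05090c00040706030309040b0f0e02030f0e0108070e0e0b0802080b00020a0501040500000d0403010700030e0c08080a04000f0006040309020604080b0d00050a0b0b060e0000)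
  (Net.cons (nat_lit 8) (nat_lit 0x7400f100b500bf001c005000d0006b00ae001e004b00d4004d00a3002900cc007a008500e600ff00fc00da00c600b30081002300f100b8002c00260024002000f7001700e70032006d00d800bd008200cc00fb008600150039007800f400d1001500b700c000700089001700cb000b002b00ae00cd007e009000a8006700e300e1008d00de00ad0004004700ea00f2002a00cb001b00b10049009700df00bf00e800e400e700230039007e0032005f006000910030006900e400ec00cb005700d800d0006e0067006800a7005f004000b1005e00400054005800b60000)
  (Net.cons (nat_lit 16) (nat_lit 0x2b000047d30000f979000092440000abd50000addb0000e2ae00004e7a00007cc30000b55f0000dbab00004c4b00004e1e000009a20000d08600007363000021bb0000f0a90000862f0000b89a000044400000d6bb00005c990000d9170000e88f0000cda70000c487000029b40000be8b0000b796000046eb0000b053000062e80000e41e0000e8390000bacb0000a38500000c2000005df50000b9620000c5ab000043bf0000aefb0000b77c0000eed8000087510000a62e000089cd00009a4a00009a7d0000db520000d9d20000b1b40000122a00001ebc00008400)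
  (Net.cons (nat_lit 32) (nat_lit 0x58798000000006a5d6d430000000032064695000000001417e20400000000a6522bc700000000c1316900000000001c62e6e900000000f12f2ae0000000009d1dd36700000000d88753730000000040fbc9ed0000000008c30df60000000052dc047f00000000b08bbeca00000000ea275ef2000000008373859c00000000dd7e3ff000000000e19715a3000000007420061000000000a31a88a500000000a2af55f5000000005a2630d6000000002fa2c080000000002b5131ce00000000afb86cdb00000000900bd17f0000000084e9afe50000000052b40000)
  (Net.cons (nat_lit 64) (nat_lit 0x3102927579b8070000000000000000d9a0bf7c3abdd0a800000000000000008a22dc2d4eddbb7700000000000000008d5c77cad3027e80000000000000000037c9250c618185a800000000000000004310885e8cfd81c900000000000000004e1c669eaf4681a00000000000000000a8432518311282200000000000000000966522fd22b2b06f0000000000000000faf17d5d27398fb00000000000000000a5aa40bb4592387a0000000000000000d400808acf920cf90000000000000000dc9eb0dfafbcddf30000000000000000a5094b4500000000)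
  (Net.cons (nat_lit 128) (nat_lit 0xa526af95e4ad667959abf4d12ad60000000000000000000000000000000098560ceca2164f613599069881009a94000000000000000000000000000000008fbbbb4bbd6410e864443f51186231690000000000000000000000000000000087ad12a22f0a0d02b025404004703484000000000000000000000000000000002164d22261000a020501506012cae4f200000000000000000000000000000000b7620baa3eaf37fafffebf3effb17d8d000000000000000000000000000000005a04100aa59909410000000000000000)
  (Net.cons (nat_lit 256) (nat_lit 0xb932a78565b5b9ab6e66fc6a3dd0efe5c00edd9e3f66abda8bdd145dc3cae5be00000000000000000000000000000000000000000000000000000000000000004b35fc5f44e8e152e86a69ce0f9aabacbbdde3ff33d2d4e7783bcbeef7bd9c9b00000000000000000000000000000000000000000000000000000000000000002560032030103a3a7972281e90910d1104200000042000000140200000000000)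
  (Net.cons (nat_lit 512) (nat_lit 0x1c0ffef87c58c836d6f18bc38badb6bdf1582914321652e96029549b830039000000000000000000000000000000000000000000000000000000000000000000000000000000000000000000000000000000000000000000000000000000008855f051a356df899685f28827488694b7f1d7670c28ac12eb722c7f1ad1112b0880000020100800100000000000041004200000042000000140200000000000)
  (Net.cons (nat_lit 1024) (nat_lit 0xc084a9840004000000101030a800031d1002100100402602008001081000980500000a3161f891685b288204004140420d4020c282810834024710a4001220880000000000000000000000000000000000000000000000000000000000000)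
  (Net.cons (nat_lit 512) (nat_lit 0xc084a9840004000000101030a800031d100210010040260200800108100090000000000000000000000000000000000000000000000000000000000000000000000000000000000000000000000000000000000000000000000000000000080500000a3161f891685b288204004140420d4020c282810834024710a4001220880000000000000000000000000000000000000000000000000000000000000)
  (Net.cons (nat_lit 256) (nat_lit 0x88100ad0632e1d0116c7b18a62cba5a40480cc2a0c2a36528b6025758b42013200000000000000000000000000000000000000000000000000000000000000000805f0510044c0088004600007088280b3d1036500008402e832080e1291100900000000000000000000000000000000000000000000000000000000000000000000000020100800100000000000041004200000042000000140200000000000)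
  (Net.cons (nat_lit 128) (nat_lit 0x100cb8241e48883596409ac081089600000000000000000000000000000000e84c0841a5542388400c1780928aa8d400000000000000000000000000000000b8bd1849be2e3140c4403c991000010c0000000000000000000000000000000084ac04803d080102806460202eaa25ac000000000000000000000000000000000340533020100c02b02040001798968000000000000000000000000000000000256003201000323a6972281e909109010000000000000000000000000000000000000000000000000000000000000000)
  (Net.cons (nat_lit 64) (nat_lit 0x1a0bae777a900100000000000000004c60907832ae50ac0000000000000000cbb2d5a5569e63a2000000000000000089cd76e1d2005ec0000000000000000027c0201421828090000000000000000013b8c81a84ed8169000000000000000011987282510409a00000000000000000b861250831108d010000000000000000870531f122e2b00600000000000000004ad1394d20a982000000000000000000948784aa0582144800000000000000004402001a8090183b00000000000000005804100aa599084100000000000000000000000000000000)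
  (Net.cons (nat_lit 32) (nat_lit 0xaa51400000000d10628c70000000032926691000000004714de88000000005d55ae44000000006918e469000000008d2afac00000000009329f6400000000b55cd71b00000000f1863abb0000000000f7c54c000000009c1c09f00000000009dc0017000000008ffe924e0000000001e36a1200000000827a8184000000001462cbd20000000041c600b9000000004ba2a4000000000080b0809f0000000000ed47610000000074241a4200000000a528b83a00000000655331020000000083b60005000000001489110b0000000084894b410000000000000000)
  (Net.cons (nat_lit 16) (nat_lit 0x300000fcb0000f941000086d80000a3850000a40100005a16000006660000301a0000d90a000030630000504a0000ca1f000009f200007d9f0000868800001802000048210000cf720000c4490000ac0c00001eb300004c5f0000dc9e00007ee2000040a6000007690000253000008e4100008646000029180000305a00000b270000f5160000f3390000b30b000079200000b6ea00005c690000a8910000cd2900006e3c000006f200001c300000ce6200001ff1000041f1000001d40000668c00004a85000009d40000c5de0000e5c000000648000056b000000000)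
  (Net.cons (nat_lit 8) (nat_lit 0x2400f100bd008b00cd00c0004c004b007700df004a00d400e500b2002400d80036001900fa00ab004400f30053003300f400a8004800b9003c00230025000800f7007300e70032006100400030005f008000f80084003500ed0015005100f2003f009500c0002600c6009700be008b0029003700a5002600bd0045002300c200ac0050005600a10016001000e3009600cb0043000200990001002e007e007f0022006e00da006000750076003a006200980069009800a0008200b000e3009a0034002c0003003200d8006c00b10041007d001200480008006200840000)
  (Net.cons (nat_lit 4) (nat_lit 0x2070f01060e000000060e040b0c0807060909040d0f060e090d000b0f00000c06030c0c010c080c07060f0c01070b0e080006080d080a000a07050e0b0b010c0203030f0c010a0d0c0a0b080005060a05020a02080f0603000401030c040e0a0508020a090f0b080b0a070e0f09090c00060209020c080a0a0f0001040b080f06010608090c0e040d01010306020c010401040e010804050a0f02010e0f0202090f0b0f0c01040b0c01010f0e06030903000a00020a0101050203000d0403030700030e0e08080d040009040606010d0602000c0f0904010c0d0d000c0000)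
  (Net.cons (nat_lit 2) (nat_lit 0x1101222013010110301231011322023210030211113212223001201330210011013001302032222222310212312003120213322120033011103200100133013201002232331223230210113323100220122330032202022101312022210313000110302221131020233202203111222103303113221202330312212022102203032330213122000112020301120333031302312000213233202123230113121213000211033202022112121231103323001102312023113331112122220122022012000222231311233300112231002201301233101000113200130000000)
  (Net.cons (nat_lit 1) (nat_lit 0x4040115505400011044511100011514550404450151015410450150450001011100400451555145504050455545400445000010140054041050015004045544510510145504055044510110510055010515015101010504100011011110451111404445510145115155045005110101100510110400154140004411141104444014440405000044554054515014005444044544045041500110505441411414054100105410545150500040015055040450415440040400554404101015550414144544044101441450114405541040554154041104000105001554050440)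
  Net.nil)))))))))))))))))))))

noncomputable def NL_SZ : List Net := [n_SZ_0,n_SZ_1,n_SZ_2,n_SZ_3,n_SZ_4,n_SZ_5,n_SZ_6]
theorem okL_SZ : okL 1782 NL_SZ = true := by decide +kernel
noncomputable def N_SZ : ℕ → Net := nth NL_SZ
theorem ok_SZ : ∀ a, (N_SZ a).ok 1782 = true := ok_nth okL_SZ

def ps_SZ : List (List ℕ × List ℕ) := [([0,0],[]),([1,1],[]),([2,2],[]),([3,3],[]),([4,4],[]),([5,5],[]),([6,6],[]),([0,1,0,1,0],[1,0,1,0,1]),([0,2],[2,0]),([0,3],[3,0]),([0,4],[4,0]),([0,5],[5,0]),([0,6],[6,0]),([1,2,1],[2,1,2]),([1,3],[3,1]),([1,4],[4,1]),([1,5,1],[5,1,5]),([1,6,1],[6,1,6]),([2,3,2,3,2,3,2,3],[3,2,3,2,3,2,3,2]),([2,4],[4,2]),([2,5],[5,2]),([2,6],[6,2]),([3,4,3],[4,3,4]),([3,5],[5,3]),([3,6],[6,3]),([4,5],[5,4]),([4,6],[6,4]),([5,6,5,6],[6,5,6,5]),([0,3,2,3,2],[2,3,2,3]),([0,6,5],[5,6]),([0,1,2,5,0,1,2,5,0,1],[5,2,1,0,5,2,1,0,5,2]),([1,5,6,1,5,6,1,5],[6,5,1,6,5,1,6]),([1,2,3,2,3,1,2,3,2,3,1,2,3,2,3,1,2,3,2,3,1,2,3,2,3,4,1,2,3,2,3,1,2,3,2,3,1,2,3],[4,3,2,3,2,1,3,2,3,2,1,3,2,3,2,1,3,2,3,2,1,3,2,3,2,1,4,3,2,3,2,1,3,2,3,2,1,3,2]),([0,1,2,0,1,2,0,1],[2,1,0,2,1,0,2])]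

theorem pl_SZ : ∀ j < 11, planeOK N_SZ ps_SZ (plN 1782 11 j) = true := allLt_iff.1 (by decide +kernel)

theorem rels_SZ : Rels (pms N_SZ) R_SZ := rels_of_planes ok_SZ (by decide +kernel) (iv := iv_SZ) pl_SZ (by decide +kernel)

def R_Sa : List (List ℕ) := [[0,0]]
def iv_Sa : List ℕ := [0]
theorem inv_Sa : invOK R_Sa iv_Sa 1 = true := by decide +kernel

theorem imp_SZ_Sa_1001c : impCert R_SZ [0] R_Sa [(0,0)] = true := by decide +kernel
theorem imp_SZ_Sa_1001 : Imp.{u} R_SZ [0] R_Sa := Imp.of_cert imp_SZ_Sa_1001c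

noncomputable def V_1002 : ℕ → Net := renN N_SZ [0]
theorem V_1002_ok : ∀ a, (V_1002 a).ok 1782 = true := ok_renN ok_SZ _
theorem V_1002_rels : Rels (pms V_1002) R_Sa := Rels.renN rels_SZ imp_SZ_Sa_1001

noncomputable def n_Sa_0 : Net := (Net.cons (nat_lit 1) (nat_lit 0x1)
  Net.nil)

noncomputable def NL_Sa : List Net := [n_Sa_0]
theorem okL_Sa : okL 2 NL_Sa = true := by decide +kernel
noncomputable def N_Sa : ℕ → Net := nth NL_Sa
theorem ok_Sa : ∀ a, (N_Sa a).ok 2 = true := ok_nth okL_Sa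

def ps_Sa : List (List ℕ × List ℕ) := [([0,0],[])]

theorem pl_Sa : ∀ j < 1, planeOK N_Sa ps_Sa (plN 2 1 j) = true := allLt_iff.1 (by decide +kernel)

theorem rels_Sa : Rels (pms N_Sa) R_Sa := rels_of_planes ok_Sa (by decide +kernel) (iv := iv_Sa) pl_Sa (by decide +kernel)

def hs_Sa : List (List ℕ × List (List ℕ) × ℕ) := []
theorem hh_Sa : ∀ h ∈ hs_Sa, UI.{u} R_Sa h.1 h.2.1 h.2.2 :=
  List.forall_mem_nil _

theorem e_Sa_0 : erun 2 0 N_Sa R_Sa iv_Sa 1 hs_Sa (stK (ones 2) (mkK 2 (ones 2) [0]))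
  [.grow [0] 1 (ones 2), .rel 0 0]
  (bit 0) (mkK 2 (bit 0) []) = true := by decide +kernel

theorem r_Sa_0 : Run.{u} 2 N_Sa R_Sa 0 (bit 0) (mkK 2 (bit 0) []) (ones 2) (mkK 2 (ones 2) [0]) := (Run.of_cert ok_Sa (by decide +kernel) inv_Sa hh_Sa e_Sa_0 0)

theorem ui_Sa : UI.{u} R_Sa [0] (sing []) 2 :=
  UI.of_run (kp := 0) (O := (ones 2)) ok_Sa (by decide +kernel) rels_Sa r_Sa_0 (by decide +kernel)

theorem ub_Sa : UB.{u} R_Sa [0] 2 :=
  (ui_Sa.mul (UB.nil _) (by decide +kernel) (by decide +kernel)).le (by decide +kernel)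

def R_Sab : List (List ℕ) := [[0,0],[1,1],[0,1,0,1,0,1,0,1,0,1]]
def iv_Sab : List ℕ := [0,1]
theorem inv_Sab : invOK R_Sab iv_Sab 2 = true := by decide +kernel

theorem imp_SZ_Sab_1003c : impCert R_SZ [0,1] R_Sab [(0,0),(1,0),(7,0)] = true := by decide +kernel
theorem imp_SZ_Sab_1003 : Imp.{u} R_SZ [0,1] R_Sab := Imp.of_cert imp_SZ_Sab_1003c

noncomputable def V_1004 : ℕ → Net := renN N_SZ [0,1]
theorem V_1004_ok : ∀ a, (V_1004 a).ok 1782 = true := ok_renN ok_SZ _
theorem V_1004_rels : Rels (pms V_1004) R_Sab := Rels.renN rels_SZ imp_SZ_Sab_1003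

noncomputable def n_Sab_0 : Net := (Net.cons (nat_lit 1) (nat_lit 0x4)
  (Net.cons (nat_lit 2) (nat_lit 0x3)
  (Net.cons (nat_lit 4) (nat_lit 0x1)
  (Net.cons (nat_lit 2) (nat_lit 0x1)
  (Net.cons (nat_lit 1) (nat_lit 0x4)
  Net.nil)))))

noncomputable def n_Sab_1 : Net := (Net.cons (nat_lit 1) (nat_lit 0x5)
  Net.nil)

noncomputable def NL_Sab : List Net := [n_Sab_0,n_Sab_1]
theorem okL_Sab : okL 5 NL_Sab = true := by decide +kernel
noncomputable def N_Sab : ℕ → Net := nth NL_Sab
theorem ok_Sab : ∀ a, (N_Sab a).ok 5 = true := ok_nth okL_Sab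

def ps_Sab : List (List ℕ × List ℕ) := [([0,0],[]),([1,1],[]),([0,1,0,1,0],[1,0,1,0,1])]

theorem pl_Sab : ∀ j < 3, planeOK N_Sab ps_Sab (plN 5 3 j) = true := allLt_iff.1 (by decide +kernel)

theorem rels_Sab : Rels (pms N_Sab) R_Sab := rels_of_planes ok_Sab (by decide +kernel) (iv := iv_Sab) pl_Sab (by decide +kernel)

theorem imp_Sab_Sa_1005c : impCert R_Sab [1] R_Sa [(1,0)] = true := by decide +kernel
theorem imp_Sab_Sa_1005 : Imp.{u} R_Sab [1] R_Sa := Imp.of_cert imp_Sab_Sa_1005c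

theorem imp_Sab_Sa_1006c : impCert R_Sab [0] R_Sa [(0,0)] = true := by decide +kernel
theorem imp_Sab_Sa_1006 : Imp.{u} R_Sab [0] R_Sa := Imp.of_cert imp_Sab_Sa_1006c

def hs_Sab : List (List ℕ × List (List ℕ) × ℕ) := [([1],[],2),([0],[],2)]
theorem hh_Sab : ∀ h ∈ hs_Sab, UI.{u} R_Sab h.1 h.2.1 h.2.2 :=
  List.forall_mem_cons.2 ⟨ub_Sa.ren imp_Sab_Sa_1005 (by decide +kernel) (by decide +kernel),
    List.forall_mem_cons.2 ⟨ub_Sa.ren imp_Sab_Sa_1006 (by decide +kernel) (by decide +kernel),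
    List.forall_mem_nil _⟩⟩

theorem e_Sab_0 : erun 5 0 N_Sab R_Sab iv_Sab 2 hs_Sab (stK (ones 5) (mkK 5 (ones 5) [0,1]))
  [.orb [1] [] 2 0 0 1, .orb [0] [] 2 1 0 1, .orb [1] [] 2 2 0 1, .orb [0] [] 2 3 0 1, .rel 2 1]
  (bit 0) (mkK 5 (bit 0) [0]) = true := by decide +kernel

theorem r_Sab_0 : Run.{u} 5 N_Sab R_Sab 0 (bit 0) (mkK 5 (bit 0) [0]) (ones 5) (mkK 5 (ones 5) [0,1]) := (Run.of_cert ok_Sab (by decide +kernel) inv_Sab hh_Sab e_Sab_0 0)

theorem ui_Sab : UI.{u} R_Sab [0,1] (sing [0]) 5 :=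
  UI.of_run (kp := 0) (O := (ones 5)) ok_Sab (by decide +kernel) rels_Sab r_Sab_0 (by decide +kernel)

theorem ub_Sab : UB.{u} R_Sab [0,1] 10 :=
  (ui_Sab.mul (UI.ren (S := [0]) (W := []) ub_Sa imp_Sab_Sa_1006 (by decide +kernel) rfl) (by decide +kernel) (by decide +kernel)).le (by decide +kernel)

def R_Sac : List (List ℕ) := [[0,0],[1,1],[0,1,0,1]]
def iv_Sac : List ℕ := [0,1]
theorem inv_Sac : invOK R_Sac iv_Sac 2 = true := by decide +kernel

theorem imp_SZ_Sac_1007c : impCert R_SZ [0,2] R_Sac [(0,0),(2,0),(8,0)] = true := by decide +kernel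
theorem imp_SZ_Sac_1007 : Imp.{u} R_SZ [0,2] R_Sac := Imp.of_cert imp_SZ_Sac_1007c

noncomputable def V_1008 : ℕ → Net := renN N_SZ [0,2]
theorem V_1008_ok : ∀ a, (V_1008 a).ok 1782 = true := ok_renN ok_SZ _
theorem V_1008_rels : Rels (pms V_1008) R_Sac := Rels.renN rels_SZ imp_SZ_Sac_1007

noncomputable def n_Sac_0 : Net := Net.nil

noncomputable def n_Sac_1 : Net := (Net.cons (nat_lit 1) (nat_lit 0x1)
  Net.nil)

noncomputable def NL_Sac : List Net := [n_Sac_0,n_Sac_1]
theorem okL_Sac : okL 2 NL_Sac = true := by decide +kernel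
noncomputable def N_Sac : ℕ → Net := nth NL_Sac
theorem ok_Sac : ∀ a, (N_Sac a).ok 2 = true := ok_nth okL_Sac

def ps_Sac : List (List ℕ × List ℕ) := [([0,0],[]),([1,1],[]),([0,1],[1,0])]

theorem pl_Sac : ∀ j < 1, planeOK N_Sac ps_Sac (plN 2 1 j) = true := allLt_iff.1 (by decide +kernel)

theorem rels_Sac : Rels (pms N_Sac) R_Sac := rels_of_planes ok_Sac (by decide +kernel) (iv := iv_Sac) pl_Sac (by decide +kernel)

theorem imp_Sac_Sa_1009c : impCert R_Sac [1] R_Sa [(1,0)] = true := by decide +kernel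
theorem imp_Sac_Sa_1009 : Imp.{u} R_Sac [1] R_Sa := Imp.of_cert imp_Sac_Sa_1009c

def hs_Sac : List (List ℕ × List (List ℕ) × ℕ) := [([1],[],2)]
theorem hh_Sac : ∀ h ∈ hs_Sac, UI.{u} R_Sac h.1 h.2.1 h.2.2 :=
  List.forall_mem_cons.2 ⟨ub_Sa.ren imp_Sac_Sa_1009 (by decide +kernel) (by decide +kernel),
    List.forall_mem_nil _⟩

theorem e_Sac_0 : erun 2 0 N_Sac R_Sac iv_Sac 2 hs_Sac (stK (ones 2) (mkK 2 (ones 2) [0,1]))
  [.orb [1] [] 2 0 0 1, .rel 2 0]
  (bit 0) (mkK 2 (bit 0) [0]) = true := by decide +kernel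

theorem r_Sac_0 : Run.{u} 2 N_Sac R_Sac 0 (bit 0) (mkK 2 (bit 0) [0]) (ones 2) (mkK 2 (ones 2) [0,1]) := (Run.of_cert ok_Sac (by decide +kernel) inv_Sac hh_Sac e_Sac_0 0)

theorem ui_Sac : UI.{u} R_Sac [0,1] (sing [0]) 2 :=
  UI.of_run (kp := 0) (O := (ones 2)) ok_Sac (by decide +kernel) rels_Sac r_Sac_0 (by decide +kernel)

theorem imp_Sac_Sa_1010c : impCert R_Sac [0] R_Sa [(0,0)] = true := by decide +kernel
theorem imp_Sac_Sa_1010 : Imp.{u} R_Sac [0] R_Sa := Imp.of_cert imp_Sac_Sa_1010c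

theorem ub_Sac : UB.{u} R_Sac [0,1] 4 :=
  (ui_Sac.mul (UI.ren (S := [0]) (W := []) ub_Sa imp_Sac_Sa_1010 (by decide +kernel) rfl) (by decide +kernel) (by decide +kernel)).le (by decide +kernel)

def R_H3 : List (List ℕ) := [[0,0],[1,1],[2,2],[0,1,0,1,0,1,0,1,0,1],[0,2,0,2],[1,2,1,2,1,2]]
def iv_H3 : List ℕ := [0,1,2]
theorem inv_H3 : invOK R_H3 iv_H3 3 = true := by decide +kernel

noncomputable def n_H3_0 : Net := (Net.cons (nat_lit 1) (nat_lit 0x154)
  Net.nil)

noncomputable def n_H3_1 : Net := (Net.cons (nat_lit 1) (nat_lit 0x104)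
  (Net.cons (nat_lit 2) (nat_lit 0x312)
  (Net.cons (nat_lit 4) (nat_lit 0xc)
  (Net.cons (nat_lit 8) (nat_lit 0x8)
  (Net.cons (nat_lit 4) (nat_lit 0x8)
  (Net.cons (nat_lit 2) (nat_lit 0x210)
  (Net.cons (nat_lit 1) (nat_lit 0x104)
  Net.nil)))))))

noncomputable def n_H3_2 : Net := (Net.cons (nat_lit 1) (nat_lit 0x401)
  (Net.cons (nat_lit 2) (nat_lit 0x30)
  Net.nil))

noncomputable def NL_H3 : List Net := [n_H3_0,n_H3_1,n_H3_2]
theorem okL_H3 : okL 12 NL_H3 = true := by decide +kernel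
noncomputable def N_H3 : ℕ → Net := nth NL_H3
theorem ok_H3 : ∀ a, (N_H3 a).ok 12 = true := ok_nth okL_H3

def ps_H3 : List (List ℕ × List ℕ) := [([0,0],[]),([1,1],[]),([2,2],[]),([0,1,0,1,0],[1,0,1,0,1]),([0,2],[2,0]),([1,2,1],[2,1,2])]

theorem pl_H3 : ∀ j < 4, planeOK N_H3 ps_H3 (plN 12 4 j) = true := allLt_iff.1 (by decide +kernel)

theorem rels_H3 : Rels (pms N_H3) R_H3 := rels_of_planes ok_H3 (by decide +kernel) (iv := iv_H3) pl_H3 (by decide +kernel)

theorem imp_H3_Sab_1011c : impCert R_H3 [0,1] R_Sab [(0,0),(1,0),(3,0)] = true := by decide +kernel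
theorem imp_H3_Sab_1011 : Imp.{u} R_H3 [0,1] R_Sab := Imp.of_cert imp_H3_Sab_1011c

theorem lb_1012 : LB V_1004 [[1]] [1] 2 :=
  (LB.of_chain (kp := 8) V_1004_ok (by decide +kernel) [(1,1,[[1]])] (by decide +kernel)).cat
    (V_1004_rels.inv inv_Sab) (by decide +kernel) (c := [[0]]) (by decide +kernel)

theorem ui_Sab_1013 : UI.{u} R_Sab [0,1] [[1]] 5 :=
  UI.of_UB ub_Sab V_1004_rels lb_1012 (by decide +kernel) (by decide +kernel)

def hs_H3 : List (List ℕ × List (List ℕ) × ℕ) := [([0,1],[[0]],5),([0,1],[[1]],5)]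
theorem hh_H3 : ∀ h ∈ hs_H3, UI.{u} R_H3 h.1 h.2.1 h.2.2 :=
  List.forall_mem_cons.2 ⟨ui_Sab.ren imp_H3_Sab_1011 (by decide +kernel) (by decide +kernel),
    List.forall_mem_cons.2 ⟨ui_Sab_1013.ren imp_H3_Sab_1011 (by decide +kernel) (by decide +kernel),
    List.forall_mem_nil _⟩⟩

theorem e_H3_0 : erun 12 1 N_H3 R_H3 iv_H3 3 hs_H3 (stK (ones 12) (mkK 12 (ones 12) [0,1,2]))
  [.grow [2] 1 (bit 0), .rel 2 0, .rel 4 0, .orb [0,1] [[0]] 5 1 0 3, .rel 5 1, .rel 4 1, .grow [2] 1 (bit 4), .rel 2 0, .rel 5 0, .orb [0,1] [[1]] 5 6 0 2, .rel 4 1, .rel 5 1, .rel 4 1, .grow [2] 1 (bit 10), .rel 2 0, .rel 4 0, .rel 5 0]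
  (bit 0) (mkK 12 (bit 0) [0,1]) = true := by decide +kernel

theorem r_H3_0 : Run.{u} 12 N_H3 R_H3 0 (bit 0) (mkK 12 (bit 0) [0,1]) (ones 12) (mkK 12 (ones 12) [0,1,2]) := (Run.of_cert ok_H3 (by decide +kernel) inv_H3 hh_H3 e_H3_0 0)

theorem ui_H3 : UI.{u} R_H3 [0,1,2] (sing [0,1]) 12 :=
  UI.of_run (kp := 1) (O := (ones 12)) ok_H3 (by decide +kernel) rels_H3 r_H3_0 (by decide +kernel)

theorem ub_H3 : UB.{u} R_H3 [0,1,2] 120 :=
  (ui_H3.mul (UI.ren (S := [0,1]) (W := []) ub_Sab imp_H3_Sab_1011 (by decide +kernel) rfl) (by decide +kernel) (by decide +kernel)).le (by decide +kernel)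

def R_Sacd : List (List ℕ) := [[0,0],[1,1],[2,2],[0,1,0,1],[0,2,0,2],[1,2,1,2,1,2,1,2,1,2,1,2,1,2,1,2],[0,2,1,2,1,2,1,2,1]]
def iv_Sacd : List ℕ := [0,1,2]
theorem inv_Sacd : invOK R_Sacd iv_Sacd 3 = true := by decide +kernel

theorem imp_SZ_Sacd_1014c : impCert R_SZ [0,2,3] R_Sacd [(0,0),(2,0),(3,0),(8,0),(9,0),(18,0),(28,0)] = true := by decide +kernel
theorem imp_SZ_Sacd_1014 : Imp.{u} R_SZ [0,2,3] R_Sacd := Imp.of_cert imp_SZ_Sacd_1014c

noncomputable def V_1015 : ℕ → Net := renN N_SZ [0,2,3]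
theorem V_1015_ok : ∀ a, (V_1015 a).ok 1782 = true := ok_renN ok_SZ _
theorem V_1015_rels : Rels (pms V_1015) R_Sacd := Rels.renN rels_SZ imp_SZ_Sacd_1014

noncomputable def n_Sacd_0 : Net := Net.nil

noncomputable def n_Sacd_1 : Net := (Net.cons (nat_lit 1) (nat_lit 0x4)
  (Net.cons (nat_lit 2) (nat_lit 0x2)
  (Net.cons (nat_lit 1) (nat_lit 0x4)
  Net.nil)))

noncomputable def n_Sacd_2 : Net := (Net.cons (nat_lit 1) (nat_lit 0x5)
  Net.nil)

noncomputable def NL_Sacd : List Net := [n_Sacd_0,n_Sacd_1,n_Sacd_2]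
theorem okL_Sacd : okL 4 NL_Sacd = true := by decide +kernel
noncomputable def N_Sacd : ℕ → Net := nth NL_Sacd
theorem ok_Sacd : ∀ a, (N_Sacd a).ok 4 = true := ok_nth okL_Sacd

def ps_Sacd : List (List ℕ × List ℕ) := [([0,0],[]),([1,1],[]),([2,2],[]),([0,1],[1,0]),([0,2],[2,0]),([1,2,1,2,1,2,1,2],[2,1,2,1,2,1,2,1]),([0,2,1,2,1],[1,2,1,2])]

theorem pl_Sacd : ∀ j < 2, planeOK N_Sacd ps_Sacd (plN 4 2 j) = true := allLt_iff.1 (by decide +kernel)

theorem rels_Sacd : Rels (pms N_Sacd) R_Sacd := rels_of_planes ok_Sacd (by decide +kernel) (iv := iv_Sacd) pl_Sacd (by decide +kernel)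

theorem imp_Sacd_Sac_1016c : impCert R_Sacd [0,2] R_Sac [(0,0),(2,0),(4,0)] = true := by decide +kernel
theorem imp_Sacd_Sac_1016 : Imp.{u} R_Sacd [0,2] R_Sac := Imp.of_cert imp_Sacd_Sac_1016c

theorem imp_Sacd_Sac_1017c : impCert R_Sacd [0,1] R_Sac [(0,0),(1,0),(3,0)] = true := by decide +kernel
theorem imp_Sacd_Sac_1017 : Imp.{u} R_Sacd [0,1] R_Sac := Imp.of_cert imp_Sacd_Sac_1017c

def hs_Sacd : List (List ℕ × List (List ℕ) × ℕ) := [([0,2],[[0]],2),([0,1],[[0]],2)]
theorem hh_Sacd : ∀ h ∈ hs_Sacd, UI.{u} R_Sacd h.1 h.2.1 h.2.2 :=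
  List.forall_mem_cons.2 ⟨ui_Sac.ren imp_Sacd_Sac_1016 (by decide +kernel) (by decide +kernel),
    List.forall_mem_cons.2 ⟨ui_Sac.ren imp_Sacd_Sac_1017 (by decide +kernel) (by decide +kernel),
    List.forall_mem_nil _⟩⟩

theorem e_Sacd_0 : erun 4 0 N_Sacd R_Sacd iv_Sacd 3 hs_Sacd (stK (ones 4) (mkK 4 (ones 4) [0,1,2]))
  [.orb [0,2] [[0]] 2 0 0 1, .orb [0,1] [[0]] 2 1 0 1, .orb [0,2] [[0]] 2 2 0 1, .rel 6 8]
  (bit 0) (mkK 4 (bit 0) [0,1]) = true := by decide +kernel

theorem r_Sacd_0 : Run.{u} 4 N_Sacd R_Sacd 0 (bit 0) (mkK 4 (bit 0) [0,1]) (ones 4) (mkK 4 (ones 4) [0,1,2]) := (Run.of_cert ok_Sacd (by decide +kernel) inv_Sacd hh_Sacd e_Sacd_0 0)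

theorem ui_Sacd : UI.{u} R_Sacd [0,1,2] (sing [0,1]) 4 :=
  UI.of_run (kp := 0) (O := (ones 4)) ok_Sacd (by decide +kernel) rels_Sacd r_Sacd_0 (by decide +kernel)

theorem ub_Sacd : UB.{u} R_Sacd [0,1,2] 16 :=
  (ui_Sacd.mul (UI.ren (S := [0,1]) (W := []) ub_Sac imp_Sacd_Sac_1017 (by decide +kernel) rfl) (by decide +kernel) (by decide +kernel)).le (by decide +kernel)

def R_abcd0 : List (List ℕ) := [[0,0],[1,1],[2,2],[3,3],[0,1,0,1,0,1,0,1,0,1],[0,2,0,2],[0,3,0,3],[1,2,1,2,1,2],[1,3,1,3],[2,3,2,3,2,3,2,3,2,3,2,3,2,3,2,3],[0,3,2,3,2,3,2,3,2]]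
def iv_abcd0 : List ℕ := [0,1,2,3]
theorem inv_abcd0 : invOK R_abcd0 iv_abcd0 4 = true := by decide +kernel

noncomputable def n_abcd0_0 : Net := (Net.cons (nat_lit 1) (nat_lit 0x1501451501140501010055005441400014)
  (Net.cons (nat_lit 2) (nat_lit 0x21102000130310102010300321233132)
  (Net.cons (nat_lit 4) (nat_lit 0x4000a030a0c0d0c070403000c00010704)
  (Net.cons (nat_lit 8) (nat_lit 0xeb007900c1000500a400e400fd0010)
  (Net.cons (nat_lit 16) (nat_lit 0x4d7d00001fd600002e5900008900)
  (Net.cons (nat_lit 32) (nat_lit 0xf8af30eb0000000000090000)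
  (Net.cons (nat_lit 64) (nat_lit 0xd086002900000069)
  (Net.cons (nat_lit 128) (nat_lit 0x69)
  (Net.cons (nat_lit 64) (nat_lit 0x69)
  (Net.cons (nat_lit 32) (nat_lit 0xd08600690000000000000000)
  (Net.cons (nat_lit 16) (nat_lit 0x8690000d0020000000900000000)
  (Net.cons (nat_lit 8) (nat_lit 0x690079000100810024002000890000)
  (Net.cons (nat_lit 4) (nat_lit 0x4000a0302000800020007040800010100)
  (Net.cons (nat_lit 2) (nat_lit 0x21100000130310102010300321233110)
  (Net.cons (nat_lit 1) (nat_lit 0x1501451501140501010054004401000014)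
  Net.nil)))))))))))))))

noncomputable def n_abcd0_1 : Net := (Net.cons (nat_lit 1) (nat_lit 0x100114450510410100411055005111401)
  (Net.cons (nat_lit 2) (nat_lit 0x1233001330302202032122211203020010)
  (Net.cons (nat_lit 4) (nat_lit 0x20e0a050a0d020508040e040a08000304)
  (Net.cons (nat_lit 8) (nat_lit 0xe600ae00e3005200520071006f0020)
  (Net.cons (nat_lit 16) (nat_lit 0x51ff0000cb2d0000dede0000ce00)
  (Net.cons (nat_lit 32) (nat_lit 0x35f334ca0000000010c60000)
  (Net.cons (nat_lit 64) (nat_lit 0x212110c200000008)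
  (Net.cons (nat_lit 128) (nat_lit 0x8)
  (Net.cons (nat_lit 64) (nat_lit 0x8)
  (Net.cons (nat_lit 32) (nat_lit 0x212110ca0000000000000000)
  (Net.cons (nat_lit 16) (nat_lit 0x10da00000121000010c600000000)
  (Net.cons (nat_lit 8) (nat_lit 0x6400a600e2005200520050004e0000)
  (Net.cons (nat_lit 4) (nat_lit 0xb0a050a0d020508040e040a08000200)
  (Net.cons (nat_lit 2) (nat_lit 0x222000330302202032122211203020010)
  (Net.cons (nat_lit 1) (nat_lit 0x100114050500410100411055005111400)
  Net.nil)))))))))))))))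

noncomputable def n_abcd0_2 : Net := (Net.cons (nat_lit 1) (nat_lit 0x1511504441150540104445151100401510)
  (Net.cons (nat_lit 2) (nat_lit 0x210310033032231122123213201123112)
  (Net.cons (nat_lit 4) (nat_lit 0x709020302060f030400070e0d03030704)
  (Net.cons (nat_lit 8) (nat_lit 0x7300490082001900ae0055005b00b0)
  (Net.cons (nat_lit 16) (nat_lit 0x46de00009f7d0000affa00000b00)
  (Net.cons (nat_lit 32) (nat_lit 0x720bb8f300000000a08a0000)
  (Net.cons (nat_lit 64) (nat_lit 0x1001a08200000050)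
  (Net.cons (nat_lit 128) (nat_lit 0x50)
  (Net.cons (nat_lit 64) (nat_lit 0x50)
  (Net.cons (nat_lit 32) (nat_lit 0x1001a0d20000000000000000)
  (Net.cons (nat_lit 16) (nat_lit 0x6258000010810000a08a00000000)
  (Net.cons (nat_lit 8) (nat_lit 0x500013001900a2001d0022000b0000)
  (Net.cons (nat_lit 4) (nat_lit 0x503000000000800030300090a01030300)
  (Net.cons (nat_lit 2) (nat_lit 0x210211023122230122122212201123110)
  (Net.cons (nat_lit 1) (nat_lit 0x1511504441150540104445151100401510)
  Net.nil)))))))))))))))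

noncomputable def n_abcd0_3 : Net := (Net.cons (nat_lit 1) (nat_lit 0x1154405441454454005004005411444150)
  (Net.cons (nat_lit 2) (nat_lit 0x1331110033220322303232300123032100)
  (Net.cons (nat_lit 4) (nat_lit 0x20e0f0e0b0c040c070e030c0504010708)
  (Net.cons (nat_lit 8) (nat_lit 0xf500b0006600230006006600bf0010)
  (Net.cons (nat_lit 16) (nat_lit 0xad8b0000cd760000bdf90000cd00)
  (Net.cons (nat_lit 32) (nat_lit 0x76af30e90000000000890000)
  (Net.cons (nat_lit 64) (nat_lit 0x4226208900000008)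
  (Net.cons (nat_lit 128) (nat_lit 0x8)
  (Net.cons (nat_lit 64) (nat_lit 0x8)
  (Net.cons (nat_lit 32) (nat_lit 0x422620890000000000000000)
  (Net.cons (nat_lit 16) (nat_lit 0x2489000042240000008900000000)
  (Net.cons (nat_lit 8) (nat_lit 0x9100d4000000450024000000c90000)
  (Net.cons (nat_lit 4) (nat_lit 0xa0b0a0f000000030207000100050100)
  (Net.cons (nat_lit 2) (nat_lit 0x231110033220322303232300123032100)
  (Net.cons (nat_lit 1) (nat_lit 0x1110404441454454005004005411444150)
  Net.nil)))))))))))))))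

noncomputable def NL_abcd0 : List Net := [n_abcd0_0,n_abcd0_1,n_abcd0_2,n_abcd0_3]
theorem okL_abcd0 : okL 135 NL_abcd0 = true := by decide +kernel
noncomputable def N_abcd0 : ℕ → Net := nth NL_abcd0
theorem ok_abcd0 : ∀ a, (N_abcd0 a).ok 135 = true := ok_nth okL_abcd0

def ps_abcd0 : List (List ℕ × List ℕ) := [([0,0],[]),([1,1],[]),([2,2],[]),([3,3],[]),([0,1,0,1,0],[1,0,1,0,1]),([0,2],[2,0]),([0,3],[3,0]),([1,2,1],[2,1,2]),([1,3],[3,1]),([2,3,2,3,2,3,2,3],[3,2,3,2,3,2,3,2]),([0,3,2,3,2],[2,3,2,3])]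

theorem pl_abcd0 : ∀ j < 8, planeOK N_abcd0 ps_abcd0 (plN 135 8 j) = true := allLt_iff.1 (by decide +kernel)

theorem rels_abcd0 : Rels (pms N_abcd0) R_abcd0 := rels_of_planes ok_abcd0 (by decide +kernel) (iv := iv_abcd0) pl_abcd0 (by decide +kernel)

theorem lb_1018 : LB V_1015 [[2]] [4] 2 :=
  (LB.of_chain (kp := 8) V_1015_ok (by decide +kernel) [(4,1,[[2]])] (by decide +kernel)).cat
    (V_1015_rels.inv inv_Sacd) (by decide +kernel) (c := [[0]]) (by decide +kernel)

theorem ui_Sacd_1019 : UI.{u} R_Sacd [0,1,2] [[2]] 8 :=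
  UI.of_UB ub_Sacd V_1015_rels lb_1018 (by decide +kernel) (by decide +kernel)

theorem imp_abcd0_Sacd_1020c : impCert R_abcd0 [0,2,3] R_Sacd [(0,0),(2,0),(3,0),(5,0),(6,0),(9,0),(10,0)] = true := by decide +kernel
theorem imp_abcd0_Sacd_1020 : Imp.{u} R_abcd0 [0,2,3] R_Sacd := Imp.of_cert imp_abcd0_Sacd_1020c

theorem lb_1021 : LB V_1015 [[1]] [2] 2 :=
  (LB.of_chain (kp := 8) V_1015_ok (by decide +kernel) [(2,1,[[1]])] (by decide +kernel)).cat
    (V_1015_rels.inv inv_Sacd) (by decide +kernel) (c := [[0]]) (by decide +kernel)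

theorem ui_Sacd_1022 : UI.{u} R_Sacd [0,1,2] [[1]] 8 :=
  UI.of_UB ub_Sacd V_1015_rels lb_1021 (by decide +kernel) (by decide +kernel)

def hs_abcd0 : List (List ℕ × List (List ℕ) × ℕ) := [([0,2,3],[[3]],8),([0,2,3],[],16),([0,2,3],[[2]],8)]
theorem hh_abcd0 : ∀ h ∈ hs_abcd0, UI.{u} R_abcd0 h.1 h.2.1 h.2.2 :=
  List.forall_mem_cons.2 ⟨ui_Sacd_1019.ren imp_abcd0_Sacd_1020 (by decide +kernel) (by decide +kernel),
    List.forall_mem_cons.2 ⟨ub_Sacd.ren imp_abcd0_Sacd_1020 (by decide +kernel) (by decide +kernel),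
    List.forall_mem_cons.2 ⟨ui_Sacd_1022.ren imp_abcd0_Sacd_1020 (by decide +kernel) (by decide +kernel),
    List.forall_mem_nil _⟩⟩⟩

theorem e_abcd0_0 : erun 135 5 N_abcd0 R_abcd0 iv_abcd0 4 hs_abcd0 (stK (ones 135) (mkK 135 (ones 135) [0,1,2,3]))
  [.grow [1] 1 (bit 0), .rel 1 0, .rel 8 1, .orb [0,2,3] [[3]] 8 1 0 2, .rel 7 0, .rel 8 0, .grow [1] 1 (bit 2), .rel 1 0, .rel 8 1, .orb [0,2,3] [[3]] 8 4 0 2, .rel 4 1, .grow [1] 1 (bit 5), .rel 1 0, .orb [0,2,3] [] 16 9 0 2, .rel 8 0, .rel 7 0, .rel 8 0, .grow [1] 1 (bit 11), .rel 1 0, .rel 7 1, .orb [0,2,3] [[2]] 8 18 0 2, .rel 8 0, .rel 7 0, .rel 8 0, .grow [1] 1 (bit 12), .rel 1 0, .rel 7 1, .grow [1] 1 (bit 15), .rel 1 0, .rel 4 0, .grow [1] 1 (bit 23), .rel 1 0, .orb [0,2,3] [] 16 33 0 2, .rel 8 0, .rel 7 0, .rel 8 0, .grow [1] 1 (bit 28), .rel 1 0, .orb [0,2,3] [] 16 39 0 2, .rel 8 0, .rel 7 0, .rel 4 1, .rel 8 0, .grow [1] 1 (bit 35), .rel 1 0, .orb [0,2,3] [] 16 47 0 2, .rel 8 0, .rel 7 0, .rel 8 0, .grow [1]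 1 (bit 42), .rel 1 0, .grow [1] 1 (bit 45), .rel 1 0, .grow [1] 1 (bit 73), .rel 1 0, .orb [0,2,3] [] 16 92 0 2, .rel 8 0, .rel 7 0, .rel 8 0, .grow [1] 1 (bit 91), .rel 1 0, .rel 7 1, .grow [1] 1 (bit 131), .rel 1 0, .grow [0,2,3] 1 (nat_lit 0x2000000000000000000000000000000000), .rel 3 0, .rel 8 0, .grow [0,2,3] 2 (nat_lit 0x80000), .rel 2 0, .rel 3 0, .rel 8 0, .rel 7 0, .rel 8 0, .grow [0,2,3] 2 (nat_lit 0x1000000), .rel 2 0, .rel 3 0, .rel 6 0, .rel 8 0, .rel 7 0, .rel 5 0, .rel 6 0, .rel 8 0, .grow [0,2,3] 2 (nat_lit 0x4000000000000000000000000000), .rel 2 0, .rel 3 0, .rel 8 0, .grow [0,2,3] 2 (nat_lit 0x400000000000000), .rel 0 0, .rel 2 0, .rel 3 0, .rel 6 0, .rel 8 0, .rel 7 0, .rel 5 0, .rel 6 0, .rel 8 0, .grow [0,2,3] 2 (nat_lit 0x2000000000000000), .rel 0 0, .rel 2 0, .rel 3 0, .rel 6 0, .rel 8 0, .rel 7 0, .rel 4 1, .rel 5 0, .rel 6 0, .rel 8 0, .loc [.dfn 0 19, .imp 2 19 19, .ded 5 1 135 [0,2,1], .dfn 0 29, .imp 3 29 19, .ded 6 1 135 [0,8,7], .dfn 0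 40, .imp 2 40 29, .ded 5 1 136 [6,14,13], .dfn 0 56, .imp 3 56 40, .ded 6 1 137 [12,20,19], .ded 10 8 56 [19,22,16,10,5,11,17,23], .dfn 1 59, .dfn 1 64, .imp 1 66 49, .dfn 1 76, .imp 0 76 58, .dfn 1 78, .imp 3 78 59, .ded 8 1 139 [26,38,37], .dfn 1 81, .dfn 1 84, .imp 3 84 64, .ded 8 1 140 [28,46,45], .dfn 1 86, .imp 0 86 66, .imp 0 49 36, .imp 1 36 26, .imp 0 26 35, .imp 1 35 47, .imp 0 47 64, .ded 4 0 140 [28,62,60,58,56,54,30,52,51], .dfn 1 88, .imp 3 88 76, .ded 8 1 141 [32,68,67], .dfn 1 94, .dfn 1 97, .dfn 1 99, .imp 3 99 94, .ded 8 1 147 [72,78,77], .dfn 1 101, .imp 3 101 81, .ded 8 1 143 [42,84,83], .dfn 1 106, .imp 3 106 86, .ded 8 1 145 [50,90,89], .dfn 1 107, .imp 3 107 97, .ded 8 1 148 [74,96,95], .dfn 1 112, .dfn 1 122, .dfn 1 123, .imp 2 123 127, .imp 1 127 116, .imp 2 116 101, .ded 7 1 150 [82,110,108,106,105], .imp 3 123 122, .ded 8 1 154 [102,114,105], .dfn 1 125, .imp 3 125 112, .ded 8 1 153 [100,120,119], .dfn 1 129, .dfn 1 130, .imp 3 130 129, .ded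 8 1 157 [124,128,127], .dfn 0 133, .dfn 2 133, .dfn 0 134, .imp 3 134 133, .ded 6 1 159 [132,138,137], .dfn 2 134, .imp 1 42 58, .dfn 1 137, .dfn 1 138, .imp 1 56 74, .imp 2 74 94, .ded 7 1 147 [72,152,150,25,149], .ded 8 1 163 [146,23,149], .dfn 0 139, .dfn 2 139, .dfn 2 140, .dfn 0 141, .imp 0 42 32, .imp 1 32 43, .imp 0 43 59, .ded 4 1 165 [158,26,170,168,166,145,34,33,165], .dfn 2 141, .dfn 2 142, .dfn 0 143, .imp 0 81 62, .imp 1 62 46, .imp 0 46 46, .ded 4 1 171 [178,42,181,183,184,182,180,43,179], .dfn 2 143, .imp 2 81 64, .ded 7 0 167 [162,28,190,43,189], .dfn 2 144, .dfn 2 145, .ded 5 0 167 [162,65,197], .imp 2 106 88, .dfn 2 146, .dfn 0 147, .dfn 0 148, .dfn 2 148, .dfn 0 149, .ded 6 1 176 [204,81,211], .dfn 2 149, .imp 2 99 78, .ded 7 0 170 [176,36,216,77,215], .dfn 0 150, .ded 6 1 171 [178,87,221], .dfn 2 151, .ded 7 0 175 [202,66,200,89,225], .dfn 2 152, .dfn 0 153, .dfn 2 153, .imp 2 112 97, .ded 7 0 178 [208,74,234,101,233], .dfn 0 154, .dfn 2 154, .imp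 2 122 107, .ded 7 0 183 [228,94,242,103,241], .dfn 0 155, .ded 5 1 181 [220,113,247], .ded 6 1 186 [238,117,247], .dfn 2 156, .imp 2 125 131, .imp 1 131 133, .ded 7 0 160 [134,256,254,119,253], .dfn 0 157, .dfn 2 158, .imp 2 130 132, .imp 1 132 134, .ded 7 0 162 [142,266,264,127,263], .dfn 2 159, .ded 5 0 160 [134,133,271], .dfn 3 160, .dfn 3 162, .dfn 0 163, .imp 1 40 55, .imp 0 55 73, .imp 1 73 92, .imp 0 92 112, .ded 4 1 184 [230,100,286,284,282,280,13,147,279], .dfn 2 163, .dfn 0 164, .ded 5 1 176 [204,155,293], .ded 6 1 195 [278,157,293], .dfn 2 165, .ded 5 0 166 [160,159,299], .dfn 3 167, .dfn 2 168, .ded 5 0 169 [174,165,305], .dfn 3 170, .dfn 2 171, .ded 5 0 172 [188,179,311], .dfn 3 172, .ded 8 0 199 [302,193,315], .dfn 3 173, .dfn 3 174, .dfn 3 175, .dfn 2 177, .ded 5 0 178 [208,207,325], .dfn 3 178, .dfn 2 179, .ded 5 0 180 [214,211,331], .dfn 3 180, .ded 8 0 201 [308,219,335], .dfn 3 182, .ded 8 0 206 [322,227,339], .dfn 3 183, .dfn 2 184, .ded 5 0 185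 [232,231,345], .dfn 3 185, .ded 8 0 208 [328,237,349], .dfn 1 186, .dfn 2 186, .dfn 3 187, .ded 8 0 212 [342,245,357], .dfn 3 189, .ded 8 0 193 [274,259,361], .dfn 1 190, .dfn 3 192, .ded 6 0 193 [274,273,367], .dfn 2 193, .dfn 2 194, .dfn 2 195, .dfn 3 196, .dfn 1 198, .dfn 3 198, .dfn 2 199, .dfn 1 200, .ded 7 1 225 [378,298,173,305,385], .dfn 3 200, .dfn 2 201, .dfn 1 202, .ded 7 1 231 [392,310,187,311,393], .dfn 3 202, .ded 10 2 217 [356,240,117,112,86,189,313,397], .dfn 2 203, .ded 9 1 216 [354,251,248,222,311,397,398,356,240,117,112,86,189,315,401], .dfn 2 204, .dfn 2 205, .ded 10 3 234 [404,318,194,48,163,199,321,407], .dfn 2 206, .dfn 1 207, .dfn 3 207, .ded 6 0 208 [328,327,415], .dfn 2 208, .dfn 3 209, .ded 10 2 224 [376,290,157,154,81,215,333,421], .dfn 2 210, .ded 9 1 223 [374,297,294,213,331,421,422,376,290,157,154,81,215,335,425], .dfn 2 211, .ded 9 1 227 [382,302,162,49,195,319,405,409,406,320,196,93,225,339,429], .dfn 2 212, .dfn 1 213, .dfn 3 213,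 .ded 6 0 214 [348,347,437], .dfn 2 214, .dfn 0 215, .dfn 2 215, .dfn 1 216, .dfn 2 218, .dfn 0 219, .imp 0 129 122, .ded 4 1 247 [442,352,238,102,452,125,261,365,451], .dfn 2 219, .dfn 2 220, .ded 5 0 221 [370,369,459], .ded 10 3 222 [372,276,142,139,135,273,367,459], .dfn 1 221, .dfn 1 223, .ded 7 1 244 [434,344,289,375,467], .dfn 0 225, .dfn 3 225, .ded 8 0 226 [380,379,473], .dfn 2 226, .ded 10 3 230 [390,308,176,40,161,301,381,477], .dfn 1 227, .dfn 3 228, .ded 8 0 229 [388,385,483], .dfn 2 229, .ded 10 3 236 [410,322,202,70,175,307,389,487], .dfn 1 230, .dfn 3 231, .ded 8 0 232 [396,393,493], .dfn 1 233, .ded 7 1 259 [480,382,317,401,497], .ded 8 1 249 [446,403,497], .dfn 1 236, .dfn 0 237, .dfn 3 237, .ded 8 0 238 [414,413,507], .dfn 2 238, .ded 5 0 239 [418,417,511], .ded 10 3 243 [432,342,228,98,209,327,415,511], .dfn 1 239, .dfn 1 241, .ded 7 1 262 [490,390,337,425,519], .ded 8 1 255 [466,427,519], .dfn 1 242, .ded 7 1 265 [502,410,341,429,525], .ded 8 1 259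 [480,431,525], .dfn 1 243, .ded 7 1 263 [494,398,358,433,531], .dfn 0 244, .dfn 2 245, .ded 5 0 246 [440,439,537], .ded 10 3 250 [448,360,252,122,233,347,437,537], .dfn 1 246, .ded 7 1 269 [516,418,351,441,543], .dfn 2 247, .ded 5 0 248 [444,443,547], .dfn 1 248, .ded 7 1 249 [446,354,353,445,551], .dfn 0 249, .dfn 1 250, .ded 7 1 254 [464,370,363,449,557], .dfn 2 251, .ded 5 0 252 [456,451,561], .dfn 3 256, .ded 6 0 257 [472,471,565], .dfn 2 257, .dfn 1 258, .ded 8 1 262 [490,479,571], .dfn 0 259, .dfn 2 260, .dfn 1 261, .ded 8 1 265 [502,489,579], .dfn 0 264, .ded 5 1 284 [574,499,583], .ded 6 1 278 [554,501,583], .dfn 0 265, .dfn 1 266, .dfn 3 266, .ded 6 0 267 [506,505,593], .dfn 2 267, .dfn 1 268, .ded 8 1 272 [530,515,599], .dfn 0 269, .dfn 0 271, .ded 5 1 288 [588,527,605], .ded 6 1 284 [574,529,605], .dfn 1 273, .ded 4 0 289 [590,504,412,326,237,347,435,535,611], .dfn 3 273, .dfn 1 274, .ded 8 1 279 [556,541,617], .dfn 1 276, .dfn 0 277, .ded 5 1 278 [554,553,623],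 .dfn 1 280, .ded 7 1 298 [620,546,455,561,627], .dfn 2 281, .ded 5 0 282 [568,567,631], .dfn 1 282, .ded 7 1 283 [570,476,475,569,635], .dfn 3 282, .dfn 1 285, .ded 7 1 286 [578,486,485,577,641], .ded 10 3 299 [624,587,584,609,606,588,581,643], .dfn 3 285, .ded 8 0 299 [645,640,647], .dfn 3 289, .ded 8 0 290 [592,591,651], .dfn 2 290, .ded 5 0 291 [596,595,655], .dfn 1 291, .ded 7 1 292 [598,510,509,597,659], .ded 10 0 292 [600,532,492,395,493,533,601,661], .dfn 1 293, .dfn 3 295, .ded 6 0 306 [650,613,667], .ded 8 0 296 [614,611,667], .dfn 2 296, .ded 10 3 302 [636,572,521,522,468,535,615,673], .ded 8 0 303 [638,635,675], .dfn 0 298, .dfn 0 300, .ded 5 1 312 [678,629,681], .dfn 3 301, .ded 6 0 303 [638,633,685], .ded 10 2 305 [646,576,482,386,473,569,633,685], .dfn 2 303, .ded 5 0 305 [689,686,691], .dfn 2 306, .dfn 1 307, .ded 4 0 309 [664,602,516,513,599,663,658,657,697], .dfn 2 310, .ded 5 0 316 [694,669,701], .ded 7 0 315 [690,677,672,671,701], .ded 4 1 312 [678,620,548,551,623,649,693,705,702],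 .full 7 1 313 [682,707,694,652,655,697], .full 0 0 300 [681,708,698], .full 1 0 280 [627,710,664], .full 0 0 252 [563,712,602], .full 2 0 219 [457,714,545], .full 1 0 190 [365,716,542], .full 0 0 157 [261,718,539], .full 1 0 129 [125,720,617], .full 3 0 158 [130,720,540], .full 3 0 130 [129,722,618], .full 2 0 191 [262,724,448], .full 2 0 132 [264,726,558], .full 1 0 162 [269,728,362], .full 1 0 134 [266,730,464], .full 3 0 194 [276,732,274], .full 0 0 161 [136,734,461], .full 2 0 133 [135,737,373], .full 3 0 159 [141,738,462], .full 11 0 159 [742,741], .ded 0 0 133 [745,132], .exp 373], .rel 6 0, .rel 4 1, .rel 7 1, .rel 10 8, .rel 7 0, .rel 4 0, .rel 6 0, .rel 8 0, .rel 7 1, .rel 10 8, .rel 10 2, .rel 10 4, .rel 5 0, .rel 6 0, .rel 7 0, .rel 4 1, .rel 8 0, .rel 7 1, .rel 7 0, .rel 4 0, .rel 5 0, .rel 6 0, .rel 8 0, .rel 7 1, .rel 7 0, .rel 4 1, .rel 8 0, .rel 7 1, .rel 7 0, .rel 10 8, .rel 10 2, .rel 10 4, .rel 4 1, .rel 8 0]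
  (bit 0) (mkK 135 (bit 0) [0,2,3]) = true := by decide +kernel

theorem r_abcd0_0 : Run.{u} 135 N_abcd0 R_abcd0 0 (bit 0) (mkK 135 (bit 0) [0,2,3]) (ones 135) (mkK 135 (ones 135) [0,1,2,3]) := (Run.of_cert ok_abcd0 (by decide +kernel) inv_abcd0 hh_abcd0 e_abcd0_0 0)

theorem ui_abcd0 : UI.{u} R_abcd0 [0,1,2,3] (sing [0,2,3]) 135 :=
  UI.of_run (kp := 5) (O := (ones 135)) ok_abcd0 (by decide +kernel) rels_abcd0 r_abcd0_0 (by decide +kernel)

theorem ub_abcd0 : UB.{u} R_abcd0 [0,1,2,3] 2160 :=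
  (ui_abcd0.mul (UI.ren (S := [0,2,3]) (W := []) ub_Sacd imp_abcd0_Sacd_1020 (by decide +kernel) rfl) (by decide +kernel) (by decide +kernel)).le (by decide +kernel)

theorem lb_1023 : LB N_abcd0 [[0],[1],[2],[3]] [0,19,18,1] 2160 :=
  (LB.of_chain (kp := 5) ok_abcd0 (by decide +kernel) [(0,6,[[0],[1],[2],[3]]),(19,2,[[0],[2],[3]]),(18,1,[[0],[2]]),(1,1,[[2]])] (by decide +kernel)).cat
    (rels_abcd0.inv inv_abcd0) (by decide +kernel) (c := [[0],[2],[4],[6],[0],[4],[6],[0],[4],[4]]) (by decide +kernel)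

theorem orc_abcd0 : Orc.{u} R_abcd0 [0,1,2,3] N_abcd0 [0,19,18,1] := ub_abcd0.oracle rels_abcd0 lb_1023

def R_Sabc : List (List ℕ) := [[0,0],[1,1],[2,2],[0,1,0,1,0,1,0,1,0,1],[0,2,0,2],[1,2,1,2,1,2],[0,1,2,0,1,2,0,1,2,0,1,2,0,1,2]]
def iv_Sabc : List ℕ := [0,1,2]
theorem inv_Sabc : invOK R_Sabc iv_Sabc 3 = true := by decide +kernel

theorem imp_SZ_Sabc_1024c : impCert R_SZ [0,1,2] R_Sabc [(0,0),(1,0),(2,0),(7,0),(8,0),(13,0),(33,0)] = true := by decide +kernel
theorem imp_SZ_Sabc_1024 : Imp.{u} R_SZ [0,1,2] R_Sabc := Imp.of_cert imp_SZ_Sabc_1024c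

noncomputable def V_1025 : ℕ → Net := renN N_SZ [0,1,2]
theorem V_1025_ok : ∀ a, (V_1025 a).ok 1782 = true := ok_renN ok_SZ _
theorem V_1025_rels : Rels (pms V_1025) R_Sabc := Rels.renN rels_SZ imp_SZ_Sabc_1024

noncomputable def n_Sabc_0 : Net := (Net.cons (nat_lit 1) (nat_lit 0x14)
  Net.nil)

noncomputable def n_Sabc_1 : Net := (Net.cons (nat_lit 1) (nat_lit 0x4)
  (Net.cons (nat_lit 2) (nat_lit 0x3)
  (Net.cons (nat_lit 4) (nat_lit 0x1)
  (Net.cons (nat_lit 2) (nat_lit 0x1)
  (Net.cons (nat_lit 1) (nat_lit 0x4)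
  Net.nil)))))

noncomputable def n_Sabc_2 : Net := (Net.cons (nat_lit 1) (nat_lit 0x11)
  Net.nil)

noncomputable def NL_Sabc : List Net := [n_Sabc_0,n_Sabc_1,n_Sabc_2]
theorem okL_Sabc : okL 6 NL_Sabc = true := by decide +kernel
noncomputable def N_Sabc : ℕ → Net := nth NL_Sabc
theorem ok_Sabc : ∀ a, (N_Sabc a).ok 6 = true := ok_nth okL_Sabc

def ps_Sabc : List (List ℕ × List ℕ) := [([0,0],[]),([1,1],[]),([2,2],[]),([0,1,0,1,0],[1,0,1,0,1]),([0,2],[2,0]),([1,2,1],[2,1,2]),([0,1,2,0,1,2,0,1],[2,1,0,2,1,0,2])]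

theorem pl_Sabc : ∀ j < 3, planeOK N_Sabc ps_Sabc (plN 6 3 j) = true := allLt_iff.1 (by decide +kernel)

theorem rels_Sabc : Rels (pms N_Sabc) R_Sabc := rels_of_planes ok_Sabc (by decide +kernel) (iv := iv_Sabc) pl_Sabc (by decide +kernel)

theorem imp_Sabc_Sab_1026c : impCert R_Sabc [0,1] R_Sab [(0,0),(1,0),(3,0)] = true := by decide +kernel
theorem imp_Sabc_Sab_1026 : Imp.{u} R_Sabc [0,1] R_Sab := Imp.of_cert imp_Sabc_Sab_1026c

def hs_Sabc : List (List ℕ × List (List ℕ) × ℕ) := [([0,1],[[0]],5)]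
theorem hh_Sabc : ∀ h ∈ hs_Sabc, UI.{u} R_Sabc h.1 h.2.1 h.2.2 :=
  List.forall_mem_cons.2 ⟨ui_Sab.ren imp_Sabc_Sab_1026 (by decide +kernel) (by decide +kernel),
    List.forall_mem_nil _⟩

theorem e_Sabc_0 : erun 6 0 N_Sabc R_Sabc iv_Sabc 3 hs_Sabc (stK (ones 6) (mkK 6 (ones 6) [0,1,2]))
  [.grow [2] 1 (bit 0), .rel 2 0, .rel 4 0, .orb [0,1] [[0]] 5 1 0 3, .rel 5 1, .rel 4 1, .rel 6 2, .rel 2 0]
  (bit 0) (mkK 6 (bit 0) [0,1]) = true := by decide +kernel

theorem r_Sabc_0 : Run.{u} 6 N_Sabc R_Sabc 0 (bit 0) (mkK 6 (bit 0) [0,1]) (ones 6) (mkK 6 (ones 6) [0,1,2]) := (Run.of_cert ok_Sabc (by decide +kernel) inv_Sabc hh_Sabc e_Sabc_0 0)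

theorem ui_Sabc : UI.{u} R_Sabc [0,1,2] (sing [0,1]) 6 :=
  UI.of_run (kp := 0) (O := (ones 6)) ok_Sabc (by decide +kernel) rels_Sabc r_Sabc_0 (by decide +kernel)

theorem ub_Sabc : UB.{u} R_Sabc [0,1,2] 60 :=
  (ui_Sabc.mul (UI.ren (S := [0,1]) (W := []) ub_Sab imp_Sabc_Sab_1026 (by decide +kernel) rfl) (by decide +kernel) (by decide +kernel)).le (by decide +kernel)

def R_Sabcd : List (List ℕ) := [[0,0],[1,1],[2,2],[3,3],[0,1,0,1,0,1,0,1,0,1],[0,2,0,2],[0,3,0,3],[1,2,1,2,1,2],[1,3,1,3],[2,3,2,3,2,3,2,3,2,3,2,3,2,3,2,3],[0,3,2,3,2,3,2,3,2],[0,1,2,0,1,2,0,1,2,0,1,2,0,1,2]]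
def iv_Sabcd : List ℕ := [0,1,2,3]
theorem inv_Sabcd : invOK R_Sabcd iv_Sabcd 4 = true := by decide +kernel

theorem imp_SZ_Sabcd_1027c : impCert R_SZ [0,1,2,3] R_Sabcd [(0,0),(1,0),(2,0),(3,0),(7,0),(8,0),(9,0),(13,0),(14,0),(18,0),(28,0),(33,0)] = true := by decide +kernel
theorem imp_SZ_Sabcd_1027 : Imp.{u} R_SZ [0,1,2,3] R_Sabcd := Imp.of_cert imp_SZ_Sabcd_1027c

noncomputable def V_1028 : ℕ → Net := renN N_SZ [0,1,2,3]
theorem V_1028_ok : ∀ a, (V_1028 a).ok 1782 = true := ok_renN ok_SZ _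
theorem V_1028_rels : Rels (pms V_1028) R_Sabcd := Rels.renN rels_SZ imp_SZ_Sabcd_1027

noncomputable def n_Sabcd_0 : Net := (Net.cons (nat_lit 1) (nat_lit 0x154440)
  (Net.cons (nat_lit 2) (nat_lit 0x3230320)
  (Net.cons (nat_lit 4) (nat_lit 0x4090f08)
  (Net.cons (nat_lit 8) (nat_lit 0x5e0060)
  (Net.cons (nat_lit 16) (nat_lit 0x600)
  (Net.cons (nat_lit 8) (nat_lit 0x60000)
  (Net.cons (nat_lit 4) (nat_lit 0x1000600)
  (Net.cons (nat_lit 2) (nat_lit 0x12303020)
  (Net.cons (nat_lit 1) (nat_lit 0x1001100)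
  Net.nil)))))))))

noncomputable def n_Sabcd_1 : Net := (Net.cons (nat_lit 1) (nat_lit 0x10400404)
  (Net.cons (nat_lit 2) (nat_lit 0x31200130)
  (Net.cons (nat_lit 4) (nat_lit 0x40f0000)
  (Net.cons (nat_lit 8) (nat_lit 0x990000)
  (Net.cons (nat_lit 16) (nat_lit 0x9000)
  (Net.cons (nat_lit 8) (nat_lit 0x900000)
  (Net.cons (nat_lit 4) (nat_lit 0x90000)
  (Net.cons (nat_lit 2) (nat_lit 0x11200000)
  (Net.cons (nat_lit 1) (nat_lit 0x10400400)
  Net.nil)))))))))

noncomputable def n_Sabcd_2 : Net := (Net.cons (nat_lit 1) (nat_lit 0x10050544)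
  (Net.cons (nat_lit 2) (nat_lit 0x200012102)
  (Net.cons (nat_lit 4) (nat_lit 0xf000f00)
  (Net.cons (nat_lit 8) (nat_lit 0x2d00c0)
  (Net.cons (nat_lit 16) (nat_lit 0xc09)
  (Net.cons (nat_lit 32) (nat_lit 0x9)
  (Net.cons (nat_lit 16) (nat_lit 0x9)
  (Net.cons (nat_lit 8) (nat_lit 0xd0000)
  (Net.cons (nat_lit 4) (nat_lit 0xb000c00)
  (Net.cons (nat_lit 2) (nat_lit 0x200021200)
  (Net.cons (nat_lit 1) (nat_lit 0x10005004)
  Net.nil)))))))))))

noncomputable def n_Sabcd_3 : Net := (Net.cons (nat_lit 1) (nat_lit 0x54115045)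
  (Net.cons (nat_lit 2) (nat_lit 0x311121210)
  (Net.cons (nat_lit 4) (nat_lit 0x10a0f0c)
  (Net.cons (nat_lit 8) (nat_lit 0x6f0030)
  (Net.cons (nat_lit 16) (nat_lit 0x300)
  (Net.cons (nat_lit 8) (nat_lit 0x30000)
  (Net.cons (nat_lit 4) (nat_lit 0xa010300)
  (Net.cons (nat_lit 2) (nat_lit 0x33002120)
  (Net.cons (nat_lit 1) (nat_lit 0x44400510)
  Net.nil)))))))))

noncomputable def NL_Sabcd : List Net := [n_Sabcd_0,n_Sabcd_1,n_Sabcd_2,n_Sabcd_3]
theorem okL_Sabcd : okL 36 NL_Sabcd = true := by decide +kernel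
noncomputable def N_Sabcd : ℕ → Net := nth NL_Sabcd
theorem ok_Sabcd : ∀ a, (N_Sabcd a).ok 36 = true := ok_nth okL_Sabcd

def ps_Sabcd : List (List ℕ × List ℕ) := [([0,0],[]),([1,1],[]),([2,2],[]),([3,3],[]),([0,1,0,1,0],[1,0,1,0,1]),([0,2],[2,0]),([0,3],[3,0]),([1,2,1],[2,1,2]),([1,3],[3,1]),([2,3,2,3,2,3,2,3],[3,2,3,2,3,2,3,2]),([0,3,2,3,2],[2,3,2,3]),([0,1,2,0,1,2,0,1],[2,1,0,2,1,0,2])]

theorem pl_Sabcd : ∀ j < 6, planeOK N_Sabcd ps_Sabcd (plN 36 6 j) = true := allLt_iff.1 (by decide +kernel)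

theorem rels_Sabcd : Rels (pms N_Sabcd) R_Sabcd := rels_of_planes ok_Sabcd (by decide +kernel) (iv := iv_Sabcd) pl_Sabcd (by decide +kernel)

theorem imp_Sabcd_Sacd_1029c : impCert R_Sabcd [0,2,3] R_Sacd [(0,0),(2,0),(3,0),(5,0),(6,0),(9,0),(10,0)] = true := by decide +kernel
theorem imp_Sabcd_Sacd_1029 : Imp.{u} R_Sabcd [0,2,3] R_Sacd := Imp.of_cert imp_Sabcd_Sacd_1029c

theorem lb_1030 : LB V_1025 [[0],[2]] [25,2] 4 :=
  (LB.of_chain (kp := 8) V_1025_ok (by decide +kernel) [(25,1,[[0],[2]]),(2,1,[[2]])] (by decide +kernel)).cat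
    (V_1025_rels.inv inv_Sabc) (by decide +kernel) (c := [[0],[2],[2]]) (by decide +kernel)

theorem ui_Sabc_1031 : UI.{u} R_Sabc [0,1,2] [[0],[2]] 15 :=
  UI.of_UB ub_Sabc V_1025_rels lb_1030 (by decide +kernel) (by decide +kernel)

theorem imp_Sabcd_Sabc_1032c : impCert R_Sabcd [0,1,2] R_Sabc [(0,0),(1,0),(2,0),(4,0),(5,0),(7,0),(11,0)] = true := by decide +kernel
theorem imp_Sabcd_Sabc_1032 : Imp.{u} R_Sabcd [0,1,2] R_Sabc := Imp.of_cert imp_Sabcd_Sabc_1032c

theorem lb_1033 : LB V_1025 [[1],[0,2]] [22,1] 10 :=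
  (LB.of_chain (kp := 8) V_1025_ok (by decide +kernel) [(22,3,[[1],[0,2]]),(1,1,[[1]])] (by decide +kernel)).cat
    (V_1025_rels.inv inv_Sabc) (by decide +kernel) (c := [[0],[2],[0]]) (by decide +kernel)

theorem ui_Sabc_1034 : UI.{u} R_Sabc [0,1,2] [[1],[0,2]] 6 :=
  UI.of_UB ub_Sabc V_1025_rels lb_1033 (by decide +kernel) (by decide +kernel)

theorem lb_1035 : LB V_1015 [[0,1]] [2] 2 :=
  (LB.of_chain (kp := 8) V_1015_ok (by decide +kernel) [(2,1,[[0,1]])] (by decide +kernel)).cat
    (V_1015_rels.inv inv_Sacd) (by decide +kernel) (c := [[0]]) (by decide +kernel)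

theorem ui_Sacd_1036 : UI.{u} R_Sacd [0,1,2] [[0,1]] 8 :=
  UI.of_UB ub_Sacd V_1015_rels lb_1035 (by decide +kernel) (by decide +kernel)

theorem lb_1037 : LB V_1025 [[2],[1,0,2,1]] [1,2] 10 :=
  (LB.of_chain (kp := 8) V_1025_ok (by decide +kernel) [(1,3,[[2],[1,0,2,1]]),(2,1,[[2]])] (by decide +kernel)).cat
    (V_1025_rels.inv inv_Sabc) (by decide +kernel) (c := [[0],[2],[0]]) (by decide +kernel)

theorem ui_Sabc_1038 : UI.{u} R_Sabc [0,1,2] [[2],[1,0,2,1]] 6 :=
  UI.of_UB ub_Sabc V_1025_rels lb_1037 (by decide +kernel) (by decide +kernel)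

def hs_Sabcd : List (List ℕ × List (List ℕ) × ℕ) := [([0,2,3],[[0],[2]],4),([0,1,2],[[0],[2]],15),([0,1,2],[[0],[1]],6),([0,2,3],[[2]],8),([0,1,2],[[1],[0,2]],6),([0,2,3],[[0,2]],8),([0,1,2],[[2],[1,0,2,1]],6)]
theorem hh_Sabcd : ∀ h ∈ hs_Sabcd, UI.{u} R_Sabcd h.1 h.2.1 h.2.2 :=
  List.forall_mem_cons.2 ⟨ui_Sacd.ren imp_Sabcd_Sacd_1029 (by decide +kernel) (by decide +kernel),
    List.forall_mem_cons.2 ⟨ui_Sabc_1031.ren imp_Sabcd_Sabc_1032 (by decide +kernel) (by decide +kernel),
    List.forall_mem_cons.2 ⟨ui_Sabc.ren imp_Sabcd_Sabc_1032 (by decide +kernel) (by decide +kernel),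
    List.forall_mem_cons.2 ⟨ui_Sacd_1022.ren imp_Sabcd_Sacd_1029 (by decide +kernel) (by decide +kernel),
    List.forall_mem_cons.2 ⟨ui_Sabc_1034.ren imp_Sabcd_Sabc_1032 (by decide +kernel) (by decide +kernel),
    List.forall_mem_cons.2 ⟨ui_Sacd_1036.ren imp_Sabcd_Sacd_1029 (by decide +kernel) (by decide +kernel),
    List.forall_mem_cons.2 ⟨ui_Sabc_1038.ren imp_Sabcd_Sabc_1032 (by decide +kernel) (by decide +kernel),
    List.forall_mem_nil _⟩⟩⟩⟩⟩⟩⟩

theorem e_Sabcd_0 : erun 36 3 N_Sabcd R_Sabcd iv_Sabcd 4 hs_Sabcd (stK (ones 36) (mkK 36 (ones 36) [0,1,2,3]))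
  [.orb [0,2,3] [[0],[2]] 4 0 0 2, .rel 8 0, .orb [0,1,2] [[0],[2]] 15 4 0 3, .orb [0,1,2] [[0],[1]] 6 1 1 2, .rel 8 1, .rel 6 1, .rel 8 1, .rel 6 1, .orb [0,2,3] [[2]] 8 3 2 1, .rel 8 0, .orb [0,1,2] [[1],[0,2]] 6 13 1 2, .rel 8 1, .rel 6 1, .rel 8 1, .orb [0,2,3] [[0,2]] 8 7 2 1, .orb [0,2,3] [[2]] 8 22 2 1, .rel 8 0, .orb [0,1,2] [[2],[1,0,2,1]] 6 20 1 1, .rel 8 1, .orb [0,2,3] [[0],[2]] 4 23 2 1, .rel 8 0, .orb [0,2,3] [[0],[2]] 4 27 2 1, .rel 8 0]
  (bit 0) (mkK 36 (bit 0) [0,1,2]) = true := by decide +kernel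

theorem r_Sabcd_0 : Run.{u} 36 N_Sabcd R_Sabcd 0 (bit 0) (mkK 36 (bit 0) [0,1,2]) (ones 36) (mkK 36 (ones 36) [0,1,2,3]) := (Run.of_cert ok_Sabcd (by decide +kernel) inv_Sabcd hh_Sabcd e_Sabcd_0 0)

theorem ui_Sabcd : UI.{u} R_Sabcd [0,1,2,3] (sing [0,1,2]) 36 :=
  UI.of_run (kp := 3) (O := (ones 36)) ok_Sabcd (by decide +kernel) rels_Sabcd r_Sabcd_0 (by decide +kernel)

theorem ub_Sabcd : UB.{u} R_Sabcd [0,1,2,3] 2160 :=
  (ui_Sabcd.mul (UI.ren (S := [0,1,2]) (W := []) ub_Sabc imp_Sabcd_Sabc_1032 (by decide +kernel) rfl) (by decide +kernel) (by decide +kernel)).le (by decide +kernel)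

def R_Sacde : List (List ℕ) := [[0,0],[1,1],[2,2],[3,3],[0,1,0,1],[0,2,0,2],[0,3,0,3],[1,2,1,2,1,2,1,2,1,2,1,2,1,2,1,2],[1,3,1,3],[2,3,2,3,2,3],[0,2,1,2,1,2,1,2,1]]
def iv_Sacde : List ℕ := [0,1,2,3]
theorem inv_Sacde : invOK R_Sacde iv_Sacde 4 = true := by decide +kernel

theorem imp_SZ_Sacde_1039c : impCert R_SZ [0,2,3,4] R_Sacde [(0,0),(2,0),(3,0),(4,0),(8,0),(9,0),(10,0),(18,0),(19,0),(22,0),(28,0)] = true := by decide +kernel
theorem imp_SZ_Sacde_1039 : Imp.{u} R_SZ [0,2,3,4] R_Sacde := Imp.of_cert imp_SZ_Sacde_1039c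

noncomputable def V_1040 : ℕ → Net := renN N_SZ [0,2,3,4]
theorem V_1040_ok : ∀ a, (V_1040 a).ok 1782 = true := ok_renN ok_SZ _
theorem V_1040_rels : Rels (pms V_1040) R_Sacde := Rels.renN rels_SZ imp_SZ_Sacde_1039

noncomputable def n_Sacde_0 : Net := Net.nil

noncomputable def n_Sacde_1 : Net := (Net.cons (nat_lit 1) (nat_lit 0x4)
  Net.nil)

noncomputable def n_Sacde_2 : Net := (Net.cons (nat_lit 1) (nat_lit 0x4)
  (Net.cons (nat_lit 2) (nat_lit 0x3)
  (Net.cons (nat_lit 4) (nat_lit 0x1)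
  (Net.cons (nat_lit 2) (nat_lit 0x1)
  (Net.cons (nat_lit 1) (nat_lit 0x4)
  Net.nil)))))

noncomputable def n_Sacde_3 : Net := (Net.cons (nat_lit 1) (nat_lit 0x11)
  Net.nil)

noncomputable def NL_Sacde : List Net := [n_Sacde_0,n_Sacde_1,n_Sacde_2,n_Sacde_3]
theorem okL_Sacde : okL 6 NL_Sacde = true := by decide +kernel
noncomputable def N_Sacde : ℕ → Net := nth NL_Sacde
theorem ok_Sacde : ∀ a, (N_Sacde a).ok 6 = true := ok_nth okL_Sacde

def ps_Sacde : List (List ℕ × List ℕ) := [([0,0],[]),([1,1],[]),([2,2],[]),([3,3],[]),([0,1],[1,0]),([0,2],[2,0]),([0,3],[3,0]),([1,2,1,2,1,2,1,2],[2,1,2,1,2,1,2,1]),([1,3],[3,1]),([2,3,2],[3,2,3]),([0,2,1,2,1],[1,2,1,2])]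

theorem pl_Sacde : ∀ j < 3, planeOK N_Sacde ps_Sacde (plN 6 3 j) = true := allLt_iff.1 (by decide +kernel)

theorem rels_Sacde : Rels (pms N_Sacde) R_Sacde := rels_of_planes ok_Sacde (by decide +kernel) (iv := iv_Sacde) pl_Sacde (by decide +kernel)

theorem imp_Sacde_Sacd_1041c : impCert R_Sacde [0,1,2] R_Sacd [(0,0),(1,0),(2,0),(4,0),(5,0),(7,0),(10,0)] = true := by decide +kernel
theorem imp_Sacde_Sacd_1041 : Imp.{u} R_Sacde [0,1,2] R_Sacd := Imp.of_cert imp_Sacde_Sacd_1041c

def hs_Sacde : List (List ℕ × List (List ℕ) × ℕ) := [([0,1,2],[[0],[1]],4)]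
theorem hh_Sacde : ∀ h ∈ hs_Sacde, UI.{u} R_Sacde h.1 h.2.1 h.2.2 :=
  List.forall_mem_cons.2 ⟨ui_Sacd.ren imp_Sacde_Sacd_1041 (by decide +kernel) (by decide +kernel),
    List.forall_mem_nil _⟩

theorem e_Sacde_0 : erun 6 0 N_Sacde R_Sacde iv_Sacde 4 hs_Sacde (stK (ones 6) (mkK 6 (ones 6) [0,1,2,3]))
  [.grow [3] 1 (bit 0), .rel 3 0, .rel 6 0, .rel 8 0, .orb [0,1,2] [[0],[1]] 4 1 0 2, .rel 9 1, .rel 8 1, .grow [3] 1 (bit 4), .rel 3 0, .rel 6 0, .rel 8 0, .rel 9 0]
  (bit 0) (mkK 6 (bit 0) [0,1,2]) = true := by decide +kernel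

theorem r_Sacde_0 : Run.{u} 6 N_Sacde R_Sacde 0 (bit 0) (mkK 6 (bit 0) [0,1,2]) (ones 6) (mkK 6 (ones 6) [0,1,2,3]) := (Run.of_cert ok_Sacde (by decide +kernel) inv_Sacde hh_Sacde e_Sacde_0 0)

theorem ui_Sacde : UI.{u} R_Sacde [0,1,2,3] (sing [0,1,2]) 6 :=
  UI.of_run (kp := 0) (O := (ones 6)) ok_Sacde (by decide +kernel) rels_Sacde r_Sacde_0 (by decide +kernel)

theorem ub_Sacde : UB.{u} R_Sacde [0,1,2,3] 96 :=
  (ui_Sacde.mul (UI.ren (S := [0,1,2]) (W := []) ub_Sacd imp_Sacde_Sacd_1041 (by decide +kernel) rfl) (by decide +kernel) (by decide +kernel)).le (by decide +kernel)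

def R_Sabce : List (List ℕ) := [[0,0],[1,1],[2,2],[3,3],[0,1,0,1,0,1,0,1,0,1],[0,2,0,2],[0,3,0,3],[1,2,1,2,1,2],[1,3,1,3],[2,3,2,3],[0,1,2,0,1,2,0,1,2,0,1,2,0,1,2]]
def iv_Sabce : List ℕ := [0,1,2,3]
theorem inv_Sabce : invOK R_Sabce iv_Sabce 4 = true := by decide +kernel

theorem imp_SZ_Sabce_1042c : impCert R_SZ [0,1,2,4] R_Sabce [(0,0),(1,0),(2,0),(4,0),(7,0),(8,0),(10,0),(13,0),(15,0),(19,0),(33,0)] = true := by decide +kernel
theorem imp_SZ_Sabce_1042 : Imp.{u} R_SZ [0,1,2,4] R_Sabce := Imp.of_cert imp_SZ_Sabce_1042c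

noncomputable def V_1043 : ℕ → Net := renN N_SZ [0,1,2,4]
theorem V_1043_ok : ∀ a, (V_1043 a).ok 1782 = true := ok_renN ok_SZ _
theorem V_1043_rels : Rels (pms V_1043) R_Sabce := Rels.renN rels_SZ imp_SZ_Sabce_1042

noncomputable def n_Sabce_0 : Net := Net.nil

noncomputable def n_Sabce_1 : Net := Net.nil

noncomputable def n_Sabce_2 : Net := Net.nil

noncomputable def n_Sabce_3 : Net := (Net.cons (nat_lit 1) (nat_lit 0x1)
  Net.nil)

noncomputable def NL_Sabce : List Net := [n_Sabce_0,n_Sabce_1,n_Sabce_2,n_Sabce_3]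
theorem okL_Sabce : okL 2 NL_Sabce = true := by decide +kernel
noncomputable def N_Sabce : ℕ → Net := nth NL_Sabce
theorem ok_Sabce : ∀ a, (N_Sabce a).ok 2 = true := ok_nth okL_Sabce

def ps_Sabce : List (List ℕ × List ℕ) := [([0,0],[]),([1,1],[]),([2,2],[]),([3,3],[]),([0,1,0,1,0],[1,0,1,0,1]),([0,2],[2,0]),([0,3],[3,0]),([1,2,1],[2,1,2]),([1,3],[3,1]),([2,3],[3,2]),([0,1,2,0,1,2,0,1],[2,1,0,2,1,0,2])]

theorem pl_Sabce : ∀ j < 1, planeOK N_Sabce ps_Sabce (plN 2 1 j) = true := allLt_iff.1 (by decide +kernel)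

theorem rels_Sabce : Rels (pms N_Sabce) R_Sabce := rels_of_planes ok_Sabce (by decide +kernel) (iv := iv_Sabce) pl_Sabce (by decide +kernel)

def hs_Sabce : List (List ℕ × List (List ℕ) × ℕ) := []
theorem hh_Sabce : ∀ h ∈ hs_Sabce, UI.{u} R_Sabce h.1 h.2.1 h.2.2 :=
  List.forall_mem_nil _

theorem e_Sabce_0 : erun 2 0 N_Sabce R_Sabce iv_Sabce 4 hs_Sabce (stK (ones 2) (mkK 2 (ones 2) [0,1,2,3]))
  [.grow [3] 1 (bit 0), .rel 3 0, .rel 6 0, .rel 8 0, .rel 9 0]
  (bit 0) (mkK 2 (bit 0) [0,1,2]) = true := by decide +kernel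

theorem r_Sabce_0 : Run.{u} 2 N_Sabce R_Sabce 0 (bit 0) (mkK 2 (bit 0) [0,1,2]) (ones 2) (mkK 2 (ones 2) [0,1,2,3]) := (Run.of_cert ok_Sabce (by decide +kernel) inv_Sabce hh_Sabce e_Sabce_0 0)

theorem ui_Sabce : UI.{u} R_Sabce [0,1,2,3] (sing [0,1,2]) 2 :=
  UI.of_run (kp := 0) (O := (ones 2)) ok_Sabce (by decide +kernel) rels_Sabce r_Sabce_0 (by decide +kernel)

theorem imp_Sabce_Sabc_1044c : impCert R_Sabce [0,1,2] R_Sabc [(0,0),(1,0),(2,0),(4,0),(5,0),(7,0),(10,0)] = true := by decide +kernel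
theorem imp_Sabce_Sabc_1044 : Imp.{u} R_Sabce [0,1,2] R_Sabc := Imp.of_cert imp_Sabce_Sabc_1044c

theorem ub_Sabce : UB.{u} R_Sabce [0,1,2,3] 120 :=
  (ui_Sabce.mul (UI.ren (S := [0,1,2]) (W := []) ub_Sabc imp_Sabce_Sabc_1044 (by decide +kernel) rfl) (by decide +kernel) (by decide +kernel)).le (by decide +kernel)

def R_Sabcde : List (List ℕ) := [[0,0],[1,1],[2,2],[3,3],[4,4],[0,1,0,1,0,1,0,1,0,1],[0,2,0,2],[0,3,0,3],[0,4,0,4],[1,2,1,2,1,2],[1,3,1,3],[1,4,1,4],[2,3,2,3,2,3,2,3,2,3,2,3,2,3,2,3],[2,4,2,4],[3,4,3,4,3,4],[0,3,2,3,2,3,2,3,2],[1,2,3,2,3,1,2,3,2,3,1,2,3,2,3,1,2,3,2,3,1,2,3,2,3,4,1,2,3,2,3,1,2,3,2,3,1,2,3,2,3,1,2,3,2,3,1,2,3,2,3,4,1,2,3,2,3,1,2,3,2,3,1,2,3,2,3,1,2,3,2,3,1,2,3,2,3,4],[0,1,2,0,1,2,0,1,2,0,1,2,0,1,2]]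
def iv_Sabcde : List ℕ := [0,1,2,3,4]
theorem inv_Sabcde : invOK R_Sabcde iv_Sabcde 5 = true := by decide +kernel

theorem imp_SZ_Sabcde_1045c : impCert R_SZ [0,1,2,3,4] R_Sabcde [(0,0),(1,0),(2,0),(3,0),(4,0),(7,0),(8,0),(9,0),(10,0),(13,0),(14,0),(15,0),(18,0),(19,0),(22,0),(28,0),(32,0),(33,0)] = true := by decide +kernel
theorem imp_SZ_Sabcde_1045 : Imp.{u} R_SZ [0,1,2,3,4] R_Sabcde := Imp.of_cert imp_SZ_Sabcde_1045c

noncomputable def V_1046 : ℕ → Net := renN N_SZ [0,1,2,3,4]
theorem V_1046_ok : ∀ a, (V_1046 a).ok 1782 = true := ok_renN ok_SZ _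
theorem V_1046_rels : Rels (pms V_1046) R_Sabcde := Rels.renN rels_SZ imp_SZ_Sabcde_1045

noncomputable def n_Sabcde_0 : Net := (Net.cons (nat_lit 1) (nat_lit 0x500104011040441004010545454414450541554000004140010001401005014004400)
  (Net.cons (nat_lit 2) (nat_lit 0x233123003110120310121202110001020202103010203310223122202012331200010)
  (Net.cons (nat_lit 4) (nat_lit 0x5050d090f0f040a010e0f060001060b01080f08020801060c060908070c00030e00)
  (Net.cons (nat_lit 8) (nat_lit 0x1c0017002f009500ad00b8006c009400050074008500fa00ca00120012009d0080)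
  (Net.cons (nat_lit 16) (nat_lit 0x9e0000f754000085c00000129000008ac100009a100000689500007ffb00001800)
  (Net.cons (nat_lit 32) (nat_lit 0xb8bdfbff000000009cfe0ddb0000000093f5eb6e0000000062580000)
  (Net.cons (nat_lit 64) (nat_lit 0x6317fef405d7fee000000000000000000004624800000000)
  (Net.cons (nat_lit 128) (nat_lit 0x204900011ea200000000000959860)
  (Net.cons (nat_lit 256) (nat_lit 0x959860)
  (Net.cons (nat_lit 128) (nat_lit 0x959860)
  (Net.cons (nat_lit 64) (nat_lit 0x204900095fa6000000000000000000000000000000000)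
  (Net.cons (nat_lit 32) (nat_lit 0x6695f8e40000000000021c80000000000015ea680000000000000000)
  (Net.cons (nat_lit 16) (nat_lit 0x940000c50000009314000000c000009a9100001a800000e0040000625800000000)
  (Net.cons (nat_lit 8) (nat_lit 0x480043007b00a3009900ac00480000000500f00005007a004a0012001200180000)
  (Net.cons (nat_lit 4) (nat_lit 0x101090f0b0b0208010e0b040001060b01080f08020801060c060908070c00010800)
  (Net.cons (nat_lit 2) (nat_lit 0x233123003110120310121202110001020202103010201310221122202002321200000)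
  (Net.cons (nat_lit 1) (nat_lit 0x500104011040441004010545454414450541554000004140010001401005014004400)
  Net.nil)))))))))))))))))

noncomputable def n_Sabcde_1 : Net := (Net.cons (nat_lit 1) (nat_lit 0x5505414014050445450054000405105551041511010000450014004044000140500050)
  (Net.cons (nat_lit 2) (nat_lit 0x2001203003220312102000231020203133102213132210130000121001300100000030)
  (Net.cons (nat_lit 4) (nat_lit 0xe02030e0d04030e0a0b000008000b0100080b0c0d0c020208060502050a0c08010708)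
  (Net.cons (nat_lit 8) (nat_lit 0xbe00ab009b00cb0032000500440066007a0028006a000500a10001008b00a00020)
  (Net.cons (nat_lit 16) (nat_lit 0xd90000d97e0000907e0000847a00000508000005080000a43e0000f9dd00008000)
  (Net.cons (nat_lit 32) (nat_lit 0x4ea37ff500000000ee3196bf0000000057e36be30000000049c00000)
  (Net.cons (nat_lit 64) (nat_lit 0x98bced4c9cf6eb400000000000000000042209c000000000)
  (Net.cons (nat_lit 128) (nat_lit 0x8818840c04a229400000000000806b00)
  (Net.cons (nat_lit 256) (nat_lit 0x806b00)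
  (Net.cons (nat_lit 128) (nat_lit 0x806b00)
  (Net.cons (nat_lit 64) (nat_lit 0x8818840c04a26b4000000000000000000000000000000000)
  (Net.cons (nat_lit 32) (nat_lit 0x8a06b4000000000883880040000000004a229c00000000000000000)
  (Net.cons (nat_lit 16) (nat_lit 0x80000059140000127400000072000001000000010000000422000049c000000000)
  (Net.cons (nat_lit 8) (nat_lit 0xba00a900b900c90030000500550066007a0028006a000500a10089000100800000)
  (Net.cons (nat_lit 4) (nat_lit 0xc00010c0d06010e080a000008010a0100080a0c0d0c0202080e050a0d020400000200)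
  (Net.cons (nat_lit 2) (nat_lit 0x2001202003220302102000231020203133102213132210130000121001300100000020)
  (Net.cons (nat_lit 1) (nat_lit 0x5505414014050445450054000405105551041511010000450014004044000140500050)
  Net.nil)))))))))))))))))

noncomputable def n_Sabcde_2 : Net := (Net.cons (nat_lit 1) (nat_lit 0x5511041015000145550510410004445011150005415044105411015051000050104004)
  (Net.cons (nat_lit 2) (nat_lit 0x1213303133332303121032010302202320331202101323113202002030111211310000)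
  (Net.cons (nat_lit 4) (nat_lit 0x200020f0103090d090c090d0505050a000c0802020c00010a000109080600090b0e00)
  (Net.cons (nat_lit 8) (nat_lit 0x37000600080007003800e00030004600c800f6005900f400180011000700dd0080)
  (Net.cons (nat_lit 16) (nat_lit 0x4b000056b400000c1e0000544900001887000004d7000021ee00002a7000001800)
  (Net.cons (nat_lit 32) (nat_lit 0xf2c8f97f0000000059778eef00000000ded9f0980000000022100000)
  (Net.cons (nat_lit 64) (nat_lit 0x25e87f5789ce7e910000000000000000c088301000000000)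
  (Net.cons (nat_lit 128) (nat_lit 0x100064180c830100000000000486800)
  (Net.cons (nat_lit 256) (nat_lit 0x486800)
  (Net.cons (nat_lit 128) (nat_lit 0x486800)
  (Net.cons (nat_lit 64) (nat_lit 0x100064180c8781000000000000000000000000000000000)
  (Net.cons (nat_lit 32) (nat_lit 0x2de87d16000000000100460100000000c0c830100000000000000000)
  (Net.cons (nat_lit 16) (nat_lit 0x4800004b08000052690000089f000040d100001481000020880000221000000000)
  (Net.cons (nat_lit 8) (nat_lit 0x2b000c006900d6005900b100a2001600d800c6004900e400180010000200180000)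
  (Net.cons (nat_lit 4) (nat_lit 0x20002060100090401050205050c0d0a000c0002020c00010a00010908060009090800)
  (Net.cons (nat_lit 2) (nat_lit 0x13123133110303103210210300020300331002101323113202002030111201210000)
  (Net.cons (nat_lit 1) (nat_lit 0x5511041015000145550510410004445011150005415044105411015051000050104000)
  Net.nil)))))))))))))))))

noncomputable def n_Sabcde_3 : Net := (Net.cons (nat_lit 1) (nat_lit 0x540101010010540514554544505414110510405100051151104014400414400404014)
  (Net.cons (nat_lit 2) (nat_lit 0x3010032232233303232122330122311333012220201313232223221112202232022332)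
  (Net.cons (nat_lit 4) (nat_lit 0x80b06080305060a0809090f080e0e000c0808090d07030d060604060d0c0d00020b04)
  (Net.cons (nat_lit 8) (nat_lit 0xc30056006700cd0021008e00f900c400a9008d00e700c300710068002c00750018)
  (Net.cons (nat_lit 16) (nat_lit 0x9d0000f180000049520000a0c60000467d000023220000312600007ff70000e008)
  (Net.cons (nat_lit 32) (nat_lit 0xa4b7ffa500000000fae3755200000000cefdcefd000000000aa18000)
  (Net.cons (nat_lit 64) (nat_lit 0x35909affb15ecaeb0000000000000000800c4aa900000000)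
  (Net.cons (nat_lit 128) (nat_lit 0x30001002800c4aa9000000000012ca61)
  (Net.cons (nat_lit 256) (nat_lit 0x12ca61)
  (Net.cons (nat_lit 128) (nat_lit 0x12ca61)
  (Net.cons (nat_lit 64) (nat_lit 0x30001002801ecae900000000000000000000000000000000)
  (Net.cons (nat_lit 32) (nat_lit 0x14928a7b00000000301c900200000000800c4aa90000000000000000)
  (Net.cons (nat_lit 16) (nat_lit 0x19510000e7880000045c0000a2a3000042240000020400000aa100008000)
  (Net.cons (nat_lit 8) (nat_lit 0x1a0097001800120085005a00d30060006500030089008300710028002800610008)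
  (Net.cons (nat_lit 4) (nat_lit 0x1000d0109040d0a060b030a080a000202000407030905010000000009080900020100)
  (Net.cons (nat_lit 2) (nat_lit 0x3010232310002122110100010100111331010020201311232223221112202232000110)
  (Net.cons (nat_lit 1) (nat_lit 0x540101010010540514554544505414110510405100051151104014400414400404014)
  Net.nil)))))))))))))))))

noncomputable def n_Sabcde_4 : Net := (Net.cons (nat_lit 1) (nat_lit 0x4045505504011400551004005100001140515040411105455104100015141051145501)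
  (Net.cons (nat_lit 2) (nat_lit 0x2323313103120302022112331212111013112100113100011213223212313012033020)
  (Net.cons (nat_lit 4) (nat_lit 0x70e0a0b0d0e0401040f0001000409080e0e0a0909000a0f060f070900090c00080200)
  (Net.cons (nat_lit 8) (nat_lit 0x87007d005d00d70014008d00ee002000ac0081003e00d1007a0042002a00b700a0)
  (Net.cons (nat_lit 16) (nat_lit 0x79000078ad0000342b00000aa20000458b0000e9720000c63b0000feff00001e00)
  (Net.cons (nat_lit 32) (nat_lit 0xe776fdfe00000000695f466100000000bdbe79ef0000000040ce0000)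
  (Net.cons (nat_lit 64) (nat_lit 0xdea1cf9e54207f8e0000000000000000002071ce00000000)
  (Net.cons (nat_lit 128) (nat_lit 0x4201821004207d8e0000000000206d04)
  (Net.cons (nat_lit 256) (nat_lit 0x206d04)
  (Net.cons (nat_lit 128) (nat_lit 0x206d04)
  (Net.cons (nat_lit 64) (nat_lit 0x4201821004207d8e00000000000000000000000000000000)
  (Net.cons (nat_lit 32) (nat_lit 0xcca06f0e000000004600ea100000000000207dce0000000000000000)
  (Net.cons (nat_lit 16) (nat_lit 0x200000f82600001820000004030000c9020000c51f00002862000041ce00000000)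
  (Net.cons (nat_lit 8) (nat_lit 0x500ef0057004d00b4008500ec0080003e003100ac00a90083000a0082000e0000)
  (Net.cons (nat_lit 4) (nat_lit 0x50e0a030d04010b0c0d0a060a0e020a03080b0201040b060c0e0e0208000409020800)
  (Net.cons (nat_lit 2) (nat_lit 0x2223201103101020022110202212311000210300100322010031223032311022021200)
  (Net.cons (nat_lit 1) (nat_lit 0x4045505504011400551004005100001140515040411105455104100015041000011100)
  Net.nil)))))))))))))))))

noncomputable def NL_Sabcde : List Net := [n_Sabcde_0,n_Sabcde_1,n_Sabcde_2,n_Sabcde_3,n_Sabcde_4]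
theorem okL_Sabcde : okL 280 NL_Sabcde = true := by decide +kernel
noncomputable def N_Sabcde : ℕ → Net := nth NL_Sabcde
theorem ok_Sabcde : ∀ a, (N_Sabcde a).ok 280 = true := ok_nth okL_Sabcde

def ps_Sabcde : List (List ℕ × List ℕ) := [([0,0],[]),([1,1],[]),([2,2],[]),([3,3],[]),([4,4],[]),([0,1,0,1,0],[1,0,1,0,1]),([0,2],[2,0]),([0,3],[3,0]),([0,4],[4,0]),([1,2,1],[2,1,2]),([1,3],[3,1]),([1,4],[4,1]),([2,3,2,3,2,3,2,3],[3,2,3,2,3,2,3,2]),([2,4],[4,2]),([3,4,3],[4,3,4]),([0,3,2,3,2],[2,3,2,3]),([1,2,3,2,3,1,2,3,2,3,1,2,3,2,3,1,2,3,2,3,1,2,3,2,3,4,1,2,3,2,3,1,2,3,2,3,1,2,3],[4,3,2,3,2,1,3,2,3,2,1,3,2,3,2,1,3,2,3,2,1,3,2,3,2,1,4,3,2,3,2,1,3,2,3,2,1,3,2]),([0,1,2,0,1,2,0,1],[2,1,0,2,1,0,2])]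

theorem pl_Sabcde : ∀ j < 9, planeOK N_Sabcde ps_Sabcde (plN 280 9 j) = true := allLt_iff.1 (by decide +kernel)

theorem rels_Sabcde : Rels (pms N_Sabcde) R_Sabcde := rels_of_planes ok_Sabcde (by decide +kernel) (iv := iv_Sabcde) pl_Sabcde (by decide +kernel)

theorem imp_Sabcde_Sacde_1047c : impCert R_Sabcde [0,2,3,4] R_Sacde [(0,0),(2,0),(3,0),(4,0),(6,0),(7,0),(8,0),(12,0),(13,0),(14,0),(15,0)] = true := by decide +kernel
theorem imp_Sabcde_Sacde_1047 : Imp.{u} R_Sabcde [0,2,3,4] R_Sacde := Imp.of_cert imp_Sabcde_Sacde_1047c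

theorem lb_1048 : LB V_1028 [[0],[2],[3]] [16,25,2] 16 :=
  (LB.of_chain (kp := 8) V_1028_ok (by decide +kernel) [(16,2,[[0],[2],[3]]),(25,1,[[0],[2]]),(2,1,[[2]])] (by decide +kernel)).cat
    (V_1028_rels.inv inv_Sabcd) (by decide +kernel) (c := [[0],[2],[4],[0],[2],[2]]) (by decide +kernel)

theorem ui_Sabcd_1049 : UI.{u} R_Sabcd [0,1,2,3] [[0],[2],[3]] 135 :=
  UI.of_UB ub_Sabcd V_1028_rels lb_1048 (by decide +kernel) (by decide +kernel)

theorem imp_Sabcde_Sabcd_1050c : impCert R_Sabcde [0,1,2,3] R_Sabcd [(0,0),(1,0),(2,0),(3,0),(5,0),(6,0),(7,0),(9,0),(10,0),(12,0),(15,0),(17,0)] = true := by decide +kernel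
theorem imp_Sabcde_Sabcd_1050 : Imp.{u} R_Sabcde [0,1,2,3] R_Sabcd := Imp.of_cert imp_Sabcde_Sabcd_1050c

theorem lb_1051 : LB V_1028 [[1],[0,1,2,1,3,2,1,0]] [4,1] 20 :=
  (LB.of_chain (kp := 8) V_1028_ok (by decide +kernel) [(4,5,[[1],[0,1,2,1,3,2,1,0]]),(1,1,[[1]])] (by decide +kernel)).cat
    (V_1028_rels.inv inv_Sabcd) (by decide +kernel) (c := [[0],[2],[0]]) (by decide +kernel)

theorem ui_Sabcd_1052 : UI.{u} R_Sabcd [0,1,2,3] [[1],[0,1,2,1,3,2,1,0]] 108 :=
  UI.of_UB ub_Sabcd V_1028_rels lb_1051 (by decide +kernel) (by decide +kernel)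

def hs_Sabcde : List (List ℕ × List (List ℕ) × ℕ) := [([0,2,3,4],[[0],[2],[3]],6),([0,1,2,3],[[0],[2],[3]],135),([0,1,2,3],[[0],[1],[2]],36),([0,2,3,4],[],96),([0,1,2,3],[[1],[0,1,2,1,3,2,1,0]],108)]
theorem hh_Sabcde : ∀ h ∈ hs_Sabcde, UI.{u} R_Sabcde h.1 h.2.1 h.2.2 :=
  List.forall_mem_cons.2 ⟨ui_Sacde.ren imp_Sabcde_Sacde_1047 (by decide +kernel) (by decide +kernel),
    List.forall_mem_cons.2 ⟨ui_Sabcd_1049.ren imp_Sabcde_Sabcd_1050 (by decide +kernel) (by decide +kernel),
    List.forall_mem_cons.2 ⟨ui_Sabcd.ren imp_Sabcde_Sabcd_1050 (by decide +kernel) (by decide +kernel),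
    List.forall_mem_cons.2 ⟨ub_Sacde.ren imp_Sabcde_Sacde_1047 (by decide +kernel) (by decide +kernel),
    List.forall_mem_cons.2 ⟨ui_Sabcd_1052.ren imp_Sabcde_Sabcd_1050 (by decide +kernel) (by decide +kernel),
    List.forall_mem_nil _⟩⟩⟩⟩⟩

theorem e_Sabcde_0 : erun 280 6 N_Sabcde R_Sabcde iv_Sabcde 5 hs_Sabcde (stK (ones 280) (mkK 280 (ones 280) [0,1,2,3,4]))
  [.orb [0,2,3,4] [[0],[2],[3]] 6 0 0 3, .rel 11 0, .rel 10 0, .orb [0,1,2,3] [[0],[2],[3]] 135 8 0 6, .orb [0,1,2,3] [[0],[1],[2]] 36 1 2 3, .rel 11 1, .rel 13 1, .rel 8 1, .rel 11 1, .rel 13 1, .rel 8 1, .rel 11 1, .rel 16 25, .rel 4 0, .rel 14 1, .rel 13 1, .rel 11 1, .rel 8 1, .rel 11 1, .orb [0,2,3,4] [] 96 87 5 2, .rel 11 0, .rel 10 0, .orb [0,1,2,3] [[1],[0,1,2,1,3,2,1,0]] 108 171 2 2, .rel 11 1, .rel 13 1, .rel 14 1, .rel 8 1, .rel 11 1, .rel 13 1]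
  (bit 0) (mkK 280 (bit 0) [0,1,2,3]) = true := by decide +kernel

theorem r_Sabcde_0 : Run.{u} 280 N_Sabcde R_Sabcde 0 (bit 0) (mkK 280 (bit 0) [0,1,2,3]) (ones 280) (mkK 280 (ones 280) [0,1,2,3,4]) := (Run.of_cert ok_Sabcde (by decide +kernel) inv_Sabcde hh_Sabcde e_Sabcde_0 0)

theorem ui_Sabcde : UI.{u} R_Sabcde [0,1,2,3,4] (sing [0,1,2,3]) 280 :=
  UI.of_run (kp := 6) (O := (ones 280)) ok_Sabcde (by decide +kernel) rels_Sabcde r_Sabcde_0 (by decide +kernel)

theorem ub_Sabcde : UB.{u} R_Sabcde [0,1,2,3,4] 604800 :=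
  (ui_Sabcde.mul (UI.ren (S := [0,1,2,3]) (W := []) ub_Sabcd imp_Sabcde_Sabcd_1050 (by decide +kernel) rfl) (by decide +kernel) (by decide +kernel)).le (by decide +kernel)

def R_Sabcf : List (List ℕ) := [[0,0],[1,1],[2,2],[3,3],[0,1,0,1,0,1,0,1,0,1],[0,2,0,2],[0,3,0,3],[1,2,1,2,1,2],[1,3,1,3,1,3],[2,3,2,3],[0,1,2,3,0,1,2,3,0,1,2,3,0,1,2,3,0,1,2,3],[0,1,2,0,1,2,0,1,2,0,1,2,0,1,2]]
def iv_Sabcf : List ℕ := [0,1,2,3]
theorem inv_Sabcf : invOK R_Sabcf iv_Sabcf 4 = true := by decide +kernel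

theorem imp_SZ_Sabcf_1053c : impCert R_SZ [0,1,2,5] R_Sabcf [(0,0),(1,0),(2,0),(5,0),(7,0),(8,0),(11,0),(13,0),(16,0),(20,0),(30,0),(33,0)] = true := by decide +kernel
theorem imp_SZ_Sabcf_1053 : Imp.{u} R_SZ [0,1,2,5] R_Sabcf := Imp.of_cert imp_SZ_Sabcf_1053c

noncomputable def V_1054 : ℕ → Net := renN N_SZ [0,1,2,5]
theorem V_1054_ok : ∀ a, (V_1054 a).ok 1782 = true := ok_renN ok_SZ _
theorem V_1054_rels : Rels (pms V_1054) R_Sabcf := Rels.renN rels_SZ imp_SZ_Sabcf_1053

noncomputable def n_Sabcf_0 : Net := (Net.cons (nat_lit 1) (nat_lit 0x1001404)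
  (Net.cons (nat_lit 2) (nat_lit 0x13200130)
  (Net.cons (nat_lit 4) (nat_lit 0x7050a00)
  (Net.cons (nat_lit 8) (nat_lit 0x780000)
  (Net.cons (nat_lit 16) (nat_lit 0x5000)
  (Net.cons (nat_lit 8) (nat_lit 0x500000)
  (Net.cons (nat_lit 4) (nat_lit 0x2050000)
  (Net.cons (nat_lit 2) (nat_lit 0x2200000)
  (Net.cons (nat_lit 1) (nat_lit 0x1001400)
  Net.nil)))))))))

noncomputable def n_Sabcf_1 : Net := (Net.cons (nat_lit 1) (nat_lit 0x15401014)
  (Net.cons (nat_lit 2) (nat_lit 0x22221112)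
  (Net.cons (nat_lit 4) (nat_lit 0x9070504)
  (Net.cons (nat_lit 8) (nat_lit 0xab0010)
  (Net.cons (nat_lit 16) (nat_lit 0xa900)
  (Net.cons (nat_lit 8) (nat_lit 0xa90000)
  (Net.cons (nat_lit 4) (nat_lit 0x30100)
  (Net.cons (nat_lit 2) (nat_lit 0x22221110)
  (Net.cons (nat_lit 1) (nat_lit 0x4401014)
  Net.nil)))))))))

noncomputable def n_Sabcf_2 : Net := (Net.cons (nat_lit 1) (nat_lit 0x14010540)
  (Net.cons (nat_lit 2) (nat_lit 0x32012110)
  (Net.cons (nat_lit 4) (nat_lit 0x1000f0c)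
  (Net.cons (nat_lit 8) (nat_lit 0x8b0030)
  (Net.cons (nat_lit 16) (nat_lit 0x300)
  (Net.cons (nat_lit 8) (nat_lit 0x30000)
  (Net.cons (nat_lit 4) (nat_lit 0x300)
  (Net.cons (nat_lit 2) (nat_lit 0x32012110)
  (Net.cons (nat_lit 1) (nat_lit 0x10010540)
  Net.nil)))))))))

noncomputable def n_Sabcf_3 : Net := (Net.cons (nat_lit 1) (nat_lit 0x50540041)
  (Net.cons (nat_lit 2) (nat_lit 0x30213000)
  (Net.cons (nat_lit 4) (nat_lit 0xc020300)
  (Net.cons (nat_lit 8) (nat_lit 0x4c0060)
  (Net.cons (nat_lit 16) (nat_lit 0xc00)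
  (Net.cons (nat_lit 8) (nat_lit 0xc0000)
  (Net.cons (nat_lit 4) (nat_lit 0x4000200)
  (Net.cons (nat_lit 2) (nat_lit 0x20211000)
  (Net.cons (nat_lit 1) (nat_lit 0x50440040)
  Net.nil)))))))))

noncomputable def NL_Sabcf : List Net := [n_Sabcf_0,n_Sabcf_1,n_Sabcf_2,n_Sabcf_3]
theorem okL_Sabcf : okL 32 NL_Sabcf = true := by decide +kernel
noncomputable def N_Sabcf : ℕ → Net := nth NL_Sabcf
theorem ok_Sabcf : ∀ a, (N_Sabcf a).ok 32 = true := ok_nth okL_Sabcf

def ps_Sabcf : List (List ℕ × List ℕ) := [([0,0],[]),([1,1],[]),([2,2],[]),([3,3],[]),([0,1,0,1,0],[1,0,1,0,1]),([0,2],[2,0]),([0,3],[3,0]),([1,2,1],[2,1,2]),([1,3,1],[3,1,3]),([2,3],[3,2]),([0,1,2,3,0,1,2,3,0,1],[3,2,1,0,3,2,1,0,3,2]),([0,1,2,0,1,2,0,1],[2,1,0,2,1,0,2])]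

theorem pl_Sabcf : ∀ j < 5, planeOK N_Sabcf ps_Sabcf (plN 32 5 j) = true := allLt_iff.1 (by decide +kernel)

theorem rels_Sabcf : Rels (pms N_Sabcf) R_Sabcf := rels_of_planes ok_Sabcf (by decide +kernel) (iv := iv_Sabcf) pl_Sabcf (by decide +kernel)

theorem imp_Sabcf_H3_1055c : impCert R_Sabcf [0,1,3] R_H3 [(0,0),(1,0),(3,0),(4,0),(6,0),(8,0)] = true := by decide +kernel
theorem imp_Sabcf_H3_1055 : Imp.{u} R_Sabcf [0,1,3] R_H3 := Imp.of_cert imp_Sabcf_H3_1055c

theorem imp_Sabcf_Sabc_1056c : impCert R_Sabcf [0,1,2] R_Sabc [(0,0),(1,0),(2,0),(4,0),(5,0),(7,0),(11,0)] = true := by decide +kernel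
theorem imp_Sabcf_Sabc_1056 : Imp.{u} R_Sabcf [0,1,2] R_Sabc := Imp.of_cert imp_Sabcf_Sabc_1056c

theorem lb_1057 : LB N_H3 [[1],[2]] [0,1] 6 :=
  (LB.of_chain (kp := 1) ok_H3 (by decide +kernel) [(0,2,[[1],[2]]),(1,1,[[1]])] (by decide +kernel)).cat
    (rels_H3.inv inv_H3) (by decide +kernel) (c := [[0],[2],[0]]) (by decide +kernel)

theorem ui_H3_1058 : UI.{u} R_H3 [0,1,2] [[1],[2]] 20 :=
  UI.of_UB ub_H3 rels_H3 lb_1057 (by decide +kernel) (by decide +kernel)

def hs_Sabcf : List (List ℕ × List (List ℕ) × ℕ) := [([0,1,3],[[0],[1]],12),([0,1,2],[[0],[2]],15),([0,1,3],[[1],[3]],20)]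
theorem hh_Sabcf : ∀ h ∈ hs_Sabcf, UI.{u} R_Sabcf h.1 h.2.1 h.2.2 :=
  List.forall_mem_cons.2 ⟨ui_H3.ren imp_Sabcf_H3_1055 (by decide +kernel) (by decide +kernel),
    List.forall_mem_cons.2 ⟨ui_Sabc_1031.ren imp_Sabcf_Sabc_1056 (by decide +kernel) (by decide +kernel),
    List.forall_mem_cons.2 ⟨ui_H3_1058.ren imp_Sabcf_H3_1055 (by decide +kernel) (by decide +kernel),
    List.forall_mem_nil _⟩⟩⟩

theorem e_Sabcf_0 : erun 32 2 N_Sabcf R_Sabcf iv_Sabcf 4 hs_Sabcf (stK (ones 32) (mkK 32 (ones 32) [0,1,2,3]))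
  [.orb [0,1,3] [[0],[1]] 12 0 0 5, .rel 9 0, .orb [0,1,2] [[0],[2]] 15 1 3 3, .rel 9 1, .rel 10 3, .rel 3 0, .rel 6 1, .orb [0,1,3] [[1],[3]] 20 4 3 4, .rel 9 0, .rel 10 2, .rel 2 0, .rel 7 1, .rel 5 1, .rel 7 1, .rel 9 0]
  (bit 0) (mkK 32 (bit 0) [0,1,2]) = true := by decide +kernel

theorem r_Sabcf_0 : Run.{u} 32 N_Sabcf R_Sabcf 0 (bit 0) (mkK 32 (bit 0) [0,1,2]) (ones 32) (mkK 32 (ones 32) [0,1,2,3]) := (Run.of_cert ok_Sabcf (by decide +kernel) inv_Sabcf hh_Sabcf e_Sabcf_0 0)

theorem ui_Sabcf : UI.{u} R_Sabcf [0,1,2,3] (sing [0,1,2]) 32 :=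
  UI.of_run (kp := 2) (O := (ones 32)) ok_Sabcf (by decide +kernel) rels_Sabcf r_Sabcf_0 (by decide +kernel)

theorem ub_Sabcf : UB.{u} R_Sabcf [0,1,2,3] 1920 :=
  (ui_Sabcf.mul (UI.ren (S := [0,1,2]) (W := []) ub_Sabc imp_Sabcf_Sabc_1056 (by decide +kernel) rfl) (by decide +kernel) (by decide +kernel)).le (by decide +kernel)

def R_Sacdf : List (List ℕ) := [[0,0],[1,1],[2,2],[3,3],[0,1,0,1],[0,2,0,2],[0,3,0,3],[1,2,1,2,1,2,1,2,1,2,1,2,1,2,1,2],[1,3,1,3],[2,3,2,3],[0,2,1,2,1,2,1,2,1]]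
def iv_Sacdf : List ℕ := [0,1,2,3]
theorem inv_Sacdf : invOK R_Sacdf iv_Sacdf 4 = true := by decide +kernel

theorem imp_SZ_Sacdf_1059c : impCert R_SZ [0,2,3,5] R_Sacdf [(0,0),(2,0),(3,0),(5,0),(8,0),(9,0),(11,0),(18,0),(20,0),(23,0),(28,0)] = true := by decide +kernel
theorem imp_SZ_Sacdf_1059 : Imp.{u} R_SZ [0,2,3,5] R_Sacdf := Imp.of_cert imp_SZ_Sacdf_1059c

noncomputable def V_1060 : ℕ → Net := renN N_SZ [0,2,3,5]
theorem V_1060_ok : ∀ a, (V_1060 a).ok 1782 = true := ok_renN ok_SZ _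
theorem V_1060_rels : Rels (pms V_1060) R_Sacdf := Rels.renN rels_SZ imp_SZ_Sacdf_1059

noncomputable def n_Sacdf_0 : Net := Net.nil

noncomputable def n_Sacdf_1 : Net := Net.nil

noncomputable def n_Sacdf_2 : Net := Net.nil

noncomputable def n_Sacdf_3 : Net := (Net.cons (nat_lit 1) (nat_lit 0x1)
  Net.nil)

noncomputable def NL_Sacdf : List Net := [n_Sacdf_0,n_Sacdf_1,n_Sacdf_2,n_Sacdf_3]
theorem okL_Sacdf : okL 2 NL_Sacdf = true := by decide +kernel
noncomputable def N_Sacdf : ℕ → Net := nth NL_Sacdf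
theorem ok_Sacdf : ∀ a, (N_Sacdf a).ok 2 = true := ok_nth okL_Sacdf

def ps_Sacdf : List (List ℕ × List ℕ) := [([0,0],[]),([1,1],[]),([2,2],[]),([3,3],[]),([0,1],[1,0]),([0,2],[2,0]),([0,3],[3,0]),([1,2,1,2,1,2,1,2],[2,1,2,1,2,1,2,1]),([1,3],[3,1]),([2,3],[3,2]),([0,2,1,2,1],[1,2,1,2])]

theorem pl_Sacdf : ∀ j < 1, planeOK N_Sacdf ps_Sacdf (plN 2 1 j) = true := allLt_iff.1 (by decide +kernel)

theorem rels_Sacdf : Rels (pms N_Sacdf) R_Sacdf := rels_of_planes ok_Sacdf (by decide +kernel) (iv := iv_Sacdf) pl_Sacdf (by decide +kernel)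

def hs_Sacdf : List (List ℕ × List (List ℕ) × ℕ) := []
theorem hh_Sacdf : ∀ h ∈ hs_Sacdf, UI.{u} R_Sacdf h.1 h.2.1 h.2.2 :=
  List.forall_mem_nil _

theorem e_Sacdf_0 : erun 2 0 N_Sacdf R_Sacdf iv_Sacdf 4 hs_Sacdf (stK (ones 2) (mkK 2 (ones 2) [0,1,2,3]))
  [.grow [3] 1 (bit 0), .rel 3 0, .rel 6 0, .rel 8 0, .rel 9 0]
  (bit 0) (mkK 2 (bit 0) [0,1,2]) = true := by decide +kernel

theorem r_Sacdf_0 : Run.{u} 2 N_Sacdf R_Sacdf 0 (bit 0) (mkK 2 (bit 0) [0,1,2]) (ones 2) (mkK 2 (ones 2) [0,1,2,3]) := (Run.of_cert ok_Sacdf (by decide +kernel) inv_Sacdf hh_Sacdf e_Sacdf_0 0)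

theorem ui_Sacdf : UI.{u} R_Sacdf [0,1,2,3] (sing [0,1,2]) 2 :=
  UI.of_run (kp := 0) (O := (ones 2)) ok_Sacdf (by decide +kernel) rels_Sacdf r_Sacdf_0 (by decide +kernel)

theorem imp_Sacdf_Sacd_1061c : impCert R_Sacdf [0,1,2] R_Sacd [(0,0),(1,0),(2,0),(4,0),(5,0),(7,0),(10,0)] = true := by decide +kernel
theorem imp_Sacdf_Sacd_1061 : Imp.{u} R_Sacdf [0,1,2] R_Sacd := Imp.of_cert imp_Sacdf_Sacd_1061c

theorem ub_Sacdf : UB.{u} R_Sacdf [0,1,2,3] 32 :=
  (ui_Sacdf.mul (UI.ren (S := [0,1,2]) (W := []) ub_Sacd imp_Sacdf_Sacd_1061 (by decide +kernel) rfl) (by decide +kernel) (by decide +kernel)).le (by decide +kernel)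

def R_Sabcdf : List (List ℕ) := [[0,0],[1,1],[2,2],[3,3],[4,4],[0,1,0,1,0,1,0,1,0,1],[0,2,0,2],[0,3,0,3],[0,4,0,4],[1,2,1,2,1,2],[1,3,1,3],[1,4,1,4,1,4],[2,3,2,3,2,3,2,3,2,3,2,3,2,3,2,3],[2,4,2,4],[3,4,3,4],[0,3,2,3,2,3,2,3,2],[0,1,2,4,0,1,2,4,0,1,2,4,0,1,2,4,0,1,2,4],[0,1,2,0,1,2,0,1,2,0,1,2,0,1,2]]
def iv_Sabcdf : List ℕ := [0,1,2,3,4]
theorem inv_Sabcdf : invOK R_Sabcdf iv_Sabcdf 5 = true := by decide +kernel

theorem imp_SZ_Sabcdf_1062c : impCert R_SZ [0,1,2,3,5] R_Sabcdf [(0,0),(1,0),(2,0),(3,0),(5,0),(7,0),(8,0),(9,0),(11,0),(13,0),(14,0),(16,0),(18,0),(20,0),(23,0),(28,0),(30,0),(33,0)] = true := by decide +kernel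
theorem imp_SZ_Sabcdf_1062 : Imp.{u} R_SZ [0,1,2,3,5] R_Sabcdf := Imp.of_cert imp_SZ_Sabcdf_1062c

noncomputable def V_1063 : ℕ → Net := renN N_SZ [0,1,2,3,5]
theorem V_1063_ok : ∀ a, (V_1063 a).ok 1782 = true := ok_renN ok_SZ _
theorem V_1063_rels : Rels (pms V_1063) R_Sabcdf := Rels.renN rels_SZ imp_SZ_Sabcdf_1062

noncomputable def n_Sabcdf_0 : Net := (Net.cons (nat_lit 1) (nat_lit 0x11101104401104)
  (Net.cons (nat_lit 2) (nat_lit 0x11010130110)
  (Net.cons (nat_lit 4) (nat_lit 0x9070d09090f00)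
  (Net.cons (nat_lit 8) (nat_lit 0xdf00cb00b4)
  (Net.cons (nat_lit 16) (nat_lit 0x9e00003e14)
  (Net.cons (nat_lit 32) (nat_lit 0x83400)
  (Net.cons (nat_lit 16) (nat_lit 0x800003400)
  (Net.cons (nat_lit 8) (nat_lit 0x9e000a0014)
  (Net.cons (nat_lit 4) (nat_lit 0x9070509090a00)
  (Net.cons (nat_lit 2) (nat_lit 0x11000021000)
  (Net.cons (nat_lit 1) (nat_lit 0x1101104401100)
  Net.nil)))))))))))

noncomputable def n_Sabcdf_1 : Net := (Net.cons (nat_lit 1) (nat_lit 0x5441105404014)
  (Net.cons (nat_lit 2) (nat_lit 0x22130002222112)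
  (Net.cons (nat_lit 4) (nat_lit 0x7050707030304)
  (Net.cons (nat_lit 8) (nat_lit 0xee00d30018)
  (Net.cons (nat_lit 16) (nat_lit 0x680000ef08)
  (Net.cons (nat_lit 32) (nat_lit 0x402e00)
  (Net.cons (nat_lit 16) (nat_lit 0x4000002e00)
  (Net.cons (nat_lit 8) (nat_lit 0x2a00e10008)
  (Net.cons (nat_lit 4) (nat_lit 0x2000001010100)
  (Net.cons (nat_lit 2) (nat_lit 0x2130002222110)
  (Net.cons (nat_lit 1) (nat_lit 0x5441105404014)
  Net.nil)))))))))))

noncomputable def n_Sabcdf_2 : Net := (Net.cons (nat_lit 1) (nat_lit 0x50045501001144)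
  (Net.cons (nat_lit 2) (nat_lit 0x2001122010010)
  (Net.cons (nat_lit 4) (nat_lit 0x50b0e0800050c)
  (Net.cons (nat_lit 8) (nat_lit 0x45004a0030)
  (Net.cons (nat_lit 16) (nat_lit 0xd80000dc00)
  (Net.cons (nat_lit 32) (nat_lit 0x885400)
  (Net.cons (nat_lit 16) (nat_lit 0x8800005400)
  (Net.cons (nat_lit 8) (nat_lit 0x4400480000)
  (Net.cons (nat_lit 4) (nat_lit 0x5010c08000200)
  (Net.cons (nat_lit 2) (nat_lit 0x1122000020)
  (Net.cons (nat_lit 1) (nat_lit 0x45501000010)
  Net.nil)))))))))))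

noncomputable def n_Sabcdf_3 : Net := (Net.cons (nat_lit 1) (nat_lit 0x40555554450040)
  (Net.cons (nat_lit 2) (nat_lit 0x2332023012010)
  (Net.cons (nat_lit 4) (nat_lit 0x2060f01090a00)
  (Net.cons (nat_lit 8) (nat_lit 0xdf00c3009c)
  (Net.cons (nat_lit 16) (nat_lit 0x7d00007c1c)
  (Net.cons (nat_lit 32) (nat_lit 0x603c00)
  (Net.cons (nat_lit 16) (nat_lit 0x6000003c00)
  (Net.cons (nat_lit 8) (nat_lit 0x5d0040001c)
  (Net.cons (nat_lit 4) (nat_lit 0x60a01090800)
  (Net.cons (nat_lit 2) (nat_lit 0x2303122012000)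
  (Net.cons (nat_lit 1) (nat_lit 0x1505514450040)
  Net.nil)))))))))))

noncomputable def n_Sabcdf_4 : Net := (Net.cons (nat_lit 1) (nat_lit 0x54010105405101)
  (Net.cons (nat_lit 2) (nat_lit 0x30223230020100)
  (Net.cons (nat_lit 4) (nat_lit 0xd090f00010700)
  (Net.cons (nat_lit 8) (nat_lit 0xfd00ed0030)
  (Net.cons (nat_lit 16) (nat_lit 0xde00009610)
  (Net.cons (nat_lit 32) (nat_lit 0x841200)
  (Net.cons (nat_lit 16) (nat_lit 0x8400001200)
  (Net.cons (nat_lit 8) (nat_lit 0xce00840010)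
  (Net.cons (nat_lit 4) (nat_lit 0x109000f0d0200)
  (Net.cons (nat_lit 2) (nat_lit 0x30113130031000)
  (Net.cons (nat_lit 1) (nat_lit 0x1545450111100)
  Net.nil)))))))))))

noncomputable def NL_Sabcdf : List Net := [n_Sabcdf_0,n_Sabcdf_1,n_Sabcdf_2,n_Sabcdf_3,n_Sabcdf_4]
theorem okL_Sabcdf : okL 56 NL_Sabcdf = true := by decide +kernel
noncomputable def N_Sabcdf : ℕ → Net := nth NL_Sabcdf
theorem ok_Sabcdf : ∀ a, (N_Sabcdf a).ok 56 = true := ok_nth okL_Sabcdf

def ps_Sabcdf : List (List ℕ × List ℕ) := [([0,0],[]),([1,1],[]),([2,2],[]),([3,3],[]),([4,4],[]),([0,1,0,1,0],[1,0,1,0,1]),([0,2],[2,0]),([0,3],[3,0]),([0,4],[4,0]),([1,2,1],[2,1,2]),([1,3],[3,1]),([1,4,1],[4,1,4]),([2,3,2,3,2,3,2,3],[3,2,3,2,3,2,3,2]),([2,4],[4,2]),([3,4],[4,3]),([0,3,2,3,2],[2,3,2,3]),([0,1,2,4,0,1,2,4,0,1],[4,2,1,0,4,2,1,0,4,2]),([0,1,2,0,1,2,0,1],[2,1,0,2,1,0,2])]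

theorem pl_Sabcdf : ∀ j < 6, planeOK N_Sabcdf ps_Sabcdf (plN 56 6 j) = true := allLt_iff.1 (by decide +kernel)

theorem rels_Sabcdf : Rels (pms N_Sabcdf) R_Sabcdf := rels_of_planes ok_Sabcdf (by decide +kernel) (iv := iv_Sabcdf) pl_Sabcdf (by decide +kernel)

theorem imp_Sabcdf_Sacdf_1064c : impCert R_Sabcdf [0,2,3,4] R_Sacdf [(0,0),(2,0),(3,0),(4,0),(6,0),(7,0),(8,0),(12,0),(13,0),(14,0),(15,0)] = true := by decide +kernel
theorem imp_Sabcdf_Sacdf_1064 : Imp.{u} R_Sabcdf [0,2,3,4] R_Sacdf := Imp.of_cert imp_Sabcdf_Sacdf_1064c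

theorem lb_1065 : LB V_1060 [[1]] [2] 2 :=
  (LB.of_chain (kp := 8) V_1060_ok (by decide +kernel) [(2,1,[[1]])] (by decide +kernel)).cat
    (V_1060_rels.inv inv_Sacdf) (by decide +kernel) (c := [[0]]) (by decide +kernel)

theorem ui_Sacdf_1066 : UI.{u} R_Sacdf [0,1,2,3] [[1]] 16 :=
  UI.of_UB ub_Sacdf V_1060_rels lb_1065 (by decide +kernel) (by decide +kernel)

def hs_Sabcdf : List (List ℕ × List (List ℕ) × ℕ) := [([0,2,3,4],[[0],[2],[3]],2),([0,2,3,4],[[2]],16)]
theorem hh_Sabcdf : ∀ h ∈ hs_Sabcdf, UI.{u} R_Sabcdf h.1 h.2.1 h.2.2 :=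
  List.forall_mem_cons.2 ⟨ui_Sacdf.ren imp_Sabcdf_Sacdf_1064 (by decide +kernel) (by decide +kernel),
    List.forall_mem_cons.2 ⟨ui_Sacdf_1066.ren imp_Sabcdf_Sacdf_1064 (by decide +kernel) (by decide +kernel),
    List.forall_mem_nil _⟩⟩

theorem e_Sabcdf_0 : erun 56 3 N_Sabcdf R_Sabcdf iv_Sabcdf 5 hs_Sabcdf (stK (ones 56) (mkK 56 (ones 56) [0,1,2,3,4]))
  [.orb [0,2,3,4] [[0],[2],[3]] 2 0 0 1, .grow [0,1,2,3] 4 (nat_lit 0x2), .rel 0 0, .rel 1 0, .rel 2 0, .rel 3 0, .rel 6 1, .rel 6 0, .rel 7 1, .rel 10 1, .rel 9 1, .rel 9 0, .rel 11 1, .rel 15 1, .rel 15 3, .rel 15 5, .rel 5 1, .rel 5 0, .rel 8 1, .rel 10 1, .rel 10 0, .rel 13 1, .rel 14 1, .rel 9 1, .rel 15 8, .rel 15 0, .rel 5 0, .rel 0 0, .rel 2 0, .rel 6 1, .rel 7 1, .rel 13 1, .rel 17 2, .rel 9 0, .rel 5 0, .rel 7 0, .rel 10 0, .rel 16 3, .rel 4 0, .rel 8 1, .rel 14 1, .rel 13 1, .rel 14 1, .orb [0,2,3,4] [[2]] 16 20 2 1, .rel 11 0, .grow [0,1,2,3] 1 (nat_lit 0x3a8c0080000000), .rel 1 0, .rel 10 1, .loc [.imp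 4 47 38, .dfn 1 48, .dfn 1 50, .imp 2 50 46, .imp 1 46 39, .imp 2 39 48, .ded 9 1 56 [2,10,8,6,5], .dfn 1 52, .imp 4 52 46, .imp 4 39 48, .ded 11 1 56 [2,18,8,16,15], .dfn 0 54, .dfn 2 54, .imp 1 54 51, .imp 0 51 47, .imp 2 38 29, .imp 1 29 19, .imp 0 19 12, .imp 4 12 12, .imp 2 12 7, .imp 1 7 7, .imp 0 7 11, .imp 4 11 11, .imp 2 11 19, .imp 0 29 41, .imp 4 41 49, .imp 2 49 51, .ded 16 3 59 [22,27,52,50,48,33,46,44,42,40,38,36,34,32,30,0,28,26,25], .dfn 4 54, .ded 13 0 59 [55,24,57], .imp 3 55 54, .dfn 2 55, .dfn 4 55, .ded 14 0 61 [56,60,65], .dfn 4 57, .imp 4 50 53, .imp 1 53 55, .ded 11 0 63 [64,72,70,5,69], .ded 13 0 58 [20,13,69], .imp 2 52 53, .full 9 1 62 [62,72,78,15,77,74], .ded 3 0 62 [80,66], .full 15 4 60 [24,60,63,83,58,22,60,63,83], .full 2 0 54 [25,84,58], .ded 0 0 54 [86,22], .exp 44], .rel 7 0, .loc [.dfn 4 54, .imp 0 54 54, .ded 8 0 56 [0,2,1], .imp 1 54 51, .imp 0 51 47, .imp 4 47 38, .imp 2 38 29, .imp 1 29 19, .imp 0 19 12, .imp 4 12 12, .imp 2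 12 7, .imp 1 7 7, .imp 0 7 11, .imp 4 11 11, .imp 2 11 19, .imp 0 29 41, .imp 4 41 49, .imp 2 49 51, .ded 16 2 56 [0,2,7,34,32,30,15,28,26,24,22,20,18,16,14,12,10,8,6], .dfn 1 56, .dfn 3 56, .imp 3 54 55, .ded 14 1 55 [42,1,41], .dfn 0 57, .imp 2 47 42, .imp 1 42 42, .imp 0 42 49, .ded 17 2 59 [46,38,37,2,7,34,52,50,48,8,6,36,5,39], .ded 9 0 59 [55,38,37,7,34], .dfn 3 57, .ded 10 0 58 [40,39,59], .dfn 3 59, .ded 7 0 60 [58,47,63], .imp 3 49 43, .ded 10 0 43 [66,56,63], .dfn 2 60, .dfn 4 60, .imp 1 55 53, .imp 4 53 50, .ded 11 0 50 [76,74,45,61,73], .imp 4 27 40, .imp 2 43 43, .dfn 4 62, .ded 13 0 63 [72,71,85], .imp 2 50 46, .imp 1 46 39, .imp 2 39 48, .ded 9 0 48 [92,90,88,79,87], .imp 0 34 40, .imp 2 27 17, .imp 1 17 11, .imp 4 7 7, .imp 1 12 20, .imp 0 20 30, .imp 4 30 43, .imp 0 48 44, .imp 4 44 35, .imp 2 35 44, .ded 16 1 44 [114,112,110,95,86,72,65,68,82,108,106,104,21,102,25,100,98,81,96], .exp 58], .rel 1 0, .rel 9 1, .rel 11 1, .rel 15 8, .rel 15 0, .rel 15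 2, .rel 5 1, .rel 0 0, .rel 1 0, .rel 13 1, .rel 14 1, .rel 9 1, .rel 9 0, .rel 11 1, .rel 11 0, .rel 5 1, .rel 10 0, .rel 13 1, .rel 9 1]
  (bit 0) (mkK 56 (bit 0) [0,1,2,3]) = true := by decide +kernel

theorem r_Sabcdf_0 : Run.{u} 56 N_Sabcdf R_Sabcdf 0 (bit 0) (mkK 56 (bit 0) [0,1,2,3]) (ones 56) (mkK 56 (ones 56) [0,1,2,3,4]) := (Run.of_cert ok_Sabcdf (by decide +kernel) inv_Sabcdf hh_Sabcdf e_Sabcdf_0 0)

theorem ui_Sabcdf : UI.{u} R_Sabcdf [0,1,2,3,4] (sing [0,1,2,3]) 56 :=
  UI.of_run (kp := 3) (O := (ones 56)) ok_Sabcdf (by decide +kernel) rels_Sabcdf r_Sabcdf_0 (by decide +kernel)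

theorem imp_Sabcdf_Sabcd_1067c : impCert R_Sabcdf [0,1,2,3] R_Sabcd [(0,0),(1,0),(2,0),(3,0),(5,0),(6,0),(7,0),(9,0),(10,0),(12,0),(15,0),(17,0)] = true := by decide +kernel
theorem imp_Sabcdf_Sabcd_1067 : Imp.{u} R_Sabcdf [0,1,2,3] R_Sabcd := Imp.of_cert imp_Sabcdf_Sabcd_1067c

theorem ub_Sabcdf : UB.{u} R_Sabcdf [0,1,2,3,4] 120960 :=
  (ui_Sabcdf.mul (UI.ren (S := [0,1,2,3]) (W := []) ub_Sabcd imp_Sabcdf_Sabcd_1067 (by decide +kernel) rfl) (by decide +kernel) (by decide +kernel)).le (by decide +kernel)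

def R_Sabcef : List (List ℕ) := [[0,0],[1,1],[2,2],[3,3],[4,4],[0,1,0,1,0,1,0,1,0,1],[0,2,0,2],[0,3,0,3],[0,4,0,4],[1,2,1,2,1,2],[1,3,1,3],[1,4,1,4,1,4],[2,3,2,3],[2,4,2,4],[3,4,3,4],[0,1,2,4,0,1,2,4,0,1,2,4,0,1,2,4,0,1,2,4],[0,1,2,0,1,2,0,1,2,0,1,2,0,1,2]]
def iv_Sabcef : List ℕ := [0,1,2,3,4]
theorem inv_Sabcef : invOK R_Sabcef iv_Sabcef 5 = true := by decide +kernel

theorem imp_SZ_Sabcef_1068c : impCert R_SZ [0,1,2,4,5] R_Sabcef [(0,0),(1,0),(2,0),(4,0),(5,0),(7,0),(8,0),(10,0),(11,0),(13,0),(15,0),(16,0),(19,0),(20,0),(25,0),(30,0),(33,0)] = true := by decide +kernel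
theorem imp_SZ_Sabcef_1068 : Imp.{u} R_SZ [0,1,2,4,5] R_Sabcef := Imp.of_cert imp_SZ_Sabcef_1068c

noncomputable def V_1069 : ℕ → Net := renN N_SZ [0,1,2,4,5]
theorem V_1069_ok : ∀ a, (V_1069 a).ok 1782 = true := ok_renN ok_SZ _
theorem V_1069_rels : Rels (pms V_1069) R_Sabcef := Rels.renN rels_SZ imp_SZ_Sabcef_1068

noncomputable def n_Sabcef_0 : Net := Net.nil

noncomputable def n_Sabcef_1 : Net := Net.nil

noncomputable def n_Sabcef_2 : Net := Net.nil

noncomputable def n_Sabcef_3 : Net := (Net.cons (nat_lit 1) (nat_lit 0x1)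
  Net.nil)

noncomputable def n_Sabcef_4 : Net := Net.nil

noncomputable def NL_Sabcef : List Net := [n_Sabcef_0,n_Sabcef_1,n_Sabcef_2,n_Sabcef_3,n_Sabcef_4]
theorem okL_Sabcef : okL 2 NL_Sabcef = true := by decide +kernel
noncomputable def N_Sabcef : ℕ → Net := nth NL_Sabcef
theorem ok_Sabcef : ∀ a, (N_Sabcef a).ok 2 = true := ok_nth okL_Sabcef

def ps_Sabcef : List (List ℕ × List ℕ) := [([0,0],[]),([1,1],[]),([2,2],[]),([3,3],[]),([4,4],[]),([0,1,0,1,0],[1,0,1,0,1]),([0,2],[2,0]),([0,3],[3,0]),([0,4],[4,0]),([1,2,1],[2,1,2]),([1,3],[3,1]),([1,4,1],[4,1,4]),([2,3],[3,2]),([2,4],[4,2]),([3,4],[4,3]),([0,1,2,4,0,1,2,4,0,1],[4,2,1,0,4,2,1,0,4,2]),([0,1,2,0,1,2,0,1],[2,1,0,2,1,0,2])]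

theorem pl_Sabcef : ∀ j < 1, planeOK N_Sabcef ps_Sabcef (plN 2 1 j) = true := allLt_iff.1 (by decide +kernel)

theorem rels_Sabcef : Rels (pms N_Sabcef) R_Sabcef := rels_of_planes ok_Sabcef (by decide +kernel) (iv := iv_Sabcef) pl_Sabcef (by decide +kernel)

def hs_Sabcef : List (List ℕ × List (List ℕ) × ℕ) := []
theorem hh_Sabcef : ∀ h ∈ hs_Sabcef, UI.{u} R_Sabcef h.1 h.2.1 h.2.2 :=
  List.forall_mem_nil _

theorem e_Sabcef_0 : erun 2 0 N_Sabcef R_Sabcef iv_Sabcef 5 hs_Sabcef (stK (ones 2) (mkK 2 (ones 2) [0,1,2,3,4]))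
  [.grow [3] 1 (bit 0), .rel 3 0, .rel 7 0, .rel 10 0, .rel 12 0, .rel 14 1]
  (bit 0) (mkK 2 (bit 0) [0,1,2,4]) = true := by decide +kernel

theorem r_Sabcef_0 : Run.{u} 2 N_Sabcef R_Sabcef 0 (bit 0) (mkK 2 (bit 0) [0,1,2,4]) (ones 2) (mkK 2 (ones 2) [0,1,2,3,4]) := (Run.of_cert ok_Sabcef (by decide +kernel) inv_Sabcef hh_Sabcef e_Sabcef_0 0)

theorem ui_Sabcef : UI.{u} R_Sabcef [0,1,2,3,4] (sing [0,1,2,4]) 2 :=
  UI.of_run (kp := 0) (O := (ones 2)) ok_Sabcef (by decide +kernel) rels_Sabcef r_Sabcef_0 (by decide +kernel)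

theorem imp_Sabcef_Sabcf_1070c : impCert R_Sabcef [0,1,2,4] R_Sabcf [(0,0),(1,0),(2,0),(4,0),(5,0),(6,0),(8,0),(9,0),(11,0),(13,0),(15,0),(16,0)] = true := by decide +kernel
theorem imp_Sabcef_Sabcf_1070 : Imp.{u} R_Sabcef [0,1,2,4] R_Sabcf := Imp.of_cert imp_Sabcef_Sabcf_1070c

theorem ub_Sabcef : UB.{u} R_Sabcef [0,1,2,3,4] 3840 :=
  (ui_Sabcef.mul (UI.ren (S := [0,1,2,4]) (W := []) ub_Sabcf imp_Sabcef_Sabcf_1070 (by decide +kernel) rfl) (by decide +kernel) (by decide +kernel)).le (by decide +kernel)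

def R_Sacdef : List (List ℕ) := [[0,0],[1,1],[2,2],[3,3],[4,4],[0,1,0,1],[0,2,0,2],[0,3,0,3],[0,4,0,4],[1,2,1,2,1,2,1,2,1,2,1,2,1,2,1,2],[1,3,1,3],[1,4,1,4],[2,3,2,3,2,3],[2,4,2,4],[3,4,3,4],[0,2,1,2,1,2,1,2,1]]
def iv_Sacdef : List ℕ := [0,1,2,3,4]
theorem inv_Sacdef : invOK R_Sacdef iv_Sacdef 5 = true := by decide +kernel

theorem imp_SZ_Sacdef_1071c : impCert R_SZ [0,2,3,4,5] R_Sacdef [(0,0),(2,0),(3,0),(4,0),(5,0),(8,0),(9,0),(10,0),(11,0),(18,0),(19,0),(20,0),(22,0),(23,0),(25,0),(28,0)] = true := by decide +kernel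
theorem imp_SZ_Sacdef_1071 : Imp.{u} R_SZ [0,2,3,4,5] R_Sacdef := Imp.of_cert imp_SZ_Sacdef_1071c

noncomputable def V_1072 : ℕ → Net := renN N_SZ [0,2,3,4,5]
theorem V_1072_ok : ∀ a, (V_1072 a).ok 1782 = true := ok_renN ok_SZ _
theorem V_1072_rels : Rels (pms V_1072) R_Sacdef := Rels.renN rels_SZ imp_SZ_Sacdef_1071

noncomputable def n_Sacdef_0 : Net := Net.nil

noncomputable def n_Sacdef_1 : Net := Net.nil

noncomputable def n_Sacdef_2 : Net := Net.nil

noncomputable def n_Sacdef_3 : Net := Net.nil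

noncomputable def n_Sacdef_4 : Net := (Net.cons (nat_lit 1) (nat_lit 0x1)
  Net.nil)

noncomputable def NL_Sacdef : List Net := [n_Sacdef_0,n_Sacdef_1,n_Sacdef_2,n_Sacdef_3,n_Sacdef_4]
theorem okL_Sacdef : okL 2 NL_Sacdef = true := by decide +kernel
noncomputable def N_Sacdef : ℕ → Net := nth NL_Sacdef
theorem ok_Sacdef : ∀ a, (N_Sacdef a).ok 2 = true := ok_nth okL_Sacdef

def ps_Sacdef : List (List ℕ × List ℕ) := [([0,0],[]),([1,1],[]),([2,2],[]),([3,3],[]),([4,4],[]),([0,1],[1,0]),([0,2],[2,0]),([0,3],[3,0]),([0,4],[4,0]),([1,2,1,2,1,2,1,2],[2,1,2,1,2,1,2,1]),([1,3],[3,1]),([1,4],[4,1]),([2,3,2],[3,2,3]),([2,4],[4,2]),([3,4],[4,3]),([0,2,1,2,1],[1,2,1,2])]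

theorem pl_Sacdef : ∀ j < 1, planeOK N_Sacdef ps_Sacdef (plN 2 1 j) = true := allLt_iff.1 (by decide +kernel)

theorem rels_Sacdef : Rels (pms N_Sacdef) R_Sacdef := rels_of_planes ok_Sacdef (by decide +kernel) (iv := iv_Sacdef) pl_Sacdef (by decide +kernel)

def hs_Sacdef : List (List ℕ × List (List ℕ) × ℕ) := []
theorem hh_Sacdef : ∀ h ∈ hs_Sacdef, UI.{u} R_Sacdef h.1 h.2.1 h.2.2 :=
  List.forall_mem_nil _

theorem e_Sacdef_0 : erun 2 0 N_Sacdef R_Sacdef iv_Sacdef 5 hs_Sacdef (stK (ones 2) (mkK 2 (ones 2) [0,1,2,3,4]))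
  [.grow [4] 1 (bit 0), .rel 4 0, .rel 8 0, .rel 11 0, .rel 13 0, .rel 14 0]
  (bit 0) (mkK 2 (bit 0) [0,1,2,3]) = true := by decide +kernel

theorem r_Sacdef_0 : Run.{u} 2 N_Sacdef R_Sacdef 0 (bit 0) (mkK 2 (bit 0) [0,1,2,3]) (ones 2) (mkK 2 (ones 2) [0,1,2,3,4]) := (Run.of_cert ok_Sacdef (by decide +kernel) inv_Sacdef hh_Sacdef e_Sacdef_0 0)

theorem ui_Sacdef : UI.{u} R_Sacdef [0,1,2,3,4] (sing [0,1,2,3]) 2 :=
  UI.of_run (kp := 0) (O := (ones 2)) ok_Sacdef (by decide +kernel) rels_Sacdef r_Sacdef_0 (by decide +kernel)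

theorem imp_Sacdef_Sacde_1073c : impCert R_Sacdef [0,1,2,3] R_Sacde [(0,0),(1,0),(2,0),(3,0),(5,0),(6,0),(7,0),(9,0),(10,0),(12,0),(15,0)] = true := by decide +kernel
theorem imp_Sacdef_Sacde_1073 : Imp.{u} R_Sacdef [0,1,2,3] R_Sacde := Imp.of_cert imp_Sacdef_Sacde_1073c

theorem ub_Sacdef : UB.{u} R_Sacdef [0,1,2,3,4] 192 :=
  (ui_Sacdef.mul (UI.ren (S := [0,1,2,3]) (W := []) ub_Sacde imp_Sacdef_Sacde_1073 (by decide +kernel) rfl) (by decide +kernel) (by decide +kernel)).le (by decide +kernel)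

def R_Sabcdef : List (List ℕ) := [[0,0],[1,1],[2,2],[3,3],[4,4],[5,5],[0,1,0,1,0,1,0,1,0,1],[0,2,0,2],[0,3,0,3],[0,4,0,4],[0,5,0,5],[1,2,1,2,1,2],[1,3,1,3],[1,4,1,4],[1,5,1,5,1,5],[2,3,2,3,2,3,2,3,2,3,2,3,2,3,2,3],[2,4,2,4],[2,5,2,5],[3,4,3,4,3,4],[3,5,3,5],[4,5,4,5],[0,3,2,3,2,3,2,3,2],[0,1,2,5,0,1,2,5,0,1,2,5,0,1,2,5,0,1,2,5],[1,2,3,2,3,1,2,3,2,3,1,2,3,2,3,1,2,3,2,3,1,2,3,2,3,4,1,2,3,2,3,1,2,3,2,3,1,2,3,2,3,1,2,3,2,3,1,2,3,2,3,4,1,2,3,2,3,1,2,3,2,3,1,2,3,2,3,1,2,3,2,3,1,2,3,2,3,4],[0,1,2,0,1,2,0,1,2,0,1,2,0,1,2]]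
def iv_Sabcdef : List ℕ := [0,1,2,3,4,5]
theorem inv_Sabcdef : invOK R_Sabcdef iv_Sabcdef 6 = true := by decide +kernel

theorem imp_SZ_Sabcdef_1074c : impCert R_SZ [0,1,2,3,4,5] R_Sabcdef [(0,0),(1,0),(2,0),(3,0),(4,0),(5,0),(7,0),(8,0),(9,0),(10,0),(11,0),(13,0),(14,0),(15,0),(16,0),(18,0),(19,0),(20,0),(22,0),(23,0),(25,0),(28,0),(30,0),(32,0),(33,0)] = true := by decide +kernel
theorem imp_SZ_Sabcdef_1074 : Imp.{u} R_SZ [0,1,2,3,4,5] R_Sabcdef := Imp.of_cert imp_SZ_Sabcdef_1074c

noncomputable def V_1075 : ℕ → Net := renN N_SZ [0,1,2,3,4,5]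
theorem V_1075_ok : ∀ a, (V_1075 a).ok 1782 = true := ok_renN ok_SZ _
theorem V_1075_rels : Rels (pms V_1075) R_Sabcdef := Rels.renN rels_SZ imp_SZ_Sabcdef_1074

noncomputable def n_Sabcdef_0 : Net := (Net.cons (nat_lit 1) (nat_lit 0x14541404011445140040545441550041055001140001400405110114505005410404040004010100401405511045114004010104)
  (Net.cons (nat_lit 2) (nat_lit 0x132030222030001003303021331101132223333102312110321023031210323013310001223232320210102222100213113010)
  (Net.cons (nat_lit 4) (nat_lit 0x50708070105070c03040b070d0b0c090b090b080b080e090e050a0205090609050509050904040a0808080408010c0e0b030b00)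
  (Net.cons (nat_lit 8) (nat_lit 0x500004004a009600a2007900bc007200600014009d00a90013003d001900340008008400610086009f006c007700cc00ff00a0)
  (Net.cons (nat_lit 16) (nat_lit 0x5d85000008010000caf70000d65100009a1000000cc10000d8a700009f8000004e470000c867000087640000fdf700004e00)
  (Net.cons (nat_lit 32) (nat_lit 0xd88bb6790000000032281881000000001610580c00000000dc5579ef00000000fb8f87710000000081780000)
  (Net.cons (nat_lit 64) (nat_lit 0x13e79b7feddfffef0000000000000000343a78d73bf9541600000000000000001200817100008000)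
  (Net.cons (nat_lit 128) (nat_lit 0x5708a23a00000000000000000000000000000000cfd5f6a6d606a9590400208000008000)
  (Net.cons (nat_lit 256) (nat_lit 0x12000010cbc58620c406a9490400208000000000)
  (Net.cons (nat_lit 128) (nat_lit 0x1200001000000000000000000000000000000000cbc58620c406a9490400208000000000)
  (Net.cons (nat_lit 64) (nat_lit 0x8bc186a0c50ea36b0000000000000000041070861200001000000000000000000000000000008000)
  (Net.cons (nat_lit 32) (nat_lit 0x706fa2f90000000010800001000000001051584d000000001410708600000000120081710000000000000000)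
  (Net.cons (nat_lit 16) (nat_lit 0x4500000004410000f04700001650000016d000000400000054a600009141000046060000c10e000092710000817000000000)
  (Net.cons (nat_lit 8) (nat_lit 0x10000400ec0096009200880008005200000004001900cd0047003900190034004c00840068008900800011006200d9004e0000)
  (Net.cons (nat_lit 4) (nat_lit 0x4050807040c070803040f030d0300090f0d0b040e0802050a010e0604090209010109050900040a0808080508000d0f0a080a00)
  (Net.cons (nat_lit 2) (nat_lit 0x132030222030001003303001331101130223333102312110121023031210323013310001223232320210102222100011331000)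
  (Net.cons (nat_lit 1) (nat_lit 0x14541404011445140040545441550041055001140001400405110114505005410404040004010100401405511045114004010100)
  Net.nil)))))))))))))))))

noncomputable def n_Sabcdef_1 : Net := (Net.cons (nat_lit 1) (nat_lit 0x54414000144014000114151410015514104005005150501540014540011101155541100400104554404014410110050140040014)
  (Net.cons (nat_lit 2) (nat_lit 0x33030201101010203003132303303323013202201012101012011032021220032322000020101213000001102022020203302112)
  (Net.cons (nat_lit 4) (nat_lit 0xb080e0a060b070f02000a0b040e050c0c0300010204050900040d02080c0c06000a01040d040702060301010a09030d07030304)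
  (Net.cons (nat_lit 8) (nat_lit 0x9c00c40038001600b50013006600f800e4008d007a005400d500ce005000150084004c000a002b0002007c00170009003b0010)
  (Net.cons (nat_lit 16) (nat_lit 0xa8ce000094d800004ef9000022d0000099ad0000a15500002ffb0000054f000002d100000aa9000008100000bbeb00004900)
  (Net.cons (nat_lit 32) (nat_lit 0x1edfa937000000007e7e3c3a0000000040823143000000006af1b95d0000000092fdc7fe00000000a6e90000)
  (Net.cons (nat_lit 64) (nat_lit 0xa44dc2aefffffdfd0000000000000000fd2e7af377563e8b00000000000000000014c6aa20084020)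
  (Net.cons (nat_lit 128) (nat_lit 0xb80d4632000000000000000000000000000000006793390d2abdc7b64d223c1100084020)
  (Net.cons (nat_lit 256) (nat_lit 0x2020291010c2ab9c1344d223c1100000000)
  (Net.cons (nat_lit 128) (nat_lit 0x202000000000000000000000000000000000291010c2ab9c1344d223c1100000000)
  (Net.cons (nat_lit 64) (nat_lit 0x6b1011cba3dc4340000000000000000650238010004068200000000000000000000000000084020)
  (Net.cons (nat_lit 32) (nat_lit 0x3c3fa01b0000000044861f320000000048283879000000004002380100000000001cc6aa0000000020000000)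
  (Net.cons (nat_lit 16) (nat_lit 0xb81c0000ae40000046ea000000480000bbb50000010f00000ca30000a515000008a9000002a100002012000082e900000000)
  (Net.cons (nat_lit 8) (nat_lit 0x8000fc0020002e009d001b004400d200cc00a700580056005900460072003d00ae0066000200010002007c0017002b00090000)
  (Net.cons (nat_lit 4) (nat_lit 0x9080e0a0009070f02000a09020c070e0d0b00010006050b02060e08000e060402080b020f060100000101020809010f05010100)
  (Net.cons (nat_lit 2) (nat_lit 0x23030201101010203001332303303323111220223012321012010230001200032022000020101213000001102022020203302110)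
  (Net.cons (nat_lit 1) (nat_lit 0x54414000144014000114151410015514504005005150501540050540011101155041100400004554404014410110050140040014)
  Net.nil)))))))))))))))))

noncomputable def n_Sabcdef_2 : Net := (Net.cons (nat_lit 1) (nat_lit 0x54510411151155015115051050144515555111054510540145554411050101044005155105111440450151450001500054000440)
  (Net.cons (nat_lit 2) (nat_lit 0x10212110200232113030330120202012101201213132300331130221220130103000122303013333101203312002312001220110)
  (Net.cons (nat_lit 4) (nat_lit 0xb010f04070d09030106030c0d0a0a080805030c030d0b0006080b020c0b0c070d000004020208020e06020a000b040a05030e0c)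
  (Net.cons (nat_lit 8) (nat_lit 0x47001700df00ee009900320030002a008d0019003700df00d2001c008100ec0027005c008700d00084004f00a2000300970030)
  (Net.cons (nat_lit 16) (nat_lit 0xdfa70000cf2300003af2000008e3000078fe0000c8be0000bd900000489800000004000040820000c85900002ba700000300)
  (Net.cons (nat_lit 32) (nat_lit 0x7adbf71f00000000f45ba780000000004c0063fa000000005b04da6f00000000b7ffb5df00000000a8820000)
  (Net.cons (nat_lit 64) (nat_lit 0x4fbbaddf7f9ffebd0000000000000000d8b32f10b4ec8b0000000000000000000459a58200112490)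
  (Net.cons (nat_lit 128) (nat_lit 0x4cdb2790000000000000000000000000000000002b40ca0b1d59edb53000000000112490)
  (Net.cons (nat_lit 256) (nat_lit 0x4001002340c00b19116cb53000000000000000)
  (Net.cons (nat_lit 128) (nat_lit 0x400100000000000000000000000000000000002340c00b19116cb53000000000000000)
  (Net.cons (nat_lit 64) (nat_lit 0x300c00b5d9b2eb5000000000000000008000a000c48810000000000000000000000000000112490)
  (Net.cons (nat_lit 32) (nat_lit 0x6a5bb79c000000006c4be5ba00000000501026800000000008000a80000000000459a5920000000000000000)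
  (Net.cons (nat_lit 16) (nat_lit 0x4e030000cea300003842000008f3000070ae0000c0a20000b580000080400000000000008020000000d90000a80200000000)
  (Net.cons (nat_lit 8) (nat_lit 0x7001700df00ee009900ba0022002200850019002d005700500014004100690027009c00250050000400ce0001008200030000)
  (Net.cons (nat_lit 4) (nat_lit 0x9010e04030d010201060b040a0a0a000006030c010c0b00070c0a000c0f080209000004000008000c0400080209010805030200)
  (Net.cons (nat_lit 2) (nat_lit 0x10212010200232013030330120202112101201213132300201110221220131003000112203013333101203302002202001200110)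
  (Net.cons (nat_lit 1) (nat_lit 0x14510411151154015111051050144515155111054510540145154411054111044005105105111040450151410001400054000440)
  Net.nil)))))))))))))))))

noncomputable def n_Sabcdef_3 : Net := (Net.cons (nat_lit 1) (nat_lit 0x114101145510140115451001551440550110501415151554415514040540450554505054111415441415541501001005014040)
  (Net.cons (nat_lit 2) (nat_lit 0x30220133100011333113032032312230010202301222002133113130313012110230232130313123032100321201231000010)
  (Net.cons (nat_lit 4) (nat_lit 0xd060e070b0908010f0c030b07060b0409070a0c0e02080306010e01060005020d030d0a010b0a0c030a000008010407000800)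
  (Net.cons (nat_lit 8) (nat_lit 0x2800140038003a00c300890077008d00a5008b0068007900930093001900e1000d007600e1001a002e00df00c6001200170080)
  (Net.cons (nat_lit 16) (nat_lit 0x2d89000040580000453d00007cb80000397e00002524000069ce000011740000a893000078f9000036e7000032fe00005e00)
  (Net.cons (nat_lit 32) (nat_lit 0x61b5fb6b0000000008f140620000000090b002e800000000f53b970600000000e9de6efb00000000a0db0000)
  (Net.cons (nat_lit 64) (nat_lit 0x3a9bfeeffebfde7700000000000000001ee1e9ab174729890000000000000000090068d808014072)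
  (Net.cons (nat_lit 128) (nat_lit 0x981f2fe00000000000000000000000000000000771511046989f6fe0460010008004072)
  (Net.cons (nat_lit 256) (nat_lit 0x1002088631410046889d6760460010000000000)
  (Net.cons (nat_lit 128) (nat_lit 0x100208800000000000000000000000000000000631410046889d6760460010000000000)
  (Net.cons (nat_lit 64) (nat_lit 0x635411006889d6760000000000000000140101000100208800000000000000000000000008004072)
  (Net.cons (nat_lit 32) (nat_lit 0x8ac8c7b60000000002a4634c000000000423c02a000000001481016000000000090068fa0000000000010000)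
  (Net.cons (nat_lit 16) (nat_lit 0x8810000cf8b0000d26800001b9000003f27000002580000c16c00002480000038390000a2d7000020c10000a0d800000000)
  (Net.cons (nat_lit 8) (nat_lit 0xc00a900f000a3000a0002003c00a20012006200b800ea00e400a4006e00010041009e00260072006900d900c4001000160000)
  (Net.cons (nat_lit 4) (nat_lit 0x6040209010a0e0f050808090909090803090b0d0c06050b05060e000b0a05020e0209080508050d04070c000508030405000800)
  (Net.cons (nat_lit 2) (nat_lit 0x33301120010130320233200002103120313001301022313111322132023102101000220323120312132032101223000212000000)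
  (Net.cons (nat_lit 1) (nat_lit 0x51445151154510154055451000550441150510501405151504015514040140450554505054111405441411541501011000010040)
  Net.nil)))))))))))))))))

noncomputable def n_Sabcdef_4 : Net := (Net.cons (nat_lit 1) (nat_lit 0x51510410041554041154001111415014500051104011150515414140101000504014014551400551401541140511440500440000)
  (Net.cons (nat_lit 2) (nat_lit 0x11030111230033233102122003013121000101212200300001230131322120330310023221020231333201020113020221302000)
  (Net.cons (nat_lit 4) (nat_lit 0x50e090f010d090f060c00050308010b00080c010a080a0507040a060f0b0402050f01080b0e0a0505060600050d000d09080000)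
  (Net.cons (nat_lit 8) (nat_lit 0x1100910010004400be0006006000f9004200380075007200500045005800760066007900c7001d0087007d006e001d00190080)
  (Net.cons (nat_lit 16) (nat_lit 0x221f00002c790000e7860000a92e0000c555000041af0000ec92000034ad000001350000cb730000907700009fff00001800)
  (Net.cons (nat_lit 32) (nat_lit 0xade15ce100000000c94d5822000000000299dcad000000007b725c8f00000000ef7deb7c00000000e2f00480)
  (Net.cons (nat_lit 64) (nat_lit 0x5e39eeee77bffdff000000000000000080cfb792dc8476300000000000000000000deb70000985c0)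
  (Net.cons (nat_lit 128) (nat_lit 0x2109dfe200000000000000000000000000000000ffa074c3200deffe00c4100000098140)
  (Net.cons (nat_lit 256) (nat_lit 0x200ff20604120098dce00c4100000000000)
  (Net.cons (nat_lit 128) (nat_lit 0x20000000000000000000000000000000000ff20604120098dce00c4100000000000)
  (Net.cons (nat_lit 64) (nat_lit 0xf76060412109dde2000000000000000000801482000462b000000000000000000000000000098140)
  (Net.cons (nat_lit 32) (nat_lit 0xf963d8a2000000008bc9f0a100000000484b1c8200000000008014c000000000000deb700000000000000480)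
  (Net.cons (nat_lit 16) (nat_lit 0x28090000107b00007dc20000c0cb00009841000008ad00002ed200000199000000210000cf740000896d000082f000000000)
  (Net.cons (nat_lit 8) (nat_lit 0x1d009300560040003800d50080008d004100be001e000300c2004000e500900084003c00a60000008b00700072001000180000)
  (Net.cons (nat_lit 4) (nat_lit 0x907050f0a0a090a06050a0e030b010102090d0c040d0c04080400040800040204000a0902000b0e05070700040c000c09080000)
  (Net.cons (nat_lit 2) (nat_lit 0x23203013002300322121212220101103211231020333110010200031110310103222313001310210033203020113020221302000)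
  (Net.cons (nat_lit 1) (nat_lit 0x4041105114051455051404110151114050110150140415440141455514551051501004004000544101540140511440500440000)
  Net.nil)))))))))))))))))

noncomputable def n_Sabcdef_5 : Net := (Net.cons (nat_lit 1) (nat_lit 0x55540101500111401041404444450044050010555505500410010440554044455054515041044111454414554015010445040101)
  (Net.cons (nat_lit 2) (nat_lit 0x22310210220321213030133120022210013101301130311013112333021021011323030120122303122230132310030000021000)
  (Net.cons (nat_lit 4) (nat_lit 0x9090301080c060d070f0d0a090d0c020e02050a090b0f070f020b0806030a000005000a070b050a0a02020f01080b010a080300)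
  (Net.cons (nat_lit 8) (nat_lit 0x12004a00bc002d0083007a009c009c0001008300ee002800af00a100e900cb00e50041004700ad006e00e6006f002500850020)
  (Net.cons (nat_lit 16) (nat_lit 0x5da100007a350000a60d00005b370000cef70000c02200004e0b00001f0400007183000080a7000000a00000337f00008400)
  (Net.cons (nat_lit 32) (nat_lit 0x3d04c0ab000000009e0b85db000000004b300015000000003c779f5300000000efab79ce0000000050460000)
  (Net.cons (nat_lit 64) (nat_lit 0x7df35cabefb28faf0000000000000000cffcf7ffb21b629000000000000000008e8060060c80000c)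
  (Net.cons (nat_lit 128) (nat_lit 0x4fc0e20e0000000000000000000000000000000030d786304f81fb6f820483100c80000c)
  (Net.cons (nat_lit 256) (nat_lit 0x2406000308300004d819b6f8204831000000000)
  (Net.cons (nat_lit 128) (nat_lit 0x240600000000000000000000000000000000000308300004d819b6f8204831000000000)
  (Net.cons (nat_lit 64) (nat_lit 0x208600004f819b6f000000000000000000548630020060000000000000000000000000000c80000c)
  (Net.cons (nat_lit 32) (nat_lit 0xbd05c82b00000000da80001d000000001f3311530000000049540634000000008e80600e0000000000000000)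
  (Net.cons (nat_lit 16) (nat_lit 0x4d80000028610000920f00008fe1000018f50000144400009c8900004902000000a0000020a1000006860000104600000000)
  (Net.cons (nat_lit 8) (nat_lit 0x10004200cc0031008300fe004c004c00010002006a0068000a0020004c008e004000a400630009004800c20048000400840000)
  (Net.cons (nat_lit 4) (nat_lit 0x1030104040209070f08060d010c060a06050a0d0b0b070f020f0606030a000001040a040b010808020c04010a010100080200)
  (Net.cons (nat_lit 2) (nat_lit 0x22310210220321213030133120022210013121301130311013012311021021211321030300122301022230132310030000021000)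
  (Net.cons (nat_lit 1) (nat_lit 0x4540101500111401041404444450044050010555505500410010440554044455054515041044151414400454011010445040100)
  Net.nil)))))))))))))))))

noncomputable def NL_Sabcdef : List Net := [n_Sabcdef_0,n_Sabcdef_1,n_Sabcdef_2,n_Sabcdef_3,n_Sabcdef_4,n_Sabcdef_5]
theorem okL_Sabcdef : okL 416 NL_Sabcdef = true := by decide +kernel
noncomputable def N_Sabcdef : ℕ → Net := nth NL_Sabcdef
theorem ok_Sabcdef : ∀ a, (N_Sabcdef a).ok 416 = true := ok_nth okL_Sabcdef

def ps_Sabcdef : List (List ℕ × List ℕ) := [([0,0],[]),([1,1],[]),([2,2],[]),([3,3],[]),([4,4],[]),([5,5],[]),([0,1,0,1,0],[1,0,1,0,1]),([0,2],[2,0]),([0,3],[3,0]),([0,4],[4,0]),([0,5],[5,0]),([1,2,1],[2,1,2]),([1,3],[3,1]),([1,4],[4,1]),([1,5,1],[5,1,5]),([2,3,2,3,2,3,2,3],[3,2,3,2,3,2,3,2]),([2,4],[4,2]),([2,5],[5,2]),([3,4,3],[4,3,4]),([3,5],[5,3]),([4,5],[5,4]),([0,3,2,3,2],[2,3,2,3]),([0,1,2,5,0,1,2,5,0,1],[5,2,1,0,5,2,1,0,5,2]),([1,2,3,2,3,1,2,3,2,3,1,2,3,2,3,1,2,3,2,3,1,2,3,2,3,4,1,2,3,2,3,1,2,3,2,3,1,2,3],[4,3,2,3,2,1,3,2,3,2,1,3,2,3,2,1,3,2,3,2,1,3,2,3,2,1,4,3,2,3,2,1,3,2,3,2,1,3,2]),([0,1,2,0,1,2,0,1],[2,1,0,2,1,0,2])]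

theorem pl_Sabcdef : ∀ j < 9, planeOK N_Sabcdef ps_Sabcdef (plN 416 9 j) = true := allLt_iff.1 (by decide +kernel)

theorem rels_Sabcdef : Rels (pms N_Sabcdef) R_Sabcdef := rels_of_planes ok_Sabcdef (by decide +kernel) (iv := iv_Sabcdef) pl_Sabcdef (by decide +kernel)

theorem imp_Sabcdef_Sabcdf_1076c : impCert R_Sabcdef [0,1,2,3,5] R_Sabcdf [(0,0),(1,0),(2,0),(3,0),(5,0),(6,0),(7,0),(8,0),(10,0),(11,0),(12,0),(14,0),(15,0),(17,0),(19,0),(21,0),(22,0),(24,0)] = true := by decide +kernel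
theorem imp_Sabcdef_Sabcdf_1076 : Imp.{u} R_Sabcdef [0,1,2,3,5] R_Sabcdf := Imp.of_cert imp_Sabcdef_Sabcdf_1076c

theorem lb_1077 : LB V_1046 [[0],[2],[3],[4],[1,0,1,0,2,1,3,2,3,1,0,1,2,0,1]] [2,4,8,14] 1920 :=
  (LB.of_chain (kp := 8) V_1046_ok (by decide +kernel) [(2,3,[[0],[2],[3],[4],[1,0,1,0,2,1,3,2,3,1,0,1,2,0,1]]),(4,2,[[3],[4],[2,3,1,0,2,1,0,1,3,2,3,1,2,0,1,0,1,2]]),(8,2,[[4],[3,2,3,1,0,2,1,0,1,3,2,3,1,2,0,1,0,1,2]]),(14,2,[[3,2,3,1,0,2,1,0,1,3,2,3,1,2,0,1,0,1,2]])] (by decide +kernel)).cat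
    (V_1046_rels.inv inv_Sabcde) (by decide +kernel) (c := [[0],[2],[4],[6],[8],[4],[6],[2,4,9,2],[6],[4,2,4,9,2],[4,2,4,9,2]]) (by decide +kernel)

theorem ui_Sabcde_1078 : UI.{u} R_Sabcde [0,1,2,3,4] [[0],[2],[3],[4],[1,0,1,0,2,1,3,2,3,1,0,1,2,0,1]] 315 :=
  UI.of_UB ub_Sabcde V_1046_rels lb_1077 (by decide +kernel) (by decide +kernel)

theorem imp_Sabcdef_Sabcde_1079c : impCert R_Sabcdef [0,1,2,3,4] R_Sabcde [(0,0),(1,0),(2,0),(3,0),(4,0),(6,0),(7,0),(8,0),(9,0),(11,0),(12,0),(13,0),(15,0),(16,0),(18,0),(21,0),(23,0),(24,0)] = true := by decide +kernel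
theorem imp_Sabcdef_Sabcde_1079 : Imp.{u} R_Sabcdef [0,1,2,3,4] R_Sabcde := Imp.of_cert imp_Sabcdef_Sabcde_1079c

theorem lb_1080 : LB V_1063 [[1],[3],[4],[0,1,2,4,1,0,1,2]] [201,317,1,2] 336 :=
  (LB.of_chain (kp := 8) V_1063_ok (by decide +kernel) [(201,3,[[1],[3],[4],[0,1,2,4,1,0,1,2]]),(317,2,[[1],[4],[0,1,2,4,1,0,1,2]]),(1,1,[[1],[4]]),(2,1,[[4]])] (by decide +kernel)).cat
    (V_1063_rels.inv inv_Sabcdf) (by decide +kernel) (c := [[0],[2],[4],[6],[0],[4],[6],[0],[4],[4]]) (by decide +kernel)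

theorem ui_Sabcdf_1081 : UI.{u} R_Sabcdf [0,1,2,3,4] [[1],[3],[4],[0,1,2,4,1,0,1,2]] 360 :=
  UI.of_UB ub_Sabcdf V_1063_rels lb_1080 (by decide +kernel) (by decide +kernel)

def hs_Sabcdef : List (List ℕ × List (List ℕ) × ℕ) := [([0,1,2,3,5],[[0],[1],[2],[3]],56),([0,1,2,3,4],[[0],[2],[3],[4],[1,0,1,0,2,1,3,2,3,1,0,1,2,0,1]],315),([0,1,2,3,5],[[1],[3],[5],[0,1,2,5,1,0,1,2]],360)]
theorem hh_Sabcdef : ∀ h ∈ hs_Sabcdef, UI.{u} R_Sabcdef h.1 h.2.1 h.2.2 :=
  List.forall_mem_cons.2 ⟨ui_Sabcdf.ren imp_Sabcdef_Sabcdf_1076 (by decide +kernel) (by decide +kernel),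
    List.forall_mem_cons.2 ⟨ui_Sabcde_1078.ren imp_Sabcdef_Sabcde_1079 (by decide +kernel) (by decide +kernel),
    List.forall_mem_cons.2 ⟨ui_Sabcdf_1081.ren imp_Sabcdef_Sabcdf_1076 (by decide +kernel) (by decide +kernel),
    List.forall_mem_nil _⟩⟩⟩

theorem e_Sabcdef_0 : erun 416 6 N_Sabcdef R_Sabcdef iv_Sabcdef 6 hs_Sabcdef (stK (ones 416) (mkK 416 (ones 416) [0,1,2,3,4,5]))
  [.orb [0,1,2,3,5] [[0],[1],[2],[3]] 56 0 0 5, .rel 20 0, .rel 13 1, .rel 16 1, .rel 9 1, .rel 13 1, .rel 16 1, .rel 20 0, .rel 13 1, .orb [0,1,2,3,4] [[0],[2],[3],[4],[1,0,1,0,2,1,3,2,3,1,0,1,2,0,1]] 315 1 4 6, .rel 20 1, .rel 19 1, .rel 17 1, .rel 19 1, .orb [0,1,2,3,5] [[1],[3],[5],[0,1,2,5,1,0,1,2]] 360 13 5 2, .rel 20 0, .rel 13 1]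
  (bit 0) (mkK 416 (bit 0) [0,1,2,3,4]) = true := by decide +kernel

theorem r_Sabcdef_0 : Run.{u} 416 N_Sabcdef R_Sabcdef 0 (bit 0) (mkK 416 (bit 0) [0,1,2,3,4]) (ones 416) (mkK 416 (ones 416) [0,1,2,3,4,5]) := (Run.of_cert ok_Sabcdef (by decide +kernel) inv_Sabcdef hh_Sabcdef e_Sabcdef_0 0)

theorem ui_Sabcdef : UI.{u} R_Sabcdef [0,1,2,3,4,5] (sing [0,1,2,3,4]) 416 :=
  UI.of_run (kp := 6) (O := (ones 416)) ok_Sabcdef (by decide +kernel) rels_Sabcdef r_Sabcdef_0 (by decide +kernel)

theorem ub_Sabcdef : UB.{u} R_Sabcdef [0,1,2,3,4,5] 251596800 :=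
  (ui_Sabcdef.mul (UI.ren (S := [0,1,2,3,4]) (W := []) ub_Sabcde imp_Sabcdef_Sabcde_1079 (by decide +kernel) rfl) (by decide +kernel) (by decide +kernel)).le (by decide +kernel)

def R_Safg : List (List ℕ) := [[0,0],[1,1],[2,2],[0,1,0,1],[0,2,0,2],[1,2,1,2,1,2,1,2],[0,2,1,2,1]]
def iv_Safg : List ℕ := [0,1,2]
theorem inv_Safg : invOK R_Safg iv_Safg 3 = true := by decide +kernel

theorem imp_SZ_Safg_1082c : impCert R_SZ [0,5,6] R_Safg [(0,0),(5,0),(6,0),(11,0),(12,0),(27,0),(29,0)] = true := by decide +kernel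
theorem imp_SZ_Safg_1082 : Imp.{u} R_SZ [0,5,6] R_Safg := Imp.of_cert imp_SZ_Safg_1082c

noncomputable def V_1083 : ℕ → Net := renN N_SZ [0,5,6]
theorem V_1083_ok : ∀ a, (V_1083 a).ok 1782 = true := ok_renN ok_SZ _
theorem V_1083_rels : Rels (pms V_1083) R_Safg := Rels.renN rels_SZ imp_SZ_Safg_1082

noncomputable def n_Safg_0 : Net := Net.nil

noncomputable def n_Safg_1 : Net := Net.nil

noncomputable def n_Safg_2 : Net := (Net.cons (nat_lit 1) (nat_lit 0x1)
  Net.nil)

noncomputable def NL_Safg : List Net := [n_Safg_0,n_Safg_1,n_Safg_2]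
theorem okL_Safg : okL 2 NL_Safg = true := by decide +kernel
noncomputable def N_Safg : ℕ → Net := nth NL_Safg
theorem ok_Safg : ∀ a, (N_Safg a).ok 2 = true := ok_nth okL_Safg

def ps_Safg : List (List ℕ × List ℕ) := [([0,0],[]),([1,1],[]),([2,2],[]),([0,1],[1,0]),([0,2],[2,0]),([1,2,1,2],[2,1,2,1]),([0,2,1],[1,2])]

theorem pl_Safg : ∀ j < 1, planeOK N_Safg ps_Safg (plN 2 1 j) = true := allLt_iff.1 (by decide +kernel)

theorem rels_Safg : Rels (pms N_Safg) R_Safg := rels_of_planes ok_Safg (by decide +kernel) (iv := iv_Safg) pl_Safg (by decide +kernel)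

theorem imp_Safg_Sac_1084c : impCert R_Safg [0,2] R_Sac [(0,0),(2,0),(4,0)] = true := by decide +kernel
theorem imp_Safg_Sac_1084 : Imp.{u} R_Safg [0,2] R_Sac := Imp.of_cert imp_Safg_Sac_1084c

def hs_Safg : List (List ℕ × List (List ℕ) × ℕ) := [([0,2],[[0]],2)]
theorem hh_Safg : ∀ h ∈ hs_Safg, UI.{u} R_Safg h.1 h.2.1 h.2.2 :=
  List.forall_mem_cons.2 ⟨ui_Sac.ren imp_Safg_Sac_1084 (by decide +kernel) (by decide +kernel),
    List.forall_mem_nil _⟩

theorem e_Safg_0 : erun 2 0 N_Safg R_Safg iv_Safg 3 hs_Safg (stK (ones 2) (mkK 2 (ones 2) [0,1,2]))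
  [.orb [0,2] [[0]] 2 0 0 1, .rel 6 4]
  (bit 0) (mkK 2 (bit 0) [0,1]) = true := by decide +kernel

theorem r_Safg_0 : Run.{u} 2 N_Safg R_Safg 0 (bit 0) (mkK 2 (bit 0) [0,1]) (ones 2) (mkK 2 (ones 2) [0,1,2]) := (Run.of_cert ok_Safg (by decide +kernel) inv_Safg hh_Safg e_Safg_0 0)

theorem ui_Safg : UI.{u} R_Safg [0,1,2] (sing [0,1]) 2 :=
  UI.of_run (kp := 0) (O := (ones 2)) ok_Safg (by decide +kernel) rels_Safg r_Safg_0 (by decide +kernel)

theorem imp_Safg_Sac_1085c : impCert R_Safg [0,1] R_Sac [(0,0),(1,0),(3,0)] = true := by decide +kernel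
theorem imp_Safg_Sac_1085 : Imp.{u} R_Safg [0,1] R_Sac := Imp.of_cert imp_Safg_Sac_1085c

theorem ub_Safg : UB.{u} R_Safg [0,1,2] 8 :=
  (ui_Safg.mul (UI.ren (S := [0,1]) (W := []) ub_Sac imp_Safg_Sac_1085 (by decide +kernel) rfl) (by decide +kernel) (by decide +kernel)).le (by decide +kernel)

def R_Sabfg : List (List ℕ) := [[0,0],[1,1],[2,2],[3,3],[0,1,0,1,0,1,0,1,0,1],[0,2,0,2],[0,3,0,3],[1,2,1,2,1,2],[1,3,1,3,1,3],[2,3,2,3,2,3,2,3],[0,3,2,3,2],[1,2,3,1,2,3,1,2,3,1,2,3,1,2,3]]
def iv_Sabfg : List ℕ := [0,1,2,3]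
theorem inv_Sabfg : invOK R_Sabfg iv_Sabfg 4 = true := by decide +kernel

theorem imp_SZ_Sabfg_1086c : impCert R_SZ [0,1,5,6] R_Sabfg [(0,0),(1,0),(5,0),(6,0),(7,0),(11,0),(12,0),(16,0),(17,0),(27,0),(29,0),(31,0)] = true := by decide +kernel
theorem imp_SZ_Sabfg_1086 : Imp.{u} R_SZ [0,1,5,6] R_Sabfg := Imp.of_cert imp_SZ_Sabfg_1086c

noncomputable def V_1087 : ℕ → Net := renN N_SZ [0,1,5,6]
theorem V_1087_ok : ∀ a, (V_1087 a).ok 1782 = true := ok_renN ok_SZ _
theorem V_1087_rels : Rels (pms V_1087) R_Sabfg := Rels.renN rels_SZ imp_SZ_Sabfg_1086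

noncomputable def n_Sabfg_0 : Net := (Net.cons (nat_lit 1) (nat_lit 0x15411000114)
  (Net.cons (nat_lit 2) (nat_lit 0x30111332122)
  (Net.cons (nat_lit 4) (nat_lit 0xf000104)
  (Net.cons (nat_lit 8) (nat_lit 0x8002d0010)
  (Net.cons (nat_lit 16) (nat_lit 0xfba3)
  (Net.cons (nat_lit 32) (nat_lit 0x12a3)
  (Net.cons (nat_lit 16) (nat_lit 0x12a3)
  (Net.cons (nat_lit 8) (nat_lit 0x1100890000)
  (Net.cons (nat_lit 4) (nat_lit 0x1010e000100)
  (Net.cons (nat_lit 2) (nat_lit 0x32113030100)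
  (Net.cons (nat_lit 1) (nat_lit 0x15411000014)
  Net.nil)))))))))))

noncomputable def n_Sabfg_1 : Net := (Net.cons (nat_lit 1) (nat_lit 0x50441015011)
  (Net.cons (nat_lit 2) (nat_lit 0x31223110110)
  (Net.cons (nat_lit 4) (nat_lit 0x10209040404)
  (Net.cons (nat_lit 8) (nat_lit 0xa006a0090)
  (Net.cons (nat_lit 16) (nat_lit 0x2e9f)
  (Net.cons (nat_lit 32) (nat_lit 0x49f)
  (Net.cons (nat_lit 16) (nat_lit 0x49f)
  (Net.cons (nat_lit 8) (nat_lit 0xa002a0000)
  (Net.cons (nat_lit 4) (nat_lit 0x2040000)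
  (Net.cons (nat_lit 2) (nat_lit 0x11201110110)
  (Net.cons (nat_lit 1) (nat_lit 0x50441015010)
  Net.nil)))))))))))

noncomputable def n_Sabfg_2 : Net := (Net.cons (nat_lit 1) (nat_lit 0x14411010100)
  (Net.cons (nat_lit 2) (nat_lit 0x1231231222)
  (Net.cons (nat_lit 4) (nat_lit 0xc0401030c)
  (Net.cons (nat_lit 8) (nat_lit 0x700460038)
  (Net.cons (nat_lit 16) (nat_lit 0xdfe2)
  (Net.cons (nat_lit 32) (nat_lit 0x18e2)
  (Net.cons (nat_lit 16) (nat_lit 0x18e2)
  (Net.cons (nat_lit 8) (nat_lit 0x200460000)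
  (Net.cons (nat_lit 4) (nat_lit 0x604000308)
  (Net.cons (nat_lit 2) (nat_lit 0x3031031000)
  (Net.cons (nat_lit 1) (nat_lit 0x14411010100)
  Net.nil)))))))))))

noncomputable def n_Sabfg_3 : Net := (Net.cons (nat_lit 1) (nat_lit 0x14011454554)
  (Net.cons (nat_lit 2) (nat_lit 0x20302032300)
  (Net.cons (nat_lit 4) (nat_lit 0x302090c06)
  (Net.cons (nat_lit 8) (nat_lit 0xa00a300d0)
  (Net.cons (nat_lit 16) (nat_lit 0x3fd3)
  (Net.cons (nat_lit 32) (nat_lit 0x14d3)
  (Net.cons (nat_lit 16) (nat_lit 0x14d3)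
  (Net.cons (nat_lit 8) (nat_lit 0x200630000)
  (Net.cons (nat_lit 4) (nat_lit 0x102050c08)
  (Net.cons (nat_lit 2) (nat_lit 0x20302032300)
  (Net.cons (nat_lit 1) (nat_lit 0x10051044410)
  Net.nil)))))))))))

noncomputable def NL_Sabfg : List Net := [n_Sabfg_0,n_Sabfg_1,n_Sabfg_2,n_Sabfg_3]
theorem okL_Sabfg : okL 45 NL_Sabfg = true := by decide +kernel
noncomputable def N_Sabfg : ℕ → Net := nth NL_Sabfg
theorem ok_Sabfg : ∀ a, (N_Sabfg a).ok 45 = true := ok_nth okL_Sabfg

def ps_Sabfg : List (List ℕ × List ℕ) := [([0,0],[]),([1,1],[]),([2,2],[]),([3,3],[]),([0,1,0,1,0],[1,0,1,0,1]),([0,2],[2,0]),([0,3],[3,0]),([1,2,1],[2,1,2]),([1,3,1],[3,1,3]),([2,3,2,3],[3,2,3,2]),([0,3,2],[2,3]),([1,2,3,1,2,3,1,2],[3,2,1,3,2,1,3])]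

theorem pl_Sabfg : ∀ j < 6, planeOK N_Sabfg ps_Sabfg (plN 45 6 j) = true := allLt_iff.1 (by decide +kernel)

theorem rels_Sabfg : Rels (pms N_Sabfg) R_Sabfg := rels_of_planes ok_Sabfg (by decide +kernel) (iv := iv_Sabfg) pl_Sabfg (by decide +kernel)

theorem imp_Sabfg_Safg_1088c : impCert R_Sabfg [0,2,3] R_Safg [(0,0),(2,0),(3,0),(5,0),(6,0),(9,0),(10,0)] = true := by decide +kernel
theorem imp_Sabfg_Safg_1088 : Imp.{u} R_Sabfg [0,2,3] R_Safg := Imp.of_cert imp_Sabfg_Safg_1088c

theorem lb_1089 : LB V_1083 [[2]] [0] 2 :=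
  (LB.of_chain (kp := 8) V_1083_ok (by decide +kernel) [(0,1,[[2]])] (by decide +kernel)).cat
    (V_1083_rels.inv inv_Safg) (by decide +kernel) (c := [[0]]) (by decide +kernel)

theorem ui_Safg_1090 : UI.{u} R_Safg [0,1,2] [[2]] 4 :=
  UI.of_UB ub_Safg V_1083_rels lb_1089 (by decide +kernel) (by decide +kernel)

theorem lb_1091 : LB N_H3 [[1],[0,1,0,2,1,0,1,0,1,0,2,1,0,1,0,1,2,0,1,0]] [0,1] 4 :=
  (LB.of_chain (kp := 1) ok_H3 (by decide +kernel) [(0,1,[[1],[0,1,0,2,1,0,1,0,1,0,2,1,0,1,0,1,2,0,1,0]]),(1,1,[[1]])] (by decide +kernel)).cat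
    (rels_H3.inv inv_H3) (by decide +kernel) (c := [[0],[2],[0]]) (by decide +kernel)

theorem ui_H3_1092 : UI.{u} R_H3 [0,1,2] [[1],[0,1,0,2,1,0,1,0,1,0,2,1,0,1,0,1,2,0,1,0]] 30 :=
  UI.of_UB ub_H3 rels_H3 lb_1091 (by decide +kernel) (by decide +kernel)

theorem imp_Sabfg_H3_1093c : impCert R_Sabfg [0,1,3] R_H3 [(0,0),(1,0),(3,0),(4,0),(6,0),(8,0)] = true := by decide +kernel
theorem imp_Sabfg_H3_1093 : Imp.{u} R_Sabfg [0,1,3] R_H3 := Imp.of_cert imp_Sabfg_H3_1093c

theorem lb_1094 : LB N_H3 [[1],[2,1,0,1,0,2,1,2,0,1,2,0,1,0]] [0,1] 4 :=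
  (LB.of_chain (kp := 1) ok_H3 (by decide +kernel) [(0,1,[[1],[2,1,0,1,0,2,1,2,0,1,2,0,1,0]]),(1,1,[[1]])] (by decide +kernel)).cat
    (rels_H3.inv inv_H3) (by decide +kernel) (c := [[0],[2],[0]]) (by decide +kernel)

theorem ui_H3_1095 : UI.{u} R_H3 [0,1,2] [[1],[2,1,0,1,0,2,1,2,0,1,2,0,1,0]] 30 :=
  UI.of_UB ub_H3 rels_H3 lb_1094 (by decide +kernel) (by decide +kernel)

theorem imp_Sabfg_H3_1096c : impCert R_Sabfg [0,1,2] R_H3 [(0,0),(1,0),(2,0),(4,0),(5,0),(7,0)] = true := by decide +kernel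
theorem imp_Sabfg_H3_1096 : Imp.{u} R_Sabfg [0,1,2] R_H3 := Imp.of_cert imp_Sabfg_H3_1096c

def hs_Sabfg : List (List ℕ × List (List ℕ) × ℕ) := [([0,2,3],[],8),([0,2,3],[[3]],4),([0,1,3],[[1],[0,1,0,3,1,0,1,0,1,0,3,1,0,1,0,1,3,0,1,0]],30),([0,1,2],[[1],[2,1,0,1,0,2,1,2,0,1,2,0,1,0]],30)]
theorem hh_Sabfg : ∀ h ∈ hs_Sabfg, UI.{u} R_Sabfg h.1 h.2.1 h.2.2 :=
  List.forall_mem_cons.2 ⟨ub_Safg.ren imp_Sabfg_Safg_1088 (by decide +kernel) (by decide +kernel),
    List.forall_mem_cons.2 ⟨ui_Safg_1090.ren imp_Sabfg_Safg_1088 (by decide +kernel) (by decide +kernel),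
    List.forall_mem_cons.2 ⟨ui_H3_1092.ren imp_Sabfg_H3_1093 (by decide +kernel) (by decide +kernel),
    List.forall_mem_cons.2 ⟨ui_H3_1095.ren imp_Sabfg_H3_1096 (by decide +kernel) (by decide +kernel),
    List.forall_mem_nil _⟩⟩⟩⟩

theorem e_Sabfg_0 : erun 45 3 N_Sabfg R_Sabfg iv_Sabfg 4 hs_Sabfg (stK (ones 45) (mkK 45 (ones 45) [0,1,2,3]))
  [.grow [1] 1 (bit 0), .rel 1 0, .orb [0,2,3] [] 8 1 0 1, .rel 7 0, .rel 8 0, .grow [1] 1 (bit 2), .rel 1 0, .orb [0,2,3] [] 8 5 0 1, .rel 4 1, .grow [1] 1 (bit 6), .rel 1 0, .orb [0,2,3] [] 8 13 0 1, .rel 7 0, .grow [1] 1 (bit 7), .rel 1 0, .orb [0,2,3] [] 8 14 0 1, .rel 8 0, .rel 11 0, .rel 1 0, .rel 7 0, .rel 8 0, .grow [1] 1 (bit 8), .rel 1 0, .rel 8 1, .orb [0,2,3] [[3]] 4 15 0 1, .rel 7 0, .rel 11 0, .orb [0,1,3] [[1],[0,1,0,3,1,0,1,0,1,0,3,1,0,1,0,1,3,0,1,0]] 30 3 4 1, .rel 7 1, .orb [0,1,2] [[1],[2,1,0,1,0,2,1,2,0,1,2,0,1,0]] 30 4 3 1, .rel 8 1]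
  (bit 0) (mkK 45 (bit 0) [0,2,3]) = true := by decide +kernel

theorem r_Sabfg_0 : Run.{u} 45 N_Sabfg R_Sabfg 0 (bit 0) (mkK 45 (bit 0) [0,2,3]) (ones 45) (mkK 45 (ones 45) [0,1,2,3]) := (Run.of_cert ok_Sabfg (by decide +kernel) inv_Sabfg hh_Sabfg e_Sabfg_0 0)

theorem ui_Sabfg : UI.{u} R_Sabfg [0,1,2,3] (sing [0,2,3]) 45 :=
  UI.of_run (kp := 3) (O := (ones 45)) ok_Sabfg (by decide +kernel) rels_Sabfg r_Sabfg_0 (by decide +kernel)

theorem ub_Sabfg : UB.{u} R_Sabfg [0,1,2,3] 360 :=
  (ui_Sabfg.mul (UI.ren (S := [0,2,3]) (W := []) ub_Safg imp_Sabfg_Safg_1088 (by decide +kernel) rfl) (by decide +kernel) (by decide +kernel)).le (by decide +kernel)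

def R_Sabcfg : List (List ℕ) := [[0,0],[1,1],[2,2],[3,3],[4,4],[0,1,0,1,0,1,0,1,0,1],[0,2,0,2],[0,3,0,3],[0,4,0,4],[1,2,1,2,1,2],[1,3,1,3,1,3],[1,4,1,4,1,4],[2,3,2,3],[2,4,2,4],[3,4,3,4,3,4,3,4],[0,4,3,4,3],[0,1,2,3,0,1,2,3,0,1,2,3,0,1,2,3,0,1,2,3],[1,3,4,1,3,4,1,3,4,1,3,4,1,3,4],[0,1,2,0,1,2,0,1,2,0,1,2,0,1,2]]
def iv_Sabcfg : List ℕ := [0,1,2,3,4]
theorem inv_Sabcfg : invOK R_Sabcfg iv_Sabcfg 5 = true := by decide +kernel

theorem imp_SZ_Sabcfg_1097c : impCert R_SZ [0,1,2,5,6] R_Sabcfg [(0,0),(1,0),(2,0),(5,0),(6,0),(7,0),(8,0),(11,0),(12,0),(13,0),(16,0),(17,0),(20,0),(21,0),(27,0),(29,0),(30,0),(31,0),(33,0)] = true := by decide +kernel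
theorem imp_SZ_Sabcfg_1097 : Imp.{u} R_SZ [0,1,2,5,6] R_Sabcfg := Imp.of_cert imp_SZ_Sabcfg_1097c

noncomputable def V_1098 : ℕ → Net := renN N_SZ [0,1,2,5,6]
theorem V_1098_ok : ∀ a, (V_1098 a).ok 1782 = true := ok_renN ok_SZ _
theorem V_1098_rels : Rels (pms V_1098) R_Sabcfg := Rels.renN rels_SZ imp_SZ_Sabcfg_1097

noncomputable def n_Sabcfg_0 : Net := (Net.cons (nat_lit 1) (nat_lit 0x1154)
  (Net.cons (nat_lit 2) (nat_lit 0x33030)
  (Net.cons (nat_lit 4) (nat_lit 0x10400)
  (Net.cons (nat_lit 8) (nat_lit 0x10)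
  (Net.cons (nat_lit 16) (nat_lit 0x10)
  (Net.cons (nat_lit 8) (nat_lit 0x10)
  (Net.cons (nat_lit 4) (nat_lit 0x10000)
  (Net.cons (nat_lit 2) (nat_lit 0x11000)
  (Net.cons (nat_lit 1) (nat_lit 0x1000)
  Net.nil)))))))))

noncomputable def n_Sabcfg_1 : Net := (Net.cons (nat_lit 1) (nat_lit 0x45404)
  (Net.cons (nat_lit 2) (nat_lit 0x31102)
  (Net.cons (nat_lit 4) (nat_lit 0x10e04)
  (Net.cons (nat_lit 8) (nat_lit 0x8c)
  (Net.cons (nat_lit 16) (nat_lit 0xc)
  (Net.cons (nat_lit 8) (nat_lit 0xc)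
  (Net.cons (nat_lit 4) (nat_lit 0xc00)
  (Net.cons (nat_lit 2) (nat_lit 0x31000)
  (Net.cons (nat_lit 1) (nat_lit 0x45404)
  Net.nil)))))))))

noncomputable def n_Sabcfg_2 : Net := (Net.cons (nat_lit 1) (nat_lit 0x50100)
  (Net.cons (nat_lit 2) (nat_lit 0x3010)
  (Net.cons (nat_lit 4) (nat_lit 0x70c)
  (Net.cons (nat_lit 8) (nat_lit 0x31)
  (Net.cons (nat_lit 16) (nat_lit 0x1)
  (Net.cons (nat_lit 8) (nat_lit 0x1)
  (Net.cons (nat_lit 4) (nat_lit 0x300)
  (Net.cons (nat_lit 2) (nat_lit 0x1010)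
  (Net.cons (nat_lit 1) (nat_lit 0x10100)
  Net.nil)))))))))

noncomputable def n_Sabcfg_3 : Net := (Net.cons (nat_lit 1) (nat_lit 0x1054)
  (Net.cons (nat_lit 2) (nat_lit 0x10010)
  (Net.cons (nat_lit 4) (nat_lit 0xf0c)
  (Net.cons (nat_lit 8) (nat_lit 0x3b)
  (Net.cons (nat_lit 16) (nat_lit 0xb)
  (Net.cons (nat_lit 8) (nat_lit 0xb)
  (Net.cons (nat_lit 4) (nat_lit 0xb00)
  (Net.cons (nat_lit 2) (nat_lit 0x10020)
  (Net.cons (nat_lit 1) (nat_lit 0x1100)
  Net.nil)))))))))

noncomputable def n_Sabcfg_4 : Net := (Net.cons (nat_lit 1) (nat_lit 0x55541)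
  (Net.cons (nat_lit 2) (nat_lit 0x30020)
  (Net.cons (nat_lit 4) (nat_lit 0x800)
  (Net.cons (nat_lit 8) (nat_lit 0xc)
  (Net.cons (nat_lit 16) (nat_lit 0xc)
  (Net.cons (nat_lit 8) (nat_lit 0xc)
  (Net.cons (nat_lit 4) (nat_lit 0x400)
  (Net.cons (nat_lit 2) (nat_lit 0x30000)
  (Net.cons (nat_lit 1) (nat_lit 0x40)
  Net.nil)))))))))

noncomputable def NL_Sabcfg : List Net := [n_Sabcfg_0,n_Sabcfg_1,n_Sabcfg_2,n_Sabcfg_3,n_Sabcfg_4]
theorem okL_Sabcfg : okL 21 NL_Sabcfg = true := by decide +kernel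
noncomputable def N_Sabcfg : ℕ → Net := nth NL_Sabcfg
theorem ok_Sabcfg : ∀ a, (N_Sabcfg a).ok 21 = true := ok_nth okL_Sabcfg

def ps_Sabcfg : List (List ℕ × List ℕ) := [([0,0],[]),([1,1],[]),([2,2],[]),([3,3],[]),([4,4],[]),([0,1,0,1,0],[1,0,1,0,1]),([0,2],[2,0]),([0,3],[3,0]),([0,4],[4,0]),([1,2,1],[2,1,2]),([1,3,1],[3,1,3]),([1,4,1],[4,1,4]),([2,3],[3,2]),([2,4],[4,2]),([3,4,3,4],[4,3,4,3]),([0,4,3],[3,4]),([0,1,2,3,0,1,2,3,0,1],[3,2,1,0,3,2,1,0,3,2]),([1,3,4,1,3,4,1,3],[4,3,1,4,3,1,4]),([0,1,2,0,1,2,0,1],[2,1,0,2,1,0,2])]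

theorem pl_Sabcfg : ∀ j < 5, planeOK N_Sabcfg ps_Sabcfg (plN 21 5 j) = true := allLt_iff.1 (by decide +kernel)

theorem rels_Sabcfg : Rels (pms N_Sabcfg) R_Sabcfg := rels_of_planes ok_Sabcfg (by decide +kernel) (iv := iv_Sabcfg) pl_Sabcfg (by decide +kernel)

theorem lb_1099 : LB V_1087 [[0],[1],[2]] [995,1,2] 60 :=
  (LB.of_chain (kp := 8) V_1087_ok (by decide +kernel) [(995,3,[[0],[1],[2]]),(1,3,[[0],[1]]),(2,1,[[0]])] (by decide +kernel)).cat
    (V_1087_rels.inv inv_Sabfg) (by decide +kernel) (c := [[0],[2],[4],[0],[2],[0]]) (by decide +kernel)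

theorem ui_Sabfg_1100 : UI.{u} R_Sabfg [0,1,2,3] [[0],[1],[2]] 6 :=
  UI.of_UB ub_Sabfg V_1087_rels lb_1099 (by decide +kernel) (by decide +kernel)

theorem imp_Sabcfg_Sabfg_1101c : impCert R_Sabcfg [0,1,3,4] R_Sabfg [(0,0),(1,0),(3,0),(4,0),(5,0),(7,0),(8,0),(10,0),(11,0),(14,0),(15,0),(17,0)] = true := by decide +kernel
theorem imp_Sabcfg_Sabfg_1101 : Imp.{u} R_Sabcfg [0,1,3,4] R_Sabfg := Imp.of_cert imp_Sabcfg_Sabfg_1101c

theorem lb_1102 : LB N_Sabcf [[0],[2],[3],[1,0,1,3,0,1]] [0,2] 96 :=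
  (LB.of_chain (kp := 2) ok_Sabcf (by decide +kernel) [(0,3,[[0],[2],[3],[1,0,1,3,0,1]]),(2,1,[[0],[2]])] (by decide +kernel)).cat
    (rels_Sabcf.inv inv_Sabcf) (by decide +kernel) (c := [[0],[2],[4],[6],[0],[2]]) (by decide +kernel)

theorem ui_Sabcf_1103 : UI.{u} R_Sabcf [0,1,2,3] [[0],[2],[3],[1,0,1,3,0,1]] 20 :=
  UI.of_UB ub_Sabcf rels_Sabcf lb_1102 (by decide +kernel) (by decide +kernel)

theorem imp_Sabcfg_Sabcf_1104c : impCert R_Sabcfg [0,1,2,3] R_Sabcf [(0,0),(1,0),(2,0),(3,0),(5,0),(6,0),(7,0),(9,0),(10,0),(12,0),(16,0),(18,0)] = true := by decide +kernel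
theorem imp_Sabcfg_Sabcf_1104 : Imp.{u} R_Sabcfg [0,1,2,3] R_Sabcf := Imp.of_cert imp_Sabcfg_Sabcf_1104c

theorem lb_1105 : LB V_1087 [[1],[3],[2,1,0,1,2]] [995,0,1] 24 :=
  (LB.of_chain (kp := 8) V_1087_ok (by decide +kernel) [(995,3,[[1],[3],[2,1,0,1,2]]),(0,2,[[1],[3]]),(1,1,[[1]])] (by decide +kernel)).cat
    (V_1087_rels.inv inv_Sabfg) (by decide +kernel) (c := [[0],[2],[4],[0],[2],[0]]) (by decide +kernel)

theorem ui_Sabfg_1106 : UI.{u} R_Sabfg [0,1,2,3] [[1],[3],[2,1,0,1,2]] 15 :=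
  UI.of_UB ub_Sabfg V_1087_rels lb_1105 (by decide +kernel) (by decide +kernel)

def hs_Sabcfg : List (List ℕ × List (List ℕ) × ℕ) := [([0,1,3,4],[[0],[1],[3]],6),([0,1,2,3],[[0],[2],[3],[1,0,1,3,0,1]],20),([0,1,3,4],[[1],[4],[3,1,0,1,3]],15)]
theorem hh_Sabcfg : ∀ h ∈ hs_Sabcfg, UI.{u} R_Sabcfg h.1 h.2.1 h.2.2 :=
  List.forall_mem_cons.2 ⟨ui_Sabfg_1100.ren imp_Sabcfg_Sabfg_1101 (by decide +kernel) (by decide +kernel),
    List.forall_mem_cons.2 ⟨ui_Sabcf_1103.ren imp_Sabcfg_Sabcf_1104 (by decide +kernel) (by decide +kernel),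
    List.forall_mem_cons.2 ⟨ui_Sabfg_1106.ren imp_Sabcfg_Sabfg_1101 (by decide +kernel) (by decide +kernel),
    List.forall_mem_nil _⟩⟩⟩

theorem e_Sabcfg_0 : erun 21 2 N_Sabcfg R_Sabcfg iv_Sabcfg 5 hs_Sabcfg (stK (ones 21) (mkK 21 (ones 21) [0,1,2,3,4]))
  [.orb [0,1,3,4] [[0],[1],[3]] 6 0 0 3, .rel 13 0, .orb [0,1,2,3] [[0],[2],[3],[1,0,1,3,0,1]] 20 1 2 3, .rel 13 1, .orb [0,1,3,4] [[1],[4],[3,1,0,1,3]] 15 4 3 0]
  (bit 0) (mkK 21 (bit 0) [0,1,2,3]) = true := by decide +kernel

theorem r_Sabcfg_0 : Run.{u} 21 N_Sabcfg R_Sabcfg 0 (bit 0) (mkK 21 (bit 0) [0,1,2,3]) (ones 21) (mkK 21 (ones 21) [0,1,2,3,4]) := (Run.of_cert ok_Sabcfg (by decide +kernel) inv_Sabcfg hh_Sabcfg e_Sabcfg_0 0)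

theorem ui_Sabcfg : UI.{u} R_Sabcfg [0,1,2,3,4] (sing [0,1,2,3]) 21 :=
  UI.of_run (kp := 2) (O := (ones 21)) ok_Sabcfg (by decide +kernel) rels_Sabcfg r_Sabcfg_0 (by decide +kernel)

theorem ub_Sabcfg : UB.{u} R_Sabcfg [0,1,2,3,4] 40320 :=
  (ui_Sabcfg.mul (UI.ren (S := [0,1,2,3]) (W := []) ub_Sabcf imp_Sabcfg_Sabcf_1104 (by decide +kernel) rfl) (by decide +kernel) (by decide +kernel)).le (by decide +kernel)

def R_Sacdfg : List (List ℕ) := [[0,0],[1,1],[2,2],[3,3],[4,4],[0,1,0,1],[0,2,0,2],[0,3,0,3],[0,4,0,4],[1,2,1,2,1,2,1,2,1,2,1,2,1,2,1,2],[1,3,1,3],[1,4,1,4],[2,3,2,3],[2,4,2,4],[3,4,3,4,3,4,3,4],[0,2,1,2,1,2,1,2,1],[0,4,3,4,3]]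
def iv_Sacdfg : List ℕ := [0,1,2,3,4]
theorem inv_Sacdfg : invOK R_Sacdfg iv_Sacdfg 5 = true := by decide +kernel

theorem imp_SZ_Sacdfg_1107c : impCert R_SZ [0,2,3,5,6] R_Sacdfg [(0,0),(2,0),(3,0),(5,0),(6,0),(8,0),(9,0),(11,0),(12,0),(18,0),(20,0),(21,0),(23,0),(24,0),(27,0),(28,0),(29,0)] = true := by decide +kernel
theorem imp_SZ_Sacdfg_1107 : Imp.{u} R_SZ [0,2,3,5,6] R_Sacdfg := Imp.of_cert imp_SZ_Sacdfg_1107c

noncomputable def V_1108 : ℕ → Net := renN N_SZ [0,2,3,5,6]
theorem V_1108_ok : ∀ a, (V_1108 a).ok 1782 = true := ok_renN ok_SZ _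
theorem V_1108_rels : Rels (pms V_1108) R_Sacdfg := Rels.renN rels_SZ imp_SZ_Sacdfg_1107

noncomputable def n_Sacdfg_0 : Net := Net.nil

noncomputable def n_Sacdfg_1 : Net := Net.nil

noncomputable def n_Sacdfg_2 : Net := Net.nil

noncomputable def n_Sacdfg_3 : Net := Net.nil

noncomputable def n_Sacdfg_4 : Net := (Net.cons (nat_lit 1) (nat_lit 0x1)
  Net.nil)

noncomputable def NL_Sacdfg : List Net := [n_Sacdfg_0,n_Sacdfg_1,n_Sacdfg_2,n_Sacdfg_3,n_Sacdfg_4]
theorem okL_Sacdfg : okL 2 NL_Sacdfg = true := by decide +kernel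
noncomputable def N_Sacdfg : ℕ → Net := nth NL_Sacdfg
theorem ok_Sacdfg : ∀ a, (N_Sacdfg a).ok 2 = true := ok_nth okL_Sacdfg

def ps_Sacdfg : List (List ℕ × List ℕ) := [([0,0],[]),([1,1],[]),([2,2],[]),([3,3],[]),([4,4],[]),([0,1],[1,0]),([0,2],[2,0]),([0,3],[3,0]),([0,4],[4,0]),([1,2,1,2,1,2,1,2],[2,1,2,1,2,1,2,1]),([1,3],[3,1]),([1,4],[4,1]),([2,3],[3,2]),([2,4],[4,2]),([3,4,3,4],[4,3,4,3]),([0,2,1,2,1],[1,2,1,2]),([0,4,3],[3,4])]

theorem pl_Sacdfg : ∀ j < 1, planeOK N_Sacdfg ps_Sacdfg (plN 2 1 j) = true := allLt_iff.1 (by decide +kernel)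

theorem rels_Sacdfg : Rels (pms N_Sacdfg) R_Sacdfg := rels_of_planes ok_Sacdfg (by decide +kernel) (iv := iv_Sacdfg) pl_Sacdfg (by decide +kernel)

def hs_Sacdfg : List (List ℕ × List (List ℕ) × ℕ) := []
theorem hh_Sacdfg : ∀ h ∈ hs_Sacdfg, UI.{u} R_Sacdfg h.1 h.2.1 h.2.2 :=
  List.forall_mem_nil _

theorem e_Sacdfg_0 : erun 2 0 N_Sacdfg R_Sacdfg iv_Sacdfg 5 hs_Sacdfg (stK (ones 2) (mkK 2 (ones 2) [0,1,2,3,4]))
  [.grow [4] 1 (bit 0), .rel 4 0, .rel 8 0, .rel 11 0, .rel 13 0, .rel 16 4]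
  (bit 0) (mkK 2 (bit 0) [0,1,2,3]) = true := by decide +kernel

theorem r_Sacdfg_0 : Run.{u} 2 N_Sacdfg R_Sacdfg 0 (bit 0) (mkK 2 (bit 0) [0,1,2,3]) (ones 2) (mkK 2 (ones 2) [0,1,2,3,4]) := (Run.of_cert ok_Sacdfg (by decide +kernel) inv_Sacdfg hh_Sacdfg e_Sacdfg_0 0)

theorem ui_Sacdfg : UI.{u} R_Sacdfg [0,1,2,3,4] (sing [0,1,2,3]) 2 :=
  UI.of_run (kp := 0) (O := (ones 2)) ok_Sacdfg (by decide +kernel) rels_Sacdfg r_Sacdfg_0 (by decide +kernel)

theorem imp_Sacdfg_Sacdf_1109c : impCert R_Sacdfg [0,1,2,3] R_Sacdf [(0,0),(1,0),(2,0),(3,0),(5,0),(6,0),(7,0),(9,0),(10,0),(12,0),(15,0)] = true := by decide +kernel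
theorem imp_Sacdfg_Sacdf_1109 : Imp.{u} R_Sacdfg [0,1,2,3] R_Sacdf := Imp.of_cert imp_Sacdfg_Sacdf_1109c

theorem ub_Sacdfg : UB.{u} R_Sacdfg [0,1,2,3,4] 64 :=
  (ui_Sacdfg.mul (UI.ren (S := [0,1,2,3]) (W := []) ub_Sacdf imp_Sacdfg_Sacdf_1109 (by decide +kernel) rfl) (by decide +kernel) (by decide +kernel)).le (by decide +kernel)

def R_Sabcdfg : List (List ℕ) := [[0,0],[1,1],[2,2],[3,3],[4,4],[5,5],[0,1,0,1,0,1,0,1,0,1],[0,2,0,2],[0,3,0,3],[0,4,0,4],[0,5,0,5],[1,2,1,2,1,2],[1,3,1,3],[1,4,1,4,1,4],[1,5,1,5,1,5],[2,3,2,3,2,3,2,3,2,3,2,3,2,3,2,3],[2,4,2,4],[2,5,2,5],[3,4,3,4],[3,5,3,5],[4,5,4,5,4,5,4,5],[0,3,2,3,2,3,2,3,2],[0,5,4,5,4],[0,1,2,4,0,1,2,4,0,1,2,4,0,1,2,4,0,1,2,4],[1,4,5,1,4,5,1,4,5,1,4,5,1,4,5],[0,1,2,0,1,2,0,1,2,0,1,2,0,1,2]]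
def iv_Sabcdfg : List ℕ := [0,1,2,3,4,5]
theorem inv_Sabcdfg : invOK R_Sabcdfg iv_Sabcdfg 6 = true := by decide +kernel

theorem imp_SZ_Sabcdfg_1110c : impCert R_SZ [0,1,2,3,5,6] R_Sabcdfg [(0,0),(1,0),(2,0),(3,0),(5,0),(6,0),(7,0),(8,0),(9,0),(11,0),(12,0),(13,0),(14,0),(16,0),(17,0),(18,0),(20,0),(21,0),(23,0),(24,0),(27,0),(28,0),(29,0),(30,0),(31,0),(33,0)] = true := by decide +kernel
theorem imp_SZ_Sabcdfg_1110 : Imp.{u} R_SZ [0,1,2,3,5,6] R_Sabcdfg := Imp.of_cert imp_SZ_Sabcdfg_1110c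

noncomputable def V_1111 : ℕ → Net := renN N_SZ [0,1,2,3,5,6]
theorem V_1111_ok : ∀ a, (V_1111 a).ok 1782 = true := ok_renN ok_SZ _
theorem V_1111_rels : Rels (pms V_1111) R_Sabcdfg := Rels.renN rels_SZ imp_SZ_Sabcdfg_1110

noncomputable def n_Sabcdfg_0 : Net := (Net.cons (nat_lit 1) (nat_lit 0x11511000110541415004440550441054410454)
  (Net.cons (nat_lit 2) (nat_lit 0x1003203031321313013233330313111131220330)
  (Net.cons (nat_lit 4) (nat_lit 0xb07050103000a0901000c090001030907090500)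
  (Net.cons (nat_lit 8) (nat_lit 0x85001a000e009f0068006800dc008e00370000)
  (Net.cons (nat_lit 16) (nat_lit 0x396b0000e81b000068ae000098f900003400)
  (Net.cons (nat_lit 32) (nat_lit 0x1000000007979f6f40000000080500000)
  (Net.cons (nat_lit 64) (nat_lit 0x6000805019200284)
  (Net.cons (nat_lit 128) (nat_lit 0x19200284)
  (Net.cons (nat_lit 64) (nat_lit 0x19200284)
  (Net.cons (nat_lit 32) (nat_lit 0x792082d40000000000000000)
  (Net.cons (nat_lit 16) (nat_lit 0x192100000029000060000000805000000000)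
  (Net.cons (nat_lit 8) (nat_lit 0x1000b006a0015000000200090008000340000)
  (Net.cons (nat_lit 4) (nat_lit 0xb06000a020a0009000a0c090001030903010000)
  (Net.cons (nat_lit 2) (nat_lit 0x1003201211002120010003310313011131231000)
  (Net.cons (nat_lit 1) (nat_lit 0x11511000110541405000440150441054410400)
  Net.nil)))))))))))))))

noncomputable def n_Sabcdfg_1 : Net := (Net.cons (nat_lit 1) (nat_lit 0x11505001445055010504150054105111401401004)
  (Net.cons (nat_lit 2) (nat_lit 0x2212002102123231310102031120122013112002)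
  (Net.cons (nat_lit 4) (nat_lit 0xc02000e07010a060b040c0a0503010004000e04)
  (Net.cons (nat_lit 8) (nat_lit 0x73002a00a500e2004300f000d3001b001f0080)
  (Net.cons (nat_lit 16) (nat_lit 0xc28e00002066000058e7000034dc00005c00)
  (Net.cons (nat_lit 32) (nat_lit 0x300000000effbfe7a0000000020980000)
  (Net.cons (nat_lit 64) (nat_lit 0xb23a01940801040)
  (Net.cons (nat_lit 128) (nat_lit 0x140801040)
  (Net.cons (nat_lit 64) (nat_lit 0x140801040)
  (Net.cons (nat_lit 32) (nat_lit 0x1000000004ba3b0580000000000000000)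
  (Net.cons (nat_lit 16) (nat_lit 0x40820000206200002b220000209800000000)
  (Net.cons (nat_lit 8) (nat_lit 0x8a000000860022002000910050001800580000)
  (Net.cons (nat_lit 4) (nat_lit 0x4000a0c0503080409060e080701010000040800)
  (Net.cons (nat_lit 2) (nat_lit 0x230200102123231310102031120122013112000)
  (Net.cons (nat_lit 1) (nat_lit 0x11505001444055010504150054105111401401004)
  Net.nil)))))))))))))))

noncomputable def n_Sabcdfg_2 : Net := (Net.cons (nat_lit 1) (nat_lit 0x4414111055504444440101105100150551515000)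
  (Net.cons (nat_lit 2) (nat_lit 0x110031330202123230200210112110003323110)
  (Net.cons (nat_lit 4) (nat_lit 0x8000f000c0d0a060602070b070402060b06070c)
  (Net.cons (nat_lit 8) (nat_lit 0x8f00d300030093007200c300cc0058000b0030)
  (Net.cons (nat_lit 16) (nat_lit 0xb910000480200003bde00006f6900008a00)
  (Net.cons (nat_lit 32) (nat_lit 0x300000000c6b3f7fd0000000064280000)
  (Net.cons (nat_lit 64) (nat_lit 0x90c0220201b06c)
  (Net.cons (nat_lit 128) (nat_lit 0x20201b06c)
  (Net.cons (nat_lit 64) (nat_lit 0x20201b06c)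
  (Net.cons (nat_lit 32) (nat_lit 0x2000000000291f06c0000000000000000)
  (Net.cons (nat_lit 16) (nat_lit 0x20100004002000000910000642800000000)
  (Net.cons (nat_lit 8) (nat_lit 0x1009500010090007100c000c8004800880000)
  (Net.cons (nat_lit 4) (nat_lit 0x803040c000a020602070b0704020601020300)
  (Net.cons (nat_lit 2) (nat_lit 0x110031330202123230200210112130021121110)
  (Net.cons (nat_lit 1) (nat_lit 0x4404111015504444440001005100150551515000)
  Net.nil)))))))))))))))

noncomputable def n_Sabcdfg_3 : Net := (Net.cons (nat_lit 1) (nat_lit 0x145544104544500040151005000055545015400)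
  (Net.cons (nat_lit 2) (nat_lit 0x221021103332013301212130023202331312000)
  (Net.cons (nat_lit 4) (nat_lit 0x90d0506050e030b0507080f060e06020f010700)
  (Net.cons (nat_lit 8) (nat_lit 0x17006c00c800ca000b00cb0005004b001f0090)
  (Net.cons (nat_lit 16) (nat_lit 0x9dda00005fdc0000bf5a0000c7fd00004d00)
  (Net.cons (nat_lit 32) (nat_lit 0x9ceffae70000000080e50000)
  (Net.cons (nat_lit 64) (nat_lit 0x1c0240e598022221)
  (Net.cons (nat_lit 128) (nat_lit 0x98022221)
  (Net.cons (nat_lit 64) (nat_lit 0x98022221)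
  (Net.cons (nat_lit 32) (nat_lit 0x9c0262e50000000000000000)
  (Net.cons (nat_lit 16) (nat_lit 0x98020000106e00001c06000080e500000000)
  (Net.cons (nat_lit 8) (nat_lit 0x40019001d003500810007004b000500490000)
  (Net.cons (nat_lit 4) (nat_lit 0x802010a0b0404000004080802090c00050100)
  (Net.cons (nat_lit 2) (nat_lit 0x221221321112033323210312201020113122000)
  (Net.cons (nat_lit 1) (nat_lit 0x145544104544500040151005000145501045000)
  Net.nil)))))))))))))))

noncomputable def n_Sabcdfg_4 : Net := (Net.cons (nat_lit 1) (nat_lit 0x5101015455410010111000401514405451110050)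
  (Net.cons (nat_lit 2) (nat_lit 0x2212130300132121032203103202202200300110)
  (Net.cons (nat_lit 4) (nat_lit 0xb070400020a0d000c030406000a040e040a070c)
  (Net.cons (nat_lit 8) (nat_lit 0xbb007500a9001600a20066000c0008003d0030)
  (Net.cons (nat_lit 16) (nat_lit 0xa030000a81f0000520b0000d9fd00000b02)
  (Net.cons (nat_lit 32) (nat_lit 0x3000000002976a5e60000000080c80002)
  (Net.cons (nat_lit 64) (nat_lit 0x2002a4c000020544)
  (Net.cons (nat_lit 128) (nat_lit 0x20544)
  (Net.cons (nat_lit 64) (nat_lit 0x20544)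
  (Net.cons (nat_lit 32) (nat_lit 0x2002a5c40000000000000000)
  (Net.cons (nat_lit 16) (nat_lit 0x30000081600000002000080c800000002)
  (Net.cons (nat_lit 8) (nat_lit 0xb004500a9001600220066000c000800090000)
  (Net.cons (nat_lit 4) (nat_lit 0xb090400020a0d000c030406000a040e040a0300)
  (Net.cons (nat_lit 2) (nat_lit 0x1030110300132121032200103032202200300110)
  (Net.cons (nat_lit 1) (nat_lit 0x10101011405010000111005401544404451110050)
  Net.nil)))))))))))))))

noncomputable def n_Sabcdfg_5 : Net := (Net.cons (nat_lit 1) (nat_lit 0x10504554555441450151555000115000054114441)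
  (Net.cons (nat_lit 2) (nat_lit 0x1333120332100300201121302232032220310220)
  (Net.cons (nat_lit 4) (nat_lit 0xe0f060106070408000c0d0c0200000d040400)
  (Net.cons (nat_lit 8) (nat_lit 0x360016009600b1000f00cd00ea00c2004c0000)
  (Net.cons (nat_lit 16) (nat_lit 0x23c300009672000019fa0000faf50000c400)
  (Net.cons (nat_lit 32) (nat_lit 0x20000000027cbe8e8000000000a240000)
  (Net.cons (nat_lit 64) (nat_lit 0x5c0c02000834028)
  (Net.cons (nat_lit 128) (nat_lit 0x834028)
  (Net.cons (nat_lit 64) (nat_lit 0x834028)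
  (Net.cons (nat_lit 32) (nat_lit 0x5c3c0280000000000000000)
  (Net.cons (nat_lit 16) (nat_lit 0x83000002c8000001e000000a2400000000)
  (Net.cons (nat_lit 8) (nat_lit 0x220020000c0000000600010020000800c00000)
  (Net.cons (nat_lit 4) (nat_lit 0x4050c090c0f0a08080c0d0c02000002080000)
  (Net.cons (nat_lit 2) (nat_lit 0x1333120320300120201102302232002022320000)
  (Net.cons (nat_lit 1) (nat_lit 0x10504554555041050111550000105000410140440)
  Net.nil)))))))))))))))

noncomputable def NL_Sabcdfg : List Net := [n_Sabcdfg_0,n_Sabcdfg_1,n_Sabcdfg_2,n_Sabcdfg_3,n_Sabcdfg_4,n_Sabcdfg_5]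
theorem okL_Sabcdfg : okL 162 NL_Sabcdfg = true := by decide +kernel
noncomputable def N_Sabcdfg : ℕ → Net := nth NL_Sabcdfg
theorem ok_Sabcdfg : ∀ a, (N_Sabcdfg a).ok 162 = true := ok_nth okL_Sabcdfg

def ps_Sabcdfg : List (List ℕ × List ℕ) := [([0,0],[]),([1,1],[]),([2,2],[]),([3,3],[]),([4,4],[]),([5,5],[]),([0,1,0,1,0],[1,0,1,0,1]),([0,2],[2,0]),([0,3],[3,0]),([0,4],[4,0]),([0,5],[5,0]),([1,2,1],[2,1,2]),([1,3],[3,1]),([1,4,1],[4,1,4]),([1,5,1],[5,1,5]),([2,3,2,3,2,3,2,3],[3,2,3,2,3,2,3,2]),([2,4],[4,2]),([2,5],[5,2]),([3,4],[4,3]),([3,5],[5,3]),([4,5,4,5],[5,4,5,4]),([0,3,2,3,2],[2,3,2,3]),([0,5,4],[4,5]),([0,1,2,4,0,1,2,4,0,1],[4,2,1,0,4,2,1,0,4,2]),([1,4,5,1,4,5,1,4],[5,4,1,5,4,1,5]),([0,1,2,0,1,2,0,1],[2,1,0,2,1,0,2])]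

theorem pl_Sabcdfg : ∀ j < 8, planeOK N_Sabcdfg ps_Sabcdfg (plN 162 8 j) = true := allLt_iff.1 (by decide +kernel)

theorem rels_Sabcdfg : Rels (pms N_Sabcdfg) R_Sabcdfg := rels_of_planes ok_Sabcdfg (by decide +kernel) (iv := iv_Sabcdfg) pl_Sabcdfg (by decide +kernel)

theorem imp_Sabcdfg_Sacdfg_1112c : impCert R_Sabcdfg [0,2,3,4,5] R_Sacdfg [(0,0),(2,0),(3,0),(4,0),(5,0),(7,0),(8,0),(9,0),(10,0),(15,0),(16,0),(17,0),(18,0),(19,0),(20,0),(21,0),(22,0)] = true := by decide +kernel
theorem imp_Sabcdfg_Sacdfg_1112 : Imp.{u} R_Sabcdfg [0,2,3,4,5] R_Sacdfg := Imp.of_cert imp_Sabcdfg_Sacdfg_1112c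

theorem lb_1113 : LB V_1108 [[1]] [2] 2 :=
  (LB.of_chain (kp := 8) V_1108_ok (by decide +kernel) [(2,1,[[1]])] (by decide +kernel)).cat
    (V_1108_rels.inv inv_Sacdfg) (by decide +kernel) (c := [[0]]) (by decide +kernel)

theorem ui_Sacdfg_1114 : UI.{u} R_Sacdfg [0,1,2,3,4] [[1]] 32 :=
  UI.of_UB ub_Sacdfg V_1108_rels lb_1113 (by decide +kernel) (by decide +kernel)

def hs_Sabcdfg : List (List ℕ × List (List ℕ) × ℕ) := [([0,2,3,4,5],[[0],[2],[3],[4]],2),([0,2,3,4,5],[[2]],32)]
theorem hh_Sabcdfg : ∀ h ∈ hs_Sabcdfg, UI.{u} R_Sabcdfg h.1 h.2.1 h.2.2 :=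
  List.forall_mem_cons.2 ⟨ui_Sacdfg.ren imp_Sabcdfg_Sacdfg_1112 (by decide +kernel) (by decide +kernel),
    List.forall_mem_cons.2 ⟨ui_Sacdfg_1114.ren imp_Sabcdfg_Sacdfg_1112 (by decide +kernel) (by decide +kernel),
    List.forall_mem_nil _⟩⟩

theorem e_Sabcdfg_0 : erun 162 5 N_Sabcdfg R_Sabcdfg iv_Sabcdfg 6 hs_Sabcdfg (stK (ones 162) (mkK 162 (ones 162) [0,1,2,3,4,5]))
  [.orb [0,2,3,4,5] [[0],[2],[3],[4]] 2 0 0 1, .grow [0,1,2,3,4] 4 (nat_lit 0x2), .rel 0 0, .rel 1 0, .rel 2 0, .rel 3 0, .rel 4 0, .rel 7 1, .rel 7 0, .rel 8 1, .rel 9 1, .rel 12 1, .rel 16 1, .rel 16 0, .rel 18 0, .rel 11 1, .rel 11 0, .rel 13 1, .rel 13 0, .rel 14 1, .rel 21 1, .rel 21 3, .rel 21 5, .rel 8 1, .rel 10 1, .rel 12 1, .rel 12 0, .rel 17 1, .rel 18 1, .rel 19 1, .rel 22 1, .rel 11 1, .rel 21 8, .rel 21 0, .rel 21 2, .rel 0 0, .rel 7 1, .rel 8 1, .rel 12 1, .rel 16 1, .rel 17 1, .rel 18 1, .rel 24 0, .rel 1 0, .rel 11 1, .rel 21 8, .rel 21 2, .rel 21 4, .rel 16 0, .rel 11 0, .rel 12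 0, .rel 25 0, .rel 8 0, .rel 21 4, .rel 6 1, .rel 7 0, .rel 8 0, .rel 11 1, .rel 13 1, .rel 16 1, .rel 16 0, .rel 18 1, .rel 11 0, .rel 13 0, .rel 23 1, .rel 12 0, .rel 11 1, .rel 6 0, .rel 7 0, .rel 8 0, .rel 21 8, .orb [0,2,3,4,5] [[2]] 32 23 3 1, .rel 14 0, .grow [0,1,2,3,4] 3 (nat_lit 0x18800003500e040d40008000000000), .rel 0 0, .rel 1 0, .rel 2 0, .rel 3 0, .rel 4 0, .rel 7 1, .rel 8 1, .rel 12 1, .rel 11 0, .rel 13 1, .rel 8 1, .rel 12 1, .rel 12 0, .rel 16 1, .rel 18 1, .rel 11 1, .rel 16 1, .rel 16 0, .rel 13 0, .loc [.dfn 5 15, .imp 0 15 15, .imp 4 15 15, .ded 22 2 162 [0,4,2,1], .dfn 5 16, .imp 1 16 10, .imp 5 10 9, .imp 1 9 15, .ded 14 0 162 [0,14,12,10,9], .imp 4 28 16, .imp 4 9 4, .imp 1 4 4, .imp 5 4 4, .imp 1 28 20, .ded 24 2 20 [26,19,9,16,7,0,14,21,24,22,20,12,10,18], .exp 14], .rel 5 0, .rel 10 1, .rel 19 1, .rel 22 1, .rel 14 1, .rel 17 1, .rel 19 1, .loc [.dfn 4 36, .imp 5 36 54, .imp 0 54 73, .imp 4 73 74, .ded 22 3 74 [6,4,2,1], .dfn 0 36, .dfn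 0 162, .ded 9 1 163 [10,1,13], .imp 0 74 75, .ded 10 1 75 [16,9,13], .dfn 1 162, .imp 2 36 46, .dfn 3 162, .imp 3 36 23, .ded 18 1 23 [26,1,25], .imp 3 74 58, .ded 19 1 58 [30,9,25], .dfn 2 163, .ded 7 0 46 [22,11,35], .dfn 1 164, .dfn 2 164, .ded 16 1 167 [34,15,41], .dfn 3 165, .ded 12 0 166 [24,21,45], .imp 1 36 22, .imp 4 22 29, .imp 1 46 32, .dfn 0 168, .dfn 2 168, .imp 0 32 40, .imp 4 40 57, .imp 2 57 45, .imp 1 45 45, .imp 0 45 33, .imp 4 33 19, .imp 2 19 32, .ded 23 3 171 [54,38,41,42,36,53,70,68,66,64,62,60,58,52,22,1,13,39,57], .dfn 4 168, .ded 9 0 172 [72,54,75], .dfn 5 168, .dfn 4 170, .imp 1 23 13, .imp 4 13 24, .ded 13 0 24 [84,82,29,47,81], .dfn 5 170, .dfn 0 97, .imp 4 97 97, .dfn 5 97, .imp 1 97 75, .ded 14 0 174 [78,38,18,96,95], .dfn 5 172, .ded 17 0 174 [78,57,101], .ded 22 2 174 [78,75,76,101], .imp 5 24 29, .dfn 1 176, .imp 1 58 77, .ded 14 1 77 [110,33,47,89,109], .imp 2 97 129, .dfn 5 177, .ded 22 2 178 [94,92,91,117], .dfn 5 129, .ded 17 0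 178 [94,115,121], .dfn 1 179, .dfn 0 180, .imp 0 77 101, .ded 10 1 101 [128,113,127], .dfn 4 180, .dfn 1 101, .dfn 4 101, .ded 22 3 185 [132,127,130,137], .imp 4 54 75, .ded 24 0 181 [118,94,97,140,2,49,51,106,87,80,89,109,133,139], .full 13 0 183 [124,104,99,119,143,136], .full 1 0 186 [134,145,124], .ded 1 0 179 [147,134], .imp 1 144 135, .imp 2 135 101, .full 11 1 182 [122,98,103,149,152,150], .ded 5 0 144 [155,120], .exp 78], .rel 5 0, .rel 19 1, .rel 17 1, .rel 22 0, .rel 0 0, .loc [.dfn 0 23, .imp 5 23 39, .imp 0 39 56, .ded 10 1 56 [4,2,1], .dfn 4 23, .imp 4 56 58, .ded 22 3 58 [10,4,2,9], .imp 1 17 27, .dfn 1 29, .imp 5 36 54, .imp 0 54 73, .dfn 4 36, .imp 4 73 74, .ded 22 3 74 [24,20,18,23], .imp 2 42 27, .imp 1 47 64, .dfn 5 59, .imp 2 59 59, .ded 17 0 166 [32,34,33], .imp 4 59 39, .ded 20 0 162 [6,11,13,8,3,38,33], .dfn 4 64, .imp 4 82 110, .imp 2 64 82, .ded 16 0 110 [44,46,43], .imp 5 116 110, .dfn 0 76, .imp 2 76 99, .imp 0 99 132, .ded 7 1 132 [56,54,53],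 .dfn 0 78, .imp 4 78 78, .dfn 5 78, .dfn 5 89, .imp 3 89 116, .ded 19 0 110 [50,68,67], .dfn 4 90, .imp 1 90 68, .imp 4 68 47, .ded 13 0 167 [42,30,76,74,73], .imp 2 90 118, .imp 4 118 119, .ded 16 0 119 [82,80,73], .dfn 1 92, .dfn 2 92, .imp 0 92 90, .ded 7 0 118 [80,90,89], .dfn 4 92, .ded 9 0 172 [72,90,95], .dfn 0 93, .imp 2 93 122, .imp 0 122 141, .ded 7 1 141 [102,100,99], .imp 1 93 70, .dfn 0 95, .imp 3 95 76, .ded 8 1 168 [52,110,109], .dfn 4 96, .dfn 5 96, .imp 5 129 144, .dfn 0 98, .dfn 2 98, .dfn 5 101, .dfn 5 103, .dfn 1 108, .imp 4 108 131, .dfn 0 109, .imp 3 109 93, .ded 8 1 176 [98,134,133], .imp 4 109 95, .dfn 1 110, .dfn 0 119, .ded 7 1 175 [96,84,143], .imp 3 119 108, .ded 9 1 174 [92,83,143], .dfn 1 119, .ded 11 1 186 [140,49,79,84,151], .ded 12 1 184 [128,146,151], .dfn 0 121, .imp 4 121 98, .ded 9 1 180 [120,158,157], .dfn 1 121, .imp 1 98 131, .ded 13 1 184 [128,131,164,158,163], .dfn 2 121, .ded 16 1 181 [122,158,169], .dfn 0 124, .imp 2 124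 109, .ded 7 1 185 [132,174,173], .imp 3 124 98, .ded 8 1 180 [120,178,173], .imp 1 124 118, .dfn 1 127, .imp 3 127 101, .imp 0 127 96, .dfn 4 127, .ded 9 0 178 [114,188,191], .dfn 5 127, .ded 19 0 182 [124,186,195], .dfn 1 132, .imp 4 99 122, .imp 2 135 101, .dfn 5 135, .ded 17 0 182 [124,202,205], .imp 1 137 129, .imp 2 137 103, .dfn 5 137, .imp 1 144 135, .ded 14 0 197 [204,214,118,208,213], .ded 17 0 183 [126,210,213], .dfn 2 142, .imp 1 142 123, .imp 2 123 123, .ded 11 0 199 [220,223,224,222,221], .imp 3 142 122, .imp 3 153 141, .dfn 2 153, .ded 21 3 181 [122,178,175,135,101,103,230,233], .imp 1 23 13, .imp 4 13 24, .dfn 4 164, .imp 4 29 22, .imp 1 22 36, .ded 13 0 165 [22,244,242,17,241], .imp 5 29 24, .imp 1 89 103, .imp 4 42 61, .dfn 1 166, .imp 1 74 96, .dfn 1 168, .dfn 5 169, .ded 22 2 170 [64,62,61,261], .dfn 1 170, .imp 1 78 59, .ded 14 1 202 [254,32,266,65,265], .dfn 1 171, .ded 12 1 186 [140,71,271], .dfn 1 175, .dfn 1 177, .ded 12 1 203 [258,113,277],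 .dfn 5 178, .ded 22 2 195 [194,191,192,281], .dfn 1 179, .ded 14 1 201 [246,26,257,117,285], .dfn 4 179, .ded 20 1 194 [190,195,283,280,114,117,289], .ded 24 0 204 [262,64,267,39,2,237,239,248,17,241,287,284,289,290], .ded 13 1 205 [264,263,293,190,185], .dfn 2 180, .ded 7 0 181 [122,121,297], .ded 15 1 199 [220,229,100,134,174,179,123,235,232,231,105,137,177,180,297], .ded 12 0 212 [300,227,301], .dfn 1 182, .dfn 1 183, .ded 11 1 213 [304,207,217,218,307], .ded 14 1 206 [270,66,251,127,307], .imp 0 61 70, .dfn 0 184, .dfn 0 188, .ded 8 1 215 [314,155,317], .dfn 0 190, .ded 9 1 215 [314,167,321], .dfn 5 193, .dfn 1 195, .ded 12 1 213 [304,197,327], .dfn 2 196, .dfn 0 202, .ded 22 4 221 [332,269,295,325], .imp 0 17 14, .imp 4 14 8, .imp 2 8 13, .full 23 3 218 [334,332,254,37,40,0,237,340,338,336,15,28,253,313,106,101,200,57,199,331], .ded 2 0 218 [342,330], .dfn 2 203, .ded 11 0 218 [345,198,59,259,347], .ded 14 1 219 [326,194,185,325,349], .dfn 2 206, .ded 17 1 213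 [309,310,353], .ded 19 0 222 [350,328,355], .ded 21 2 208 [278,347,357,352,272,153,317,318], .full 23 1 207 [274,145,148,92,182,175,139,109,277,359,323,320,162,169,170,299,303,296,161,156], .full 1 0 190 [162,361,274], .full 4 0 92 [95,363,166], .full 1 0 173 [86,364,128], .ded 1 0 108 [367,86], .exp 184], .rel 1 0, .rel 12 0, .loc [.imp 1 47 64, .dfn 4 64, .imp 4 82 110, .imp 2 64 82, .ded 16 0 110 [4,6,3], .dfn 4 90, .imp 1 90 68, .imp 4 68 47, .ded 13 0 162 [2,0,14,12,11], .imp 2 90 118, .imp 4 118 119, .ded 16 0 119 [20,18,11], .imp 1 119 91, .imp 2 91 107, .ded 11 0 107 [26,24,23,16,8], .exp 14], .rel 1 0, .loc [.dfn 4 107, .imp 0 107 80, .imp 2 107 91, .dfn 4 91, .imp 1 91 119, .imp 4 119 118, .imp 1 118 124, .imp 4 124 125, .ded 13 0 125 [14,12,10,8,7], .ded 16 0 162 [0,5,7], .imp 1 80 61, .imp 0 69 91, .imp 2 69 80, .dfn 4 69, .ded 9 0 163 [6,22,27], .imp 4 109 95, .imp 2 95 125, .imp 0 61 70, .imp 4 70 49, .imp 2 49 34, .imp 1 34 34, .imp 0 34 27, .imp 4 27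 43, .imp 2 43 61, .ded 23 0 125 [17,18,0,3,21,46,44,42,40,38,36,34,20,24,27,28,16,32,30], .exp 24], .rel 0 0, .rel 7 0, .rel 8 0, .rel 21 4, .rel 7 1, .loc [.dfn 4 126, .imp 0 126 128, .dfn 1 162, .dfn 3 162, .imp 3 126 100, .ded 18 1 100 [8,1,7], .dfn 5 162, .dfn 5 128, .ded 22 2 165 [12,0,3,15], .dfn 4 130, .dfn 3 163, .ded 12 0 164 [6,5,21], .dfn 4 163, .imp 1 126 130, .ded 13 0 167 [18,26,1,5,25], .dfn 5 163, .dfn 5 164, .ded 19 0 165 [12,7,33], .dfn 1 165, .dfn 5 103, .imp 0 103 100, .ded 22 2 171 [32,10,40,39], .dfn 1 166, .imp 1 128 116, .imp 5 116 110, .imp 1 110 107, .ded 14 1 107 [50,48,46,15,45], .imp 1 100 105, .dfn 5 168, .ded 19 0 170 [30,21,57], .dfn 1 171, .dfn 4 172, .imp 1 103 89, .dfn 0 174, .imp 0 107 80, .ded 10 1 80 [68,53,67], .dfn 4 174, .ded 13 0 177 [62,36,17,45,73], .imp 4 89 66, .dfn 1 175, .ded 14 1 176 [60,32,23,57,79], .imp 5 66 46, .dfn 4 107, .imp 1 80 61, .imp 5 61 48, .dfn 4 178, .ded 22 3 181 [84,69,71,91], .dfn 5 179, .ded 20 0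 80 [71,91,92,84,53,73,95], .imp 4 48 32, .imp 1 32 46, .full 24 2 180 [80,60,43,38,65,77,83,100,98,88,86,97,94,74,62], .full 1 0 165 [37,103,78], .full 3 0 171 [34,104,58], .full 5 0 163 [31,107,32], .full 4 0 169 [24,108,10], .full 1 0 105 [54,111,28], .ded 4 0 105 [112,18], .exp 57], .rel 4 0, .loc [.imp 1 32 46, .imp 5 46 66, .imp 0 66 84, .dfn 4 46, .imp 4 84 88, .ded 22 3 88 [8,4,2,7], .dfn 5 52, .imp 1 52 67, .imp 5 67 47, .imp 1 47 64, .imp 5 64 86, .ded 14 0 86 [20,18,16,14,13], .imp 2 63 52, .imp 1 63 82, .dfn 5 63, .ded 17 0 163 [12,24,29], .imp 4 82 110, .imp 5 82 111, .dfn 4 69, .imp 1 69 48, .imp 4 48 32, .ded 13 0 162 [6,0,40,38,37], .dfn 5 69, .dfn 4 80, .dfn 5 80, .imp 1 80 61, .imp 5 61 48, .ded 14 0 166 [44,39,52,50,49], .imp 4 83 63, .dfn 1 83, .imp 1 110 107, .ded 13 1 107 [60,32,26,56,59], .imp 0 107 80, .ded 9 0 167 [46,64,63], .dfn 5 107, .dfn 0 113, .dfn 4 113, .dfn 5 113, .dfn 0 140, .imp 3 140 113, .ded 8 1 171 [70,78,77], .dfn 2 140, .imp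 1 140 111, .imp 2 111 86, .ded 11 0 164 [30,22,86,84,83], .ded 14 1 140 [85,34,26,29,89], .ded 19 0 173 [74,78,91], .dfn 4 140, .ded 18 0 172 [72,78,95], .imp 1 84 113, .dfn 5 167, .ded 22 2 170 [68,63,66,101], .dfn 4 168, .ded 20 1 169 [62,69,103,100,46,49,105], .ded 24 1 173 [74,98,9,11,43,36,45,55,105,106,58,57,29,89], .ded 16 0 173 [109,82,95], .full 22 0 171 [70,75,109,90,95], .ded 2 0 171 [112,110], .full 3 0 174 [80,112,96], .ded 0 0 172 [117,76], .ded 3 0 172 [117,80], .full 21 5 172 [121,115,93,82,118,121,115,93,82], .ded 0 0 140 [123,119], .exp 62], .rel 8 0, .loc [.dfn 0 55, .dfn 5 55, .dfn 4 162, .imp 4 55 37, .ded 9 0 37 [6,1,5], .dfn 5 162, .ded 10 0 163 [2,1,11], .dfn 5 76, .dfn 5 37, .imp 1 37 49, .imp 5 49 32, .imp 1 32 46, .imp 5 46 66, .ded 14 0 66 [24,22,20,18,17], .ded 22 2 165 [10,5,8,17], .dfn 1 163, .dfn 4 163, .ded 9 0 167 [28,12,33], .imp 0 66 84, .imp 1 84 113, .imp 0 113 113, .ded 6 1 169 [34,26,37,39,40,38,36,27,35], .ded 13 1 168 [30,33,43,32,31],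 .dfn 5 98, .dfn 5 93, .imp 0 93 121, .imp 4 121 98, .ded 22 2 170 [46,52,50,49], .dfn 1 166, .imp 1 76 55, .ded 14 1 168 [30,2,58,15,57], .dfn 4 166, .imp 4 76 93, .ded 20 1 121 [53,47,55,48,64,15,63], .dfn 1 121, .imp 1 98 131, .imp 4 131 108, .imp 1 108 92, .ded 13 1 92 [74,72,70,52,69], .imp 4 32 48, .imp 1 48 69, .ded 24 2 69 [80,78,20,18,6,3,31,45,61,56,63,66,69,76], .exp 41], .rel 5 0, .rel 10 1, .rel 17 1, .rel 19 1, .rel 14 1, .rel 10 1, .rel 10 0, .rel 17 1, .rel 17 0, .rel 19 1, .rel 22 4, .rel 13 0, .rel 14 1, .rel 21 8, .rel 6 0, .rel 7 0, .rel 10 1, .rel 12 1, .rel 16 1, .rel 17 1, .rel 18 0, .rel 19 1, .rel 22 4, .rel 22 0, .rel 22 1, .rel 22 2, .rel 22 3, .rel 11 1, .rel 11 0, .rel 13 0, .rel 14 1, .rel 14 0, .rel 21 0, .rel 6 0, .rel 10 1, .rel 10 0, .rel 17 1, .rel 17 0, .rel 19 1, .rel 22 4, .rel 11 1, .rel 11 0, .rel 13 1, .rel 14 1, .rel 14 0, .rel 21 8, .rel 21 5, .rel 7 0, .rel 8 1, .rel 8 0, .rel 12 1, .rel 12 0, .rel 16 1, .rel 18 1, .rel 18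 0, .rel 19 1, .rel 11 1, .rel 11 0, .rel 13 1, .rel 13 0, .rel 21 8, .rel 21 0, .rel 21 2, .rel 6 0, .rel 10 1, .rel 16 0, .rel 14 1, .rel 22 1]
  (bit 0) (mkK 162 (bit 0) [0,1,2,3,4]) = true := by decide +kernel

theorem r_Sabcdfg_0 : Run.{u} 162 N_Sabcdfg R_Sabcdfg 0 (bit 0) (mkK 162 (bit 0) [0,1,2,3,4]) (ones 162) (mkK 162 (ones 162) [0,1,2,3,4,5]) := (Run.of_cert ok_Sabcdfg (by decide +kernel) inv_Sabcdfg hh_Sabcdfg e_Sabcdfg_0 0)

theorem ui_Sabcdfg : UI.{u} R_Sabcdfg [0,1,2,3,4,5] (sing [0,1,2,3,4]) 162 :=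
  UI.of_run (kp := 5) (O := (ones 162)) ok_Sabcdfg (by decide +kernel) rels_Sabcdfg r_Sabcdfg_0 (by decide +kernel)

theorem imp_Sabcdfg_Sabcdf_1115c : impCert R_Sabcdfg [0,1,2,3,4] R_Sabcdf [(0,0),(1,0),(2,0),(3,0),(4,0),(6,0),(7,0),(8,0),(9,0),(11,0),(12,0),(13,0),(15,0),(16,0),(18,0),(21,0),(23,0),(25,0)] = true := by decide +kernel
theorem imp_Sabcdfg_Sabcdf_1115 : Imp.{u} R_Sabcdfg [0,1,2,3,4] R_Sabcdf := Imp.of_cert imp_Sabcdfg_Sabcdf_1115c

theorem ub_Sabcdfg : UB.{u} R_Sabcdfg [0,1,2,3,4,5] 19595520 :=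
  (ui_Sabcdfg.mul (UI.ren (S := [0,1,2,3,4]) (W := []) ub_Sabcdf imp_Sabcdfg_Sabcdf_1115 (by decide +kernel) rfl) (by decide +kernel) (by decide +kernel)).le (by decide +kernel)

def R_Sabcefg : List (List ℕ) := [[0,0],[1,1],[2,2],[3,3],[4,4],[5,5],[0,1,0,1,0,1,0,1,0,1],[0,2,0,2],[0,3,0,3],[0,4,0,4],[0,5,0,5],[1,2,1,2,1,2],[1,3,1,3],[1,4,1,4,1,4],[1,5,1,5,1,5],[2,3,2,3],[2,4,2,4],[2,5,2,5],[3,4,3,4],[3,5,3,5],[4,5,4,5,4,5,4,5],[0,5,4,5,4],[0,1,2,4,0,1,2,4,0,1,2,4,0,1,2,4,0,1,2,4],[1,4,5,1,4,5,1,4,5,1,4,5,1,4,5],[0,1,2,0,1,2,0,1,2,0,1,2,0,1,2]]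
def iv_Sabcefg : List ℕ := [0,1,2,3,4,5]
theorem inv_Sabcefg : invOK R_Sabcefg iv_Sabcefg 6 = true := by decide +kernel

theorem imp_SZ_Sabcefg_1116c : impCert R_SZ [0,1,2,4,5,6] R_Sabcefg [(0,0),(1,0),(2,0),(4,0),(5,0),(6,0),(7,0),(8,0),(10,0),(11,0),(12,0),(13,0),(15,0),(16,0),(17,0),(19,0),(20,0),(21,0),(25,0),(26,0),(27,0),(29,0),(30,0),(31,0),(33,0)] = true := by decide +kernel
theorem imp_SZ_Sabcefg_1116 : Imp.{u} R_SZ [0,1,2,4,5,6] R_Sabcefg := Imp.of_cert imp_SZ_Sabcefg_1116c

noncomputable def V_1117 : ℕ → Net := renN N_SZ [0,1,2,4,5,6]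
theorem V_1117_ok : ∀ a, (V_1117 a).ok 1782 = true := ok_renN ok_SZ _
theorem V_1117_rels : Rels (pms V_1117) R_Sabcefg := Rels.renN rels_SZ imp_SZ_Sabcefg_1116

noncomputable def n_Sabcefg_0 : Net := Net.nil

noncomputable def n_Sabcefg_1 : Net := Net.nil

noncomputable def n_Sabcefg_2 : Net := Net.nil

noncomputable def n_Sabcefg_3 : Net := (Net.cons (nat_lit 1) (nat_lit 0x1)
  Net.nil)

noncomputable def n_Sabcefg_4 : Net := Net.nil

noncomputable def n_Sabcefg_5 : Net := Net.nil

noncomputable def NL_Sabcefg : List Net := [n_Sabcefg_0,n_Sabcefg_1,n_Sabcefg_2,n_Sabcefg_3,n_Sabcefg_4,n_Sabcefg_5]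
theorem okL_Sabcefg : okL 2 NL_Sabcefg = true := by decide +kernel
noncomputable def N_Sabcefg : ℕ → Net := nth NL_Sabcefg
theorem ok_Sabcefg : ∀ a, (N_Sabcefg a).ok 2 = true := ok_nth okL_Sabcefg

def ps_Sabcefg : List (List ℕ × List ℕ) := [([0,0],[]),([1,1],[]),([2,2],[]),([3,3],[]),([4,4],[]),([5,5],[]),([0,1,0,1,0],[1,0,1,0,1]),([0,2],[2,0]),([0,3],[3,0]),([0,4],[4,0]),([0,5],[5,0]),([1,2,1],[2,1,2]),([1,3],[3,1]),([1,4,1],[4,1,4]),([1,5,1],[5,1,5]),([2,3],[3,2]),([2,4],[4,2]),([2,5],[5,2]),([3,4],[4,3]),([3,5],[5,3]),([4,5,4,5],[5,4,5,4]),([0,5,4],[4,5]),([0,1,2,4,0,1,2,4,0,1],[4,2,1,0,4,2,1,0,4,2]),([1,4,5,1,4,5,1,4],[5,4,1,5,4,1,5]),([0,1,2,0,1,2,0,1],[2,1,0,2,1,0,2])]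

theorem pl_Sabcefg : ∀ j < 1, planeOK N_Sabcefg ps_Sabcefg (plN 2 1 j) = true := allLt_iff.1 (by decide +kernel)

theorem rels_Sabcefg : Rels (pms N_Sabcefg) R_Sabcefg := rels_of_planes ok_Sabcefg (by decide +kernel) (iv := iv_Sabcefg) pl_Sabcefg (by decide +kernel)

def hs_Sabcefg : List (List ℕ × List (List ℕ) × ℕ) := []
theorem hh_Sabcefg : ∀ h ∈ hs_Sabcefg, UI.{u} R_Sabcefg h.1 h.2.1 h.2.2 :=
  List.forall_mem_nil _

theorem e_Sabcefg_0 : erun 2 0 N_Sabcefg R_Sabcefg iv_Sabcefg 6 hs_Sabcefg (stK (ones 2) (mkK 2 (ones 2) [0,1,2,3,4,5]))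
  [.grow [0,1,2,3,4,5] 1 (ones 2), .rel 3 0, .rel 8 0, .rel 12 0, .rel 15 0, .rel 18 1, .rel 19 1]
  (bit 0) (mkK 2 (bit 0) [0,1,2,4,5]) = true := by decide +kernel

theorem r_Sabcefg_0 : Run.{u} 2 N_Sabcefg R_Sabcefg 0 (bit 0) (mkK 2 (bit 0) [0,1,2,4,5]) (ones 2) (mkK 2 (ones 2) [0,1,2,3,4,5]) := (Run.of_cert ok_Sabcefg (by decide +kernel) inv_Sabcefg hh_Sabcefg e_Sabcefg_0 0)

theorem ui_Sabcefg : UI.{u} R_Sabcefg [0,1,2,3,4,5] (sing [0,1,2,4,5]) 2 :=
  UI.of_run (kp := 0) (O := (ones 2)) ok_Sabcefg (by decide +kernel) rels_Sabcefg r_Sabcefg_0 (by decide +kernel)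

theorem imp_Sabcefg_Sabcfg_1118c : impCert R_Sabcefg [0,1,2,4,5] R_Sabcfg [(0,0),(1,0),(2,0),(4,0),(5,0),(6,0),(7,0),(9,0),(10,0),(11,0),(13,0),(14,0),(16,0),(17,0),(20,0),(21,0),(22,0),(23,0),(24,0)] = true := by decide +kernel
theorem imp_Sabcefg_Sabcfg_1118 : Imp.{u} R_Sabcefg [0,1,2,4,5] R_Sabcfg := Imp.of_cert imp_Sabcefg_Sabcfg_1118c

theorem ub_Sabcefg : UB.{u} R_Sabcefg [0,1,2,3,4,5] 80640 :=
  (ui_Sabcefg.mul (UI.ren (S := [0,1,2,4,5]) (W := []) ub_Sabcfg imp_Sabcefg_Sabcfg_1118 (by decide +kernel) rfl) (by decide +kernel) (by decide +kernel)).le (by decide +kernel)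

def R_Sacdefg : List (List ℕ) := [[0,0],[1,1],[2,2],[3,3],[4,4],[5,5],[0,1,0,1],[0,2,0,2],[0,3,0,3],[0,4,0,4],[0,5,0,5],[1,2,1,2,1,2,1,2,1,2,1,2,1,2,1,2],[1,3,1,3],[1,4,1,4],[1,5,1,5],[2,3,2,3,2,3],[2,4,2,4],[2,5,2,5],[3,4,3,4],[3,5,3,5],[4,5,4,5,4,5,4,5],[0,2,1,2,1,2,1,2,1],[0,5,4,5,4]]
def iv_Sacdefg : List ℕ := [0,1,2,3,4,5]
theorem inv_Sacdefg : invOK R_Sacdefg iv_Sacdefg 6 = true := by decide +kernel

theorem imp_SZ_Sacdefg_1119c : impCert R_SZ [0,2,3,4,5,6] R_Sacdefg [(0,0),(2,0),(3,0),(4,0),(5,0),(6,0),(8,0),(9,0),(10,0),(11,0),(12,0),(18,0),(19,0),(20,0),(21,0),(22,0),(23,0),(24,0),(25,0),(26,0),(27,0),(28,0),(29,0)] = true := by decide +kernel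
theorem imp_SZ_Sacdefg_1119 : Imp.{u} R_SZ [0,2,3,4,5,6] R_Sacdefg := Imp.of_cert imp_SZ_Sacdefg_1119c

noncomputable def V_1120 : ℕ → Net := renN N_SZ [0,2,3,4,5,6]
theorem V_1120_ok : ∀ a, (V_1120 a).ok 1782 = true := ok_renN ok_SZ _
theorem V_1120_rels : Rels (pms V_1120) R_Sacdefg := Rels.renN rels_SZ imp_SZ_Sacdefg_1119

noncomputable def n_Sacdefg_0 : Net := Net.nil

noncomputable def n_Sacdefg_1 : Net := Net.nil

noncomputable def n_Sacdefg_2 : Net := Net.nil

noncomputable def n_Sacdefg_3 : Net := Net.nil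

noncomputable def n_Sacdefg_4 : Net := Net.nil

noncomputable def n_Sacdefg_5 : Net := (Net.cons (nat_lit 1) (nat_lit 0x1)
  Net.nil)

noncomputable def NL_Sacdefg : List Net := [n_Sacdefg_0,n_Sacdefg_1,n_Sacdefg_2,n_Sacdefg_3,n_Sacdefg_4,n_Sacdefg_5]
theorem okL_Sacdefg : okL 2 NL_Sacdefg = true := by decide +kernel
noncomputable def N_Sacdefg : ℕ → Net := nth NL_Sacdefg
theorem ok_Sacdefg : ∀ a, (N_Sacdefg a).ok 2 = true := ok_nth okL_Sacdefg

def ps_Sacdefg : List (List ℕ × List ℕ) := [([0,0],[]),([1,1],[]),([2,2],[]),([3,3],[]),([4,4],[]),([5,5],[]),([0,1],[1,0]),([0,2],[2,0]),([0,3],[3,0]),([0,4],[4,0]),([0,5],[5,0]),([1,2,1,2,1,2,1,2],[2,1,2,1,2,1,2,1]),([1,3],[3,1]),([1,4],[4,1]),([1,5],[5,1]),([2,3,2],[3,2,3]),([2,4],[4,2]),([2,5],[5,2]),([3,4],[4,3]),([3,5],[5,3]),([4,5,4,5],[5,4,5,4]),([0,2,1,2,1],[1,2,1,2]),([0,5,4],[4,5])]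

theorem pl_Sacdefg : ∀ j < 1, planeOK N_Sacdefg ps_Sacdefg (plN 2 1 j) = true := allLt_iff.1 (by decide +kernel)

theorem rels_Sacdefg : Rels (pms N_Sacdefg) R_Sacdefg := rels_of_planes ok_Sacdefg (by decide +kernel) (iv := iv_Sacdefg) pl_Sacdefg (by decide +kernel)

def hs_Sacdefg : List (List ℕ × List (List ℕ) × ℕ) := []
theorem hh_Sacdefg : ∀ h ∈ hs_Sacdefg, UI.{u} R_Sacdefg h.1 h.2.1 h.2.2 :=
  List.forall_mem_nil _

theorem e_Sacdefg_0 : erun 2 0 N_Sacdefg R_Sacdefg iv_Sacdefg 6 hs_Sacdefg (stK (ones 2) (mkK 2 (ones 2) [0,1,2,3,4,5]))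
  [.grow [5] 1 (bit 0), .rel 5 0, .rel 10 0, .rel 14 0, .rel 17 0, .rel 19 0, .rel 22 4]
  (bit 0) (mkK 2 (bit 0) [0,1,2,3,4]) = true := by decide +kernel

theorem r_Sacdefg_0 : Run.{u} 2 N_Sacdefg R_Sacdefg 0 (bit 0) (mkK 2 (bit 0) [0,1,2,3,4]) (ones 2) (mkK 2 (ones 2) [0,1,2,3,4,5]) := (Run.of_cert ok_Sacdefg (by decide +kernel) inv_Sacdefg hh_Sacdefg e_Sacdefg_0 0)

theorem ui_Sacdefg : UI.{u} R_Sacdefg [0,1,2,3,4,5] (sing [0,1,2,3,4]) 2 :=
  UI.of_run (kp := 0) (O := (ones 2)) ok_Sacdefg (by decide +kernel) rels_Sacdefg r_Sacdefg_0 (by decide +kernel)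

theorem imp_Sacdefg_Sacdef_1121c : impCert R_Sacdefg [0,1,2,3,4] R_Sacdef [(0,0),(1,0),(2,0),(3,0),(4,0),(6,0),(7,0),(8,0),(9,0),(11,0),(12,0),(13,0),(15,0),(16,0),(18,0),(21,0)] = true := by decide +kernel
theorem imp_Sacdefg_Sacdef_1121 : Imp.{u} R_Sacdefg [0,1,2,3,4] R_Sacdef := Imp.of_cert imp_Sacdefg_Sacdef_1121c

theorem ub_Sacdefg : UB.{u} R_Sacdefg [0,1,2,3,4,5] 384 :=
  (ui_Sacdefg.mul (UI.ren (S := [0,1,2,3,4]) (W := []) ub_Sacdef imp_Sacdefg_Sacdef_1121 (by decide +kernel) rfl) (by decide +kernel) (by decide +kernel)).le (by decide +kernel)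

theorem lb_1122 : LB V_1075 [[0],[2],[3],[4],[5],[1,0,1,5,0,1],[1,0,1,2,1,3,2,1,3,2,3,1,2,1,0,1]] [688,2,4,8,14] 184320 :=
  (LB.of_chain (kp := 8) V_1075_ok (by decide +kernel) [(688,3,[[0],[2],[3],[4],[5],[1,0,1,5,0,1],[1,0,1,2,1,3,2,1,3,2,3,1,2,1,0,1]]),(2,3,[[0],[2],[3],[4],[1,0,1,2,1,3,2,1,3,2,3,1,2,1,0,1]]),(4,2,[[3],[4],[0,2,1,0,1,2,1,3,2,1,3,2,3,1,2,1,0,1,2]]),(8,2,[[4],[3,0,2,1,0,1,2,1,3,2,1,3,2,3,1,2,1,0,1,2]]),(14,2,[[3,0,2,1,0,1,2,1,3,2,1,3,2,3,1,2,1,0,1,2]])] (by decide +kernel)).cat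
    (V_1075_rels.inv inv_Sabcdef) (by decide +kernel) (c := [[0],[2],[4],[6],[8],[10],[12],[0],[2],[4],[6],[12],[4],[6],[0,2,12,2],[6],[4,0,2,12,2],[4,0,2,12,2]]) (by decide +kernel)

theorem ui_Sabcdef_1123 : UI.{u} R_Sabcdef [0,1,2,3,4,5] [[0],[2],[3],[4],[5],[1,0,1,5,0,1],[1,0,1,2,1,3,2,1,3,2,3,1,2,1,0,1]] 1365 :=
  UI.of_UB ub_Sabcdef V_1075_rels lb_1122 (by decide +kernel) (by decide +kernel)

theorem lb_1124 : LB V_1111 [[0],[3],[4],[5],[2,3,2],[1,5,0,1,0,1],[1,0,2,1,4,5,1,0,1,2,1,0,1]] [688,1690,68,169,0,2] 12096 :=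
  (LB.of_chain (kp := 8) V_1111_ok (by decide +kernel) [(688,3,[[0],[3],[4],[5],[2,3,2],[1,5,0,1,0,1],[1,0,2,1,4,5,1,0,1,2,1,0,1]]),(1690,1,[[0],[3],[5],[2,3,2],[1,5,0,1,0,1]]),(68,2,[[0],[5],[3,2,3,2],[1,5,0,1,0,1]]),(169,2,[[0],[5],[1,5,0,1,0,1]]),(0,1,[[0],[5]]),(2,1,[[0]])] (by decide +kernel)).cat
    (V_1111_rels.inv inv_Sabcdfg) (by decide +kernel) (c := [[0],[2],[4],[6],[8],[10],[12],[0],[2],[6],[8],[10],[0],[6],[2,8],[10],[0],[6],[10],[0],[6],[0]]) (by decide +kernel)

theorem ui_Sabcdfg_1125 : UI.{u} R_Sabcdfg [0,1,2,3,4,5] [[0],[3],[4],[5],[2,3,2],[1,5,0,1,0,1],[1,0,2,1,4,5,1,0,1,2,1,0,1]] 1620 :=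
  UI.of_UB ub_Sabcdfg V_1111_rels lb_1124 (by decide +kernel) (by decide +kernel)

def hs_SZ : List (List ℕ × List (List ℕ) × ℕ) := [([0,1,2,3,5,6],[[0],[1],[2],[3],[5]],162),([0,1,2,3,4,5],[[0],[2],[3],[4],[5],[1,0,1,5,0,1],[1,0,1,2,1,3,2,1,3,2,3,1,2,1,0,1]],1365),([0,1,2,3,4,5],[[0],[1],[2],[3],[4]],416),([0,1,2,3,5,6],[[0],[3],[5],[6],[2,3,2],[1,6,0,1,0,1],[1,0,2,1,5,6,1,0,1,2,1,0,1]],1620)]
theorem hh_SZ : ∀ h ∈ hs_SZ, UI.{u} R_SZ h.1 h.2.1 h.2.2 :=
  List.forall_mem_cons.2 ⟨ui_Sabcdfg.ren imp_SZ_Sabcdfg_1110 (by decide +kernel) (by decide +kernel),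
    List.forall_mem_cons.2 ⟨ui_Sabcdef_1123.ren imp_SZ_Sabcdef_1074 (by decide +kernel) (by decide +kernel),
    List.forall_mem_cons.2 ⟨ui_Sabcdef.ren imp_SZ_Sabcdef_1074 (by decide +kernel) (by decide +kernel),
    List.forall_mem_cons.2 ⟨ui_Sabcdfg_1125.ren imp_SZ_Sabcdfg_1110 (by decide +kernel) (by decide +kernel),
    List.forall_mem_nil _⟩⟩⟩⟩

theorem e_SZ_0 : erun 1782 8 N_SZ R_SZ iv_SZ 7 hs_SZ (stK (ones 1782) (mkK 1782 (ones 1782) [0,1,2,3,4,5,6]))
  [.orb [0,1,2,3,5,6] [[0],[1],[2],[3],[5]] 162 0 0 6, .rel 26 0, .rel 15 1, .rel 19 1, .rel 25 0, .rel 26 0, .rel 10 1, .rel 15 1, .rel 25 0, .rel 26 0, .rel 10 1, .rel 15 1, .orb [0,1,2,3,4,5] [[0],[2],[3],[4],[5],[1,0,1,5,0,1],[1,0,1,2,1,3,2,1,3,2,3,1,2,1,0,1]] 1365 1 4 5, .rel 26 1, .rel 26 0, .rel 15 1, .rel 19 1, .rel 24 1, .rel 25 0, .rel 26 0, .rel 15 1, .rel 21 1, .rel 24 1, .rel 25 0, .rel 26 1, .orb [0,1,2,3,4,5] [[0],[1],[2],[3],[4]] 416 995 5 5, .rel 26 1, .rel 24 1, .rel 21 1, .rel 24 1, .rel 26 1,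 .rel 17 1, .rel 12 1, .rel 21 1, .rel 29 1, .orb [0,1,2,3,5,6] [[0],[3],[5],[6],[2,3,2],[1,6,0,1,0,1],[1,0,2,1,5,6,1,0,1,2,1,0,1]] 1620 168 5 0]
  (bit 0) (mkK 1782 (bit 0) [0,1,2,3,4,5]) = true := by decide +kernel

theorem r_SZ_0 : Run.{u} 1782 N_SZ R_SZ 0 (bit 0) (mkK 1782 (bit 0) [0,1,2,3,4,5]) (ones 1782) (mkK 1782 (ones 1782) [0,1,2,3,4,5,6]) := (Run.of_cert ok_SZ (by decide +kernel) inv_SZ hh_SZ e_SZ_0 0)

theorem ui_SZ : UI.{u} R_SZ [0,1,2,3,4,5,6] (sing [0,1,2,3,4,5]) 1782 :=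
  UI.of_run (kp := 8) (O := (ones 1782)) ok_SZ (by decide +kernel) rels_SZ r_SZ_0 (by decide +kernel)

theorem ub_SZ : UB.{u} R_SZ [0,1,2,3,4,5,6] 448345497600 :=
  (ui_SZ.mul (UI.ren (S := [0,1,2,3,4,5]) (W := []) ub_Sabcdef imp_SZ_Sabcdef_1074 (by decide +kernel) rfl) (by decide +kernel) (by decide +kernel)).le (by decide +kernel)

end H7.T
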