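import Cfsg.Agent.H7.T.S0
import Cfsg.Agent.H7.Pres4
import Cfsg.Prelude.Def_Spor_Suz
set_option Elab.async false
set_option maxRecDepth 100000
set_option maxHeartbeats 0
namespace H7.T
universe u

def R_SZ0 : List (List ℕ) := [[0,0],[1,1],[2,2],[3,3],[4,4],[5,5],[6,6],[0,1,0,1,0,1,0,1,0,1],[0,2,0,2],[0,3,0,3],[0,4,0,4],[0,5,0,5],[0,6,0,6],[1,2,1,2,1,2],[1,3,1,3],[1,4,1,4],[1,5,1,5,1,5],[1,6,1,6,1,6],[2,3,2,3,2,3,2,3,2,3,2,3,2,3,2,3],[2,4,2,4],[2,5,2,5],[2,6,2,6],[3,4,3,4,3,4],[3,5,3,5],[3,6,3,6],[4,5,4,5],[4,6,4,6],[5,6,5,6,5,6,5,6],[0,3,2,3,2,3,2,3,2],[0,6,5,6,5],[0,1,2,5,0,1,2,5,0,1,2,5,0,1,2,5,0,1,2,5],[1,5,6,1,5,6,1,5,6,1,5,6,1,5,6],[1,2,3,2,3,1,2,3,2,3,1,2,3,2,3,1,2,3,2,3,1,2,3,2,3,4,1,2,3,2,3,1,2,3,2,3,1,2,3,2,3,1,2,3,2,3,1,2,3,2,3,4,1,2,3,2,3,1,2,3,2,3,1,2,3,2,3,1,2,3,2,3,1,2,3,2,3,4]]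
def iv_SZ0 : List ℕ := [0,1,2,3,4,5,6]
theorem inv_SZ0 : invOK R_SZ0 iv_SZ0 7 = true := by decide +kernel

theorem rels_SZ0 : Rels (pms N_SZ) R_SZ0 := Der.of_cert (c := [(0,0),(1,0),(2,0),(3,0),(4,0),(5,0),(6,0),(7,0),(8,0),(9,0),(10,0),(11,0),(12,0),(13,0),(14,0),(15,0),(16,0),(17,0),(18,0),(19,0),(20,0),(21,0),(22,0),(23,0),(24,0),(25,0),(26,0),(27,0),(28,0),(29,0),(30,0),(31,0),(32,0)]) (by decide +kernel) _ _ rels_SZ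

theorem imp_SZ0_abcd0_1126c : impCert R_SZ0 [0,1,2,3] R_abcd0 [(0,0),(1,0),(2,0),(3,0),(7,0),(8,0),(9,0),(13,0),(14,0),(18,0),(28,0)] = true := by decide +kernel
theorem imp_SZ0_abcd0_1126 : Imp.{u} R_SZ0 [0,1,2,3] R_abcd0 := Imp.of_cert imp_SZ0_abcd0_1126c

theorem der_SZ_r5 : Der.{u} R_SZ0 [[0,1,2,0,1,2,0,1,2,0,1,2,0,1,2]] :=
  orc_abcd0.rels ok_abcd0 imp_SZ0_abcd0_1126 [[0,1,2,0,1,2,0,1,2,0,1,2,0,1,2]] (by decide +kernel) (by decide +kernel) (by decide +kernel)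

theorem der_SZ : Der.{u} R_SZ0 R_SZ :=
  Der.trans ((Der.refl R_SZ0).and der_SZ_r5) (Der.of_cert (c := [(0,0),(1,0),(2,0),(3,0),(4,0),(5,0),(6,0),(7,0),(8,0),(9,0),(10,0),(11,0),(12,0),(13,0),(14,0),(15,0),(16,0),(17,0),(18,0),(19,0),(20,0),(21,0),(22,0),(23,0),(24,0),(25,0),(26,0),(27,0),(28,0),(29,0),(30,0),(31,0),(32,0),(33,0)]) (by decide +kernel))

theorem ub_SZ0 : UB.{u} R_SZ0 [0,1,2,3,4,5,6] 448345497600 := ub_SZ.der der_SZ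

def idx_Suz : Cfsg.Spor.Suz.Gen → ℕ
  | .a => 0
  | .b => 1
  | .c => 2
  | .d => 3
  | .e => 4
  | .f => 5
  | .g => 6
def all_Suz : List Cfsg.Spor.Suz.Gen := [.a, .b, .c, .d, .e, .f, .g]
theorem hall_Suz : ∀ x, x ∈ all_Suz := by intro x; cases x <;> decide
def L_Suz : List (FreeGroup Cfsg.Spor.Suz.Gen) := [Cfsg.Spor.Suz.a, Cfsg.Spor.Suz.b, Cfsg.Spor.Suz.c, Cfsg.Spor.Suz.d, Cfsg.Spor.Suz.e, Cfsg.Spor.Suz.f, Cfsg.Spor.Suz.g]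
theorem let_Suz : letOK Cfsg.Spor.Suz.edges all_Suz L_Suz idx_Suz iv_SZ0 = true := by decide +kernel
def R0_Suz : List (List ℕ) := [[0,0],[0,2,0,2],[0,3,0,3],[0,4,0,4],[0,5,0,5],[0,6,0,6],[0,1,0,1,0,1,0,1,0,1],[2,0,2,0],[2,2],[2,3,2,3,2,3,2,3,2,3,2,3,2,3,2,3],[2,4,2,4],[2,5,2,5],[2,6,2,6],[2,1,2,1,2,1],[3,0,3,0],[3,2,3,2,3,2,3,2,3,2,3,2,3,2,3,2],[3,3],[3,4,3,4,3,4],[3,5,3,5],[3,6,3,6],[3,1,3,1],[4,0,4,0],[4,2,4,2],[4,3,4,3,4,3],[4,4],[4,5,4,5],[4,6,4,6],[4,1,4,1],[5,0,5,0],[5,2,5,2],[5,3,5,3],[5,4,5,4],[5,5],[5,6,5,6,5,6,5,6],[5,1,5,1,5,1],[6,0,6,0],[6,2,6,2],[6,3,6,3],[6,4,6,4],[6,5,6,5,6,5,6,5],[6,6],[6,1,6,1,6,1],[1,0,1,0,1,0,1,0,1,0],[1,2,1,2,1,2],[1,3,1,3],[1,4,1,4],[1,5,1,5,1,5],[1,6,1,6,1,6],[1,1],[0,3,2,3,2,3,2,3,2],[0,6,5,6,5],[0,1,2,5,0,1,2,5,0,1,2,5,0,1,2,5,0,1,2,5],[1,5,6,1,5,6,1,5,6,1,5,6,1,5,6],[1,2,3,2,3,1,2,3,2,3,1,2,3,2,3,1,2,3,2,3,1,2,3,2,3,4,1,2,3,2,3,1,2,3,2,3,1,2,3,2,3,1,2,3,2,3,1,2,3,2,3,4,1,2,3,2,3,1,2,3,2,3,1,2,3,2,3,1,2,3,2,3,1,2,3,2,3,4]]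
theorem R0_Suz_eq : (relL Cfsg.Spor.Suz.edges Cfsg.Spor.Suz.extra).map (trW idx_Suz iv_SZ0) = R0_Suz := by decide +kernel

theorem der0_Suz : Der.{u} R_SZ0 R0_Suz := Der.of_cert (c := [(0,0),(8,0),(9,0),(10,0),(11,0),(12,0),(7,0),(8,1),(2,0),(18,0),(19,0),(20,0),(21,0),(13,1),(9,1),(18,1),(3,0),(22,0),(23,0),(24,0),(14,1),(10,1),(19,1),(22,1),(4,0),(25,0),(26,0),(15,1),(11,1),(20,1),(23,1),(25,1),(5,0),(27,0),(16,1),(12,1),(21,1),(24,1),(26,1),(27,1),(6,0),(17,1),(7,1),(13,0),(14,0),(15,0),(16,0),(17,0),(1,0),(28,0),(29,0),(30,0),(31,0),(32,0)]) (by decide +kernel)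

noncomputable def M_Suz : Mdl Cfsg.Spor.Suz := Mdl.ofPres Cfsg.Spor.Suz.edges Cfsg.Spor.Suz.extra L_Suz idx_Suz iv_SZ0 1782 NL_SZ okL_SZ
  rels_SZ0 inv_SZ0 (by intro x; cases x <;> decide) (R0_Suz_eq ▸ der0_Suz) (by decide +kernel) rfl

theorem rels_Suz : Rels M_Suz.gs R_SZ0 :=
  Der.of_cert (c := [(0,0),(48,0),(8,0),(16,0),(24,0),(32,0),(40,0),(6,0),(1,0),(2,0),(3,0),(4,0),(5,0),(13,1),(20,1),(27,1),(34,1),(41,1),(9,0),(10,0),(11,0),(12,0),(17,0),(18,0),(19,0),(25,0),(26,0),(33,0),(49,0),(50,0),(51,0),(52,0),(53,0)]) (by decide +kernel) _ _ (R0_Suz_eq ▸ rels_gsP hall_Suz let_Suz : Rels M_Suz.gs R0_Suz)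

theorem gen_Suz : genW M_Suz.gs (sing [0,1,2,3,4,5,6]) = ⊤ :=
  gen_gsP hall_Suz let_Suz _ fun x _ => gs_mem_sing (by cases x <;> decide)

theorem lb_1127 : LB N_SZ [[0],[1],[2],[3],[4],[5],[6]] [0,995,16,56,14] 448345497600 :=
  (LB.of_chain (kp := 8) ok_SZ (by decide +kernel) [(0,6,[[0],[1],[2],[3],[4],[5],[6]]),(995,6,[[0],[1],[2],[3],[4],[5]]),(16,6,[[0],[1],[2],[3],[4]]),(56,3,[[0],[2],[4],[1,2,3,2,1],[3,2,3,4,3,2,3]]),(14,4,[[3,2,3,4,3,2,3],[4,1,2,3,2,1,4],[0,2,1,2,3,2,1,0]])] (by decide +kernel)).cat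
    (rels_SZ0.inv inv_SZ0) (by decide +kernel) (c := [[0],[2],[4],[6],[8],[10],[12],[0],[2],[4],[6],[8],[10],[0],[2],[4],[6],[8],[0],[4],[8],[2,4,6,4,2],[6,4,6,8,6,4,6],[6,4,6,8,6,4,6],[8,2,4,6,4,2,8],[0,4,2,4,6,4,2,0]]) (by decide +kernel)

theorem top_Suz : Finite Cfsg.Spor.Suz ∧ Nat.card Cfsg.Spor.Suz = 448345497600 ∧ IsBase (⊤ : Subgroup Cfsg.Spor.Suz) M_Suz.sys.dec [0,995,16,56,14] :=
  Mdl.top_pack ub_SZ0 rels_Suz lb_1127 gen_Suz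

theorem stab_Suz_o : orbGe 1782 8 N_SZ (sing [0,1,2,3,4,5,6]) 6 0 1782 = true := by decide +kernel
theorem stab_Suz : genW M_Suz.gs (sing [0,1,2,3,4,5]) = MulAction.stabilizer _ (M_Suz.sys.dec 0) ∧ (genW M_Suz.gs (sing [0,1,2,3,4,5])).index = 1782 :=
  Mdl.stab_eq (ui_SZ.top (der_SZ _ _ rels_Suz) gen_Suz) (by decide +kernel) (Mdl.genW_le_stab (by decide +kernel)) stab_Suz_o

theorem mc_Suz_0 : band (Nat.blt 1 1782) (band (tb (wapp N_SZ [6] (bit 0)) 1) (sub (ones 1782) (growN N_SZ ([6] :: [[0],[1],[2],[3],[4],[5]]) 5 (bit 0)))) = true := by decide +kernel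

theorem mc_Suz_1 : band (Nat.blt 47 1782) (band (tb (wapp N_SZ [6,1,2,3,2,1,6] (bit 0)) 47) (sub (ones 1782) (growN N_SZ ([6,1,2,3,2,1,6] :: [[0],[1],[2],[3],[4],[5]]) 5 (bit 0)))) = true := by decide +kernel

theorem mc_Suz : maxCertD 1782 N_SZ (ones 1782) 0 [[0],[1],[2],[3],[4],[5]] [(1,5,[6]),(47,5,[6,1,2,3,2,1,6])] = true :=
  maxCertD_intro (by decide +kernel) (List.forall_mem_cons.2 ⟨mc_Suz_0, List.forall_mem_cons.2 ⟨mc_Suz_1, List.forall_mem_nil _⟩⟩) (by decide +kernel)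

theorem core_Suz : ∀ N : Subgroup Cfsg.Spor.Suz, N.Normal → N ≤ MulAction.stabilizer _ (M_Suz.sys.dec 0) → N = ⊥ :=
  Mdl.core_bot top_Suz.2.2 (W := sing [0,1,2,3,4,5,6]) (r := 6) (by decide +kernel)

theorem orb_Suz_1365 : (MulAction.orbit (genW M_Suz.gs (sing [0,1,2,3,4,5])) (M_Suz.sys.dec 1)).ncard = 1365 :=
  Mdl.orbit_ncard (kp := 8) (r := 5) (by decide +kernel) (by decide +kernel)

theorem orb_Suz_416 : (MulAction.orbit (genW M_Suz.gs (sing [0,1,2,3,4,5])) (M_Suz.sys.dec 47)).ncard = 416 :=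
  Mdl.orbit_ncard (kp := 8) (r := 5) (by decide +kernel) (by decide +kernel)

theorem coatom_Suz : IsCoatom (MulAction.stabilizer Cfsg.Spor.Suz (M_Suz.sys.dec 0)) :=
  Mdl.isCoatom gen_Suz mc_Suz (by decide +kernel) (w := [6]) (by decide +kernel)

theorem kill_Suz_0a : fixB N_SZ [0,995,16,56,14] (rp 11 [4,3,6,1,2,5]) = true := by decide +kernel

theorem kill_Suz_0b : fixB N_SZ [0,995,16,56,14] (rp 11 (0 :: [4,3,6,1,2,5])) = true := by decide +kernel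

theorem kill_Suz_1a : fixB N_SZ [0,995,16,56,14] (rp 11 [4,2,5,6,1,0,3]) = true := by decide +kernel

theorem kill_Suz_1b : fixB N_SZ [0,995,16,56,14] (rp 11 (1 :: [4,2,5,6,1,0,3])) = true := by decide +kernel

theorem kill_Suz_2a : fixB N_SZ [0,995,16,56,14] (rp 11 [6,2,1,3,2,5,4,1,0,6,1]) = true := by decide +kernel

theorem kill_Suz_2b : fixB N_SZ [0,995,16,56,14] (rp 11 (2 :: [6,2,1,3,2,5,4,1,0,6,1])) = true := by decide +kernel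

theorem kill_Suz_3a : fixB N_SZ [0,995,16,56,14] (rp 11 [2,1,4,6,3,5,3,0,1,5,1,3,2,1,2]) = true := by decide +kernel

theorem kill_Suz_3b : fixB N_SZ [0,995,16,56,14] (rp 11 (3 :: [2,1,4,6,3,5,3,0,1,5,1,3,2,1,2])) = true := by decide +kernel

theorem kill_Suz_4a : fixB N_SZ [0,995,16,56,14] (rp 11 [3,1,2,1,4,3,4,3,2,6,0,5,2,0,1,2,3,0]) = true := by decide +kernel

theorem kill_Suz_4b : fixB N_SZ [0,995,16,56,14] (rp 11 (4 :: [3,1,2,1,4,3,4,3,2,6,0,5,2,0,1,2,3,0])) = true := by decide +kernel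

theorem kill_Suz_5a : fixB N_SZ [0,995,16,56,14] (rp 11 [1,5,0,1,6,2,4,3,1]) = true := by decide +kernel

theorem kill_Suz_5b : fixB N_SZ [0,995,16,56,14] (rp 11 (5 :: [1,5,0,1,6,2,4,3,1])) = true := by decide +kernel

theorem kill_Suz_6a : fixB N_SZ [0,995,16,56,14] (rp 11 [1,2,1,4,3,0,5,6,1,2,3]) = true := by decide +kernel

theorem kill_Suz_6b : fixB N_SZ [0,995,16,56,14] (rp 11 (6 :: [1,2,1,4,3,0,5,6,1,2,3])) = true := by decide +kernel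

theorem simple_Suz : IsSimpleGroup Cfsg.Spor.Suz :=
  have := top_Suz.1
  Mdl.simple gen_Suz coatom_Suz core_Suz 11 1 (by norm_num) (by rw [← stab_Suz.1, stab_Suz.2]; norm_num)
    (by rw [top_Suz.2.1]; norm_num) fun N _ h => List.forall_mem_cons.2 ⟨Mdl.kill top_Suz.2.2 kill_Suz_0a kill_Suz_0b N (pow_dvd_kill h (by norm_num)),
    List.forall_mem_cons.2 ⟨Mdl.kill top_Suz.2.2 kill_Suz_1a kill_Suz_1b N (pow_dvd_kill h (by norm_num)),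
    List.forall_mem_cons.2 ⟨Mdl.kill top_Suz.2.2 kill_Suz_2a kill_Suz_2b N (pow_dvd_kill h (by norm_num)),
    List.forall_mem_cons.2 ⟨Mdl.kill top_Suz.2.2 kill_Suz_3a kill_Suz_3b N (pow_dvd_kill h (by norm_num)),
    List.forall_mem_cons.2 ⟨Mdl.kill top_Suz.2.2 kill_Suz_4a kill_Suz_4b N (pow_dvd_kill h (by norm_num)),
    List.forall_mem_cons.2 ⟨Mdl.kill top_Suz.2.2 kill_Suz_5a kill_Suz_5b N (pow_dvd_kill h (by norm_num)),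
    List.forall_mem_cons.2 ⟨Mdl.kill top_Suz.2.2 kill_Suz_6a kill_Suz_6b N (pow_dvd_kill h (by norm_num)),
    List.forall_mem_nil _⟩⟩⟩⟩⟩⟩⟩

theorem lb_1128 : LB N_SZ [[0],[1],[2],[3],[5],[6]] [0,995,86,228,16,2] 19595520 :=
  (LB.of_chain (kp := 8) ok_SZ (by decide +kernel) [(0,6,[[0],[1],[2],[3],[5],[6]]),(995,5,[[0],[1],[2],[3],[5]]),(86,6,[[0],[1],[2],[3]]),(228,1,[[0],[3],[2,3,2]]),(16,1,[[0],[3,2,3,2]]),(2,1,[[0]])] (by decide +kernel)).cat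
    (rels_SZ0.inv inv_SZ0) (by decide +kernel) (c := [[0],[2],[4],[6],[8],[10],[0],[2],[4],[6],[8],[0],[2],[4],[6],[0],[6],[4,6,4],[0],[6,4,6,4],[0]]) (by decide +kernel)

theorem card_U43_Suz : Finite (genW M_Suz.gs (sing [0,1,2,3,5,6])) ∧ Nat.card (genW M_Suz.gs (sing [0,1,2,3,5,6])) = 19595520 :=
  Mdl.card_eq (UI.ren (W := []) ub_Sabcdfg imp_SZ_Sabcdfg_1110 (by decide +kernel) rfl) (der_SZ _ _ rels_Suz) lb_1128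

theorem lb_1129 : LB N_SZ [[0],[1],[2],[3],[4],[5]] [995,16,56,14] 251596800 :=
  (LB.of_chain (kp := 8) ok_SZ (by decide +kernel) [(995,6,[[0],[1],[2],[3],[4],[5]]),(16,6,[[0],[1],[2],[3],[4]]),(56,3,[[0],[2],[4],[1,2,3,2,1],[3,2,3,4,3,2,3]]),(14,4,[[3,2,3,4,3,2,3],[4,1,2,3,2,1,4],[0,2,1,2,3,2,1,0]])] (by decide +kernel)).cat
    (rels_SZ0.inv inv_SZ0) (by decide +kernel) (c := [[0],[2],[4],[6],[8],[10],[0],[2],[4],[6],[8],[0],[4],[8],[2,4,6,4,2],[6,4,6,8,6,4,6],[6,4,6,8,6,4,6],[8,2,4,6,4,2,8],[0,4,2,4,6,4,2,0]]) (by decide +kernel)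

theorem card_G24_Suz : Finite (genW M_Suz.gs (sing [0,1,2,3,4,5])) ∧ Nat.card (genW M_Suz.gs (sing [0,1,2,3,4,5])) = 251596800 :=
  Mdl.card_eq (UI.ren (W := []) ub_Sabcdef imp_SZ_Sabcdef_1074 (by decide +kernel) rfl) (der_SZ _ _ rels_Suz) lb_1129

end H7.T
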