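import Cfsg.Agent.H7.FM25
import Cfsg.Agent.H7.G8
import Cfsg.Agent.H7.T.L24a_0
set_option Elab.async false
set_option maxRecDepth 100000
set_option maxHeartbeats 0
namespace H7.T
universe u v

theorem ord_t13 {G : Type u} [Group G] (F : FM P8 G) : orderOf (F.ev [3,1,7,2,4,0]) = 13 :=
  FM.ord (by norm_num) 3 (by decide +kernel)

theorem cj_t13 {G : Type u} [Group G] (F : FM P8 G) : F.ev [6,4,3,5,8,6,3,6,8,7,4,7,8,7,8,7,4,7,0,7,2,4,0,4,2,7,6,2,8,4,8,2,6,8,6,5,0,5,6,8,7,6,4,6,7,4,5,8,7,1,7,8,5,4,8,5,3,4,0,4,3,5,0,7,5,1,5,7,0,8] * F.ev [3,1,7,2,4,0] * (F.ev [6,4,3,5,8,6,3,6,8,7,4,7,8,7,8,7,4,7,0,7,2,4,0,4,2,7,6,2,8,4,8,2,6,8,6,5,0,5,6,8,7,6,4,6,7,4,5,8,7,1,7,8,5,4,8,5,3,4,0,4,3,5,0,7,5,1,5,7,0,8])⁻¹ = F.ev [3,1,7,2,4,0] ^ 4 :=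
  by rw [mul_inv_eq_iff_eq_mul, ← FM.ev_rp, ← F.ev_app, ← F.ev_app]; exact (F.ev_eq (v := appL [6,4,3,5,8,6,3,6,8,7,4,7,8,7,8,7,4,7,0,7,2,4,0,4,2,7,6,2,8,4,8,2,6,8,6,5,0,5,6,8,7,6,4,6,7,4,5,8,7,1,7,8,5,4,8,5,3,4,0,4,3,5,0,7,5,1,5,7,0,8] [3,1,7,2,4,0]) (w := appL (rp 4 [3,1,7,2,4,0]) [6,4,3,5,8,6,3,6,8,7,4,7,8,7,8,7,4,7,0,7,2,4,0,4,2,7,6,2,8,4,8,2,6,8,6,5,0,5,6,8,7,6,4,6,7,4,5,8,7,1,7,8,5,4,8,5,3,4,0,4,3,5,0,7,5,1,5,7,0,8]) (by decide +kernel))

theorem nk_t13 {G : Type u} [Group G] (F : FM P8 G) : F.ev [6,4,3,5,8,6,3,6,8,7,4,7,8,7,8,7,4,7,0,7,2,4,0,4,2,7,6,2,8,4,8,2,6,8,6,5,0,5,6,8,7,6,4,6,7,4,5,8,7,1,7,8,5,4,8,5,3,4,0,4,3,5,0,7,5,1,5,7,0,8] ^ 6 = 1 :=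
  (FM.ev_rp _ _).symm.trans (F.ev_one (by decide +kernel))

noncomputable def m_t13_1 : ℕ := bits [439,2305,2508]

theorem i_t13_2 {G : Type u} [Group G] (F : FM P8 G) : F.Inv (F.PS (Subgroup.normalizer (Subgroup.zpowers (F.ev [3,1,7,2,4,0]) : Set G)) []) m_t13_1 :=
  (FM.Inv.fixn [3,1,7,2,4,0] (inf_le_left.trans le_rfl)).eq (by decide +kernel)

theorem sz_t13_3 : P8.szOK (1,[8,2,6,0]) m_t13_1 3 = true := by decide +kernel

theorem mv_t13_4 : P8.mvOK [] (1,[8,2,6,0]) [[0,6,2,8,1,8,2,6,0],[2,4,6,2,1,0,1,2,6,4,2]] 2 m_t13_1 = true := by decide +kernel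

noncomputable def m_t13_5 : ℕ := bits [2305]

theorem fx_t13_6 {G : Type u} [Group G] (F : FM P8 G) : F.Fx (F.PS (Subgroup.normalizer (Subgroup.zpowers (F.ev [3,1,7,2,4,0]) : Set G)) [(1,[8,2,6,0])]) m_t13_5 :=
  (FM.Fx.ps (qs := [(1,[8,2,6,0])]) (by decide +kernel)).le (by decide +kernel)

noncomputable def m_t13_7 : ℕ := bits [439,2508]

theorem i_t13_8 {G : Type u} [Group G] (F : FM P8 G) : F.Inv (F.PS (Subgroup.normalizer (Subgroup.zpowers (F.ev [3,1,7,2,4,0]) : Set G)) [(1,[8,2,6,0])]) m_t13_7 :=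
  (FM.Fx.pat (fx_t13_6 F) ((i_t13_2 F).mono (FM.PS_le _ _)) [] [(1,[8,2,6,0])] (by decide +kernel)).eq (by decide +kernel)

theorem sz_t13_9 : P8.szOK (0,[1,2,6,4,2]) m_t13_7 2 = true := by decide +kernel

theorem mv_t13_10 : P8.mvOK [(1,[8,2,6,0])] (0,[1,2,6,4,2]) [[0,6,2,8,1,8,2,6,0]] 1 m_t13_7 = true := by decide +kernel

noncomputable def m_t13_11 : ℕ := bits [439,2305]

theorem fx_t13_12 {G : Type u} [Group G] (F : FM P8 G) : F.Fx (F.PS (Subgroup.normalizer (Subgroup.zpowers (F.ev [3,1,7,2,4,0]) : Set G)) [(0,[1,2,6,4,2]),(1,[8,2,6,0])]) m_t13_11 :=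
  (FM.Fx.lor (FM.Fx.ps (qs := [(0,[1,2,6,4,2]),(1,[8,2,6,0])]) (by decide +kernel)) ((fx_t13_6 F).mono (FM.PS_le _ _))).le (by decide +kernel)

noncomputable def m_t13_13 : ℕ := bits [439,2305,2508]

theorem fx_t13_14 {G : Type u} [Group G] (F : FM P8 G) : F.Fx (F.PS (Subgroup.normalizer (Subgroup.zpowers (F.ev [3,1,7,2,4,0]) : Set G)) [(0,[1,2,6,4,2]),(1,[8,2,6,0])]) m_t13_13 :=
  ((fx_t13_12 F).orb [(1,[8,2,6,0])] (by decide +kernel) 1).le (by decide +kernel)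

noncomputable def m_t13_15 : ℕ := (nat_lit 0x400f400000000000000000006533f70c07c0703041540010b3102090448e83066730000000000000000000000000000000000000000000000000000000000001500011066040581238395a8209f502e422765640840a1ed14003f436a06fc7e0000000000000000000000000000000000000000000000000000000000000000000000000019a94004a82082e271400c88b5a70b110943e801000b1080c64882018818460b070d17050a110833101e52200000000000000000000000000000000000000000000000000000000000000000000000000000000000021d12884111b0a4a0046934e0c653a184b008d4c8116042403a0003022c0000000000000000000000000000020620c0288740000000000000000000000000000000000000000000000000000000000000000000000000000000000000000000000000000000000000000000000000000000000000000000000000000000000000000000000000000000000000000000000000000000000000000000000000000000000000000000000000000000000000000000000000000000000)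

theorem i_t13_16 {G : Type u} [Group G] (F : FM P8 G) : F.Inv (F.PS (Subgroup.normalizer (Subgroup.zpowers (F.ev [3,1,7,2,4,0]) : Set G)) [(0,[1,2,6,4,2]),(1,[8,2,6,0])]) m_t13_15 :=
  (FM.Fx.pat (fx_t13_14 F) FM.Inv.all [(0,[1,2,8,7,3])] [] (by decide +kernel)).eq (by decide +kernel)

noncomputable def m_t13_17 : ℕ := bits [2508]

noncomputable def m_t13_18 : ℕ := (nat_lit 0x400f400000000000000000006533f70c07c0703041540010b3102090448e83066730000000000000000000000000000000000000000000000000000000000001500011066040581238395a8209f502e422765640840a1ed14003f426a06fc7e0000000000000000000000000000000000000000000000000000000000000000000000000019a94004a82082e271400c88b5a70b110943e801000b1080c64882018818460b070d17050a110833101e52200000000000000000000000000000000000000000000000000000000000000000000000000000000000021d12884111b0a4a0046934e0c653a184b008d4c8116042403a0003022c0000000000000000000000000000020620c0288740000000000000000000000000000000000000000000000000000000000000000000000000000000000000000000000000000000000000000000000000000000000000000000000000000000000000000000000000000000000000000000000000000000000000000000000000000000000000000000000000000000000000000000000000000000000)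

theorem i_t13_19 {G : Type u} [Group G] (F : FM P8 G) : F.Inv (F.PS (Subgroup.normalizer (Subgroup.zpowers (F.ev [3,1,7,2,4,0]) : Set G)) [(0,[1,2,6,4,2]),(1,[8,2,6,0])]) m_t13_18 :=
  (FM.Inv.mns (i_t13_16 F) ((fx_t13_14 F).inv (b := m_t13_17) (by decide +kernel))).eq (by decide +kernel)

noncomputable def L_t13_20 : List Pc := [(8,[]),(2,[7]),(4,[6]),(1,[4,2]),(2,[3,4,5])]

theorem sp_t13_21 : P8.spOK (P8.f2 [3,1,7,2,4,0] 12) 5 L_t13_20 = true := by decide +kernel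

theorem rp_t13_22 : P8.repOK' m_t13_18 [(0,[1,2,6,4,2]),(1,[8,2,6,0])] [(0,[7]),(0,[2,7])] (L_t13_20 ++ []) [[3,1,7,2,4,0],[6,4,3,5,8,6,3,6,8,7,4,7,8,7,8,7,4,7,0,7,2,4,0,4,2,7,6,2,8,4,8,2,6,8,6,5,0,5,6,8,7,6,4,6,7,4,5,8,7,1,7,8,5,4,8,5,3,4,0,4,3,5,0,7,5,1,5,7,0,8]] 6 = true := by decide +kernel

noncomputable def m_t13_23 : ℕ := (nat_lit 0x400000000000000000000001800805c050200000001021000080408201044200000000000000000000000000000000000000000000000000000000000000100001040000101230290000081100200002020080000081400100242068402000000000000000000000000000000000000000000000000000000000000000000000000000000000088208002100000801002011000030000000810004040000000084000020c130400110820000802200000000000000000000000000000000000000000000000000000000000000000000000000000000000001c0080010020048000482060c011210020005480004002000000000024000000000000000000000000000000040040008200000000000000000000000000000000000000000000000000000000000000000000000000000000000000000000000000000000000000000000000000000000000000000000000000000000000000000000000000000000000000000000000000000000000000000000000000000000000000000000000000000000000000000000000000000000000)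

theorem i_t13_24 {G : Type u} [Group G] (F : FM P8 G) : F.Inv (F.PS (Subgroup.normalizer (Subgroup.zpowers (F.ev [3,1,7,2,4,0]) : Set G)) [(0,[1,2,6,4,2]),(1,[8,2,6,0])]) m_t13_23 :=
  FM.Inv.reps' (i_t13_19 F) (r' := 6) (FM.xn_mem (cj_t13 F)) rp_t13_22 (by decide +kernel) (List.forall_mem_cons.2 ⟨(FM.Sp.app (FM.sp2 (ord_t13 F) (inf_le_left.trans le_rfl) (by decide +kernel) sp_t13_21) (FM.Sp.nil _)), (List.forall_mem_cons.2 ⟨(FM.Sp.app (FM.sp2 (ord_t13 F) (inf_le_left.trans le_rfl) (by decide +kernel) sp_t13_21) (FM.Sp.nil _)), (List.forall_mem_nil _)⟩)⟩)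

theorem sz_t13_25 : P8.szOK (0,[7]) m_t13_23 117 = true := by decide +kernel

noncomputable def m_t13_26 : ℕ := bits [439,1910,2305,2508]

theorem fx_t13_27 {G : Type u} [Group G] (F : FM P8 G) : F.Fx (F.PS (Subgroup.normalizer (Subgroup.zpowers (F.ev [3,1,7,2,4,0]) : Set G)) [(0,[7]),(0,[1,2,6,4,2]),(1,[8,2,6,0])]) m_t13_26 :=
  (FM.Fx.lor (FM.Fx.ps (qs := [(0,[7]),(0,[1,2,6,4,2]),(1,[8,2,6,0])]) (by decide +kernel)) ((fx_t13_14 F).mono (FM.PS_le _ _))).le (by decide +kernel)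

noncomputable def m_t13_28 : ℕ := bits [1339,1361,1401,1415,1460,1833,1847,1880,1910,1986,2037,2493,2676]

theorem i_t13_29 {G : Type u} [Group G] (F : FM P8 G) : F.Inv (F.PS (Subgroup.normalizer (Subgroup.zpowers (F.ev [3,1,7,2,4,0]) : Set G)) [(0,[7]),(0,[1,2,6,4,2]),(1,[8,2,6,0])]) m_t13_28 :=
  (FM.Inv.sat ((fx_t13_27 F).inv (b := bits [1910]) (by decide +kernel)) (r := 12) (ord_t13 F) (inf_le_left.trans le_rfl)).eq (by decide +kernel)

noncomputable def m_t13_30 : ℕ := bits [1339,1361,1401,1415,1460,1833,1847,1880,1986,2037,2493,2676]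

theorem i_t13_31 {G : Type u} [Group G] (F : FM P8 G) : F.Inv (F.PS (Subgroup.normalizer (Subgroup.zpowers (F.ev [3,1,7,2,4,0]) : Set G)) [(0,[7]),(0,[1,2,6,4,2]),(1,[8,2,6,0])]) m_t13_30 :=
  (FM.Inv.mns (i_t13_29 F) ((fx_t13_27 F).inv (b := bits [1910]) (by decide +kernel))).eq (by decide +kernel)

noncomputable def m_t13_32 : ℕ := bits [1401,1460,1833,1847,1986,2037,2493,2676]

theorem i_t13_33 {G : Type u} [Group G] (F : FM P8 G) : F.Inv (F.PS (Subgroup.normalizer (Subgroup.zpowers (F.ev [3,1,7,2,4,0]) : Set G)) [(0,[7]),(0,[1,2,6,4,2]),(1,[8,2,6,0])]) m_t13_32 :=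
  (FM.Fx.pat (fx_t13_27 F) (i_t13_31 F) [] [(0,[7])] (by decide +kernel)).eq (by decide +kernel)

theorem sz_t13_34 : P8.szOK (1,[4,3]) m_t13_32 8 = true := by decide +kernel

noncomputable def m_t13_35 : ℕ := bits [439,1833,1910,2305,2508]

theorem fx_t13_36 {G : Type u} [Group G] (F : FM P8 G) : F.Fx (F.PS (Subgroup.normalizer (Subgroup.zpowers (F.ev [3,1,7,2,4,0]) : Set G)) [(1,[4,3]),(0,[7]),(0,[1,2,6,4,2]),(1,[8,2,6,0])]) m_t13_35 :=
  (FM.Fx.lor (FM.Fx.ps (qs := [(1,[4,3]),(0,[7]),(0,[1,2,6,4,2]),(1,[8,2,6,0])]) (by decide +kernel)) ((fx_t13_27 F).mono (FM.PS_le _ _))).le (by decide +kernel)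

theorem cx_t13_37 {G : Type u} [Group G] (F : FM P8 G) : ∀ g ∈ (F.PS (Subgroup.normalizer (Subgroup.zpowers (F.ev [3,1,7,2,4,0]) : Set G)) [(1,[4,3]),(0,[7]),(0,[1,2,6,4,2]),(1,[8,2,6,0])]), Commute (F.ev [3,1,7,2,4,0]) g :=
  FM.comm_of_fix (by norm_num) (ord_t13 F) (inf_le_left.trans le_rfl) (fx_t13_36 F) (0,[7]) (by decide +kernel)

noncomputable def m_t13_38 : ℕ := bits [439,1339,1361,1401,1415,1460,1833,1847,1880,1910,1986,2037,2305,2493,2508,2676]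

theorem fx_t13_39 {G : Type u} [Group G] (F : FM P8 G) : F.Fx (F.PS (Subgroup.normalizer (Subgroup.zpowers (F.ev [3,1,7,2,4,0]) : Set G)) [(1,[4,3]),(0,[7]),(0,[1,2,6,4,2]),(1,[8,2,6,0])]) m_t13_38 :=
  ((fx_t13_36 F).grow (W := [[3,1,7,2,4,0]]) (List.forall_mem_singleton.2 (cx_t13_37 F)) 11).le (by decide +kernel)

noncomputable def m_t13_40 : ℕ := bits [0,3,12,36,439,1339,1361,1401,1415,1460,1479,1833,1847,1880,1910,1986,2037,2305,2493,2508,2676]

theorem fx_t13_41 {G : Type u} [Group G] (F : FM P8 G) : F.Fx (F.PS (Subgroup.normalizer (Subgroup.zpowers (F.ev [3,1,7,2,4,0]) : Set G)) [(1,[4,3]),(0,[7]),(0,[1,2,6,4,2]),(1,[8,2,6,0])]) m_t13_40 :=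
  ((fx_t13_39 F).orb [(3,[4,2]),(1,[4,3]),(4,[5,1]),(1,[8,2,6,0])] (by decide +kernel) 3).le (by decide +kernel)

theorem bot_t13_42 {G : Type u} [Group G] (F : FM P8 G) : (F.PS (Subgroup.normalizer (Subgroup.zpowers (F.ev [3,1,7,2,4,0]) : Set G)) [(1,[4,3]),(0,[7]),(0,[1,2,6,4,2]),(1,[8,2,6,0])]) = ⊥ :=
  (fx_t13_41 F).bot (by decide +kernel)

theorem ub2_t13 {G : Type u} [Group G] (F : FM P8 G) : Nat.card (F.PS (Subgroup.normalizer (Subgroup.zpowers (F.ev [3,1,7,2,4,0]) : Set G)) [(0,[1,2,6,4,2]),(1,[8,2,6,0])]) ≤ 936 :=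
  ((FM.pst_le (i_t13_24 F) sz_t13_25).trans (Nat.mul_le_mul_left 117 (((FM.pst_le (i_t13_33 F) sz_t13_34).trans (Nat.mul_le_mul_left 8 ((by rw [bot_t13_42 F, Subgroup.card_bot]) : _ ≤ 1))) : _ ≤ 8)))

theorem cb_t13 {G : Type u} [Group G] (F : FM P8 G) : F.ev [0,6,2,8,1,8,2,6,0] * F.ev [3,1,7,2,4,0] * (F.ev [0,6,2,8,1,8,2,6,0])⁻¹ = F.ev [3,1,7,2,4,0] ^ 1 :=
  by rw [mul_inv_eq_iff_eq_mul, ← FM.ev_rp, ← F.ev_app, ← F.ev_app]; exact (F.ev_eq (v := appL [0,6,2,8,1,8,2,6,0] [3,1,7,2,4,0]) (w := appL (rp 1 [3,1,7,2,4,0]) [0,6,2,8,1,8,2,6,0]) (by decide +kernel))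

theorem cc_t13 {G : Type u} [Group G] (F : FM P8 G) : F.ev [2,4,6,2,1,0,1,2,6,4,2] * F.ev [3,1,7,2,4,0] * (F.ev [2,4,6,2,1,0,1,2,6,4,2])⁻¹ = F.ev [3,1,7,2,4,0] ^ 1 :=
  by rw [mul_inv_eq_iff_eq_mul, ← FM.ev_rp, ← F.ev_app, ← F.ev_app]; exact (F.ev_eq (v := appL [2,4,6,2,1,0,1,2,6,4,2] [3,1,7,2,4,0]) (w := appL (rp 1 [3,1,7,2,4,0]) [2,4,6,2,1,0,1,2,6,4,2]) (by decide +kernel))

theorem ix_t13 {G : Type u} [Group G] (F : FM P8 G) : Nat.card (Subgroup.normalizer (Subgroup.zpowers (F.ev [3,1,7,2,4,0]) : Set G)) = 6 * Nat.card (F.PS (Subgroup.normalizer (Subgroup.zpowers (F.ev [3,1,7,2,4,0]) : Set G)) [(0,[1,2,6,4,2]),(1,[8,2,6,0])]) :=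
  by
    conv_lhs => rw [← FM.PS_nil (F := F) (H := (Subgroup.normalizer (Subgroup.zpowers (F.ev [3,1,7,2,4,0]) : Set G)))]
    rw [FM.pst (i_t13_2 F) mv_t13_4 (List.forall_mem_cons.2 ⟨(FM.norm_w (cb_t13 F) _ List.mem_cons_self), (List.forall_mem_cons.2 ⟨(FM.norm_w (cc_t13 F) _ List.mem_cons_self), (List.forall_mem_nil _)⟩)⟩) sz_t13_3, FM.pst (i_t13_8 F) mv_t13_10 (List.forall_mem_cons.2 ⟨(FM.norm_w (cb_t13 F) _ List.mem_cons_self), (List.forall_mem_nil _)⟩) sz_t13_9]; omega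

theorem eq_t13 {G : Type u} [Group G] (F : FM P8 G) : Subgroup.closure {F.ev [3,1,7,2,4,0], F.ev [6,4,3,5,8,6,3,6,8,7,4,7,8,7,8,7,4,7,0,7,2,4,0,4,2,7,6,2,8,4,8,2,6,8,6,5,0,5,6,8,7,6,4,6,7,4,5,8,7,1,7,8,5,4,8,5,3,4,0,4,3,5,0,7,5,1,5,7,0,8]} = (F.PS (Subgroup.normalizer (Subgroup.zpowers (F.ev [3,1,7,2,4,0]) : Set G)) [(0,[1,2,6,4,2]),(1,[8,2,6,0])]) :=
  by
    have := F.fin
    obtain ⟨h1, -, -, h4, -⟩ := frob_pack (by norm_num) (ord_t13 F) (cj_t13 F) (nk_t13 F) (by decide) (by decide)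
    refine eq_of_mod' (le_inf h4 ((Subgroup.closure_le _).2 ?_)) h1 (t := 12) ((ub2_t13 F).trans (by decide)) (index_mod_of_card (ix_t13 F)
      (index_of_one (by norm_num) (ord_t13 F) (conj_of_cyc (by norm_num) (ord_t13 F) (by rw [F.card]; decide +kernel)))) F.card (by decide +kernel)
    rintro _ (rfl | rfl) <;> exact (FM.mem_PS_of (H := ⊤) (W := [_]) (fun _ _ => Subgroup.mem_top _) (by decide +kernel) _ List.mem_cons_self).2

def x13 : List ℕ := [3,1,7,2,4,0]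
def n13 : List ℕ := [6,4,3,5,8,6,3,6,8,7,4,7,8,7,8,7,4,7,0,7,2,4,0,4,2,7,6,2,8,4,8,2,6,8,6,5,0,5,6,8,7,6,4,6,7,4,5,8,7,1,7,8,5,4,8,5,3,4,0,4,3,5,0,7,5,1,5,7,0,8]
def b13 : Pc := (1,[8,2,6,0])
def c13 : Pc := (0,[1,2,6,4,2])

end H7.T
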