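import Cfsg.Agent.H7.T.T13_0
set_option Elab.async false
set_option maxRecDepth 100000
set_option maxHeartbeats 0
namespace H7.T
universe u v

def X13 : List ℕ := [7,1,13,11,6,12,2,12,6,11,13,3,12,6,13,5,13,6,12,2]
def s13 : List ℕ := [5,13,5,4,5,13,3,10,13,5,4,5,13,12,13,4,13,12,6,13,11,9,13,3,13,9,11,13,9,2,3,12,13,4,13,12,3,2,10,5,12,13,1,13,12,5,10,6,4,5,2,3,7,4,3,2,1,2,4,5,6,9,3,4,5,6,4,3,7,8,7,3,4,5,2,3,7,4,3,2,1,2,3,2,3,4,3,13,12,5,13,2,13,5,12,13,3,8,7,4,3,4,6,5,6,8,7,8,4,5,13,10,9,13,1,0,1,13,9,10,13,9,8]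
def B13 : Pc := (1,[13,0,2,10,12,2])
def C13 : Pc := (1,[2,12,6,10,12,3])

theorem cs13 {G : Type u} [Group G] (F : FM P24 G) : F.ev s13 * F.ev X13 * (F.ev s13)⁻¹ = F.ev X13 ^ 2 :=
  by rw [mul_inv_eq_iff_eq_mul, ← FM.ev_rp, ← F.ev_app, ← F.ev_app]; exact FM.ev_eqM ms_24 (by decide +kernel)

noncomputable def m_u13_1 : ℕ := bits [0,1,3,5434,303338,305202]

theorem i_u13_2 {G : Type u} [Group G] (F : FM P24 G) : F.Inv (F.PS (Subgroup.normalizer (Subgroup.zpowers (F.ev [7,1,13,11,6,12,2,12,6,11,13,3,12,6,13,5,13,6,12,2]) : Set G)) []) m_u13_1 :=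
  (FM.Inv.fixn [7,1,13,11,6,12,2,12,6,11,13,3,12,6,13,5,13,6,12,2] (inf_le_left.trans le_rfl)).eq (by decide +kernel)

noncomputable def m6_13 : ℕ := m_u13_1

theorem sz_u13_3 : P24.szOK (10,[]) m_u13_1 6 = true := by decide +kernel

theorem mv_u13_4 : P24.mvOK [] (10,[]) [[10],[11],[5,13,5,4,5,13,3,10,13,5,4,5,13,12,13,4,13,12,6,13,11,9,13,3,13,9,11,13,9,2,3,12,13,4,13,12,3,2,10,5,12,13,1,13,12,5,10,6,4,5,2,3,7,4,3,2,1,2,4,5,6,9,3,4,5,6,4,3,7,8,7,3,4,5,2,3,7,4,3,2,1,2,3,2,3,4,3,13,12,5,13,2,13,5,12,13,3,8,7,4,3,4,6,5,6,8,7,8,4,5,13,10,9,13,1,0,1,13,9,10,13,9,8]] 2 m_u13_1 = true := by decide +kernel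

noncomputable def m_u13_5 : ℕ := bits [0]

theorem fx_u13_6 {G : Type u} [Group G] (F : FM P24 G) : F.Fx (F.PS (Subgroup.normalizer (Subgroup.zpowers (F.ev [7,1,13,11,6,12,2,12,6,11,13,3,12,6,13,5,13,6,12,2]) : Set G)) [(10,[])]) m_u13_5 :=
  (FM.Fx.ps (qs := [(10,[])]) (by decide +kernel)).le (by decide +kernel)

noncomputable def m_u13_7 : ℕ := bits [1,3]

theorem i_u13_8 {G : Type u} [Group G] (F : FM P24 G) : F.Inv (F.PS (Subgroup.normalizer (Subgroup.zpowers (F.ev [7,1,13,11,6,12,2,12,6,11,13,3,12,6,13,5,13,6,12,2]) : Set G)) [(10,[])]) m_u13_7 :=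
  (FM.Fx.pat (fx_u13_6 F) ((i_u13_2 F).mono (FM.PS_le _ _)) [] [(10,[])] (by decide +kernel)).eq (by decide +kernel)

theorem sz_u13_9 : P24.szOK (11,[]) m_u13_7 2 = true := by decide +kernel

theorem mv_u13_10 : P24.mvOK [(10,[])] (11,[]) [[10]] 1 m_u13_7 = true := by decide +kernel

noncomputable def m_u13_11 : ℕ := bits [0,3]

theorem fx_u13_12 {G : Type u} [Group G] (F : FM P24 G) : F.Fx (F.PS (Subgroup.normalizer (Subgroup.zpowers (F.ev [7,1,13,11,6,12,2,12,6,11,13,3,12,6,13,5,13,6,12,2]) : Set G)) [(11,[]),(10,[])]) m_u13_11 :=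
  (FM.Fx.lor (FM.Fx.ps (qs := [(11,[]),(10,[])]) (by decide +kernel)) ((fx_u13_6 F).mono (FM.PS_le _ _))).le (by decide +kernel)

noncomputable def m_u13_13 : ℕ := bits [0,1,3]

theorem fx_u13_14 {G : Type u} [Group G] (F : FM P24 G) : F.Fx (F.PS (Subgroup.normalizer (Subgroup.zpowers (F.ev [7,1,13,11,6,12,2,12,6,11,13,3,12,6,13,5,13,6,12,2]) : Set G)) [(11,[]),(10,[])]) m_u13_13 :=
  ((fx_u13_12 F).orb [(10,[])] (by decide +kernel) 1).le (by decide +kernel)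

noncomputable def m_u13_15 : ℕ := bits [5434,303338,305202]

theorem i_u13_16 {G : Type u} [Group G] (F : FM P24 G) : F.Inv (F.PS (Subgroup.normalizer (Subgroup.zpowers (F.ev [7,1,13,11,6,12,2,12,6,11,13,3,12,6,13,5,13,6,12,2]) : Set G)) [(11,[]),(10,[])]) m_u13_15 :=
  (FM.Fx.pat (fx_u13_14 F) (((i_u13_2 F).mono (FM.PS_le _ _)).mono (FM.PS_le _ _)) [(10,[]),(11,[])] [] (by decide +kernel)).eq (by decide +kernel)

theorem sz_u13_17 : P24.szOK (1,[13,0,2,10,12,2]) m_u13_15 3 = true := by decide +kernel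

theorem mv_u13_18 : P24.mvOK [(11,[]),(10,[])] (1,[13,0,2,10,12,2]) [[2,12,10,2,0,13,1,13,0,2,10,12,2],[3,12,10,6,12,2,1,2,12,6,10,12,3]] 2 m_u13_15 = true := by decide +kernel

noncomputable def m_u13_19 : ℕ := bits [0,1,3,303338]

theorem fx_u13_20 {G : Type u} [Group G] (F : FM P24 G) : F.Fx (F.PS (Subgroup.normalizer (Subgroup.zpowers (F.ev [7,1,13,11,6,12,2,12,6,11,13,3,12,6,13,5,13,6,12,2]) : Set G)) [(1,[13,0,2,10,12,2]),(11,[]),(10,[])]) m_u13_19 :=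
  (FM.Fx.lor (FM.Fx.ps (qs := [(1,[13,0,2,10,12,2]),(11,[]),(10,[])]) (by decide +kernel)) ((fx_u13_14 F).mono (FM.PS_le _ _))).le (by decide +kernel)

noncomputable def m_u13_21 : ℕ := bits [5434,305202]

theorem i_u13_22 {G : Type u} [Group G] (F : FM P24 G) : F.Inv (F.PS (Subgroup.normalizer (Subgroup.zpowers (F.ev [7,1,13,11,6,12,2,12,6,11,13,3,12,6,13,5,13,6,12,2]) : Set G)) [(1,[13,0,2,10,12,2]),(11,[]),(10,[])]) m_u13_21 :=
  (FM.Fx.pat (fx_u13_20 F) ((((i_u13_2 F).mono (FM.PS_le _ _)).mono (FM.PS_le _ _)).mono (FM.PS_le _ _)) [] [(1,[13,0,2,10,12,2])] (by decide +kernel)).eq (by decide +kernel)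

theorem sz_u13_23 : P24.szOK (1,[2,12,6,10,12,3]) m_u13_21 2 = true := by decide +kernel

theorem mv_u13_24 : P24.mvOK [(1,[13,0,2,10,12,2]),(11,[]),(10,[])] (1,[2,12,6,10,12,3]) [[2,12,10,2,0,13,1,13,0,2,10,12,2]] 1 m_u13_21 = true := by decide +kernel

noncomputable def m_u13_25 : ℕ := bits [0,1,3,5434,303338]

theorem fx_u13_26 {G : Type u} [Group G] (F : FM P24 G) : F.Fx (F.PS (Subgroup.normalizer (Subgroup.zpowers (F.ev [7,1,13,11,6,12,2,12,6,11,13,3,12,6,13,5,13,6,12,2]) : Set G)) [(1,[2,12,6,10,12,3]),(1,[13,0,2,10,12,2]),(11,[]),(10,[])]) m_u13_25 :=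
  (FM.Fx.lor (FM.Fx.ps (qs := [(1,[2,12,6,10,12,3]),(1,[13,0,2,10,12,2]),(11,[]),(10,[])]) (by decide +kernel)) ((fx_u13_20 F).mono (FM.PS_le _ _))).le (by decide +kernel)

noncomputable def m_u13_27 : ℕ := bits [0,1,3,5434,303338,305202]

theorem fx_u13_28 {G : Type u} [Group G] (F : FM P24 G) : F.Fx (F.PS (Subgroup.normalizer (Subgroup.zpowers (F.ev [7,1,13,11,6,12,2,12,6,11,13,3,12,6,13,5,13,6,12,2]) : Set G)) [(1,[2,12,6,10,12,3]),(1,[13,0,2,10,12,2]),(11,[]),(10,[])]) m_u13_27 :=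
  ((fx_u13_26 F).orb [(1,[2,12,6,10,12,3])] (by decide +kernel) 1).le (by decide +kernel)

theorem fe13 {G : Type u} [Group G] (F : FM P24 G) : F.D ∩ Subgroup.centralizer (Subgroup.zpowers (F.ev X13) : Set G) = F.S m6_13 :=
  (FM.fix_eq _).trans (FM.S_eq (by decide +kernel))

theorem n6_13 {G : Type u} [Group G] (F : FM P24 G) (h : Subgroup.closure (F.S m6_13) ≤ (Subgroup.normalizer (Subgroup.zpowers (F.ev X13) : Set G))) : Nat.card (F.PS (Subgroup.normalizer (Subgroup.zpowers (F.ev X13) : Set G)) []) = 6 * Nat.card (F.PS (Subgroup.normalizer (Subgroup.zpowers (F.ev X13) : Set G)) [(10,[])]) :=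
  FM.pst (i_u13_2 F) mv_u13_4 (List.forall_mem_cons.2 ⟨(h (FM.tw_mem (a := m6_13) (qs := [(10,[])]) (by decide +kernel) _ List.mem_cons_self)), (List.forall_mem_cons.2 ⟨(h (FM.tw_mem (a := m6_13) (qs := [(11,[])]) (by decide +kernel) _ List.mem_cons_self)), (List.forall_mem_cons.2 ⟨(FM.norm_w (cs13 F) _ List.mem_cons_self), (List.forall_mem_nil _)⟩)⟩)⟩) sz_u13_3

theorem le13 {G : Type u} [Group G] (F : FM P24 G) {H : Subgroup G} (h : Subgroup.closure (F.S m6_13) ≤ (Subgroup.normalizer (Subgroup.zpowers (F.ev X13) : Set G)) ⊓ H) (l : F.PS (Subgroup.normalizer (Subgroup.zpowers (F.ev X13) : Set G)) [C13, B13, (11,[]), (10,[])] ≤ H) : F.PS (Subgroup.normalizer (Subgroup.zpowers (F.ev X13) : Set G)) [(10,[])] ≤ H :=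
  (FM.pst_sub (i_u13_8 F) mv_u13_10 (List.forall_mem_cons.2 ⟨(h (FM.tw_mem (a := m6_13) (qs := [(10,[])]) (by decide +kernel) _ List.mem_cons_self)), (List.forall_mem_nil _)⟩) sz_u13_9 (FM.pst_sub (i_u13_16 F) mv_u13_18 (List.forall_mem_cons.2 ⟨(h (FM.tw_mem (a := m6_13) (qs := [(1,[13,0,2,10,12,2])]) (by decide +kernel) _ List.mem_cons_self)), (List.forall_mem_cons.2 ⟨(h (FM.tw_mem (a := m6_13) (qs := [(1,[2,12,6,10,12,3])]) (by decide +kernel) _ List.mem_cons_self)), (List.forall_mem_nil _)⟩)⟩) sz_u13_17 (FM.pst_sub (i_u13_22 F) mv_u13_24 (List.forall_mem_cons.2 ⟨(h (FM.tw_mem (a := m6_13) (qs := [(1,[13,0,2,10,12,2])]) (by decide +kernel) _ List.mem_cons_self)), (List.forall_mem_nil _)⟩) sz_u13_23 l)))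

noncomputable def m3_13 : ℕ := (nat_lit 0xb)

theorem mv3_13 : P24.mvOK [] (10,[]) [[10],[11]] 2 m3_13 = true := by decide +kernel
theorem sz3_13 : P24.szOK (10,[]) m3_13 3 = true := by decide +kernel

theorem h3_13 {G : Type u} [Group G] (F : FM P24 G) {H : Subgroup G} (h : Subgroup.closure (F.S m6_13) ≤ H) (i : F.Inv H m3_13) : Nat.card (F.PS H []) = 3 * Nat.card (F.PS H [(10,[])]) :=
  FM.pst (i.up []) mv3_13 (List.forall_mem_cons.2 ⟨(h (FM.tw_mem (a := m6_13) (qs := [(10,[])]) (by decide +kernel) _ List.mem_cons_self)), (List.forall_mem_cons.2 ⟨(h (FM.tw_mem (a := m6_13) (qs := [(11,[])]) (by decide +kernel) _ List.mem_cons_self)), (List.forall_mem_nil _)⟩)⟩) sz3_13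

end H7.T
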