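import Cfsg.Agent.H7.T.Y5_0
set_option Elab.async false
set_option maxRecDepth 100000
set_option maxHeartbeats 0
namespace H7.T
universe u v

def R_Y532 : List (List ℕ) := [[0,0],[1,1],[2,2],[3,3],[4,4],[5,5],[6,6],[7,7],[8,8],[9,9],[10,10],[10,9,10,9,10,9],[10,0,10,0],[10,1,10,1],[10,2,10,2],[10,3,10,3],[10,4,10,4],[10,5,10,5],[10,6,10,6],[10,7,10,7],[10,8,10,8],[9,0,9,0,9,0],[9,1,9,1],[9,2,9,2],[9,3,9,3],[9,4,9,4],[9,5,9,5],[9,6,9,6],[9,7,9,7],[9,8,9,8],[0,1,0,1,0,1],[0,2,0,2],[0,3,0,3],[0,4,0,4],[0,5,0,5],[0,6,0,6],[0,7,0,7],[0,8,0,8],[1,2,1,2,1,2],[1,3,1,3],[1,4,1,4],[1,5,1,5],[1,6,1,6],[1,7,1,7],[1,8,1,8],[2,3,2,3,2,3],[2,4,2,4],[2,5,2,5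],[2,6,2,6],[2,7,2,7],[2,8,2,8],[3,4,3,4,3,4],[3,5,3,5],[3,6,3,6],[3,7,3,7,3,7],[3,8,3,8],[4,5,4,5,4,5],[4,6,4,6],[4,7,4,7],[4,8,4,8],[5,6,5,6,5,6],[5,7,5,7],[5,8,5,8],[6,7,6,7],[6,8,6,8],[7,8,7,8,7,8],[3,2,1,3,4,5,3,7,8,3,2,1,3,4,5,3,7,8,3,2,1,3,4,5,3,7,8,3,2,1,3,4,5,3,7,8,3,2,1,3,4,5,3,7,8,3,2,1,3,4,5,3,7,8,3,2,1,3,4,5,3,7,8,3,2,1,3,4,5,3,7,8,3,2,1,3,4,5,3,7,8,3,2,1,3,4,5,3,7,8],[3,4,5,3,2,1,3,7,8,3,4,5,3,2,1,3,7,8,3,4,5,3,2,1,3,7,8,3,4,5,3,2,1,3,7,8,3,4,5,3,2,1,3,7,8,3,4,5,3,2,1,3,7,8,3,4,5,3,2,1,3,7,8,3,4,5,3,2,1,3,7,8,3,4,5,3,2,1,3,7,8,3,4,5,3,2,1,3,7,8]]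
def iv_Y532 : List ℕ := [0,1,2,3,4,5,6,7,8,9,10]
theorem inv_Y532 : invOK R_Y532 iv_Y532 11 = true := by decide +kernel

theorem lb_7115 : LB N_YP [[0],[1],[2],[3],[4],[5],[6],[7],[8],[9]] [0,1,2,3,4,5,36,6,7] 129965007049113600 :=
  (LB.of_chain (kp := 10) ok_YP (by decide +kernel) [(0,13,[[0],[1],[2],[3],[4],[5],[6],[7],[8],[9]]),(1,12,[[0],[1],[2],[3],[4],[5],[6],[7],[8]]),(2,9,[[0],[1],[2],[3],[4],[5],[6],[7]]),(3,6,[[1],[2],[3],[4],[5],[6],[7]]),(4,6,[[2],[3],[4],[5],[6],[7]]),(5,3,[[3],[4],[5],[6],[7]]),(36,2,[[4],[5],[6],[7]]),(6,1,[[4],[5]]),(7,1,[[5]])] (by decide +kernel)).cat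
    (rels_YP.inv inv_YP) (by decide +kernel) (c := [[0],[2],[4],[6],[8],[10],[12],[14],[16],[18],[0],[2],[4],[6],[8],[10],[12],[14],[16],[0],[2],[4],[6],[8],[10],[12],[14],[2],[4],[6],[8],[10],[12],[14],[4],[6],[8],[10],[12],[14],[6],[8],[10],[12],[14],[8],[10],[12],[14],[8],[10],[10]]) (by decide +kernel)

theorem orc_YP : Orc.{u} R_YP [0,1,2,3,4,5,6,7,8,9] N_YP [0,1,2,3,4,5,36,6,7] := ub_YP.oracle rels_YP lb_7115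

theorem imp_Y532_YP_7116c : impCert R_Y532 [0,1,2,3,4,5,7,8,9,10] R_YP [(0,0),(1,0),(2,0),(3,0),(4,0),(5,0),(7,0),(8,0),(9,0),(10,0),(11,0),(12,0),(13,0),(14,0),(15,0),(16,0),(17,0),(19,0),(20,0),(21,0),(22,0),(23,0),(24,0),(25,0),(26,0),(28,0),(29,0),(30,0),(31,0),(32,0),(33,0),(34,0),(36,0),(37,0),(38,0),(39,0),(40,0),(41,0),(43,0),(44,0),(45,0),(46,0),(47,0),(49,0),(50,0),(51,0),(52,0),(54,0),(55,0),(56,0),(58,0),(59,0),(61,0),(62,0),(65,0),(66,0),(67,0)] = true := by decide +kernel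
theorem imp_Y532_YP_7116 : Imp.{u} R_Y532 [0,1,2,3,4,5,7,8,9,10] R_YP := Imp.of_cert imp_Y532_YP_7116c

theorem der_Y5_0 : Der.{u} R_Y532 [[9,0,10,9,10,0,5,1,7,4,2,3,0,5,1,7,4,2,3,0,5,1,7,4,2,3,0,5,1,7,4,2,3,0,5,1,7,4,2,3,0,5,1,7,4,2,3,0,5,1,7,4,2,3,0,5,1,7,4,2,3,0,5,1,7,4,2,3,9,0,1,2,3,4,5,7,9,0,1,2,3,4,5,7,9,0,1,2,3,4,5,7,9,0,1,2,3,4,5,7,9,0,1,2,3,4,5,7,9,0,1,2,3,4,5,7,9,0,1,2,3,4,5,7,9,0,1,2,3,4,5,7,9,0,1,2,3,4,5,7,9,0,1,2,3,4,5,7,9,0,1,2,3,4,5,7,9,0,1,2,3,4,5,7,9,0,1,2,3,4,5,7,9,0,1,2,3,4,5,7,9,0,1,2,3,4,5,7,9,10,0,9,2,9,0,10,9,7,5,4,3,2,1,0,9,7,5,4,3,2,1,0,9,7,5,4,3,2,1,0,9,7,5,4,3,2,1,0,9,7,5,4,3,2,1,0,9,7,5,4,3,2,1,0,9,7,5,4,3,2,1,0,9,7,5,4,3,2,1,0,9,7,5,4,3,2,1,0,9,7,5,4,3,2,1,0,9,7,5,4,3,2,1,0,9,7,5,4,3,2,1,0,9,7,5,4,3,2,1,0,9,7,5,4,3,2,1,0,9,7,5,4,3,2,1,0,9,3,2,4,7,1,5,0,3,2,4,7,1,5,0,3,2,4,7,1,5,0,3,2,4,7,1,5,0,3,2,4,7,1,5,0,3,2,4,7,1,5,0,3,2,4,7,1,5,0,3,2,4,7,1,5,0,3,2,4,7,1,5,0,10,9,10,0,9,2]]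 :=
  orc_YP.rels ok_YP imp_Y532_YP_7116 [[8,0,9,8,9,0,5,1,6,4,2,3,0,5,1,6,4,2,3,0,5,1,6,4,2,3,0,5,1,6,4,2,3,0,5,1,6,4,2,3,0,5,1,6,4,2,3,0,5,1,6,4,2,3,0,5,1,6,4,2,3,0,5,1,6,4,2,3,8,0,1,2,3,4,5,6,8,0,1,2,3,4,5,6,8,0,1,2,3,4,5,6,8,0,1,2,3,4,5,6,8,0,1,2,3,4,5,6,8,0,1,2,3,4,5,6,8,0,1,2,3,4,5,6,8,0,1,2,3,4,5,6,8,0,1,2,3,4,5,6,8,0,1,2,3,4,5,6,8,0,1,2,3,4,5,6,8,0,1,2,3,4,5,6,8,0,1,2,3,4,5,6,8,0,1,2,3,4,5,6,8,0,1,2,3,4,5,6,8,9,0,8,2,8,0,9,8,6,5,4,3,2,1,0,8,6,5,4,3,2,1,0,8,6,5,4,3,2,1,0,8,6,5,4,3,2,1,0,8,6,5,4,3,2,1,0,8,6,5,4,3,2,1,0,8,6,5,4,3,2,1,0,8,6,5,4,3,2,1,0,8,6,5,4,3,2,1,0,8,6,5,4,3,2,1,0,8,6,5,4,3,2,1,0,8,6,5,4,3,2,1,0,8,6,5,4,3,2,1,0,8,6,5,4,3,2,1,0,8,6,5,4,3,2,1,0,8,3,2,4,6,1,5,0,3,2,4,6,1,5,0,3,2,4,6,1,5,0,3,2,4,6,1,5,0,3,2,4,6,1,5,0,3,2,4,6,1,5,0,3,2,4,6,1,5,0,3,2,4,6,1,5,0,3,2,4,6,1,5,0,9,8,9,0,8,2]]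 (by decide +kernel) (by decide +kernel) (by decide +kernel)

theorem der_Y5_1 : Der.{u} R_Y532 [[9,0,10,9,10,0,5,1,7,4,2,3,0,5,1,7,4,2,3,0,5,1,7,4,2,3,0,5,1,7,4,2,3,0,5,1,7,4,2,3,0,5,1,7,4,2,3,0,5,1,7,4,2,3,0,5,1,7,4,2,3,0,5,1,7,4,2,3,9,0,1,2,3,4,5,7,9,0,1,2,3,4,5,7,9,0,1,2,3,4,5,7,9,0,1,2,3,4,5,7,9,0,1,2,3,4,5,7,9,0,1,2,3,4,5,7,9,0,1,2,3,4,5,7,9,0,1,2,3,4,5,7,9,0,1,2,3,4,5,7,9,0,1,2,3,4,5,7,9,0,1,2,3,4,5,7,9,0,1,2,3,4,5,7,9,0,1,2,3,4,5,7,9,0,1,2,3,4,5,7,9,0,1,2,3,4,5,7,9,10,0,9,3,9,0,10,9,7,5,4,3,2,1,0,9,7,5,4,3,2,1,0,9,7,5,4,3,2,1,0,9,7,5,4,3,2,1,0,9,7,5,4,3,2,1,0,9,7,5,4,3,2,1,0,9,7,5,4,3,2,1,0,9,7,5,4,3,2,1,0,9,7,5,4,3,2,1,0,9,7,5,4,3,2,1,0,9,7,5,4,3,2,1,0,9,7,5,4,3,2,1,0,9,7,5,4,3,2,1,0,9,7,5,4,3,2,1,0,9,7,5,4,3,2,1,0,9,3,2,4,7,1,5,0,3,2,4,7,1,5,0,3,2,4,7,1,5,0,3,2,4,7,1,5,0,3,2,4,7,1,5,0,3,2,4,7,1,5,0,3,2,4,7,1,5,0,3,2,4,7,1,5,0,3,2,4,7,1,5,0,10,9,10,0,9,3]]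 :=
  orc_YP.rels ok_YP imp_Y532_YP_7116 [[8,0,9,8,9,0,5,1,6,4,2,3,0,5,1,6,4,2,3,0,5,1,6,4,2,3,0,5,1,6,4,2,3,0,5,1,6,4,2,3,0,5,1,6,4,2,3,0,5,1,6,4,2,3,0,5,1,6,4,2,3,0,5,1,6,4,2,3,8,0,1,2,3,4,5,6,8,0,1,2,3,4,5,6,8,0,1,2,3,4,5,6,8,0,1,2,3,4,5,6,8,0,1,2,3,4,5,6,8,0,1,2,3,4,5,6,8,0,1,2,3,4,5,6,8,0,1,2,3,4,5,6,8,0,1,2,3,4,5,6,8,0,1,2,3,4,5,6,8,0,1,2,3,4,5,6,8,0,1,2,3,4,5,6,8,0,1,2,3,4,5,6,8,0,1,2,3,4,5,6,8,0,1,2,3,4,5,6,8,9,0,8,3,8,0,9,8,6,5,4,3,2,1,0,8,6,5,4,3,2,1,0,8,6,5,4,3,2,1,0,8,6,5,4,3,2,1,0,8,6,5,4,3,2,1,0,8,6,5,4,3,2,1,0,8,6,5,4,3,2,1,0,8,6,5,4,3,2,1,0,8,6,5,4,3,2,1,0,8,6,5,4,3,2,1,0,8,6,5,4,3,2,1,0,8,6,5,4,3,2,1,0,8,6,5,4,3,2,1,0,8,6,5,4,3,2,1,0,8,6,5,4,3,2,1,0,8,3,2,4,6,1,5,0,3,2,4,6,1,5,0,3,2,4,6,1,5,0,3,2,4,6,1,5,0,3,2,4,6,1,5,0,3,2,4,6,1,5,0,3,2,4,6,1,5,0,3,2,4,6,1,5,0,3,2,4,6,1,5,0,9,8,9,0,8,3]]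 (by decide +kernel) (by decide +kernel) (by decide +kernel)

theorem der_Y5_2 : Der.{u} R_Y532 [[9,0,10,9,10,0,5,1,7,4,2,3,0,5,1,7,4,2,3,0,5,1,7,4,2,3,0,5,1,7,4,2,3,0,5,1,7,4,2,3,0,5,1,7,4,2,3,0,5,1,7,4,2,3,0,5,1,7,4,2,3,0,5,1,7,4,2,3,9,0,1,2,3,4,5,7,9,0,1,2,3,4,5,7,9,0,1,2,3,4,5,7,9,0,1,2,3,4,5,7,9,0,1,2,3,4,5,7,9,0,1,2,3,4,5,7,9,0,1,2,3,4,5,7,9,0,1,2,3,4,5,7,9,0,1,2,3,4,5,7,9,0,1,2,3,4,5,7,9,0,1,2,3,4,5,7,9,0,1,2,3,4,5,7,9,0,1,2,3,4,5,7,9,0,1,2,3,4,5,7,9,0,1,2,3,4,5,7,9,10,0,9,4,9,0,10,9,7,5,4,3,2,1,0,9,7,5,4,3,2,1,0,9,7,5,4,3,2,1,0,9,7,5,4,3,2,1,0,9,7,5,4,3,2,1,0,9,7,5,4,3,2,1,0,9,7,5,4,3,2,1,0,9,7,5,4,3,2,1,0,9,7,5,4,3,2,1,0,9,7,5,4,3,2,1,0,9,7,5,4,3,2,1,0,9,7,5,4,3,2,1,0,9,7,5,4,3,2,1,0,9,7,5,4,3,2,1,0,9,7,5,4,3,2,1,0,9,3,2,4,7,1,5,0,3,2,4,7,1,5,0,3,2,4,7,1,5,0,3,2,4,7,1,5,0,3,2,4,7,1,5,0,3,2,4,7,1,5,0,3,2,4,7,1,5,0,3,2,4,7,1,5,0,3,2,4,7,1,5,0,10,9,10,0,9,4]]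 :=
  orc_YP.rels ok_YP imp_Y532_YP_7116 [[8,0,9,8,9,0,5,1,6,4,2,3,0,5,1,6,4,2,3,0,5,1,6,4,2,3,0,5,1,6,4,2,3,0,5,1,6,4,2,3,0,5,1,6,4,2,3,0,5,1,6,4,2,3,0,5,1,6,4,2,3,0,5,1,6,4,2,3,8,0,1,2,3,4,5,6,8,0,1,2,3,4,5,6,8,0,1,2,3,4,5,6,8,0,1,2,3,4,5,6,8,0,1,2,3,4,5,6,8,0,1,2,3,4,5,6,8,0,1,2,3,4,5,6,8,0,1,2,3,4,5,6,8,0,1,2,3,4,5,6,8,0,1,2,3,4,5,6,8,0,1,2,3,4,5,6,8,0,1,2,3,4,5,6,8,0,1,2,3,4,5,6,8,0,1,2,3,4,5,6,8,0,1,2,3,4,5,6,8,9,0,8,4,8,0,9,8,6,5,4,3,2,1,0,8,6,5,4,3,2,1,0,8,6,5,4,3,2,1,0,8,6,5,4,3,2,1,0,8,6,5,4,3,2,1,0,8,6,5,4,3,2,1,0,8,6,5,4,3,2,1,0,8,6,5,4,3,2,1,0,8,6,5,4,3,2,1,0,8,6,5,4,3,2,1,0,8,6,5,4,3,2,1,0,8,6,5,4,3,2,1,0,8,6,5,4,3,2,1,0,8,6,5,4,3,2,1,0,8,6,5,4,3,2,1,0,8,3,2,4,6,1,5,0,3,2,4,6,1,5,0,3,2,4,6,1,5,0,3,2,4,6,1,5,0,3,2,4,6,1,5,0,3,2,4,6,1,5,0,3,2,4,6,1,5,0,3,2,4,6,1,5,0,3,2,4,6,1,5,0,9,8,9,0,8,4]]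 (by decide +kernel) (by decide +kernel) (by decide +kernel)

theorem der_Y5_3 : Der.{u} R_Y532 [[9,0,10,9,10,0,5,1,7,4,2,3,0,5,1,7,4,2,3,0,5,1,7,4,2,3,0,5,1,7,4,2,3,0,5,1,7,4,2,3,0,5,1,7,4,2,3,0,5,1,7,4,2,3,0,5,1,7,4,2,3,0,5,1,7,4,2,3,9,0,1,2,3,4,5,7,9,0,1,2,3,4,5,7,9,0,1,2,3,4,5,7,9,0,1,2,3,4,5,7,9,0,1,2,3,4,5,7,9,0,1,2,3,4,5,7,9,0,1,2,3,4,5,7,9,0,1,2,3,4,5,7,9,0,1,2,3,4,5,7,9,0,1,2,3,4,5,7,9,0,1,2,3,4,5,7,9,0,1,2,3,4,5,7,9,0,1,2,3,4,5,7,9,0,1,2,3,4,5,7,9,0,1,2,3,4,5,7,9,10,0,9,5,9,0,10,9,7,5,4,3,2,1,0,9,7,5,4,3,2,1,0,9,7,5,4,3,2,1,0,9,7,5,4,3,2,1,0,9,7,5,4,3,2,1,0,9,7,5,4,3,2,1,0,9,7,5,4,3,2,1,0,9,7,5,4,3,2,1,0,9,7,5,4,3,2,1,0,9,7,5,4,3,2,1,0,9,7,5,4,3,2,1,0,9,7,5,4,3,2,1,0,9,7,5,4,3,2,1,0,9,7,5,4,3,2,1,0,9,7,5,4,3,2,1,0,9,3,2,4,7,1,5,0,3,2,4,7,1,5,0,3,2,4,7,1,5,0,3,2,4,7,1,5,0,3,2,4,7,1,5,0,3,2,4,7,1,5,0,3,2,4,7,1,5,0,3,2,4,7,1,5,0,3,2,4,7,1,5,0,10,9,10,0,9,5]]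 :=
  orc_YP.rels ok_YP imp_Y532_YP_7116 [[8,0,9,8,9,0,5,1,6,4,2,3,0,5,1,6,4,2,3,0,5,1,6,4,2,3,0,5,1,6,4,2,3,0,5,1,6,4,2,3,0,5,1,6,4,2,3,0,5,1,6,4,2,3,0,5,1,6,4,2,3,0,5,1,6,4,2,3,8,0,1,2,3,4,5,6,8,0,1,2,3,4,5,6,8,0,1,2,3,4,5,6,8,0,1,2,3,4,5,6,8,0,1,2,3,4,5,6,8,0,1,2,3,4,5,6,8,0,1,2,3,4,5,6,8,0,1,2,3,4,5,6,8,0,1,2,3,4,5,6,8,0,1,2,3,4,5,6,8,0,1,2,3,4,5,6,8,0,1,2,3,4,5,6,8,0,1,2,3,4,5,6,8,0,1,2,3,4,5,6,8,0,1,2,3,4,5,6,8,9,0,8,5,8,0,9,8,6,5,4,3,2,1,0,8,6,5,4,3,2,1,0,8,6,5,4,3,2,1,0,8,6,5,4,3,2,1,0,8,6,5,4,3,2,1,0,8,6,5,4,3,2,1,0,8,6,5,4,3,2,1,0,8,6,5,4,3,2,1,0,8,6,5,4,3,2,1,0,8,6,5,4,3,2,1,0,8,6,5,4,3,2,1,0,8,6,5,4,3,2,1,0,8,6,5,4,3,2,1,0,8,6,5,4,3,2,1,0,8,6,5,4,3,2,1,0,8,3,2,4,6,1,5,0,3,2,4,6,1,5,0,3,2,4,6,1,5,0,3,2,4,6,1,5,0,3,2,4,6,1,5,0,3,2,4,6,1,5,0,3,2,4,6,1,5,0,3,2,4,6,1,5,0,3,2,4,6,1,5,0,9,8,9,0,8,5]]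 (by decide +kernel) (by decide +kernel) (by decide +kernel)

theorem der_Y5_4 : Der.{u} R_Y532 [[9,0,10,9,10,0,5,1,7,4,2,3,0,5,1,7,4,2,3,0,5,1,7,4,2,3,0,5,1,7,4,2,3,0,5,1,7,4,2,3,0,5,1,7,4,2,3,0,5,1,7,4,2,3,0,5,1,7,4,2,3,0,5,1,7,4,2,3,9,0,1,2,3,4,5,7,9,0,1,2,3,4,5,7,9,0,1,2,3,4,5,7,9,0,1,2,3,4,5,7,9,0,1,2,3,4,5,7,9,0,1,2,3,4,5,7,9,0,1,2,3,4,5,7,9,0,1,2,3,4,5,7,9,0,1,2,3,4,5,7,9,0,1,2,3,4,5,7,9,0,1,2,3,4,5,7,9,0,1,2,3,4,5,7,9,0,1,2,3,4,5,7,9,0,1,2,3,4,5,7,9,0,1,2,3,4,5,7,9,10,0,9,7,9,0,10,9,7,5,4,3,2,1,0,9,7,5,4,3,2,1,0,9,7,5,4,3,2,1,0,9,7,5,4,3,2,1,0,9,7,5,4,3,2,1,0,9,7,5,4,3,2,1,0,9,7,5,4,3,2,1,0,9,7,5,4,3,2,1,0,9,7,5,4,3,2,1,0,9,7,5,4,3,2,1,0,9,7,5,4,3,2,1,0,9,7,5,4,3,2,1,0,9,7,5,4,3,2,1,0,9,7,5,4,3,2,1,0,9,7,5,4,3,2,1,0,9,3,2,4,7,1,5,0,3,2,4,7,1,5,0,3,2,4,7,1,5,0,3,2,4,7,1,5,0,3,2,4,7,1,5,0,3,2,4,7,1,5,0,3,2,4,7,1,5,0,3,2,4,7,1,5,0,3,2,4,7,1,5,0,10,9,10,0,9,7]]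 :=
  orc_YP.rels ok_YP imp_Y532_YP_7116 [[8,0,9,8,9,0,5,1,6,4,2,3,0,5,1,6,4,2,3,0,5,1,6,4,2,3,0,5,1,6,4,2,3,0,5,1,6,4,2,3,0,5,1,6,4,2,3,0,5,1,6,4,2,3,0,5,1,6,4,2,3,0,5,1,6,4,2,3,8,0,1,2,3,4,5,6,8,0,1,2,3,4,5,6,8,0,1,2,3,4,5,6,8,0,1,2,3,4,5,6,8,0,1,2,3,4,5,6,8,0,1,2,3,4,5,6,8,0,1,2,3,4,5,6,8,0,1,2,3,4,5,6,8,0,1,2,3,4,5,6,8,0,1,2,3,4,5,6,8,0,1,2,3,4,5,6,8,0,1,2,3,4,5,6,8,0,1,2,3,4,5,6,8,0,1,2,3,4,5,6,8,0,1,2,3,4,5,6,8,9,0,8,6,8,0,9,8,6,5,4,3,2,1,0,8,6,5,4,3,2,1,0,8,6,5,4,3,2,1,0,8,6,5,4,3,2,1,0,8,6,5,4,3,2,1,0,8,6,5,4,3,2,1,0,8,6,5,4,3,2,1,0,8,6,5,4,3,2,1,0,8,6,5,4,3,2,1,0,8,6,5,4,3,2,1,0,8,6,5,4,3,2,1,0,8,6,5,4,3,2,1,0,8,6,5,4,3,2,1,0,8,6,5,4,3,2,1,0,8,6,5,4,3,2,1,0,8,3,2,4,6,1,5,0,3,2,4,6,1,5,0,3,2,4,6,1,5,0,3,2,4,6,1,5,0,3,2,4,6,1,5,0,3,2,4,6,1,5,0,3,2,4,6,1,5,0,3,2,4,6,1,5,0,3,2,4,6,1,5,0,9,8,9,0,8,6]]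 (by decide +kernel) (by decide +kernel) (by decide +kernel)

theorem der_Y5_5 : Der.{u} R_Y532 [[9,0,10,9,10,0,5,1,7,4,2,3,0,5,1,7,4,2,3,0,5,1,7,4,2,3,0,5,1,7,4,2,3,0,5,1,7,4,2,3,0,5,1,7,4,2,3,0,5,1,7,4,2,3,0,5,1,7,4,2,3,0,5,1,7,4,2,3,9,0,1,2,3,4,5,7,9,0,1,2,3,4,5,7,9,0,1,2,3,4,5,7,9,0,1,2,3,4,5,7,9,0,1,2,3,4,5,7,9,0,1,2,3,4,5,7,9,0,1,2,3,4,5,7,9,0,1,2,3,4,5,7,9,0,1,2,3,4,5,7,9,0,1,2,3,4,5,7,9,0,1,2,3,4,5,7,9,0,1,2,3,4,5,7,9,0,1,2,3,4,5,7,9,0,1,2,3,4,5,7,9,0,1,2,3,4,5,7,9,10,0,9,8,9,0,10,9,7,5,4,3,2,1,0,9,7,5,4,3,2,1,0,9,7,5,4,3,2,1,0,9,7,5,4,3,2,1,0,9,7,5,4,3,2,1,0,9,7,5,4,3,2,1,0,9,7,5,4,3,2,1,0,9,7,5,4,3,2,1,0,9,7,5,4,3,2,1,0,9,7,5,4,3,2,1,0,9,7,5,4,3,2,1,0,9,7,5,4,3,2,1,0,9,7,5,4,3,2,1,0,9,7,5,4,3,2,1,0,9,7,5,4,3,2,1,0,9,3,2,4,7,1,5,0,3,2,4,7,1,5,0,3,2,4,7,1,5,0,3,2,4,7,1,5,0,3,2,4,7,1,5,0,3,2,4,7,1,5,0,3,2,4,7,1,5,0,3,2,4,7,1,5,0,3,2,4,7,1,5,0,10,9,10,0,9,8]]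 :=
  orc_YP.rels ok_YP imp_Y532_YP_7116 [[8,0,9,8,9,0,5,1,6,4,2,3,0,5,1,6,4,2,3,0,5,1,6,4,2,3,0,5,1,6,4,2,3,0,5,1,6,4,2,3,0,5,1,6,4,2,3,0,5,1,6,4,2,3,0,5,1,6,4,2,3,0,5,1,6,4,2,3,8,0,1,2,3,4,5,6,8,0,1,2,3,4,5,6,8,0,1,2,3,4,5,6,8,0,1,2,3,4,5,6,8,0,1,2,3,4,5,6,8,0,1,2,3,4,5,6,8,0,1,2,3,4,5,6,8,0,1,2,3,4,5,6,8,0,1,2,3,4,5,6,8,0,1,2,3,4,5,6,8,0,1,2,3,4,5,6,8,0,1,2,3,4,5,6,8,0,1,2,3,4,5,6,8,0,1,2,3,4,5,6,8,0,1,2,3,4,5,6,8,9,0,8,7,8,0,9,8,6,5,4,3,2,1,0,8,6,5,4,3,2,1,0,8,6,5,4,3,2,1,0,8,6,5,4,3,2,1,0,8,6,5,4,3,2,1,0,8,6,5,4,3,2,1,0,8,6,5,4,3,2,1,0,8,6,5,4,3,2,1,0,8,6,5,4,3,2,1,0,8,6,5,4,3,2,1,0,8,6,5,4,3,2,1,0,8,6,5,4,3,2,1,0,8,6,5,4,3,2,1,0,8,6,5,4,3,2,1,0,8,6,5,4,3,2,1,0,8,3,2,4,6,1,5,0,3,2,4,6,1,5,0,3,2,4,6,1,5,0,3,2,4,6,1,5,0,3,2,4,6,1,5,0,3,2,4,6,1,5,0,3,2,4,6,1,5,0,3,2,4,6,1,5,0,3,2,4,6,1,5,0,9,8,9,0,8,7]]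 (by decide +kernel) (by decide +kernel) (by decide +kernel)

theorem der_Y5_6 : Der.{u} R_Y532 [[9,0,10,9,10,0,5,1,7,4,2,3,0,5,1,7,4,2,3,0,5,1,7,4,2,3,0,5,1,7,4,2,3,0,5,1,7,4,2,3,0,5,1,7,4,2,3,0,5,1,7,4,2,3,0,5,1,7,4,2,3,0,5,1,7,4,2,3,9,0,1,2,3,4,5,7,9,0,1,2,3,4,5,7,9,0,1,2,3,4,5,7,9,0,1,2,3,4,5,7,9,0,1,2,3,4,5,7,9,0,1,2,3,4,5,7,9,0,1,2,3,4,5,7,9,0,1,2,3,4,5,7,9,0,1,2,3,4,5,7,9,0,1,2,3,4,5,7,9,0,1,2,3,4,5,7,9,0,1,2,3,4,5,7,9,0,1,2,3,4,5,7,9,0,1,2,3,4,5,7,9,0,1,2,3,4,5,7,9,10,0,9,1,2,3,4,7,0,1,2,3,4,7,0,1,2,3,4,7,0,1,2,3,4,7,0,1,2,3,4,7,9,0,10,9,7,5,4,3,2,1,0,9,7,5,4,3,2,1,0,9,7,5,4,3,2,1,0,9,7,5,4,3,2,1,0,9,7,5,4,3,2,1,0,9,7,5,4,3,2,1,0,9,7,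5,4,3,2,1,0,9,7,5,4,3,2,1,0,9,7,5,4,3,2,1,0,9,7,5,4,3,2,1,0,9,7,5,4,3,2,1,0,9,7,5,4,3,2,1,0,9,7,5,4,3,2,1,0,9,7,5,4,3,2,1,0,9,7,5,4,3,2,1,0,9,3,2,4,7,1,5,0,3,2,4,7,1,5,0,3,2,4,7,1,5,0,3,2,4,7,1,5,0,3,2,4,7,1,5,0,3,2,4,7,1,5,0,3,2,4,7,1,5,0,3,2,4,7,1,5,0,3,2,4,7,1,5,0,10,9,10,0,9,7,4,3,2,1,0,7,4,3,2,1,0,7,4,3,2,1,0,7,4,3,2,1,0,7,4,3,2,1]] :=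
  orc_YP.rels ok_YP imp_Y532_YP_7116 [[8,0,9,8,9,0,5,1,6,4,2,3,0,5,1,6,4,2,3,0,5,1,6,4,2,3,0,5,1,6,4,2,3,0,5,1,6,4,2,3,0,5,1,6,4,2,3,0,5,1,6,4,2,3,0,5,1,6,4,2,3,0,5,1,6,4,2,3,8,0,1,2,3,4,5,6,8,0,1,2,3,4,5,6,8,0,1,2,3,4,5,6,8,0,1,2,3,4,5,6,8,0,1,2,3,4,5,6,8,0,1,2,3,4,5,6,8,0,1,2,3,4,5,6,8,0,1,2,3,4,5,6,8,0,1,2,3,4,5,6,8,0,1,2,3,4,5,6,8,0,1,2,3,4,5,6,8,0,1,2,3,4,5,6,8,0,1,2,3,4,5,6,8,0,1,2,3,4,5,6,8,0,1,2,3,4,5,6,8,9,0,8,1,2,3,4,6,0,1,2,3,4,6,0,1,2,3,4,6,0,1,2,3,4,6,0,1,2,3,4,6,8,0,9,8,6,5,4,3,2,1,0,8,6,5,4,3,2,1,0,8,6,5,4,3,2,1,0,8,6,5,4,3,2,1,0,8,6,5,4,3,2,1,0,8,6,5,4,3,2,1,0,8,6,5,4,3,2,1,0,8,6,5,4,3,2,1,0,8,6,5,4,3,2,1,0,8,6,5,4,3,2,1,0,8,6,5,4,3,2,1,0,8,6,5,4,3,2,1,0,8,6,5,4,3,2,1,0,8,6,5,4,3,2,1,0,8,6,5,4,3,2,1,0,8,3,2,4,6,1,5,0,3,2,4,6,1,5,0,3,2,4,6,1,5,0,3,2,4,6,1,5,0,3,2,4,6,1,5,0,3,2,4,6,1,5,0,3,2,4,6,1,5,0,3,2,4,6,1,5,0,3,2,4,6,1,5,0,9,8,9,0,8,6,4,3,2,1,0,6,4,3,2,1,0,6,4,3,2,1,0,6,4,3,2,1,0,6,4,3,2,1]]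 (by decide +kernel) (by decide +kernel) (by decide +kernel)

theorem der_Y5_7 : Der.{u} R_Y532 [[9,0,10,9,10,0,5,1,7,4,2,3,0,5,1,7,4,2,3,0,5,1,7,4,2,3,0,5,1,7,4,2,3,0,5,1,7,4,2,3,0,5,1,7,4,2,3,0,5,1,7,4,2,3,0,5,1,7,4,2,3,0,5,1,7,4,2,3,9,0,1,2,3,4,5,7,9,0,1,2,3,4,5,7,9,0,1,2,3,4,5,7,9,0,1,2,3,4,5,7,9,0,1,2,3,4,5,7,9,0,1,2,3,4,5,7,9,0,1,2,3,4,5,7,9,0,1,2,3,4,5,7,9,0,1,2,3,4,5,7,9,0,1,2,3,4,5,7,9,0,1,2,3,4,5,7,9,0,1,2,3,4,5,7,9,0,1,2,3,4,5,7,9,0,1,2,3,4,5,7,9,0,1,2,3,4,5,7,9,10,0,9,9,0,10,9,10,0,5,1,7,4,2,3,0,5,1,7,4,2,3,0,5,1,7,4,2,3,0,5,1,7,4,2,3,0,5,1,7,4,2,3,0,5,1,7,4,2,3,0,5,1,7,4,2,3,0,5,1,7,4,2,3,0,5,1,7,4,2,3,9,0,1,2,3,4,5,7,9,0,1,2,3,4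,5,7,9,0,1,2,3,4,5,7,9,0,1,2,3,4,5,7,9,0,1,2,3,4,5,7,9,0,1,2,3,4,5,7,9,0,1,2,3,4,5,7,9,0,1,2,3,4,5,7,9,0,1,2,3,4,5,7,9,0,1,2,3,4,5,7,9,0,1,2,3,4,5,7,9,0,1,2,3,4,5,7,9,0,1,2,3,4,5,7,9,0,1,2,3,4,5,7,9,0,1,2,3,4,5,7,9,10,0,9,9,0,10,9,10,0,5,1,7,4,2,3,0,5,1,7,4,2,3,0,5,1,7,4,2,3,0,5,1,7,4,2,3,0,5,1,7,4,2,3,0,5,1,7,4,2,3,0,5,1,7,4,2,3,0,5,1,7,4,2,3,0,5,1,7,4,2,3,9,0,1,2,3,4,5,7,9,0,1,2,3,4,5,7,9,0,1,2,3,4,5,7,9,0,1,2,3,4,5,7,9,0,1,2,3,4,5,7,9,0,1,2,3,4,5,7,9,0,1,2,3,4,5,7,9,0,1,2,3,4,5,7,9,0,1,2,3,4,5,7,9,0,1,2,3,4,5,7,9,0,1,2,3,4,5,7,9,0,1,2,3,4,5,7,9,0,1,2,3,4,5,7,9,0,1,2,3,4,5,7,9,0,1,2,3,4,5,7,9,10,0,9]] :=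
  orc_YP.rels ok_YP imp_Y532_YP_7116 [[8,0,9,8,9,0,5,1,6,4,2,3,0,5,1,6,4,2,3,0,5,1,6,4,2,3,0,5,1,6,4,2,3,0,5,1,6,4,2,3,0,5,1,6,4,2,3,0,5,1,6,4,2,3,0,5,1,6,4,2,3,0,5,1,6,4,2,3,8,0,1,2,3,4,5,6,8,0,1,2,3,4,5,6,8,0,1,2,3,4,5,6,8,0,1,2,3,4,5,6,8,0,1,2,3,4,5,6,8,0,1,2,3,4,5,6,8,0,1,2,3,4,5,6,8,0,1,2,3,4,5,6,8,0,1,2,3,4,5,6,8,0,1,2,3,4,5,6,8,0,1,2,3,4,5,6,8,0,1,2,3,4,5,6,8,0,1,2,3,4,5,6,8,0,1,2,3,4,5,6,8,0,1,2,3,4,5,6,8,9,0,8,8,0,9,8,9,0,5,1,6,4,2,3,0,5,1,6,4,2,3,0,5,1,6,4,2,3,0,5,1,6,4,2,3,0,5,1,6,4,2,3,0,5,1,6,4,2,3,0,5,1,6,4,2,3,0,5,1,6,4,2,3,0,5,1,6,4,2,3,8,0,1,2,3,4,5,6,8,0,1,2,3,4,5,6,8,0,1,2,3,4,5,6,8,0,1,2,3,4,5,6,8,0,1,2,3,4,5,6,8,0,1,2,3,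4,5,6,8,0,1,2,3,4,5,6,8,0,1,2,3,4,5,6,8,0,1,2,3,4,5,6,8,0,1,2,3,4,5,6,8,0,1,2,3,4,5,6,8,0,1,2,3,4,5,6,8,0,1,2,3,4,5,6,8,0,1,2,3,4,5,6,8,0,1,2,3,4,5,6,8,9,0,8,8,0,9,8,9,0,5,1,6,4,2,3,0,5,1,6,4,2,3,0,5,1,6,4,2,3,0,5,1,6,4,2,3,0,5,1,6,4,2,3,0,5,1,6,4,2,3,0,5,1,6,4,2,3,0,5,1,6,4,2,3,0,5,1,6,4,2,3,8,0,1,2,3,4,5,6,8,0,1,2,3,4,5,6,8,0,1,2,3,4,5,6,8,0,1,2,3,4,5,6,8,0,1,2,3,4,5,6,8,0,1,2,3,4,5,6,8,0,1,2,3,4,5,6,8,0,1,2,3,4,5,6,8,0,1,2,3,4,5,6,8,0,1,2,3,4,5,6,8,0,1,2,3,4,5,6,8,0,1,2,3,4,5,6,8,0,1,2,3,4,5,6,8,0,1,2,3,4,5,6,8,0,1,2,3,4,5,6,8,9,0,8]] (by decide +kernel) (by decide +kernel) (by decide +kernel)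

theorem der_Y5_8 : Der.{u} R_Y532 [[0,9,0,10,9,10,0,5,1,7,4,2,3,0,5,1,7,4,2,3,0,5,1,7,4,2,3,0,5,1,7,4,2,3,0,5,1,7,4,2,3,0,5,1,7,4,2,3,0,5,1,7,4,2,3,0,5,1,7,4,2,3,0,5,1,7,4,2,3,9,0,1,2,3,4,5,7,9,0,1,2,3,4,5,7,9,0,1,2,3,4,5,7,9,0,1,2,3,4,5,7,9,0,1,2,3,4,5,7,9,0,1,2,3,4,5,7,9,0,1,2,3,4,5,7,9,0,1,2,3,4,5,7,9,0,1,2,3,4,5,7,9,0,1,2,3,4,5,7,9,0,1,2,3,4,5,7,9,0,1,2,3,4,5,7,9,0,1,2,3,4,5,7,9,0,1,2,3,4,5,7,9,0,1,2,3,4,5,7,9,10,0,9,0,9,0,10,9,10,0,5,1,7,4,2,3,0,5,1,7,4,2,3,0,5,1,7,4,2,3,0,5,1,7,4,2,3,0,5,1,7,4,2,3,0,5,1,7,4,2,3,0,5,1,7,4,2,3,0,5,1,7,4,2,3,0,5,1,7,4,2,3,9,0,1,2,3,4,5,7,9,0,1,2,3,4,5,7,9,0,1,2,3,4,5,7,9,0,1,2,3,4,5,7,9,0,1,2,3,4,5,7,9,0,1,2,3,4,5,7,9,0,1,2,3,4,5,7,9,0,1,2,3,4,5,7,9,0,1,2,3,4,5,7,9,0,1,2,3,4,5,7,9,0,1,2,3,4,5,7,9,0,1,2,3,4,5,7,9,0,1,2,3,4,5,7,9,0,1,2,3,4,5,7,9,0,1,2,3,4,5,7,9,10,0,9]]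 :=
  orc_YP.rels ok_YP imp_Y532_YP_7116 [[0,8,0,9,8,9,0,5,1,6,4,2,3,0,5,1,6,4,2,3,0,5,1,6,4,2,3,0,5,1,6,4,2,3,0,5,1,6,4,2,3,0,5,1,6,4,2,3,0,5,1,6,4,2,3,0,5,1,6,4,2,3,0,5,1,6,4,2,3,8,0,1,2,3,4,5,6,8,0,1,2,3,4,5,6,8,0,1,2,3,4,5,6,8,0,1,2,3,4,5,6,8,0,1,2,3,4,5,6,8,0,1,2,3,4,5,6,8,0,1,2,3,4,5,6,8,0,1,2,3,4,5,6,8,0,1,2,3,4,5,6,8,0,1,2,3,4,5,6,8,0,1,2,3,4,5,6,8,0,1,2,3,4,5,6,8,0,1,2,3,4,5,6,8,0,1,2,3,4,5,6,8,0,1,2,3,4,5,6,8,9,0,8,0,8,0,9,8,9,0,5,1,6,4,2,3,0,5,1,6,4,2,3,0,5,1,6,4,2,3,0,5,1,6,4,2,3,0,5,1,6,4,2,3,0,5,1,6,4,2,3,0,5,1,6,4,2,3,0,5,1,6,4,2,3,0,5,1,6,4,2,3,8,0,1,2,3,4,5,6,8,0,1,2,3,4,5,6,8,0,1,2,3,4,5,6,8,0,1,2,3,4,5,6,8,0,1,2,3,4,5,6,8,0,1,2,3,4,5,6,8,0,1,2,3,4,5,6,8,0,1,2,3,4,5,6,8,0,1,2,3,4,5,6,8,0,1,2,3,4,5,6,8,0,1,2,3,4,5,6,8,0,1,2,3,4,5,6,8,0,1,2,3,4,5,6,8,0,1,2,3,4,5,6,8,0,1,2,3,4,5,6,8,9,0,8]]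 (by decide +kernel) (by decide +kernel) (by decide +kernel)

theorem lb_7117 : LB V_72 [[0],[1],[2],[3],[4],[5],[6],[7],[8]] [1,2,8002,18086,71,75,3,31671,7,5] 258247006617600 :=
  (LB.of_chain (kp := 12) V_72_ok (by decide +kernel) [(1,12,[[0],[1],[2],[3],[4],[5],[6],[7],[8]]),(2,9,[[0],[1],[2],[3],[4],[5],[7],[8]]),(8002,4,[[0],[1],[2],[3],[4],[7],[8]]),(18086,3,[[0],[1],[2],[4],[7],[8],[3,2,4,3,7,3,4,2,3]]),(71,2,[[0],[2],[4],[7],[8],[3,2,4,3,7,3,4,2,3],[1,0,2,1,3,2,4,3,7,3,4,2,3,1,2,0,1]]),(75,1,[[2],[7],[8],[3,2,4,3,7,3,4,2,3],[0,1,0,2,1,3,2,4,3,7,3,4,2,3,1,2,0,1,8,3,2,4,3,7,3,4,2,3,7,8,1,0,2,1,3,2,4,3,7,3,4,2,3,1,2,0,1,4]]),(3,1,[[7],[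8],[3,2,4,3,7,3,4,2,3],[2,0,1,0,2,1,3,2,4,3,7,3,4,2,3,1,2,0,1,8,3,2,4,3,7,3,4,2,3,7,8,1,0,2,1,3,2,4,3,7,3,4,2,3,1,2,0,1,4]]),(31671,1,[[7],[8],[3,2,4,3,7,3,4,2,3,8,7,2,0,1,0,2,1,3,2,4,3,7,3,4,2,3,1,2,0,1,8,3,2,4,3,7,3,4,2,3,7,8,1,0,2,1,3,2,4,3,7,3,4,2,3,1,2,0,1,4]]),(7,1,[[7,8],[3,2,4,3,7,3,4,2,3,8,7,2,0,1,0,2,1,3,2,4,3,7,3,4,2,3,1,2,0,1,8,3,2,4,3,7,3,4,2,3,7,8,1,0,2,1,3,2,4,3,7,3,4,2,3,1,2,0,1,4]]),(5,1,[[3,2,4,3,7,3,4,2,3,8,7,2,0,1,0,2,1,3,2,4,3,7,3,4,2,3,1,2,0,1,8,3,2,4,3,7,3,4,2,3,7,8,1,0,2,1,3,2,4,3,7,3,4,2,3,1,2,0,1,4]])] (by decide +kernel)).cat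
    (V_72_rels.inv inv_YC) (by decide +kernel) (c := [[0],[2],[4],[6],[8],[10],[12],[14],[16],[0],[2],[4],[6],[8],[10],[14],[16],[0],[2],[4],[6],[8],[14],[16],[0],[2],[4],[8],[14],[16],[6,4,8,6,14,6,8,4,6],[0],[4],[8],[14],[16],[6,4,8,6,14,6,8,4,6],[2,0,4,2,6,4,8,6,14,6,8,4,6,2,4,0,2],[4],[14],[16],[6,4,8,6,14,6,8,4,6],[0,2,0,4,2,6,4,8,6,14,6,8,4,6,2,4,0,2,16,6,4,8,6,14,6,8,4,6,14,16,2,0,4,2,6,4,8,6,14,6,8,4,6,2,4,0,2,8],[14],[16],[6,4,8,6,14,6,8,4,6],[4,0,2,0,4,2,6,4,8,6,14,6,8,4,6,2,4,0,2,16,6,4,8,6,14,6,8,4,6,14,16,2,0,4,2,6,4,8,6,14,6,8,4,6,2,4,0,2,8],[14],[16],[6,4,8,6,14,6,8,4,6,16,14,4,0,2,0,4,2,6,4,8,6,14,6,8,4,6,2,4,0,2,16,6,4,8,6,14,6,8,4,6,14,16,2,0,4,2,6,4,8,6,14,6,8,4,6,2,4,0,2,8],[14,16],[6,4,8,6,14,6,8,4,6,16,14,4,0,2,0,4,2,6,4,8,6,14,6,8,4,6,2,4,0,2,16,6,4,8,6,14,6,8,4,6,14,16,2,0,4,2,6,4,8,6,14,6,8,4,6,2,4,0,2,8],[6,4,8,6,14,6,8,4,6,16,14,4,0,2,0,4,2,6,4,8,6,14,6,8,4,6,2,4,0,2,16,6,4,8,6,14,6,8,4,6,14,16,2,0,4,2,6,4,8,6,14,6,8,4,6,2,4,0,2,8]])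 (by decide +kernel)

theorem orc_YC5 : Orc.{u} R_YC [0,1,2,3,4,5,6,7,8] V_72 [1,2,8002,18086,71,75,3,31671,7,5] := ub_YC.oracle V_72_rels lb_7117

theorem imp_Y532_YC_7118c : impCert R_Y532 [0,1,2,3,4,5,6,7,8] R_YC [(0,0),(1,0),(2,0),(3,0),(4,0),(5,0),(6,0),(7,0),(8,0),(30,0),(31,0),(32,0),(33,0),(34,0),(35,0),(36,0),(37,0),(38,0),(39,0),(40,0),(41,0),(42,0),(43,0),(44,0),(45,0),(46,0),(47,0),(48,0),(49,0),(50,0),(51,0),(52,0),(53,0),(54,0),(55,0),(56,0),(57,0),(58,0),(59,0),(60,0),(61,0),(62,0),(63,0),(64,0),(65,0),(66,0),(67,0)] = true := by decide +kernel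
theorem imp_Y532_YC_7118 : Imp.{u} R_Y532 [0,1,2,3,4,5,6,7,8] R_YC := Imp.of_cert imp_Y532_YC_7118c

theorem der_Y5c_0 : Der.{u} R_Y532 [[0,5,1,7,4,2,3,0,5,1,7,4,2,3,0,5,1,7,4,2,3,0,5,1,7,4,2,3,0,5,1,7,4,2,3,0,5,1,7,4,2,3,0,5,1,7,4,2,3,0,5,1,7,4,2,3,0,5,1,7,4,2,3,6,3,2,4,7,1,5,0,3,2,4,7,1,5,0,3,2,4,7,1,5,0,3,2,4,7,1,5,0,3,2,4,7,1,5,0,3,2,4,7,1,5,0,3,2,4,7,1,5,0,3,2,4,7,1,5,0,3,2,4,7,1,5,0,6]] :=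
  orc_YC5.rels V_72_ok imp_Y532_YC_7118 [[0,5,1,7,4,2,3,0,5,1,7,4,2,3,0,5,1,7,4,2,3,0,5,1,7,4,2,3,0,5,1,7,4,2,3,0,5,1,7,4,2,3,0,5,1,7,4,2,3,0,5,1,7,4,2,3,0,5,1,7,4,2,3,6,3,2,4,7,1,5,0,3,2,4,7,1,5,0,3,2,4,7,1,5,0,3,2,4,7,1,5,0,3,2,4,7,1,5,0,3,2,4,7,1,5,0,3,2,4,7,1,5,0,3,2,4,7,1,5,0,3,2,4,7,1,5,0,6]] (by decide +kernel) (by decide +kernel) (by decide +kernel)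

end H7.T
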