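import Cfsg.Agent.H7.T.Y5_1
set_option Elab.async false
set_option maxRecDepth 100000
set_option maxHeartbeats 0
namespace H7.T
universe u v

theorem der_Y5c_1 : Der.{u} R_Y532 [[1,2,3,4,7,0,1,2,3,4,7,0,1,2,3,4,7,0,1,2,3,4,7,0,1,2,3,4,7,4,3,7,8,4,5,2,6,1,2,3,4,7,0,1,2,3,4,7,0,1,2,3,4,7,0,1,2,3,4,7,0,1,2,3,4,7,4,3,7,8,4,5,2,6,1,2,3,4,7,0,1,2,3,4,7,0,1,2,3,4,7,0,1,2,3,4,7,0,1,2,3,4,7,4,3,7,8,4,5,2,6,1,2,3,4,7,0,1,2,3,4,7,0,1,2,3,4,7,0,1,2,3,4,7,0,1,2,3,4,7,4,3,7,8,4,5,2,6,1,2,3,4,7,0,1,2,3,4,7,0,1,2,3,4,7,0,1,2,3,4,7,0,1,2,3,4,7,4,3,7,8,4,5,2,6,1,2,3,4,7,0,1,2,3,4,7,0,1,2,3,4,7,0,1,2,3,4,7,0,1,2,3,4,7,4,3,7,8,4,5,2,6,1,2,3,4,7,0,1,2,3,4,7,0,1,2,3,4,7,0,1,2,3,4,7,0,1,2,3,4,7,4,3,7,8,4,5,2,6,1,2,3,4,7,0,1,2,3,4,7,0,1,2,3,4,7,0,1,2,3,4,7,0,1,2,3,4,7,4,3,7,8,4,5,2,6,1,2,3,4,7,0,1,2,3,4,7,0,1,2,3,4,7,0,1,2,3,4,7,0,1,2,3,4,7,4,3,7,8,4,5,2,6,0]]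 :=
  orc_YC5.rels V_72_ok imp_Y532_YC_7118 [[1,2,3,4,7,0,1,2,3,4,7,0,1,2,3,4,7,0,1,2,3,4,7,0,1,2,3,4,7,4,3,7,8,4,5,2,6,1,2,3,4,7,0,1,2,3,4,7,0,1,2,3,4,7,0,1,2,3,4,7,0,1,2,3,4,7,4,3,7,8,4,5,2,6,1,2,3,4,7,0,1,2,3,4,7,0,1,2,3,4,7,0,1,2,3,4,7,0,1,2,3,4,7,4,3,7,8,4,5,2,6,1,2,3,4,7,0,1,2,3,4,7,0,1,2,3,4,7,0,1,2,3,4,7,0,1,2,3,4,7,4,3,7,8,4,5,2,6,1,2,3,4,7,0,1,2,3,4,7,0,1,2,3,4,7,0,1,2,3,4,7,0,1,2,3,4,7,4,3,7,8,4,5,2,6,1,2,3,4,7,0,1,2,3,4,7,0,1,2,3,4,7,0,1,2,3,4,7,0,1,2,3,4,7,4,3,7,8,4,5,2,6,1,2,3,4,7,0,1,2,3,4,7,0,1,2,3,4,7,0,1,2,3,4,7,0,1,2,3,4,7,4,3,7,8,4,5,2,6,1,2,3,4,7,0,1,2,3,4,7,0,1,2,3,4,7,0,1,2,3,4,7,0,1,2,3,4,7,4,3,7,8,4,5,2,6,1,2,3,4,7,0,1,2,3,4,7,0,1,2,3,4,7,0,1,2,3,4,7,0,1,2,3,4,7,4,3,7,8,4,5,2,6,0]] (by decide +kernel) (by decide +kernel) (by decide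 +kernel)

theorem lb_7119_10 : LB N_YD [[3,2,4,3,7,3,4,2,3,8,7,2,0,1,0,2,1,3,2,4,3,7,3,4,2,3,1,2,0,1,8,3,2,4,3,7,3,4,2,3,7,8,1,0,2,1,3,2,4,3,7,3,4,2,3,1,2,0,1,4]] [5] (2 * 1) :=
  LB.step (kp := 12) (W1 := [[3,2,4,3,7,3,4,2,3,8,7,2,0,1,0,2,1,3,2,4,3,7,3,4,2,3,1,2,0,1,8,3,2,4,3,7,3,4,2,3,7,8,1,0,2,1,3,2,4,3,7,3,4,2,3,1,2,0,1,4]]) (r := 1) ok_YD (by decide +kernel) (LB.nil _) (by decide +kernel) (by decide +kernel) (by decide +kernel) (by decide +kernel)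

theorem lb_7119_9 : LB N_YD [[7,8],[3,2,4,3,7,3,4,2,3,8,7,2,0,1,0,2,1,3,2,4,3,7,3,4,2,3,1,2,0,1,8,3,2,4,3,7,3,4,2,3,7,8,1,0,2,1,3,2,4,3,7,3,4,2,3,1,2,0,1,4]] [7,5] (3 * 2) :=
  LB.step (kp := 12) (W1 := [[7,8],[3,2,4,3,7,3,4,2,3,8,7,2,0,1,0,2,1,3,2,4,3,7,3,4,2,3,1,2,0,1,8,3,2,4,3,7,3,4,2,3,7,8,1,0,2,1,3,2,4,3,7,3,4,2,3,1,2,0,1,4]]) (r := 1) ok_YD (by decide +kernel) (show LB _ _ _ 2 from lb_7119_10) (by decide +kernel) (by decide +kernel) (by decide +kernel) (by decide +kernel)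

theorem lb_7119_8 : LB N_YD [[7],[8],[3,2,4,3,7,3,4,2,3,8,7,2,0,1,0,2,1,3,2,4,3,7,3,4,2,3,1,2,0,1,8,3,2,4,3,7,3,4,2,3,7,8,1,0,2,1,3,2,4,3,7,3,4,2,3,1,2,0,1,4],[7,8]] [31671,7,5] (2 * 6) :=
  LB.step (kp := 12) (W1 := [[7],[8],[3,2,4,3,7,3,4,2,3,8,7,2,0,1,0,2,1,3,2,4,3,7,3,4,2,3,1,2,0,1,8,3,2,4,3,7,3,4,2,3,7,8,1,0,2,1,3,2,4,3,7,3,4,2,3,1,2,0,1,4]]) (r := 1) ok_YD (by decide +kernel) (show LB _ _ _ 6 from lb_7119_9) (by decide +kernel) (by decide +kernel) (by decide +kernel) (by decide +kernel)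

theorem lb_7119_7 : LB N_YD [[7],[8],[3,2,4,3,7,3,4,2,3],[2,0,1,0,2,1,3,2,4,3,7,3,4,2,3,1,2,0,1,8,3,2,4,3,7,3,4,2,3,7,8,1,0,2,1,3,2,4,3,7,3,4,2,3,1,2,0,1,4],[3,2,4,3,7,3,4,2,3,8,7,2,0,1,0,2,1,3,2,4,3,7,3,4,2,3,1,2,0,1,8,3,2,4,3,7,3,4,2,3,7,8,1,0,2,1,3,2,4,3,7,3,4,2,3,1,2,0,1,4],[7,8]] [3,31671,7,5] (4 * 12) :=
  LB.step (kp := 12) (W1 := [[7],[8],[3,2,4,3,7,3,4,2,3],[2,0,1,0,2,1,3,2,4,3,7,3,4,2,3,1,2,0,1,8,3,2,4,3,7,3,4,2,3,7,8,1,0,2,1,3,2,4,3,7,3,4,2,3,1,2,0,1,4]]) (r := 1) ok_YD (by decide +kernel) (show LB _ _ _ 12 from lb_7119_8) (by decide +kernel) (by decide +kernel) (by decide +kernel) (by decide +kernel)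

theorem lb_7119_6 : LB N_YD [[2],[7],[8],[3,2,4,3,7,3,4,2,3],[0,1,0,2,1,3,2,4,3,7,3,4,2,3,1,2,0,1,8,3,2,4,3,7,3,4,2,3,7,8,1,0,2,1,3,2,4,3,7,3,4,2,3,1,2,0,1,4],[2,0,1,0,2,1,3,2,4,3,7,3,4,2,3,1,2,0,1,8,3,2,4,3,7,3,4,2,3,7,8,1,0,2,1,3,2,4,3,7,3,4,2,3,1,2,0,1,4],[3,2,4,3,7,3,4,2,3,8,7,2,0,1,0,2,1,3,2,4,3,7,3,4,2,3,1,2,0,1,8,3,2,4,3,7,3,4,2,3,7,8,1,0,2,1,3,2,4,3,7,3,4,2,3,1,2,0,1,4],[7,8]] [75,3,31671,7,5] (2 * 48) :=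
  LB.step (kp := 12) (W1 := [[2],[7],[8],[3,2,4,3,7,3,4,2,3],[0,1,0,2,1,3,2,4,3,7,3,4,2,3,1,2,0,1,8,3,2,4,3,7,3,4,2,3,7,8,1,0,2,1,3,2,4,3,7,3,4,2,3,1,2,0,1,4]]) (r := 1) ok_YD (by decide +kernel) (show LB _ _ _ 48 from lb_7119_7) (by decide +kernel) (by decide +kernel) (by decide +kernel) (by decide +kernel)

theorem lb_7119_5 : LB N_YD [[0],[2],[4],[7],[8],[3,2,4,3,7,3,4,2,3],[1,0,2,1,3,2,4,3,7,3,4,2,3,1,2,0,1],[0,1,0,2,1,3,2,4,3,7,3,4,2,3,1,2,0,1,8,3,2,4,3,7,3,4,2,3,7,8,1,0,2,1,3,2,4,3,7,3,4,2,3,1,2,0,1,4],[2,0,1,0,2,1,3,2,4,3,7,3,4,2,3,1,2,0,1,8,3,2,4,3,7,3,4,2,3,7,8,1,0,2,1,3,2,4,3,7,3,4,2,3,1,2,0,1,4],[3,2,4,3,7,3,4,2,3,8,7,2,0,1,0,2,1,3,2,4,3,7,3,4,2,3,1,2,0,1,8,3,2,4,3,7,3,4,2,3,7,8,1,0,2,1,3,2,4,3,7,3,4,2,3,1,2,0,1,4],[7,8]] [71,75,3,31671,7,5]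 (16 * 96) :=
  LB.step (kp := 12) (W1 := [[0],[2],[4],[7],[8],[3,2,4,3,7,3,4,2,3],[1,0,2,1,3,2,4,3,7,3,4,2,3,1,2,0,1]]) (r := 2) ok_YD (by decide +kernel) (show LB _ _ _ 96 from lb_7119_6) (by decide +kernel) (by decide +kernel) (by decide +kernel) (by decide +kernel)

theorem lb_7119_4 : LB N_YD [[0],[1],[2],[4],[7],[8],[3,2,4,3,7,3,4,2,3],[1,0,2,1,3,2,4,3,7,3,4,2,3,1,2,0,1],[0,1,0,2,1,3,2,4,3,7,3,4,2,3,1,2,0,1,8,3,2,4,3,7,3,4,2,3,7,8,1,0,2,1,3,2,4,3,7,3,4,2,3,1,2,0,1,4],[2,0,1,0,2,1,3,2,4,3,7,3,4,2,3,1,2,0,1,8,3,2,4,3,7,3,4,2,3,7,8,1,0,2,1,3,2,4,3,7,3,4,2,3,1,2,0,1,4],[3,2,4,3,7,3,4,2,3,8,7,2,0,1,0,2,1,3,2,4,3,7,3,4,2,3,1,2,0,1,8,3,2,4,3,7,3,4,2,3,7,8,1,0,2,1,3,2,4,3,7,3,4,2,3,1,2,0,1,4],[7,8]] [18086,71,75,3,31671,7,5] (30 * 1536) :=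
  LB.step (kp := 12) (W1 := [[0],[1],[2],[4],[7],[8],[3,2,4,3,7,3,4,2,3]]) (r := 3) ok_YD (by decide +kernel) (show LB _ _ _ 1536 from lb_7119_5) (by decide +kernel) (by decide +kernel) (by decide +kernel) (by decide +kernel)

theorem lb_7119_3 : LB N_YD [[0],[1],[2],[3],[4],[7],[8],[3,2,4,3,7,3,4,2,3],[1,0,2,1,3,2,4,3,7,3,4,2,3,1,2,0,1],[0,1,0,2,1,3,2,4,3,7,3,4,2,3,1,2,0,1,8,3,2,4,3,7,3,4,2,3,7,8,1,0,2,1,3,2,4,3,7,3,4,2,3,1,2,0,1,4],[2,0,1,0,2,1,3,2,4,3,7,3,4,2,3,1,2,0,1,8,3,2,4,3,7,3,4,2,3,7,8,1,0,2,1,3,2,4,3,7,3,4,2,3,1,2,0,1,4],[3,2,4,3,7,3,4,2,3,8,7,2,0,1,0,2,1,3,2,4,3,7,3,4,2,3,1,2,0,1,8,3,2,4,3,7,3,4,2,3,7,8,1,0,2,1,3,2,4,3,7,3,4,2,3,1,2,0,1,4],[7,8]] [8002,18086,71,75,3,31671,7,5] (63 * 46080) :=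
  LB.step (kp := 12) (W1 := [[0],[1],[2],[3],[4],[7],[8]]) (r := 4) ok_YD (by decide +kernel) (show LB _ _ _ 46080 from lb_7119_4) (by decide +kernel) (by decide +kernel) (by decide +kernel) (by decide +kernel)

theorem lb_7119_2 : LB N_YD [[0],[1],[2],[3],[4],[5],[7],[8],[3,2,4,3,7,3,4,2,3],[1,0,2,1,3,2,4,3,7,3,4,2,3,1,2,0,1],[0,1,0,2,1,3,2,4,3,7,3,4,2,3,1,2,0,1,8,3,2,4,3,7,3,4,2,3,7,8,1,0,2,1,3,2,4,3,7,3,4,2,3,1,2,0,1,4],[2,0,1,0,2,1,3,2,4,3,7,3,4,2,3,1,2,0,1,8,3,2,4,3,7,3,4,2,3,7,8,1,0,2,1,3,2,4,3,7,3,4,2,3,1,2,0,1,4],[3,2,4,3,7,3,4,2,3,8,7,2,0,1,0,2,1,3,2,4,3,7,3,4,2,3,1,2,0,1,8,3,2,4,3,7,3,4,2,3,7,8,1,0,2,1,3,2,4,3,7,3,4,2,3,1,2,0,1,4],[7,8]] [2,8002,18086,71,75,3,31671,7,5] (3159 * 2903040) :=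
  LB.step (kp := 12) (W1 := [[0],[1],[2],[3],[4],[5],[7],[8]]) (r := 9) ok_YD (by decide +kernel) (show LB _ _ _ 2903040 from lb_7119_3) (by decide +kernel) (by decide +kernel) (by decide +kernel) (by decide +kernel)

theorem lb_7119_1 : LB N_YD [[0],[1],[2],[3],[4],[5],[6],[7],[8],[3,2,4,3,7,3,4,2,3],[1,0,2,1,3,2,4,3,7,3,4,2,3,1,2,0,1],[0,1,0,2,1,3,2,4,3,7,3,4,2,3,1,2,0,1,8,3,2,4,3,7,3,4,2,3,7,8,1,0,2,1,3,2,4,3,7,3,4,2,3,1,2,0,1,4],[2,0,1,0,2,1,3,2,4,3,7,3,4,2,3,1,2,0,1,8,3,2,4,3,7,3,4,2,3,7,8,1,0,2,1,3,2,4,3,7,3,4,2,3,1,2,0,1,4],[3,2,4,3,7,3,4,2,3,8,7,2,0,1,0,2,1,3,2,4,3,7,3,4,2,3,1,2,0,1,8,3,2,4,3,7,3,4,2,3,7,8,1,0,2,1,3,2,4,3,7,3,4,2,3,1,2,0,1,4],[7,8]] [1,2,8002,18086,71,75,3,31671,7,5] (28160 * 9170703360) :=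
  LB.step (kp := 12) (W1 := [[0],[1],[2],[3],[4],[5],[6],[7],[8]]) (r := 12) ok_YD (by decide +kernel) (show LB _ _ _ 9170703360 from lb_7119_2) (by decide +kernel) (by decide +kernel) (by decide +kernel) (by decide +kernel)

theorem lb_7119_0 : LB N_YD [[0],[1],[2],[3],[4],[5],[6],[7],[8],[9],[3,2,4,3,7,3,4,2,3],[1,0,2,1,3,2,4,3,7,3,4,2,3,1,2,0,1],[0,1,0,2,1,3,2,4,3,7,3,4,2,3,1,2,0,1,8,3,2,4,3,7,3,4,2,3,7,8,1,0,2,1,3,2,4,3,7,3,4,2,3,1,2,0,1,4],[2,0,1,0,2,1,3,2,4,3,7,3,4,2,3,1,2,0,1,8,3,2,4,3,7,3,4,2,3,7,8,1,0,2,1,3,2,4,3,7,3,4,2,3,1,2,0,1,4],[3,2,4,3,7,3,4,2,3,8,7,2,0,1,0,2,1,3,2,4,3,7,3,4,2,3,1,2,0,1,8,3,2,4,3,7,3,4,2,3,7,8,1,0,2,1,3,2,4,3,7,3,4,2,3,1,2,0,1,4],[7,8]] [0,1,2,8002,18086,71,75,3,31671,7,5] (31671 * 258247006617600) :=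
  LB.step (kp := 12) (W1 := [[0],[1],[2],[3],[4],[5],[6],[7],[8],[9]]) (r := 13) ok_YD (by decide +kernel) (show LB _ _ _ 258247006617600 from lb_7119_1) (by decide +kernel) (by decide +kernel) (by decide +kernel) (by decide +kernel)

theorem lb_7119 : LB N_YD [[0],[1],[2],[3],[4],[5],[6],[7],[8],[9]] [0,1,2,8002,18086,71,75,3,31671,7,5] 8178940946586009600 :=
  (show LB _ _ _ 8178940946586009600 from lb_7119_0).cat (rels_YD.inv inv_YD) (by decide +kernel) (c := [[0],[2],[4],[6],[8],[10],[12],[14],[16],[18],[6,4,8,6,14,6,8,4,6],[2,0,4,2,6,4,8,6,14,6,8,4,6,2,4,0,2],[0,2,0,4,2,6,4,8,6,14,6,8,4,6,2,4,0,2,16,6,4,8,6,14,6,8,4,6,14,16,2,0,4,2,6,4,8,6,14,6,8,4,6,2,4,0,2,8],[4,0,2,0,4,2,6,4,8,6,14,6,8,4,6,2,4,0,2,16,6,4,8,6,14,6,8,4,6,14,16,2,0,4,2,6,4,8,6,14,6,8,4,6,2,4,0,2,8],[6,4,8,6,14,6,8,4,6,16,14,4,0,2,0,4,2,6,4,8,6,14,6,8,4,6,2,4,0,2,16,6,4,8,6,14,6,8,4,6,14,16,2,0,4,2,6,4,8,6,14,6,8,4,6,2,4,0,2,8],[14,16]])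 (by decide +kernel)

theorem orc_YD5 : Orc.{u} R_YD [0,1,2,3,4,5,6,7,8,9] N_YD [0,1,2,8002,18086,71,75,3,31671,7,5] := ub_YD.oracle rels_YD lb_7119

theorem imp_Y532_YD_7120c : impCert R_Y532 [6,5,4,3,2,1,0,7,8,9] R_YD [(6,0),(5,0),(4,0),(3,0),(2,0),(1,0),(0,0),(7,0),(8,0),(9,0),(60,1),(57,1),(53,1),(48,1),(42,1),(35,1),(27,1),(63,0),(64,0),(56,1),(52,1),(47,1),(41,1),(34,1),(26,1),(61,0),(62,0),(51,1),(46,1),(40,1),(33,1),(25,1),(58,0),(59,0),(45,1),(39,1),(32,1),(24,1),(54,0),(55,0),(38,1),(31,1),(23,1),(49,0),(50,0),(30,1),(22,1),(43,0),(44,0),(21,1),(36,0),(37,0),(28,0),(29,0),(65,0),(67,0),(66,0)] = true := by decide +kernel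
theorem imp_Y532_YD_7120 : Imp.{u} R_Y532 [6,5,4,3,2,1,0,7,8,9] R_YD := Imp.of_cert imp_Y532_YD_7120c

theorem der_Y5d : Der.{u} R_Y532 [[9,0,1,2,3,4,5,7,9,0,1,2,3,4,5,7,9,0,1,2,3,4,5,7,9,0,1,2,3,4,5,7,9,0,1,2,3,4,5,7,9,0,1,2,3,4,5,7,9,0,1,2,3,4,5,7,9,0,1,2,3,4,5,7,9,0,1,2,3,4,5,7,9,0,1,2,3,4,5,7,9,0,1,2,3,4,5,7,9,0,1,2,3,4,5,7,9,0,1,2,3,4,5,7,9,0,1,2,3,4,5,7,9,0,1,2,3,4,5,7]] :=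
  orc_YD5.rels ok_YD imp_Y532_YD_7120 [[9,6,5,4,3,2,1,7,9,6,5,4,3,2,1,7,9,6,5,4,3,2,1,7,9,6,5,4,3,2,1,7,9,6,5,4,3,2,1,7,9,6,5,4,3,2,1,7,9,6,5,4,3,2,1,7,9,6,5,4,3,2,1,7,9,6,5,4,3,2,1,7,9,6,5,4,3,2,1,7,9,6,5,4,3,2,1,7,9,6,5,4,3,2,1,7,9,6,5,4,3,2,1,7,9,6,5,4,3,2,1,7,9,6,5,4,3,2,1,7]] (by decide +kernel) (by decide +kernel) (by decide +kernel)

def f_Y5 : List ℕ := [0,5,1,7,4,2,3,0,5,1,7,4,2,3,0,5,1,7,4,2,3,0,5,1,7,4,2,3,0,5,1,7,4,2,3,0,5,1,7,4,2,3,0,5,1,7,4,2,3,0,5,1,7,4,2,3,0,5,1,7,4,2,3]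
def m_Y5 : List ℕ := [9,0,1,2,3,4,5,7,9,0,1,2,3,4,5,7,9,0,1,2,3,4,5,7,9,0,1,2,3,4,5,7,9,0,1,2,3,4,5,7,9,0,1,2,3,4,5,7,9,0,1,2,3,4,5,7,9,0,1,2,3,4,5,7,9,0,1,2,3,4,5,7,9,0,1,2,3,4,5,7,9,0,1,2,3,4,5,7,9,0,1,2,3,4,5,7,9,0,1,2,3,4,5,7,9,0,1,2,3,4,5,7,9,0,1,2,3,4,5,7]
def s_Y5 : List ℕ := [1,2,3,4,7,0,1,2,3,4,7,0,1,2,3,4,7,0,1,2,3,4,7,0,1,2,3,4,7]

def R_Y555 : List (List ℕ) := [[0,0],[1,1],[2,2],[3,3],[4,4],[5,5],[6,6],[7,7],[8,8],[9,9],[10,10],[11,11],[12,12],[13,13],[14,14],[15,15],[0,1,0,1,0,1],[0,2,0,2],[0,3,0,3],[0,4,0,4],[0,5,0,5],[0,6,0,6,0,6],[0,7,0,7],[0,8,0,8],[0,9,0,9],[0,10,0,10],[0,11,0,11,0,11],[0,12,0,12],[0,13,0,13],[0,14,0,14],[0,15,0,15],[1,2,1,2,1,2],[1,3,1,3],[1,4,1,4],[1,5,1,5],[1,6,1,6],[1,7,1,7],[1,8,1,8],[1,9,1,9],[1,10,1,10],[1,11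,1,11],[1,12,1,12],[1,13,1,13],[1,14,1,14],[1,15,1,15],[2,3,2,3,2,3],[2,4,2,4],[2,5,2,5],[2,6,2,6],[2,7,2,7],[2,8,2,8],[2,9,2,9],[2,10,2,10],[2,11,2,11],[2,12,2,12],[2,13,2,13],[2,14,2,14],[2,15,2,15],[3,4,3,4,3,4],[3,5,3,5],[3,6,3,6],[3,7,3,7],[3,8,3,8],[3,9,3,9],[3,10,3,10],[3,11,3,11],[3,12,3,12],[3,13,3,13],[3,14,3,14],[3,15,3,15],[4,5,4,5,4,5],[4,6,4,6],[4,7,4,7],[4,8,4,8],[4,9,4,9],[4,10,4,10],[4,11,4,11],[4,12,4,12],[4,13,4,13],[4,14,4,14],[4,15,4,15],[5,6,5,6],[5,7,5,7],[5,8,5,8],[5,9,5,9],[5,10,5,10],[5,11,5,11],[5,12,5,12],[5,13,5,13],[5,14,5,14],[5,15,5,15],[6,7,6,7,6,7],[6,8,6,8],[6,9,6,9],[6,10,6,10],[6,11,6,11],[6,12,6,12],[6,13,6,13],[6,14,6,14],[6,15,6,15],[7,8,7,8,7,8],[7,9,7,9],[7,10,7,10],[7,11,7,11],[7,12,7,12],[7,13,7,13],[7,14,7,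14],[7,15,7,15],[8,9,8,9,8,9],[8,10,8,10],[8,11,8,11],[8,12,8,12],[8,13,8,13],[8,14,8,14],[8,15,8,15],[9,10,9,10,9,10],[9,11,9,11],[9,12,9,12],[9,13,9,13],[9,14,9,14],[9,15,9,15],[10,11,10,11],[10,12,10,12],[10,13,10,13],[10,14,10,14],[10,15,10,15],[11,12,11,12,11,12],[11,13,11,13],[11,14,11,14],[11,15,11,15],[12,13,12,13,12,13],[12,14,12,14],[12,15,12,15],[13,14,13,14,13,14],[13,15,13,15],[14,15,14,15,14,15],[0,1,2,0,6,7,0,11,12,0,1,2,0,6,7,0,11,12,0,1,2,0,6,7,0,11,12,0,1,2,0,6,7,0,11,12,0,1,2,0,6,7,0,11,12,0,1,2,0,6,7,0,11,12,0,1,2,0,6,7,0,11,12,0,1,2,0,6,7,0,11,12,0,1,2,0,6,7,0,11,12,0,1,2,0,6,7,0,11,12]]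
def iv_Y555 : List ℕ := [0,1,2,3,4,5,6,7,8,9,10,11,12,13,14,15]
theorem inv_Y555 : invOK R_Y555 iv_Y555 16 = true := by decide +kernel

theorem imp_Y555_YA0_7121c : impCert R_Y555 [2,1,0,6,7,11,12] R_YA0 [(2,0),(1,0),(0,0),(6,0),(7,0),(11,0),(12,0),(31,1),(17,1),(48,0),(49,0),(53,0),(54,0),(16,1),(35,0),(36,0),(40,0),(41,0),(21,0),(22,0),(26,0),(27,0),(91,0),(95,0),(96,0),(103,0),(104,0),(126,0),(136,0)] = true := by decide +kernel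
theorem imp_Y555_YA0_7121 : Imp.{u} R_Y555 [2,1,0,6,7,11,12] R_YA0 := Imp.of_cert imp_Y555_YA0_7121c

theorem der_B_sp2 : Der.{u} R_Y555 [[0,6,7,0,1,2,0,11,12,0,6,7,0,1,2,0,11,12,0,6,7,0,1,2,0,11,12,0,6,7,0,1,2,0,11,12,0,6,7,0,1,2,0,11,12,0,6,7,0,1,2,0,11,12,0,6,7,0,1,2,0,11,12,0,6,7,0,1,2,0,11,12,0,6,7,0,1,2,0,11,12,0,6,7,0,1,2,0,11,12]] :=
  orc_A0.rels ok_YA0 imp_Y555_YA0_7121 [[2,3,4,2,1,0,2,5,6,2,3,4,2,1,0,2,5,6,2,3,4,2,1,0,2,5,6,2,3,4,2,1,0,2,5,6,2,3,4,2,1,0,2,5,6,2,3,4,2,1,0,2,5,6,2,3,4,2,1,0,2,5,6,2,3,4,2,1,0,2,5,6,2,3,4,2,1,0,2,5,6,2,3,4,2,1,0,2,5,6]] (by decide +kernel) (by decide +kernel) (by decide +kernel)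

def R_Y555b : List (List ℕ) := [[0,0],[1,1],[2,2],[3,3],[4,4],[5,5],[6,6],[7,7],[8,8],[9,9],[10,10],[11,11],[12,12],[13,13],[14,14],[15,15],[0,1,0,1,0,1],[0,2,0,2],[0,3,0,3],[0,4,0,4],[0,5,0,5],[0,6,0,6,0,6],[0,7,0,7],[0,8,0,8],[0,9,0,9],[0,10,0,10],[0,11,0,11,0,11],[0,12,0,12],[0,13,0,13],[0,14,0,14],[0,15,0,15],[1,2,1,2,1,2],[1,3,1,3],[1,4,1,4],[1,5,1,5],[1,6,1,6],[1,7,1,7],[1,8,1,8],[1,9,1,9],[1,10,1,10],[1,11,1,11],[1,12,1,12],[1,13,1,13],[1,14,1,14],[1,15,1,15],[2,3,2,3,2,3],[2,4,2,4],[2,5,2,5],[2,6,2,6],[2,7,2,7],[2,8,2,8],[2,9,2,9],[2,10,2,10],[2,11,2,11],[2,12,2,12],[2,13,2,13],[2,14,2,14],[2,15,2,15],[3,4,3,4,3,4],[3,5,3,5],[3,6,3,6],[3,7,3,7],[3,8,3,8],[3,9,3,9],[3,10,3,10],[3,11,3,11],[3,12,3,12],[3,13,3,13],[3,14,3,14],[3,15,3,15],[4,5,4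,5,4,5],[4,6,4,6],[4,7,4,7],[4,8,4,8],[4,9,4,9],[4,10,4,10],[4,11,4,11],[4,12,4,12],[4,13,4,13],[4,14,4,14],[4,15,4,15],[5,6,5,6],[5,7,5,7],[5,8,5,8],[5,9,5,9],[5,10,5,10],[5,11,5,11],[5,12,5,12],[5,13,5,13],[5,14,5,14],[5,15,5,15],[6,7,6,7,6,7],[6,8,6,8],[6,9,6,9],[6,10,6,10],[6,11,6,11],[6,12,6,12],[6,13,6,13],[6,14,6,14],[6,15,6,15],[7,8,7,8,7,8],[7,9,7,9],[7,10,7,10],[7,11,7,11],[7,12,7,12],[7,13,7,13],[7,14,7,14],[7,15,7,15],[8,9,8,9,8,9],[8,10,8,10],[8,11,8,11],[8,12,8,12],[8,13,8,13],[8,14,8,14],[8,15,8,15],[9,10,9,10,9,10],[9,11,9,11],[9,12,9,12],[9,13,9,13],[9,14,9,14],[9,15,9,15],[10,11,10,11],[10,12,10,12],[10,13,10,13],[10,14,10,14],[10,15,10,15],[11,12,11,12,11,12],[11,13,11,13],[11,14,11,14],[11,15,11,15],[12,13,12,13,12,13],[12,14,12,14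],[12,15,12,15],[13,14,13,14,13,14],[13,15,13,15],[14,15,14,15,14,15],[0,1,2,0,6,7,0,11,12,0,1,2,0,6,7,0,11,12,0,1,2,0,6,7,0,11,12,0,1,2,0,6,7,0,11,12,0,1,2,0,6,7,0,11,12,0,1,2,0,6,7,0,11,12,0,1,2,0,6,7,0,11,12,0,1,2,0,6,7,0,11,12,0,1,2,0,6,7,0,11,12,0,1,2,0,6,7,0,11,12],[0,6,7,0,1,2,0,11,12,0,6,7,0,1,2,0,11,12,0,6,7,0,1,2,0,11,12,0,6,7,0,1,2,0,11,12,0,6,7,0,1,2,0,11,12,0,6,7,0,1,2,0,11,12,0,6,7,0,1,2,0,11,12,0,6,7,0,1,2,0,11,12,0,6,7,0,1,2,0,11,12,0,6,7,0,1,2,0,11,12]]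
def iv_Y555b : List ℕ := [0,1,2,3,4,5,6,7,8,9,10,11,12,13,14,15]
theorem inv_Y555b : invOK R_Y555b iv_Y555b 16 = true := by decide +kernel

theorem der_Bb : Der.{u} R_Y555 R_Y555b :=
  Der.trans ((Der.refl R_Y555).and der_B_sp2) (Der.of_cert (c := [(0,0),(1,0),(2,0),(3,0),(4,0),(5,0),(6,0),(7,0),(8,0),(9,0),(10,0),(11,0),(12,0),(13,0),(14,0),(15,0),(16,0),(17,0),(18,0),(19,0),(20,0),(21,0),(22,0),(23,0),(24,0),(25,0),(26,0),(27,0),(28,0),(29,0),(30,0),(31,0),(32,0),(33,0),(34,0),(35,0),(36,0),(37,0),(38,0),(39,0),(40,0),(41,0),(42,0),(43,0),(44,0),(45,0),(46,0),(47,0),(48,0),(49,0),(50,0),(51,0),(52,0),(53,0),(54,0),(55,0),(56,0),(57,0),(58,0),(59,0),(60,0),(61,0),(62,0),(63,0),(64,0),(65,0),(66,0),(67,0),(68,0),(69,0),(70,0),(71,0),(72,0),(73,0),(74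,0),(75,0),(76,0),(77,0),(78,0),(79,0),(80,0),(81,0),(82,0),(83,0),(84,0),(85,0),(86,0),(87,0),(88,0),(89,0),(90,0),(91,0),(92,0),(93,0),(94,0),(95,0),(96,0),(97,0),(98,0),(99,0),(100,0),(101,0),(102,0),(103,0),(104,0),(105,0),(106,0),(107,0),(108,0),(109,0),(110,0),(111,0),(112,0),(113,0),(114,0),(115,0),(116,0),(117,0),(118,0),(119,0),(120,0),(121,0),(122,0),(123,0),(124,0),(125,0),(126,0),(127,0),(128,0),(129,0),(130,0),(131,0),(132,0),(133,0),(134,0),(135,0),(136,0),(137,0)]) (by decide +kernel))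

theorem imp_Y555b_Y532_7122c : impCert R_Y555b [3,2,1,0,6,7,8,11,12,4,5] R_Y532 [(3,0),(2,0),(1,0),(0,0),(6,0),(7,0),(8,0),(11,0),(12,0),(4,0),(5,0),(70,1),(59,1),(47,1),(34,1),(20,1),(81,0),(82,0),(83,0),(86,0),(87,0),(58,1),(46,1),(33,1),(19,1),(71,0),(72,0),(73,0),(76,0),(77,0),(45,1),(32,1),(18,1),(60,0),(61,0),(62,0),(65,0),(66,0),(31,1),(17,1),(48,0),(49,0),(50,0),(53,0),(54,0),(16,1),(35,0),(36,0),(37,0),(40,0),(41,0),(21,0),(22,0),(23,0),(26,0),(27,0),(91,0),(92,0),(95,0),(96,0),(100,0),(103,0),(104,0),(110,0),(111,0),(126,0),(136,0),(137,0)] = true := by decide +kernel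
theorem imp_Y555b_Y532_7122 : Imp.{u} R_Y555b [3,2,1,0,6,7,8,11,12,4,5] R_Y532 := Imp.of_cert imp_Y555b_Y532_7122c

theorem imp_Y555b_Y532_7123c : impCert R_Y555b [3,2,1,0,11,12,13,6,7,4,5] R_Y532 [(3,0),(2,0),(1,0),(0,0),(11,0),(12,0),(13,0),(6,0),(7,0),(4,0),(5,0),(70,1),(59,1),(47,1),(34,1),(20,1),(86,0),(87,0),(88,0),(81,0),(82,0),(58,1),(46,1),(33,1),(19,1),(76,0),(77,0),(78,0),(71,0),(72,0),(45,1),(32,1),(18,1),(65,0),(66,0),(67,0),(60,0),(61,0),(31,1),(17,1),(53,0),(54,0),(55,0),(48,0),(49,0),(16,1),(40,0),(41,0),(42,0),(35,0),(36,0),(26,0),(27,0),(28,0),(21,0),(22,0),(126,0),(127,0),(95,1),(103,1),(130,0),(96,1),(104,1),(97,1),(105,1),(91,0),(137,3),(136,6)] = true := by decide +kernel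
theorem imp_Y555b_Y532_7123 : Imp.{u} R_Y555b [3,2,1,0,11,12,13,6,7,4,5] R_Y532 := Imp.of_cert imp_Y555b_Y532_7123c

theorem imp_Y555b_Y532_7124c : impCert R_Y555b [8,7,6,0,1,2,3,11,12,9,10] R_Y532 [(8,0),(7,0),(6,0),(0,0),(1,0),(2,0),(3,0),(11,0),(12,0),(9,0),(10,0),(115,1),(109,1),(102,1),(94,1),(25,1),(39,1),(52,1),(64,1),(121,0),(122,0),(108,1),(101,1),(93,1),(24,1),(38,1),(51,1),(63,1),(116,0),(117,0),(100,1),(92,1),(23,1),(37,1),(50,1),(62,1),(110,0),(111,0),(91,1),(22,1),(36,1),(49,1),(61,1),(103,0),(104,0),(21,1),(35,1),(48,1),(60,1),(95,0),(96,0),(16,0),(17,0),(18,0),(26,0),(27,0),(31,0),(32,0),(40,0),(41,0),(45,0),(53,0),(54,0),(65,0),(66,0),(126,0),(137,0),(136,0)] = true := by decide +kernel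
theorem imp_Y555b_Y532_7124 : Imp.{u} R_Y555b [8,7,6,0,1,2,3,11,12,9,10] R_Y532 := Imp.of_cert imp_Y555b_Y532_7124c

theorem imp_Y555b_Y532_7125c : impCert R_Y555b [8,7,6,0,11,12,13,1,2,9,10] R_Y532 [(8,0),(7,0),(6,0),(0,0),(11,0),(12,0),(13,0),(1,0),(2,0),(9,0),(10,0),(115,1),(109,1),(102,1),(94,1),(25,1),(121,0),(122,0),(123,0),(39,1),(52,1),(108,1),(101,1),(93,1),(24,1),(116,0),(117,0),(118,0),(38,1),(51,1),(100,1),(92,1),(23,1),(110,0),(111,0),(112,0),(37,1),(50,1),(91,1),(22,1),(103,0),(104,0),(105,0),(36,1),(49,1),(21,1),(95,0),(96,0),(97,0),(35,1),(48,1),(26,0),(27,0),(28,0),(16,0),(17,0),(126,0),(127,0),(40,1),(53,1),(130,0),(41,1),(54,1),(42,1),(55,1),(31,0),(136,3),(137,6)] = true := by decide +kernel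
theorem imp_Y555b_Y532_7125 : Imp.{u} R_Y555b [8,7,6,0,11,12,13,1,2,9,10] R_Y532 := Imp.of_cert imp_Y555b_Y532_7125c

theorem imp_Y555b_Y532_7126c : impCert R_Y555b [13,12,11,0,1,2,3,6,7,14,15] R_Y532 [(13,0),(12,0),(11,0),(0,0),(1,0),(2,0),(3,0),(6,0),(7,0),(14,0),(15,0),(135,1),(134,1),(132,1),(129,1),(30,1),(44,1),(57,1),(69,1),(99,1),(107,1),(133,1),(131,1),(128,1),(29,1),(43,1),(56,1),(68,1),(98,1),(106,1),(130,1),(127,1),(28,1),(42,1),(55,1),(67,1),(97,1),(105,1),(126,1),(27,1),(41,1),(54,1),(66,1),(96,1),(104,1),(26,1),(40,1),(53,1),(65,1),(95,1),(103,1),(16,0),(17,0),(18,0),(21,0),(22,0),(31,0),(32,0),(35,0),(36,0),(45,0),(48,0),(49,0),(60,0),(61,0),(91,0),(136,6),(137,3)] = true := by decide +kernel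
theorem imp_Y555b_Y532_7126 : Imp.{u} R_Y555b [13,12,11,0,1,2,3,6,7,14,15] R_Y532 := Imp.of_cert imp_Y555b_Y532_7126c

theorem imp_Y555b_Y532_7127c : impCert R_Y555b [13,12,11,0,6,7,8,1,2,14,15] R_Y532 [(13,0),(12,0),(11,0),(0,0),(6,0),(7,0),(8,0),(1,0),(2,0),(14,0),(15,0),(135,1),(134,1),(132,1),(129,1),(30,1),(99,1),(107,1),(114,1),(44,1),(57,1),(133,1),(131,1),(128,1),(29,1),(98,1),(106,1),(113,1),(43,1),(56,1),(130,1),(127,1),(28,1),(97,1),(105,1),(112,1),(42,1),(55,1),(126,1),(27,1),(96,1),(104,1),(111,1),(41,1),(54,1),(26,1),(95,1),(103,1),(110,1),(40,1),(53,1),(21,0),(22,0),(23,0),(16,0),(17,0),(91,0),(92,0),(35,1),(48,1),(100,0),(36,1),(49,1),(37,1),(50,1),(31,0),(137,6),(136,3)] = true := by decide +kernel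
theorem imp_Y555b_Y532_7127 : Imp.{u} R_Y555b [13,12,11,0,6,7,8,1,2,14,15] R_Y532 := Imp.of_cert imp_Y555b_Y532_7127c

end H7.T
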